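import Cfsg.Agent.PLocal.SubnormalCore

/-!
# Conjugate subgroups, `O₂` of a subgroup (as a subgroup of the big group)
-/

set_option autoImplicit false

namespace Cfsg.Agent.Omega.BTwo

open Subgroup

variable {G : Type*} [Group G]

/-- the conjugate `g H g⁻¹` -/
def cj (g : G) (H : Subgroup G) : Subgroup G := H.map (MulAut.conj g).toMonoidHom

theorem mem_cj {g x : G} {H : Subgroup G} : x ∈ cj g H ↔ g⁻¹ * x * g ∈ H := by
  constructor
  · rintro ⟨y, hy, rfl⟩
    have : g⁻¹ * (g * y * g⁻¹) * g = y := by group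
    change g⁻¹ * (g * y * g⁻¹) * g ∈ H
    rw [this]
    exact hy
  · intro h
    refine ⟨_, h, ?_⟩
    change g * (g⁻¹ * x * g) * g⁻¹ = x
    group

theorem conj_mem_cj {g x : G} {H : Subgroup G} (hx : x ∈ H) : g * x * g⁻¹ ∈ cj g H := ⟨x, hx, rfl⟩

theorem cj_one (H : Subgroup G) : cj 1 H = H := by
  ext x; rw [mem_cj, inv_one, one_mul, mul_one]

theorem cj_mul (g h : G) (H : Subgroup G) : cj (g * h) H = cj g (cj h H) := by
  ext x
  rw [mem_cj, mem_cj, mem_cj]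
  have : (g * h)⁻¹ * x * (g * h) = h⁻¹ * (g⁻¹ * x * g) * h := by group
  rw [this]

theorem cj_inv_cj (g : G) (H : Subgroup G) : cj g⁻¹ (cj g H) = H := by
  rw [← cj_mul, inv_mul_cancel, cj_one]

theorem cj_cj_inv (g : G) (H : Subgroup G) : cj g (cj g⁻¹ H) = H := by
  rw [← cj_mul, mul_inv_cancel, cj_one]

theorem cj_mono {g : G} {H K : Subgroup G} (h : H ≤ K) : cj g H ≤ cj g K := map_mono h

theorem cj_le_iff {g : G} {H K : Subgroup G} : cj g H ≤ K ↔ ∀ x ∈ H, g * x * g⁻¹ ∈ K := by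
  constructor
  · exact fun h x hx => h (conj_mem_cj hx)
  · rintro h _ ⟨x, hx, rfl⟩
    exact h x hx

theorem cj_injective {g : G} {H K : Subgroup G} (h : cj g H = cj g K) : H = K := by
  rw [← cj_inv_cj g H, h, cj_inv_cj]

theorem cj_eq_iff {g : G} {H K : Subgroup G} : cj g H = K ↔ H = cj g⁻¹ K := by
  constructor
  · rintro rfl; rw [cj_inv_cj]
  · rintro rfl; rw [cj_cj_inv]

theorem cj_inf (g : G) (H K : Subgroup G) : cj g (H ⊓ K) = cj g H ⊓ cj g K := by
  ext x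
  rw [mem_inf, mem_cj, mem_cj, mem_cj, mem_inf]

theorem cj_sup (g : G) (H K : Subgroup G) : cj g (H ⊔ K) = cj g H ⊔ cj g K := map_sup _ _ _

theorem cj_bot (g : G) : cj g (⊥ : Subgroup G) = ⊥ := map_bot _

theorem cj_iSup {ι : Sort*} (g : G) (H : ι → Subgroup G) : cj g (⨆ i, H i) = ⨆ i, cj g (H i) :=
  map_iSup _ _

theorem cj_eq_self_iff {g : G} {H : Subgroup G} : cj g H = H ↔ g ∈ normalizer (H : Set G) := by
  rw [mem_normalizer_iff]
  constructor
  · intro h x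
    constructor
    · intro hx
      have := conj_mem_cj (g := g) hx
      rwa [h] at this
    · intro hx
      rw [← h] at hx
      rw [mem_cj] at hx
      have e : g⁻¹ * (g * x * g⁻¹) * g = x := by group
      rwa [e] at hx
  · intro h
    ext x
    rw [mem_cj, h (g⁻¹ * x * g)]
    have e : g * (g⁻¹ * x * g) * g⁻¹ = x := by group
    rw [e]

theorem cj_of_mem {g : G} {H : Subgroup G} (h : g ∈ H) : cj g H = H :=
  cj_eq_self_iff.2 (le_normalizer h)

theorem card_cj (g : G) (H : Subgroup G) : Nat.card (cj g H) = Nat.card H :=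
  Nat.card_congr (H.equivMapOfInjective _ (MulAut.conj g).injective).toEquiv.symm

theorem mem_normalizer_of_conj [Finite G] {g : G} {H : Subgroup G} (h : ∀ x ∈ H, g * x * g⁻¹ ∈ H) :
    g ∈ normalizer (H : Set G) := by
  rw [← cj_eq_self_iff]
  exact eq_of_le_of_card_ge (cj_le_iff.2 h) (card_cj g H).ge

theorem conj_mem_of_normalizer {g x : G} {H : Subgroup G} (hg : g ∈ normalizer (H : Set G)) (hx : x ∈ H) :
    g * x * g⁻¹ ∈ H := (mem_normalizer_iff.1 hg x).1 hx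

theorem conj_inv_mem_of_normalizer {g x : G} {H : Subgroup G} (hg : g ∈ normalizer (H : Set G))
    (hx : x ∈ H) : g⁻¹ * x * g ∈ H := by
  have := conj_mem_of_normalizer ((normalizer (H : Set G)).inv_mem hg) hx
  rwa [inv_inv] at this

theorem normalizer_cj (g : G) (H : Subgroup G) :
    normalizer (cj g H : Set G) = cj g (normalizer (H : Set G)) := by
  ext x
  rw [mem_cj, ← cj_eq_self_iff, ← cj_eq_self_iff]
  constructor
  · intro h
    rw [cj_mul, cj_mul, h, cj_inv_cj]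
  · intro h
    rw [cj_mul, cj_mul] at h
    have h2 := congrArg (cj g) h
    rwa [cj_cj_inv] at h2

theorem centralizer_cj (g : G) (H : Subgroup G) :
    centralizer (cj g H : Set G) = cj g (centralizer (H : Set G)) := by
  ext x
  rw [mem_cj, mem_centralizer_iff, mem_centralizer_iff]
  constructor
  · intro h y hy
    have := h (g * y * g⁻¹) (conj_mem_cj hy)
    calc y * (g⁻¹ * x * g) = g⁻¹ * (g * y * g⁻¹ * x) * g := by group
      _ = g⁻¹ * (x * (g * y * g⁻¹)) * g := by rw [this]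
      _ = g⁻¹ * x * g * y := by group
  · rintro h _ ⟨y, hy, rfl⟩
    have := h y hy
    change g * y * g⁻¹ * x = x * (g * y * g⁻¹)
    calc g * y * g⁻¹ * x = g * (y * (g⁻¹ * x * g)) * g⁻¹ := by group
      _ = g * (g⁻¹ * x * g * y) * g⁻¹ := by rw [this]
      _ = x * (g * y * g⁻¹) := by group

theorem normalizer_le_normalizer_centralizer (H : Subgroup G) :
    normalizer (H : Set G) ≤ normalizer (centralizer (H : Set G) : Set G) := by
  intro g hg
  rw [← cj_eq_self_iff, ← centralizer_cj, cj_eq_self_iff.2 hg]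

theorem isPGroup_cj {p : ℕ} {g : G} {H : Subgroup G} (h : IsPGroup p H) : IsPGroup p (cj g H) := h.map _

/-! ### `O₂` -/

/-- `O₂(H)` as a subgroup of `G` -/
def O2 (H : Subgroup G) : Subgroup G := (pCore 2 H).map H.subtype

theorem O2_le (H : Subgroup G) : O2 H ≤ H := map_subtype_le _

theorem O2_isPGroup (H : Subgroup G) : IsPGroup 2 (O2 H) :=
  (Lib.Cores.pCore_isPGroup 2).map _

theorem le_normalizer_O2 (H : Subgroup G) : H ≤ normalizer (O2 H : Set G) := by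
  intro h hh
  rw [mem_normalizer_iff]
  have hn : (pCore 2 H).Normal := Lib.Cores.pCore_normal 2
  have key : ∀ g ∈ H, ∀ x ∈ O2 H, g * x * g⁻¹ ∈ O2 H := by
    rintro g hg _ ⟨x, hx, rfl⟩
    exact ⟨⟨g, hg⟩ * x * ⟨g, hg⟩⁻¹, hn.conj_mem x hx ⟨g, hg⟩, rfl⟩
  intro x
  refine ⟨key h hh x, fun hx => ?_⟩
  have := key h⁻¹ (H.inv_mem hh) _ hx
  have e : h⁻¹ * (h * x * h⁻¹) * h⁻¹⁻¹ = x := by group
  rwa [e] at this

/-- a subnormal 2-subgroup is in `O₂` -/
theorem le_O2_of_isSubnormal {H T : Subgroup G} (hT : T ≤ H) (h : IsPGroup 2 T)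
    (hs : (T.subgroupOf H).IsSubnormal) : T ≤ O2 H := by
  have h1 : T.subgroupOf H ≤ pCore 2 H :=
    PLocal.SubnormalCore.le_pCore_of_isSubnormal hs (h.comap_of_injective _ H.subtype_injective)
  intro x hx
  exact ⟨⟨x, hT hx⟩, h1 hx, rfl⟩

theorem subnormal_step {H A B : Subgroup G} (hAB : A ≤ B) (hB : (B.subgroupOf H).IsSubnormal)
    (hn : ∀ b ∈ B, ∀ a ∈ A, b * a * b⁻¹ ∈ A) : (A.subgroupOf H).IsSubnormal := by
  refine IsSubnormal.step _ (B.subgroupOf H) (fun x hx => hAB hx) hB ⟨?_⟩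
  rintro ⟨⟨x, hxH⟩, hxB⟩ hx ⟨⟨y, hyH⟩, hyB⟩
  exact hn y hyB x hx

theorem subnormal_self (H : Subgroup G) : (H.subgroupOf H).IsSubnormal := by
  rw [subgroupOf_self]; exact IsSubnormal.top

/-- a 2-subgroup with a normal series of length 3 is in `O₂` -/
theorem le_O2_of_chain {H A B C : Subgroup G} (hAB : A ≤ B) (hBC : B ≤ C) (hCH : C ≤ H) (h : IsPGroup 2 A)
    (h1 : ∀ b ∈ B, ∀ a ∈ A, b * a * b⁻¹ ∈ A) (h2 : ∀ c ∈ C, ∀ b ∈ B, c * b * c⁻¹ ∈ B)
    (h3 : ∀ g ∈ H, ∀ c ∈ C, g * c * g⁻¹ ∈ C) : A ≤ O2 H :=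
  le_O2_of_isSubnormal (hAB.trans (hBC.trans hCH)) h
    (subnormal_step hAB (subnormal_step hBC (subnormal_step hCH (subnormal_self H) h3) h2) h1)

theorem le_O2_of_normal {H A : Subgroup G} (hAH : A ≤ H) (h : IsPGroup 2 A)
    (h1 : ∀ g ∈ H, ∀ a ∈ A, g * a * g⁻¹ ∈ A) : A ≤ O2 H :=
  le_O2_of_isSubnormal hAH h (subnormal_step hAH (subnormal_self H) h1)

theorem cj_O2_le (g : G) (H : Subgroup G) : cj g (O2 H) ≤ O2 (cj g H) := by
  refine le_O2_of_normal (cj_mono (O2_le H)) (isPGroup_cj (O2_isPGroup H)) ?_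
  intro x hx a ha
  rw [mem_cj] at hx ha ⊢
  have := conj_mem_of_normalizer (le_normalizer_O2 H hx) ha
  have e : g⁻¹ * x * g * (g⁻¹ * a * g) * (g⁻¹ * x * g)⁻¹ = g⁻¹ * (x * a * x⁻¹) * g := by group
  rwa [e] at this

theorem cj_O2 (g : G) (H : Subgroup G) : cj g (O2 H) = O2 (cj g H) := by
  refine le_antisymm (cj_O2_le g H) ?_
  have := cj_mono (g := g) (cj_O2_le g⁻¹ (cj g H))
  rwa [cj_cj_inv, cj_inv_cj] at this

end Cfsg.Agent.Omega.BTwo
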