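import Mathlib

/-!
# A cocycle with values in an elementary abelian 2-section, trivial on a subgroup of odd index,
is a coboundary (elementwise form)
-/

set_option autoImplicit false
set_option linter.style.haveILetI false

namespace Cfsg.Agent.Omega.BTwo.Avg

open Subgroup

variable {G : Type*} [Group G]

/-- Let `X` normalise `Y` and `D`, `Y / D` elementary abelian, `c` an element with `[c, X] ≤ Y` and
`[c, P] ≤ D` for a subgroup `P` of odd index of `X`. Then `[c y, X] ≤ D` for some `y ∈ Y`. -/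
theorem avg [Finite G] {X P Y D : Subgroup G} (hPX : P ≤ X) (hodd : Odd (P.relIndex X)) (hDY : D ≤ Y)
    (hXY : ∀ x ∈ X, ∀ y ∈ Y, x * y * x⁻¹ ∈ Y) (hXD : ∀ x ∈ X, ∀ y ∈ D, x * y * x⁻¹ ∈ D)
    (hYD : ∀ x ∈ Y, ∀ y ∈ D, x * y * x⁻¹ ∈ D) (hY2 : ∀ y ∈ Y, y * y ∈ D) {c : G}
    (hcX : ∀ x ∈ X, c⁻¹ * x * c * x⁻¹ ∈ Y) (hcP : ∀ x ∈ P, c⁻¹ * x * c * x⁻¹ ∈ D) :
    ∃ y ∈ Y, ∀ x ∈ X, (c * y)⁻¹ * x * (c * y) * x⁻¹ ∈ D := by
  classical
  haveI hN : (D.subgroupOf Y).Normal := ⟨by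
    rintro ⟨d, hd⟩ hd' ⟨y, hy⟩
    exact hYD y hy d hd'⟩
  set M := Y ⧸ (D.subgroupOf Y) with hM
  have hMsq : ∀ m : M, m * m = 1 := by
    intro m
    induction m using QuotientGroup.induction_on with
    | H y =>
      rw [← QuotientGroup.mk_mul, QuotientGroup.eq_one_iff]
      exact hY2 y y.2
  have hMinv : ∀ m : M, m⁻¹ = m := fun m => inv_eq_of_mul_eq_one_left (hMsq m)
  letI : CommGroup M :=
    { (inferInstance : Group M) with
      mul_comm := fun a b => by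
        have h1 := hMinv (a * b)
        rw [mul_inv_rev, hMinv, hMinv] at h1
        exact h1.symm }
  -- the cocycle
  let m : X → M := fun x => QuotientGroup.mk ⟨c⁻¹ * x * c * (x : G)⁻¹, hcX x x.2⟩
  let φ : X → M →* M := fun g => QuotientGroup.map (D.subgroupOf Y) (D.subgroupOf Y)
    { toFun := fun y => ⟨g * y * (g : G)⁻¹, hXY g g.2 y y.2⟩
      map_one' := by apply Subtype.ext; change (g : G) * 1 * (g : G)⁻¹ = 1; group
      map_mul' := by
        intro a b; apply Subtype.ext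
        change (g : G) * (a * b) * (g : G)⁻¹ = g * a * (g : G)⁻¹ * (g * b * (g : G)⁻¹); group }
    (by
      rintro ⟨y, hy⟩ hy'
      exact hXD g g.2 y hy')
  have hφ : ∀ (g : X) (y : Y), φ g (QuotientGroup.mk y) =
      QuotientGroup.mk ⟨g * y * (g : G)⁻¹, hXY g g.2 y y.2⟩ := fun g y => rfl
  have hmk : ∀ a b : Y, (QuotientGroup.mk a : M) = QuotientGroup.mk b ↔ (a : G)⁻¹ * b ∈ D := by
    intro a b
    rw [QuotientGroup.eq]
    rfl
  have hmul : ∀ g x : X, m (g * x) = m g * φ g (m x) := by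
    intro g x
    change (QuotientGroup.mk _ : M) = QuotientGroup.mk _ * φ g (QuotientGroup.mk _)
    rw [hφ, ← QuotientGroup.mk_mul]
    congr 1
    apply Subtype.ext
    change c⁻¹ * (g * x) * c * ((g : G) * x)⁻¹ =
      c⁻¹ * g * c * (g : G)⁻¹ * (g * (c⁻¹ * x * c * (x : G)⁻¹) * (g : G)⁻¹)
    group
  have hmP : ∀ (x : X) (p : P.subgroupOf X), m (x * p) = m x := by
    rintro x ⟨⟨p, hpX⟩, hp⟩
    have hp' : p ∈ P := hp
    symm
    change (QuotientGroup.mk _ : M) = QuotientGroup.mk _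
    rw [hmk]
    change (c⁻¹ * x * c * (x : G)⁻¹)⁻¹ * (c⁻¹ * (x * p) * c * ((x : G) * p)⁻¹) ∈ D
    have e : (c⁻¹ * x * c * (x : G)⁻¹)⁻¹ * (c⁻¹ * (x * p) * c * ((x : G) * p)⁻¹) =
        x * (c⁻¹ * p * c * p⁻¹) * (x : G)⁻¹ := by group
    rw [e]
    exact hXD x x.2 _ (hcP p hp')
  let F : X ⧸ (P.subgroupOf X) → M := Quotient.lift m (by
    intro a b hab
    have h1 : a⁻¹ * b ∈ P.subgroupOf X := QuotientGroup.leftRel_apply.1 hab
    have h2 := hmP a ⟨_, h1⟩
    change m (a * (a⁻¹ * b)) = m a at h2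
    rw [mul_inv_cancel_left] at h2
    exact h2.symm)
  have hF : ∀ x : X, F (QuotientGroup.mk x) = m x := fun x => rfl
  haveI : Fintype (X ⧸ (P.subgroupOf X)) := Fintype.ofFinite _
  let y₀ : M := ∏ q : X ⧸ (P.subgroupOf X), F q
  have hcard : Odd (Fintype.card (X ⧸ (P.subgroupOf X))) := by
    rw [← Nat.card_eq_fintype_card]; exact hodd
  have hpow : ∀ a : M, a ^ Fintype.card (X ⧸ (P.subgroupOf X)) = a := by
    intro a
    obtain ⟨k, hk⟩ := hcard
    rw [hk, pow_succ, pow_mul, pow_two, hMsq, one_pow, one_mul]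
  have key : ∀ g : X, y₀ = m g * φ g y₀ := by
    intro g
    have h1 : y₀ = ∏ q : X ⧸ (P.subgroupOf X), F (g • q) :=
      (Equiv.prod_comp (MulAction.toPerm g) F).symm
    have h2 : ∀ q : X ⧸ (P.subgroupOf X), F (g • q) = m g * φ g (F q) := by
      intro q
      induction q using QuotientGroup.induction_on with
      | H x =>
        rw [hF]
        exact hmul g x
    calc y₀ = ∏ q : X ⧸ (P.subgroupOf X), F (g • q) := h1
      _ = ∏ q : X ⧸ (P.subgroupOf X), (m g * φ g (F q)) := Finset.prod_congr rfl fun q _ => h2 q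
      _ = _ := by rw [Finset.prod_mul_distrib, Finset.prod_const, Finset.card_univ, hpow, ← map_prod]
  obtain ⟨y, hy⟩ := QuotientGroup.mk_surjective y₀
  refine ⟨y, y.2, fun x hx => ?_⟩
  have h1 := key ⟨x, hx⟩
  rw [← hy, hφ] at h1
  change (QuotientGroup.mk _ : M) = QuotientGroup.mk _ * QuotientGroup.mk _ at h1
  rw [← QuotientGroup.mk_mul, hmk] at h1
  change (y : G)⁻¹ * (c⁻¹ * x * c * x⁻¹ * (x * y * x⁻¹)) ∈ D at h1
  have e : (c * y)⁻¹ * x * (c * y) * x⁻¹ = (y : G)⁻¹ * (c⁻¹ * x * c * x⁻¹ * (x * y * x⁻¹)) := by group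
  rw [e]
  exact h1

end Cfsg.Agent.Omega.BTwo.Avg
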