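import Cfsg.Agent.Omega.BTwo.Conj

/-!
# SQ3: a mutual pair with `b = 2`, one natural module (#10337 (2) - (5)), K-free and field-free

`V` elementary abelian, `R i` its points, `H i = N(R i)`, `Q i = O₂(H i)`, `W i = ⟨V^h : h ∈ H i⟩`.
-/

set_option autoImplicit false

namespace Cfsg.Agent.Omega.BTwo

open Subgroup

variable {G : Type*} [Group G] {ι : Type*}

/-- `W = ⟨V^h : h ∈ N(R)⟩` -/
def WW (V R : Subgroup G) : Subgroup G := ⨆ h : normalizer (R : Set G), cj (h : G) V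

/-- `Q = O₂(N(R))` -/
abbrev QQ (R : Subgroup G) : Subgroup G := O2 (normalizer (R : Set G))

/-- The situation `b = 2`: `V` with points `R i`. -/
structure BT (V : Subgroup G) (R : ι → Subgroup G) : Prop where
  V_comm : ∀ a ∈ V, ∀ b ∈ V, a * b = b * a
  V_sq : ∀ a ∈ V, a * a = 1
  R_le : ∀ i, R i ≤ V
  R_inf : ∀ i j, i ≠ j → R i ⊓ R j = ⊥
  R_sup : ∀ i j, i ≠ j → R i ⊔ R j = V
  R_cov : ∀ v ∈ V, ∃ i, v ∈ R i
  R_ne : ∀ i, R i ≠ ⊥
  third : ∀ i j : ι, ∃ k, k ≠ i ∧ k ≠ j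
  perm : ∀ g ∈ normalizer (V : Set G), ∀ i, ∃ j, cj g (R i) = R j
  V_Q : ∀ i, V ≤ QQ (R i)
  QV : ∀ i, ∀ g ∈ QQ (R i), ∀ v ∈ V, g * v * g⁻¹ * v⁻¹ ∈ R i
  QR : ∀ i, ∀ g ∈ QQ (R i), ∀ a ∈ R i, g * a = a * g
  mt : ∀ i, ∃ h ∈ normalizer (R i : Set G), ∀ j k, j ≠ i → k ≠ i →
    (∃ v ∈ V, cj (h * v * h⁻¹) (R j) = R k) ∧ (∃ v ∈ V, cj (h⁻¹ * v * h) (R j) = R k)

section basic

variable {V : Subgroup G} {R : ι → Subgroup G}

theorem cj_le_WW {V R : Subgroup G} {h : G} (hh : h ∈ normalizer (R : Set G)) : cj h V ≤ WW V R :=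
  le_iSup (fun h : normalizer (R : Set G) => cj (h : G) V) ⟨h, hh⟩

theorem V_le_WW (V R : Subgroup G) : V ≤ WW V R := by
  have := cj_le_WW (V := V) (R := R) (one_mem _)
  rwa [cj_one] at this

theorem normalizer_le_WW (V R : Subgroup G) :
    normalizer (R : Set G) ≤ normalizer (WW V R : Set G) := by
  intro g hg
  rw [← cj_eq_self_iff]
  apply le_antisymm
  · rw [WW, cj_iSup]
    refine iSup_le fun h => ?_
    rw [← cj_mul]
    exact cj_le_WW (mul_mem hg h.2)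
  · rw [WW]
    refine iSup_le fun h => ?_
    have := cj_mono (g := g) (cj_le_WW (V := V) (mul_mem (inv_mem hg) h.2))
    rwa [cj_mul, cj_cj_inv] at this

variable (b : BT V R)
include b

theorem BT.R_index {i j : ι} (h : R i = R j) : i = j := by
  by_contra hne
  have := b.R_inf i j hne
  rw [h, inf_idem] at this
  exact b.R_ne j this

theorem BT.eq_one {i j : ι} (hij : i ≠ j) {a : G} (h1 : a ∈ R i) (h2 : a ∈ R j) : a = 1 := by
  have : a ∈ R i ⊓ R j := ⟨h1, h2⟩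
  rw [b.R_inf i j hij] at this
  exact mem_bot.1 this

theorem BT.exists_ne (i : ι) : ∃ a ∈ R i, a ≠ 1 := by
  by_contra hc
  push Not at hc
  exact b.R_ne i ((eq_bot_iff_forall _).2 hc)

theorem BT.inv_eq {v : G} (hv : v ∈ V) : v⁻¹ = v := inv_eq_of_mul_eq_one_left (b.V_sq v hv)

theorem BT.V_le_cen : V ≤ centralizer (V : Set G) := fun v hv => by
  rw [mem_centralizer_iff]
  exact fun w hw => b.V_comm w hw v hv

theorem BT.W_le_Q (i : ι) : WW V (R i) ≤ QQ (R i) := by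
  refine iSup_le fun h => ?_
  have := cj_mono (g := (h : G)) (b.V_Q i)
  rwa [cj_eq_self_iff.2 (le_normalizer_O2 _ h.2)] at this

theorem BT.Q_le (i : ι) : QQ (R i) ≤ normalizer (R i : Set G) := by
  have _ := b
  exact O2_le _

theorem BT.W_le_N (i : ι) : WW V (R i) ≤ normalizer (R i : Set G) := (b.W_le_Q i).trans (b.Q_le i)

theorem BT.conj_R {i : ι} {g : G} (hg : g ∈ QQ (R i)) {a : G} (ha : a ∈ R i) : g * a * g⁻¹ = a := by
  rw [b.QR i g hg a ha, mul_inv_cancel_right]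

/-- `[W i, Q i] ≤ R i` -/
theorem BT.WQ (i : ι) {g w : G} (hg : g ∈ QQ (R i)) (hw : w ∈ WW V (R i)) :
    g * w * g⁻¹ * w⁻¹ ∈ R i := by
  -- the elements `w ∈ N(R i)` with this property for all `g`
  let T : Subgroup G :=
    { carrier := {w | w ∈ normalizer (R i : Set G) ∧ ∀ g ∈ QQ (R i), g * w * g⁻¹ * w⁻¹ ∈ R i}
      one_mem' := ⟨one_mem _, fun g _ => by
        have : g * 1 * g⁻¹ * 1⁻¹ = 1 := by group
        rw [this]; exact one_mem _⟩
      mul_mem' := by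
        rintro u v ⟨hu, hu'⟩ ⟨hv, hv'⟩
        refine ⟨mul_mem hu hv, fun g hg => ?_⟩
        have e : g * (u * v) * g⁻¹ * (u * v)⁻¹ =
            (g * u * g⁻¹ * u⁻¹) * (u * (g * v * g⁻¹ * v⁻¹) * u⁻¹) := by group
        rw [e]
        exact mul_mem (hu' g hg) (conj_mem_of_normalizer hu (hv' g hg))
      inv_mem' := by
        rintro u ⟨hu, hu'⟩
        refine ⟨inv_mem hu, fun g hg => ?_⟩
        have e : g * u⁻¹ * g⁻¹ * u⁻¹⁻¹ = u⁻¹ * (g * u * g⁻¹ * u⁻¹)⁻¹ * u := by group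
        -- `u⁻¹ g u g⁻¹`
        have e2 : g * u⁻¹ * g⁻¹ * u⁻¹⁻¹ = g * (u⁻¹ * (g⁻¹ * u * g⁻¹⁻¹ * u⁻¹) * u) * g⁻¹ := by group
        rw [e2]
        have h1 := hu' g⁻¹ (inv_mem hg)
        exact conj_mem_of_normalizer (b.Q_le i hg) (conj_inv_mem_of_normalizer hu h1) }
  have hT : WW V (R i) ≤ T := by
    refine iSup_le fun h => ?_
    rintro _ ⟨v, hv, rfl⟩
    change (h : G) * v * (h : G)⁻¹ ∈ T
    refine ⟨b.W_le_N i (cj_le_WW h.2 (conj_mem_cj hv)), fun g hg => ?_⟩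
    have h1 := b.QV i _ (conj_inv_mem_of_normalizer (le_normalizer_O2 _ h.2) hg) v hv
    have h2 := conj_mem_of_normalizer h.2 h1
    have e : (h : G) * ((h : G)⁻¹ * g * h * v * ((h : G)⁻¹ * g * h)⁻¹ * v⁻¹) * (h : G)⁻¹ =
        g * (h * v * (h : G)⁻¹) * g⁻¹ * (h * v * (h : G)⁻¹)⁻¹ := by group
    rwa [e] at h2
  exact (hT hw).2 g hg

theorem BT.WW_comm (i : ι) {g w : G} (hg : g ∈ WW V (R i)) (hw : w ∈ WW V (R i)) :
    g * w * g⁻¹ * w⁻¹ ∈ R i := b.WQ i (b.W_le_Q i hg) hw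

/-- squares of elements of `W i` are in `R i` -/
theorem BT.W_sq (i : ι) {w : G} (hw : w ∈ WW V (R i)) : w * w ∈ R i := by
  let T : Subgroup G :=
    { carrier := {w | w ∈ WW V (R i) ∧ w * w ∈ R i}
      one_mem' := ⟨one_mem _, by rw [one_mul]; exact one_mem _⟩
      mul_mem' := by
        rintro u v ⟨hu, hu'⟩ ⟨hv, hv'⟩
        refine ⟨mul_mem hu hv, ?_⟩
        have e : u * v * (u * v) = (u * u) * (u⁻¹ * v * u⁻¹⁻¹ * v⁻¹) * (v * v) := by group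
        rw [e]
        exact mul_mem (mul_mem hu' (b.WW_comm i (inv_mem hu) hv)) hv'
      inv_mem' := by
        rintro u ⟨hu, hu'⟩
        refine ⟨inv_mem hu, ?_⟩
        rw [← mul_inv_rev]
        exact inv_mem hu' }
  have hT : WW V (R i) ≤ T := by
    refine iSup_le fun h => ?_
    rintro _ ⟨v, hv, rfl⟩
    change (h : G) * v * (h : G)⁻¹ ∈ T
    refine ⟨cj_le_WW h.2 (conj_mem_cj hv), ?_⟩
    have e : (h : G) * v * (h : G)⁻¹ * (h * v * (h : G)⁻¹) = h * (v * v) * (h : G)⁻¹ := by group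
    rw [e, b.V_sq v hv, mul_one, mul_inv_cancel]
    exact one_mem _
  exact (hT hw).2

theorem BT.W_le_NV (i : ι) : WW V (R i) ≤ normalizer (V : Set G) := by
  have key : ∀ w ∈ WW V (R i), ∀ v ∈ V, w * v * w⁻¹ ∈ V := by
    intro w hw v hv
    have h1 := b.R_le i (b.QV i w (b.W_le_Q i hw) v hv)
    have e : w * v * w⁻¹ = w * v * w⁻¹ * v⁻¹ * v := by group
    rw [e]
    exact mul_mem h1 hv
  intro w hw
  rw [mem_normalizer_iff]
  intro v
  refine ⟨key w hw v, fun h => ?_⟩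
  have := key w⁻¹ (inv_mem hw) _ h
  have e : w⁻¹ * (w * v * w⁻¹) * w⁻¹⁻¹ = v := by group
  rwa [e] at this

/-- `W i` is transitive on the other points -/
theorem BT.trans (i : ι) {j k : ι} (hj : j ≠ i) (hk : k ≠ i) :
    ∃ w ∈ WW V (R i), cj w (R j) = R k := by
  obtain ⟨h, hh, H⟩ := b.mt i
  obtain ⟨⟨v, hv, e⟩, -⟩ := H j k hj hk
  exact ⟨_, cj_le_WW hh (conj_mem_cj hv), e⟩

/-- the points are permuted transitively by `N(V)` -/
theorem BT.trans_one (i k : ι) : ∃ x ∈ normalizer (V : Set G), cj x (R i) = R k := by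
  obtain ⟨m, hm1, hm2⟩ := b.third i k
  obtain ⟨w, hw, e⟩ := b.trans m (Ne.symm hm1) (Ne.symm hm2)
  exact ⟨w, b.W_le_NV m hw, e⟩

theorem BT.cj_WW {g : G} {i j : ι} (h : cj g (R i) = R j) : cj g (WW V (R i)) = WW V (R j) := by
  obtain ⟨x, hx, hxj⟩ := b.trans_one j i
  -- `g x ∈ N(R j)`
  have hgx : g * x ∈ normalizer (R j : Set G) := by
    rw [← cj_eq_self_iff, cj_mul, hxj, h]
  have key : ∀ g : G, ∀ i j : ι, ∀ x ∈ normalizer (V : Set G), g * x ∈ normalizer (R j : Set G) →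
      cj g (R i) = R j → cj g (WW V (R i)) ≤ WW V (R j) := by
    intro g i j x hx hgx h
    rw [WW, cj_iSup]
    refine iSup_le fun k => ?_
    have h1 : g * (k : G) * g⁻¹ ∈ normalizer (R j : Set G) := by
      rw [← cj_eq_self_iff, ← h, cj_mul, cj_mul, cj_inv_cj, cj_eq_self_iff.2 k.2]
    have e : cj g (cj (k : G) V) = cj (g * k * g⁻¹ * (g * x)) V := by
      have e1 : g * (k : G) * g⁻¹ * (g * x) = g * k * x := by group
      rw [e1, cj_mul, cj_mul, cj_eq_self_iff.2 hx]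
    rw [e]
    exact cj_le_WW (mul_mem h1 hgx)
  apply le_antisymm (key g i j x hx hgx h)
  have h' : cj g⁻¹ (R j) = R i := by rw [← h, cj_inv_cj]
  have h2 : g⁻¹ * x⁻¹ ∈ normalizer (R i : Set G) := by
    have hxi : cj x⁻¹ (R i) = R j := by rw [← hxj, cj_inv_cj]
    rw [← cj_eq_self_iff, cj_mul, hxi, h']
  have h3 := cj_mono (g := g) (key g⁻¹ j i x⁻¹ (inv_mem hx) h2 h')
  rwa [cj_cj_inv] at h3

theorem BT.cj_QQ {g : G} {i j : ι} (h : cj g (R i) = R j) : cj g (QQ (R i)) = QQ (R j) := by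
  have _ := b
  rw [cj_O2, ← normalizer_cj, h]

/-- `X = ⟨W i⟩` -/
def XX (V : Subgroup G) (R : ι → Subgroup G) : Subgroup G := ⨆ i, WW V (R i)

omit b in
theorem W_le_X (V : Subgroup G) (R : ι → Subgroup G) (i : ι) : WW V (R i) ≤ XX V R :=
  le_iSup (fun i => WW V (R i)) i

theorem BT.X_le_NV : XX V R ≤ normalizer (V : Set G) := iSup_le fun i => b.W_le_NV i

theorem BT.X_eq {i j : ι} (hij : i ≠ j) : XX V R = WW V (R i) ⊔ WW V (R j) := by
  apply le_antisymm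
  · refine iSup_le fun k => ?_
    by_cases hk : k = i
    · subst hk; exact le_sup_left
    obtain ⟨w, hw, e⟩ := b.trans i (Ne.symm hij) hk
    rw [← b.cj_WW e, cj_le_iff]
    intro x hx
    have h1 : w ∈ WW V (R i) ⊔ WW V (R j) := (le_sup_left : WW V (R i) ≤ _) hw
    exact mul_mem (mul_mem h1 ((le_sup_right : WW V (R j) ≤ _) hx)) (inv_mem h1)
  · exact sup_le (W_le_X V R i) (W_le_X V R j)

theorem BT.trans_X_one (i k : ι) : ∃ x ∈ XX V R, cj x (R i) = R k := by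
  obtain ⟨m, hm1, hm2⟩ := b.third i k
  obtain ⟨w, hw, e⟩ := b.trans m (Ne.symm hm1) (Ne.symm hm2)
  exact ⟨w, W_le_X V R m hw, e⟩

/-- `X` is 2-transitive on the points -/
theorem BT.trans_X {i j k l : ι} (hij : i ≠ j) (hkl : k ≠ l) :
    ∃ x ∈ XX V R, cj x (R i) = R k ∧ cj x (R j) = R l := by
  obtain ⟨x, hx, e1⟩ := b.trans_X_one i k
  obtain ⟨j', e2⟩ := b.perm x (b.X_le_NV hx) j
  have hj' : j' ≠ k := by
    rintro rfl
    exact hij (b.R_index (cj_injective (e1.trans e2.symm)))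
  obtain ⟨w, hw, e3⟩ := b.trans k hj' (Ne.symm hkl)
  refine ⟨w * x, mul_mem (W_le_X V R k hw) hx, ?_, ?_⟩
  · rw [cj_mul, e1, cj_eq_self_iff.2 (b.W_le_N k hw)]
  · rw [cj_mul, e2, e3]

/-- `N(V)` permutes the points bijectively -/
theorem BT.perm_inv {g : G} (hg : g ∈ normalizer (V : Set G)) (k : ι) : ∃ j, cj g (R j) = R k := by
  obtain ⟨j, hj⟩ := b.perm g⁻¹ (inv_mem hg) k
  exact ⟨j, by rw [← hj, cj_cj_inv]⟩

/-! ### (2) -/

/-- `D = ⋂ W i` -/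
def DD (V : Subgroup G) (R : ι → Subgroup G) : Subgroup G := ⨅ i, WW V (R i)

omit b in
theorem mem_DD {x : G} : x ∈ DD V R ↔ ∀ i, x ∈ WW V (R i) := mem_iInf

omit b in
theorem D_le_W (V : Subgroup G) (R : ι → Subgroup G) (i : ι) : DD V R ≤ WW V (R i) := iInf_le _ i

omit b in
theorem V_le_D (V : Subgroup G) (R : ι → Subgroup G) : V ≤ DD V R := le_iInf fun i => V_le_WW V (R i)

/-- the elements of `N(V)` centralising `D / V` -/
def cenMod (V D : Subgroup G) : Subgroup G where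
  carrier := {x | x ∈ normalizer (V : Set G) ∧ ∀ d ∈ D, x * d * x⁻¹ * d⁻¹ ∈ V}
  one_mem' := ⟨one_mem _, fun d _ => by
    have : 1 * d * 1⁻¹ * d⁻¹ = 1 := by group
    rw [this]; exact one_mem _⟩
  mul_mem' := by
    rintro x y ⟨hx, hx'⟩ ⟨hy, hy'⟩
    refine ⟨mul_mem hx hy, fun d hd => ?_⟩
    have e : x * y * d * (x * y)⁻¹ * d⁻¹ = x * (y * d * y⁻¹ * d⁻¹) * x⁻¹ * (x * d * x⁻¹ * d⁻¹) := by group
    rw [e]
    exact mul_mem (conj_mem_of_normalizer hx (hy' d hd)) (hx' d hd)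
  inv_mem' := by
    rintro x ⟨hx, hx'⟩
    refine ⟨inv_mem hx, fun d hd => ?_⟩
    have e : x⁻¹ * d * x⁻¹⁻¹ * d⁻¹ = x⁻¹ * (x * d * x⁻¹ * d⁻¹)⁻¹ * x := by group
    rw [e]
    exact conj_inv_mem_of_normalizer hx (inv_mem (hx' d hd))

omit b in
theorem cenMod_normalizes {V D : Subgroup G} (hVD : V ≤ D) : cenMod V D ≤ normalizer (D : Set G) := by
  have key : ∀ x ∈ cenMod V D, ∀ d ∈ D, x * d * x⁻¹ ∈ D := by
    rintro x ⟨-, hx⟩ d hd
    have e : x * d * x⁻¹ = x * d * x⁻¹ * d⁻¹ * d := by group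
    rw [e]
    exact mul_mem (hVD (hx d hd)) hd
  intro x hx
  rw [mem_normalizer_iff]
  intro d
  refine ⟨key x hx d, fun h => ?_⟩
  have := key x⁻¹ (inv_mem hx) _ h
  have e : x⁻¹ * (x * d * x⁻¹) * x⁻¹⁻¹ = d := by group
  rwa [e] at this

theorem BT.inf_aux {i j : ι} (hij : i ≠ j) : XX V R ≤ cenMod V (WW V (R i) ⊓ QQ (R j)) := by
  rw [b.X_eq hij]
  refine sup_le ?_ ?_
  · intro w hw
    refine ⟨b.W_le_NV i hw, fun d hd => b.R_le i (b.WW_comm i hw hd.1)⟩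
  · intro w hw
    refine ⟨b.W_le_NV j hw, fun d hd => b.R_le j ?_⟩
    have h1 := b.WQ j hd.2 hw
    have e : w * d * w⁻¹ * d⁻¹ = (d * w * d⁻¹ * w⁻¹)⁻¹ := by group
    rw [e]
    exact inv_mem h1

theorem BT.V_le_inf (i j : ι) : V ≤ WW V (R i) ⊓ QQ (R j) :=
  le_inf (V_le_WW V (R i)) (b.V_Q j)

theorem BT.inf_eq_inf {i j k l : ι} (hij : i ≠ j) (hkl : k ≠ l) :
    WW V (R i) ⊓ QQ (R j) = WW V (R k) ⊓ QQ (R l) := by
  obtain ⟨x, hx, e1, e2⟩ := b.trans_X hij hkl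
  have h1 := cj_eq_self_iff.2 (cenMod_normalizes (b.V_le_inf i j) (b.inf_aux hij hx))
  rw [cj_inf, b.cj_WW e1, b.cj_QQ e2] at h1
  exact h1.symm

/-- **(2)** `D = W i ∩ Q j` for all `i ≠ j` -/
theorem BT.D_eq {i j : ι} (hij : i ≠ j) : DD V R = WW V (R i) ⊓ QQ (R j) := by
  apply le_antisymm
  · exact le_inf (D_le_W V R i) ((D_le_W V R j).trans (b.W_le_Q j))
  · refine le_iInf fun k => ?_
    obtain ⟨l, hl, -⟩ := b.third k k
    rw [b.inf_eq_inf hij (Ne.symm hl)]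
    exact inf_le_left

theorem BT.D_eq' {i j : ι} (hij : i ≠ j) : DD V R = WW V (R i) ⊓ WW V (R j) := by
  apply le_antisymm
  · exact le_inf (D_le_W V R i) (D_le_W V R j)
  · rw [b.D_eq hij]
    exact inf_le_inf_left _ (b.W_le_Q j)

theorem BT.X_le_cenMod : XX V R ≤ cenMod V (DD V R) := by
  intro x hx
  obtain ⟨i, -⟩ := b.R_cov 1 (one_mem V)
  obtain ⟨j, hj, -⟩ := b.third i i
  rw [b.D_eq hj]
  exact b.inf_aux hj hx

/-- `[D, X] ≤ V` -/
theorem BT.XD {x d : G} (hx : x ∈ XX V R) (hd : d ∈ DD V R) : x * d * x⁻¹ * d⁻¹ ∈ V :=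
  (b.X_le_cenMod hx).2 d hd

theorem BT.exists_pair : ∃ i j : ι, i ≠ j := by
  obtain ⟨i, -⟩ := b.R_cov 1 (one_mem V)
  obtain ⟨j, hj, -⟩ := b.third i i
  exact ⟨j, i, hj⟩

theorem BT.eq_one_of_forall {a : G} (h : ∀ i, a ∈ R i) : a = 1 := by
  obtain ⟨i, j, hij⟩ := b.exists_pair
  exact b.eq_one hij (h i) (h j)

theorem BT.D_sq {d : G} (hd : d ∈ DD V R) : d * d = 1 :=
  b.eq_one_of_forall fun i => b.W_sq i (D_le_W V R i hd)

theorem BT.D_comm {c d : G} (hc : c ∈ DD V R) (hd : d ∈ DD V R) : c * d = d * c := by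
  have h : c * d * c⁻¹ * d⁻¹ = 1 :=
    b.eq_one_of_forall fun i => b.WW_comm i (D_le_W V R i hc) (D_le_W V R i hd)
  rw [mul_inv_eq_one, mul_inv_eq_iff_eq_mul] at h
  exact h

theorem BT.NV_le_ND : normalizer (V : Set G) ≤ normalizer (DD V R : Set G) := by
  have key : ∀ g ∈ normalizer (V : Set G), ∀ d ∈ DD V R, g * d * g⁻¹ ∈ DD V R := by
    intro g hg d hd
    rw [mem_DD]
    intro k
    obtain ⟨j, hj⟩ := b.perm_inv hg k
    rw [← b.cj_WW hj]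
    exact conj_mem_cj (mem_DD.1 hd j)
  intro x hx
  rw [mem_normalizer_iff]
  intro d
  refine ⟨key x hx d, fun h => ?_⟩
  have := key x⁻¹ (inv_mem hx) _ h
  have e : x⁻¹ * (x * d * x⁻¹) * x⁻¹⁻¹ = d := by group
  rwa [e] at this

end basic

end Cfsg.Agent.Omega.BTwo
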