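import Mathlib

/-!
# The linear step of #11818 (a): too many commuting transvections

`A` elementary abelian 2-group, `M` acts, `d ∈ M` with `|[A,d]| ≤ 4`, `A` generated by the orbit of an element
`e ∈ [A,d]`, a 2-subgroup `X` commuting with all conjugates of `d`, `|A| ≤ |X/C_X(A)|²`, no normal 2-subgroup: impossible.
-/

set_option autoImplicit false

namespace Cfsg.Agent.Omega.BTwo.Lin

open Subgroup

variable {A : Type*} [Group A] {M : Type*} [Group M] (ρ : M →* MulAut A)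

theorem rne {M : Type*} [Group M] [Finite M] (H K : Subgroup M) : H.relIndex K ≠ 0 := index_ne_zero_of_finite

/-- `[A, d]` -/
def ll (hA : ∀ a b : A, a * b = b * a) (d : M) : Subgroup A where
  carrier := {a | ∃ x, a = ρ d x * x⁻¹}
  one_mem' := ⟨1, by rw [map_one]; group⟩
  mul_mem' := by
    rintro _ _ ⟨x, rfl⟩ ⟨y, rfl⟩
    refine ⟨x * y, ?_⟩
    rw [map_mul, mul_inv_rev]
    calc ρ d x * x⁻¹ * (ρ d y * y⁻¹) = ρ d x * (x⁻¹ * (ρ d y * y⁻¹)) := by group
      _ = ρ d x * ((ρ d y * y⁻¹) * x⁻¹) := by rw [hA x⁻¹]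
      _ = ρ d x * ρ d y * (y⁻¹ * x⁻¹) := by group
  inv_mem' := by
    rintro _ ⟨x, rfl⟩
    refine ⟨x⁻¹, ?_⟩
    rw [mul_inv_rev, map_inv, inv_inv]
    exact hA _ _

variable {ρ} (hA : ∀ a b : A, a * b = b * a)

theorem mem_ll {d : M} {a : A} : a ∈ ll ρ hA d ↔ ∃ x, a = ρ d x * x⁻¹ := Iff.rfl

theorem ll_conj (m d : M) {a : A} (ha : a ∈ ll ρ hA d) : ρ m a ∈ ll ρ hA (m * d * m⁻¹) := by
  obtain ⟨x, rfl⟩ := ha
  refine ⟨ρ m x, ?_⟩
  rw [map_mul, map_inv, ← MulAut.mul_apply, ← MulAut.mul_apply, ← map_mul, ← map_mul]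
  congr 3
  group

theorem ll_conj_iff (m d : M) {a : A} : ρ m a ∈ ll ρ hA (m * d * m⁻¹) ↔ a ∈ ll ρ hA d := by
  refine ⟨fun h => ?_, ll_conj hA m d⟩
  have := ll_conj hA m⁻¹ _ h
  rw [← MulAut.mul_apply, ← map_mul, inv_mul_cancel, map_one, MulAut.one_apply] at this
  have e : m⁻¹ * (m * d * m⁻¹) * m⁻¹⁻¹ = d := by group
  rwa [e] at this

/-- `θ` commuting with `d` preserves `[A, d]` -/
theorem ll_inv {θ d : M} (h : ρ θ * ρ d = ρ d * ρ θ) {a : A} (ha : a ∈ ll ρ hA d) : ρ θ a ∈ ll ρ hA d := by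
  obtain ⟨x, rfl⟩ := ha
  refine ⟨ρ θ x, ?_⟩
  rw [map_mul, map_inv, ← MulAut.mul_apply, h, MulAut.mul_apply]

/-- the elements of `X` fixing `B` pointwise -/
def cc (ρ : M →* MulAut A) (X : Subgroup M) (B : Subgroup A) : Subgroup M where
  carrier := {x | x ∈ X ∧ ∀ b ∈ B, ρ x b = b}
  one_mem' := ⟨one_mem _, fun b _ => by rw [map_one, MulAut.one_apply]⟩
  mul_mem' := by
    rintro x y ⟨hx, hx'⟩ ⟨hy, hy'⟩
    exact ⟨mul_mem hx hy, fun b hb => by rw [map_mul, MulAut.mul_apply, hy' b hb, hx' b hb]⟩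
  inv_mem' := by
    rintro x ⟨hx, hx'⟩
    refine ⟨inv_mem hx, fun b hb => ?_⟩
    conv_lhs => rw [← hx' b hb]
    rw [← MulAut.mul_apply, ← map_mul, inv_mul_cancel, map_one, MulAut.one_apply]

theorem mem_cc {X : Subgroup M} {B : Subgroup A} {x : M} : x ∈ cc ρ X B ↔ x ∈ X ∧ ∀ b ∈ B, ρ x b = b := Iff.rfl

theorem cc_sup_le (X : Subgroup M) (B C : Subgroup A) : cc ρ X B ⊓ cc ρ X C ≤ cc ρ X (B ⊔ C) := by
  rintro x ⟨⟨hx, hB⟩, -, hC⟩
  refine ⟨hx, fun b hb => ?_⟩
  have h : B ⊔ C ≤ ((ρ x : MulAut A).toMonoidHom.eqLocus (MonoidHom.id A)) :=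
    sup_le (fun b hb => hB b hb) fun c hc => hC c hc
  exact h hb

/-- the sums of conjugates of `l` -/
inductive Good (ρ : M →* MulAut A) (hA : ∀ a b : A, a * b = b * a) (d : M) : Subgroup A → Prop
  | bot : Good ρ hA d ⊥
  | step (B : Subgroup A) (m : M) : Good ρ hA d B → Good ρ hA d (B ⊔ ll ρ hA (m * d * m⁻¹))

/-- the hypotheses -/
structure Data (ρ : M →* MulAut A) (hA : ∀ a b : A, a * b = b * a) (X : Subgroup M) (d : M) (e : A) : Prop where
  sq : ∀ a : A, a * a = 1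
  comm : ∀ x ∈ X, ∀ m : M, ρ x * ρ (m * d * m⁻¹) = ρ (m * d * m⁻¹) * ρ x
  X2 : IsPGroup 2 X
  card_l : Nat.card (ll ρ hA d) ≤ 4
  he : e ∈ ll ρ hA d
  gen : closure {a | ∃ m, a = ρ m e} = ⊤
  noN : ∀ N : Subgroup M, N.Normal → IsPGroup 2 (N.map ρ) → N ≤ ρ.ker
  card_A : Nat.card A ≤ Nat.card (X.map ρ) ^ 2
  nt : Nontrivial A

section

variable {hA} {X : Subgroup M} {d : M} {e : A} (D : Data ρ hA X d e)
include D

theorem Data.comm' {θ : M} (hθ : θ ∈ normalClosure (X : Set M)) (m : M) :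
    ρ θ * ρ (m * d * m⁻¹) = ρ (m * d * m⁻¹) * ρ θ := by
  let T : Subgroup M :=
    { carrier := {θ | ∀ m, ρ θ * ρ (m * d * m⁻¹) = ρ (m * d * m⁻¹) * ρ θ}
      one_mem' := fun m => by rw [map_one, one_mul, mul_one]
      mul_mem' := fun {x y} hx hy m => by rw [map_mul, mul_assoc, hy m, ← mul_assoc, hx m, mul_assoc]
      inv_mem' := fun {x} hx m => by
        have := hx m
        rw [map_inv]
        exact ((show Commute (ρ x) (ρ (m * d * m⁻¹)) from hx m).inv_left : ) }
  have hT : T.Normal := ⟨fun x hx g m => by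
    have h1 := hx (g⁻¹ * m)
    have e1 : g⁻¹ * m * d * (g⁻¹ * m)⁻¹ = g⁻¹ * (m * d * m⁻¹) * g := by group
    rw [e1] at h1
    have h2 : ρ g * (ρ x * ρ (g⁻¹ * (m * d * m⁻¹) * g)) * ρ g⁻¹ =
        ρ g * (ρ (g⁻¹ * (m * d * m⁻¹) * g) * ρ x) * ρ g⁻¹ := by rw [h1]
    simp only [← map_mul] at h2 ⊢
    have e2 : g * (x * (g⁻¹ * (m * d * m⁻¹) * g)) * g⁻¹ = g * x * g⁻¹ * (m * d * m⁻¹) := by group
    have e3 : g * (g⁻¹ * (m * d * m⁻¹) * g * x) * g⁻¹ = m * d * m⁻¹ * (g * x * g⁻¹) := by group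
    rwa [e2, e3] at h2⟩
  have h1 : normalClosure (X : Set M) ≤ T := normalClosure_le_normal fun x hx => fun m => D.comm x hx m
  exact h1 hθ m

theorem Data.commd {θ : M} (hθ : θ ∈ normalClosure (X : Set M)) : ρ θ * ρ d = ρ d * ρ θ := by
  have := D.comm' hθ 1
  simpa using this

theorem Data.e_ne : e ≠ 1 := by
  rintro rfl
  have h := D.gen
  have h2 : closure {a : A | ∃ m, a = ρ m 1} ≤ ⊥ := by
    rw [closure_le]
    rintro a ⟨m, rfl⟩
    rw [map_one]
    exact one_mem _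
  rw [h] at h2
  have := D.nt
  exact top_ne_bot (α := Subgroup A) (le_bot_iff.1 h2)

/-- an automorphism `ρ θ` which fixes all `ρ m e` is trivial -/
theorem Data.eq_one {θ : M} (h : ∀ m, ρ θ (ρ m e) = ρ m e) : ρ θ = 1 := by
  have h1 : (⊤ : Subgroup A) ≤ ((ρ θ : MulAut A).toMonoidHom.eqLocus (MonoidHom.id A)) := by
    rw [← D.gen, closure_le]
    rintro a ⟨m, rfl⟩
    exact h m
  ext a
  exact h1 (mem_top a)

theorem Data.X_le_false [Finite A] (h : X ≤ ρ.ker) : False := by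
  have h1 : X.map ρ = ⊥ := (map_eq_bot_iff X).2 h
  have h2 := D.card_A
  rw [h1, card_bot, one_pow] at h2
  have := D.nt
  exact absurd h2 (not_le.2 Finite.one_lt_card)

/-- some `θ` acts on `l` as an element of order 3 -/
theorem Data.exists_three [Finite A] : ∃ θ ∈ normalClosure (X : Set M), ∃ a ∈ ll ρ hA d, ρ θ (ρ θ a) ≠ a := by
  by_contra hc
  push Not at hc
  have hsq : ∀ θ ∈ normalClosure (X : Set M), ρ θ * ρ θ = 1 := by
    intro θ hθ
    rw [← map_mul]
    refine D.eq_one fun m => ?_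
    have hθ' : m⁻¹ * θ * m ∈ normalClosure (X : Set M) := by
      have := normalClosure_normal (s := (X : Set M)).conj_mem θ hθ m⁻¹
      rwa [inv_inv] at this
    have h1 := hc _ hθ' e D.he
    have h2 := congrArg (ρ m) h1
    simp only [← MulAut.mul_apply, ← map_mul] at h2 ⊢
    have e2 : m * (m⁻¹ * θ * m * (m⁻¹ * θ * m)) = θ * θ * m := by group
    rwa [e2] at h2
  have h1 : IsPGroup 2 ((normalClosure (X : Set M)).map ρ) := by
    rintro ⟨_, θ, hθ, rfl⟩
    refine ⟨1, Subtype.ext ?_⟩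
    change (ρ θ) ^ 2 ^ 1 = 1
    rw [pow_one, pow_two]
    exact hsq θ hθ
  exact D.X_le_false (le_normalClosure.trans (D.noN _ normalClosure_normal h1))

/-- the structure of `l` -/
theorem Data.exists_cyc [Finite A] : ∃ θ ∈ normalClosure (X : Set M), ∀ a ∈ ll ρ hA d, a ≠ 1 →
    ∀ c ∈ ll ρ hA d, c = 1 ∨ c = a ∨ c = ρ θ a ∨ c = ρ θ (ρ θ a) := by
  obtain ⟨θ, hθ, a0, ha0, h⟩ := D.exists_three
  have hinv : ∀ a ∈ ll ρ hA d, ρ θ a ∈ ll ρ hA d := fun a ha => ll_inv hA (D.commd hθ) ha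
  set a1 := ρ θ a0 with h1
  set a2 := ρ θ a1 with h2
  have hinj : ∀ a b : A, ρ θ a = ρ θ b → a = b := fun a b hab => (ρ θ).injective hab
  have h01 : a0 ≠ a1 := fun hh => h (by rw [h2, ← hh, ← h1, ← hh])
  have h12 : a1 ≠ a2 := fun hh => h01 (hinj _ _ (h1.symm.trans (hh.trans h2)))
  have h02 : a0 ≠ a2 := fun hh => h hh.symm
  have h0 : a0 ≠ 1 := by
    rintro hh
    apply h01
    rw [h1, hh, map_one]
  have h1' : a1 ≠ 1 := fun hh => h0 (hinj _ _ (by rw [← h1, hh, map_one]))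
  have h2' : a2 ≠ 1 := fun hh => h1' (hinj _ _ (by rw [← h2, hh, map_one]))
  have hset : ({1, a0, a1, a2} : Set A) = (ll ρ hA d : Set A) := by
    refine Set.eq_of_subset_of_ncard_le ?_ ?_ (Set.toFinite _)
    · rintro x (rfl | rfl | rfl | rfl)
      · exact one_mem _
      · exact ha0
      · exact hinv _ ha0
      · exact hinv _ (hinv _ ha0)
    · have e : ({1, a0, a1, a2} : Set A).ncard = 4 := by
        rw [Set.ncard_insert_of_notMem, Set.ncard_insert_of_notMem, Set.ncard_pair h12]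
        · rintro (hh | hh)
          · exact h01 hh
          · exact h02 hh
        · rintro (hh | hh | hh)
          · exact h0 hh.symm
          · exact h1' hh.symm
          · exact h2' hh.symm
      rw [e]
      exact D.card_l
  have hmem : ∀ c ∈ ll ρ hA d, c = 1 ∨ c = a0 ∨ c = a1 ∨ c = a2 := by
    intro c hc
    have : c ∈ ({1, a0, a1, a2} : Set A) := by rw [hset]; exact hc
    exact this
  have h3 : ρ θ a2 = a0 := by
    rcases hmem _ (hinv _ (hinv _ (hinv _ ha0))) with hh | hh | hh | hh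
    · exact absurd (hinj _ _ (hh.trans (map_one _).symm)) h2'
    · exact hh
    · exact absurd (hinj _ _ (hh.trans h1)) h02.symm
    · exact absurd (hinj _ _ (hh.trans h2)) h12.symm
  refine ⟨θ, hθ, fun a ha ha1 c hc => ?_⟩
  rcases hmem a ha with rfl | rfl | rfl | rfl
  · exact absurd rfl ha1
  · exact hmem c hc
  · rw [← h2, h3]
    rcases hmem c hc with hh | hh | hh | hh
    · exact Or.inl hh
    · exact Or.inr (Or.inr (Or.inr hh))
    · exact Or.inr (Or.inl hh)
    · exact Or.inr (Or.inr (Or.inl hh))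
  · rw [h3, ← h1]
    rcases hmem c hc with hh | hh | hh | hh
    · exact Or.inl hh
    · exact Or.inr (Or.inr (Or.inl hh))
    · exact Or.inr (Or.inr (Or.inr hh))
    · exact Or.inr (Or.inl hh)

/-- irreducibility of the conjugates of `l` under `Θ` -/
theorem Data.irr [Finite A] (m : M) {B : Subgroup A}
    (hB : ∀ θ ∈ normalClosure (X : Set M), ∀ b ∈ B, ρ θ b ∈ B) {b : A} (hb : b ∈ B)
    (hbl : b ∈ ll ρ hA (m * d * m⁻¹)) (hb1 : b ≠ 1) : ll ρ hA (m * d * m⁻¹) ≤ B := by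
  obtain ⟨θ, hθ, H⟩ := D.exists_cyc
  intro c hc
  have hθ' : m * θ * m⁻¹ ∈ normalClosure (X : Set M) := normalClosure_normal.conj_mem θ hθ m
  have tr : ∀ a : A, a ∈ ll ρ hA (m * d * m⁻¹) → ρ m⁻¹ a ∈ ll ρ hA d := by
    intro a ha
    rw [← ll_conj_iff hA m d, ← MulAut.mul_apply, ← map_mul, mul_inv_cancel, map_one, MulAut.one_apply]
    exact ha
  have hb1' : ρ m⁻¹ b ≠ 1 := fun h => hb1 ((ρ m⁻¹).injective (h.trans (map_one _).symm))
  have back : ∀ a : A, ρ m (ρ m⁻¹ a) = a := fun a => by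
    rw [← MulAut.mul_apply, ← map_mul, mul_inv_cancel, map_one, MulAut.one_apply]
  have back' : ∀ a : A, ρ m⁻¹ (ρ m a) = a := fun a => by
    rw [← MulAut.mul_apply, ← map_mul, inv_mul_cancel, map_one, MulAut.one_apply]
  have step : ∀ a : A, ρ m (ρ θ (ρ m⁻¹ a)) = ρ (m * θ * m⁻¹) a := fun a => by
    rw [map_mul, map_mul, MulAut.mul_apply, MulAut.mul_apply]
  rcases H _ (tr b hbl) hb1' _ (tr c hc) with h | h | h | h
  · have : c = 1 := (ρ m⁻¹).injective (h.trans (map_one _).symm)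
    rw [this]; exact one_mem _
  · have : c = b := (ρ m⁻¹).injective h
    rw [this]; exact hb
  · have h2 := congrArg (ρ m) h
    rw [back, step] at h2
    rw [h2]; exact hB _ hθ' _ hb
  · have h2 := congrArg (ρ m) h
    have e : ρ θ (ρ m⁻¹ b) = ρ m⁻¹ (ρ (m * θ * m⁻¹) b) := by
      rw [← step]
      exact (back' _).symm
    rw [back, e, step] at h2
    rw [h2]; exact hB _ hθ' _ (hB _ hθ' _ hb)

theorem Data.X_le : X ≤ normalClosure (X : Set M) := by
  have _ := D
  exact le_normalClosure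

theorem Data.ll_inv' (m : M) {θ : M} (hθ : θ ∈ normalClosure (X : Set M)) {a : A}
    (ha : a ∈ ll ρ hA (m * d * m⁻¹)) : ρ θ a ∈ ll ρ hA (m * d * m⁻¹) := ll_inv hA (D.comm' hθ m) ha

/-- a 2-group on a group of order at most four -/
theorem Data.two_aux [Finite M] [Finite A] (m : M) :
    (cc ρ X (ll ρ hA (m * d * m⁻¹))).relIndex X ≤ 2 ∧
      ∀ x ∈ X, ∀ a ∈ ll ρ hA (m * d * m⁻¹), ρ x (ρ x a) = a := by
  set L := ll ρ hA (m * d * m⁻¹) with hL
  have hinv : ∀ x ∈ X, ∀ a ∈ L, ρ x a ∈ L := fun x hx a ha => D.ll_inv' m (D.X_le hx) ha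
  let α := {a : A // a ∈ L ∧ a ≠ 1}
  let _ : MulAction X α :=
    { smul := fun x a => ⟨ρ x a.1, hinv _ x.2 _ a.2.1, fun h => a.2.2 ((ρ x).injective (h.trans (map_one _).symm))⟩
      one_smul := fun a => Subtype.ext (by
        change ρ ((1 : X) : M) a.1 = a.1
        rw [coe_one, map_one, MulAut.one_apply])
      mul_smul := fun x y a => Subtype.ext (by
        change ρ ((x * y : X) : M) a.1 = ρ x (ρ y a.1)
        rw [coe_mul, map_mul, MulAut.mul_apply]) }
  let f : X →* Equiv.Perm α := MulAction.toPermHom X α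
  have hf : ∀ (x : X) (a : α), ((f x a : α) : A) = ρ x a.1 := fun _ _ => rfl
  have hcardL : Nat.card L ≤ 4 := by
    refine le_trans ?_ D.card_l
    refine Nat.card_le_card_of_injective
      (fun a : L => (⟨ρ m⁻¹ a.1, ?_⟩ : ll ρ hA d)) ?_
    · rw [← ll_conj_iff hA m d, ← MulAut.mul_apply, ← map_mul, mul_inv_cancel, map_one, MulAut.one_apply]
      exact a.2
    · intro a b h
      exact Subtype.ext ((ρ m⁻¹).injective (congrArg Subtype.val h))
  have hα : Nat.card α ≤ 3 := by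
    have h1 : Nat.card α + 1 ≤ Nat.card L := by
      rw [← Finite.card_option]
      refine Nat.card_le_card_of_injective
        (fun o : Option α => (match o with | none => ⟨1, one_mem _⟩ | some a => ⟨a.1, a.2.1⟩ : L)) ?_
      rintro (_ | a) (_ | b) h
      · rfl
      · exact absurd (congrArg Subtype.val h).symm b.2.2
      · exact absurd (congrArg Subtype.val h) a.2.2
      · have h' : (a : A) = b := congrArg (fun z : L => (z : A)) h
        exact congrArg some (Subtype.ext h')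
    omega
  have hperm : Nat.card (Equiv.Perm α) ∣ 6 := by
    rw [Nat.card_perm]
    interval_cases Nat.card α <;> decide
  have hr : Nat.card f.range ∣ 6 := (card_subgroup_dvd_card f.range).trans hperm
  have h2g : IsPGroup 2 f.range := D.X2.of_surjective f.rangeRestrict f.rangeRestrict_surjective
  have hr2 : Nat.card f.range ≤ 2 := by
    obtain ⟨k, hk⟩ := IsPGroup.iff_card.1 h2g
    rw [hk] at hr ⊢
    have hk2 : k < 2 := by
      by_contra hc
      push Not at hc
      have h4 : 2 ^ 2 ∣ 6 := (pow_dvd_pow 2 hc).trans hr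
      omega
    interval_cases k <;> norm_num
  have hker : f.ker = (cc ρ X L).subgroupOf X := by
    ext x
    rw [MonoidHom.mem_ker, mem_subgroupOf, mem_cc]
    constructor
    · intro h
      refine ⟨x.2, fun a ha => ?_⟩
      by_cases h1 : a = 1
      · rw [h1, map_one]
      · have := hf x ⟨a, ha, h1⟩
        rw [h] at this
        exact this.symm
    · rintro ⟨-, h⟩
      ext a
      rw [hf]
      exact h _ a.2.1
  constructor
  · rw [relIndex, ← hker, index_ker]
    exact hr2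
  · intro x hx a ha
    by_cases h1 : a = 1
    · rw [h1, map_one, map_one]
    · have h3 : (⟨f ⟨x, hx⟩, ⟨x, hx⟩, rfl⟩ : f.range) ^ 2 = 1 := by
        have hdvd : Nat.card f.range ∣ 2 := by
          have hp : 0 < Nat.card f.range := Nat.card_pos
          interval_cases Nat.card f.range <;> norm_num
        exact orderOf_dvd_iff_pow_eq_one.1 ((_root_.orderOf_dvd_natCard _).trans hdvd)
      have h4 : f ⟨x, hx⟩ ^ 2 = 1 := congrArg Subtype.val h3
      have h5 := congrArg (fun g : Equiv.Perm α => ((g ⟨a, ha, h1⟩ : α) : A)) h4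
      rw [pow_two] at h5
      exact h5

theorem Data.good_inv {B : Subgroup A} (hB : Good ρ hA d B) :
    ∀ θ ∈ normalClosure (X : Set M), ∀ b ∈ B, ρ θ b ∈ B := by
  induction hB with
  | bot =>
    intro θ _ b hb
    rw [mem_bot.1 hb, map_one]
    exact one_mem _
  | step B m _ ih =>
    intro θ hθ b hb
    have h : B ⊔ ll ρ hA (m * d * m⁻¹) ≤ (B ⊔ ll ρ hA (m * d * m⁻¹)).comap (ρ θ : MulAut A).toMonoidHom := by
      refine sup_le (fun b hb => ?_) fun b hb => ?_
      · exact (le_sup_left : B ≤ _) (ih θ hθ b hb)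
      · exact (le_sup_right : ll ρ hA (m * d * m⁻¹) ≤ B ⊔ ll ρ hA (m * d * m⁻¹)) (D.ll_inv' m hθ hb)
    exact h hb

theorem Data.card_ll [Finite A] (m : M) : Nat.card (ll ρ hA (m * d * m⁻¹)) = 4 := by
  obtain ⟨θ, hθ, a0, ha0, h⟩ := D.exists_three
  have hle : ∀ m, Nat.card (ll ρ hA (m * d * m⁻¹)) ≤ Nat.card (ll ρ hA d) := fun m => by
    refine Nat.card_le_card_of_injective
      (fun a : ll ρ hA (m * d * m⁻¹) => (⟨ρ m⁻¹ a.1, ?_⟩ : ll ρ hA d)) ?_
    · rw [← ll_conj_iff hA m d, ← MulAut.mul_apply, ← map_mul, mul_inv_cancel, map_one, MulAut.one_apply]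
      exact a.2
    · intro a b h
      exact Subtype.ext ((ρ m⁻¹).injective (congrArg Subtype.val h))
  have hge : Nat.card (ll ρ hA d) ≤ Nat.card (ll ρ hA (m * d * m⁻¹)) :=
    Nat.card_le_card_of_injective (fun a : ll ρ hA d => (⟨ρ m a.1, ll_conj hA m d a.2⟩ : ll ρ hA (m * d * m⁻¹)))
      fun a b h => Subtype.ext ((ρ m).injective (congrArg Subtype.val h))
  -- the order of `l` is 4
  have h4 : 3 < Nat.card (ll ρ hA d) := by
    have hinv : ∀ a ∈ ll ρ hA d, ρ θ a ∈ ll ρ hA d := fun a ha => ll_inv hA (D.commd hθ) ha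
    set a1 := ρ θ a0 with h1
    set a2 := ρ θ a1 with h2
    have hinj : ∀ a b : A, ρ θ a = ρ θ b → a = b := fun a b hab => (ρ θ).injective hab
    have h01 : a0 ≠ a1 := fun hh => h (by rw [h2, ← hh, ← h1, ← hh])
    have h12 : a1 ≠ a2 := fun hh => h01 (hinj _ _ (h1.symm.trans (hh.trans h2)))
    have h02 : a0 ≠ a2 := fun hh => h hh.symm
    have h0 : a0 ≠ 1 := by
      rintro hh
      apply h01
      rw [h1, hh, map_one]
    have h1' : a1 ≠ 1 := fun hh => h0 (hinj _ _ (by rw [← h1, hh, map_one]))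
    have h2' : a2 ≠ 1 := fun hh => h1' (hinj _ _ (by rw [← h2, hh, map_one]))
    have e : ({1, a0, a1, a2} : Set A).ncard = 4 := by
      rw [Set.ncard_insert_of_notMem, Set.ncard_insert_of_notMem, Set.ncard_pair h12]
      · rintro (hh | hh)
        · exact h01 hh
        · exact h02 hh
      · rintro (hh | hh | hh)
        · exact h0 hh.symm
        · exact h1' hh.symm
        · exact h2' hh.symm
    have h3 : ({1, a0, a1, a2} : Set A) ⊆ (ll ρ hA d : Set A) := by
      rintro x (rfl | rfl | rfl | rfl)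
      · exact one_mem _
      · exact ha0
      · exact hinv _ ha0
      · exact hinv _ (hinv _ ha0)
    have h5 := Set.ncard_le_ncard h3 (Set.toFinite _)
    rw [e] at h5
    exact h5
  have := D.card_l
  have := hle m
  omega

theorem Data.card_sup [Finite A] (m : M) {B : Subgroup A}
    (hB : ∀ θ ∈ normalClosure (X : Set M), ∀ b ∈ B, ρ θ b ∈ B) (h : ¬ ll ρ hA (m * d * m⁻¹) ≤ B) :
    Nat.card ↥(B ⊔ ll ρ hA (m * d * m⁻¹)) = Nat.card B * 4 := by
  have hn : B.Normal := ⟨fun b hb g => by rw [hA g b, mul_inv_cancel_right]; exact hb⟩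
  have h1 : B ⊓ ll ρ hA (m * d * m⁻¹) = ⊥ := by
    rw [eq_bot_iff_forall]
    rintro b ⟨hb, hbl⟩
    by_contra hb1
    exact h (D.irr m hB hb hbl hb1)
  have h2 : B.relIndex (B ⊔ ll ρ hA (m * d * m⁻¹)) = 4 := by
    rw [relIndex_sup_left, ← inf_relIndex_right, h1, relIndex_bot_left, D.card_ll m]
  have h3 := relIndex_mul_relIndex (⊥ : Subgroup A) B (B ⊔ ll ρ hA (m * d * m⁻¹)) bot_le le_sup_left
  rw [relIndex_bot_left, relIndex_bot_left, h2] at h3
  exact h3.symm

theorem Data.good_card [Finite M] [Finite A] {B : Subgroup A} (hB : Good ρ hA d B) :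
    (cc ρ X B).relIndex X ^ 2 ≤ Nat.card B := by
  induction hB with
  | bot =>
    have h : (cc ρ X ⊥).relIndex X = 1 := relIndex_eq_one.2 fun x hx => ⟨hx, fun b hb => by
      rw [mem_bot.1 hb, map_one]⟩
    rw [h, card_bot, one_pow]
  | step B m hB ih =>
    by_cases h : ll ρ hA (m * d * m⁻¹) ≤ B
    · rw [sup_eq_left.2 h]
      exact ih
    · rw [D.card_sup m (D.good_inv hB) h]
      have h1 : (cc ρ X (B ⊔ ll ρ hA (m * d * m⁻¹))).relIndex X ≤
          (cc ρ X B ⊓ cc ρ X (ll ρ hA (m * d * m⁻¹))).relIndex X :=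
        relIndex_le_of_le_left (cc_sup_le X _ _) (rne _ _)
      have h2 := (h1.trans relIndex_inf_le).trans (Nat.mul_le_mul_left _ (D.two_aux m).1)
      calc (cc ρ X (B ⊔ ll ρ hA (m * d * m⁻¹))).relIndex X ^ 2 ≤ ((cc ρ X B).relIndex X * 2) ^ 2 :=
            Nat.pow_le_pow_left h2 2
        _ = (cc ρ X B).relIndex X ^ 2 * 4 := by ring
        _ ≤ Nat.card B * 4 := Nat.mul_le_mul_right _ ih

/-- **the linear step** -/
theorem Data.false [Finite M] [Finite A] : False := by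
  have hl1 : ll ρ hA (1 * d * 1⁻¹) = ll ρ hA d := by rw [one_mul, inv_one, mul_one]
  -- a maximal good subgroup not containing `l`
  let 𝒮 : Set (Subgroup A) := {B | Good ρ hA d B ∧ ¬ ll ρ hA d ≤ B}
  have hbot : (⊥ : Subgroup A) ∈ 𝒮 := ⟨Good.bot, fun h => D.e_ne (mem_bot.1 (h D.he))⟩
  obtain ⟨B, hBmax⟩ := (Set.toFinite 𝒮).exists_maximal ⟨⊥, hbot⟩
  have hB : Good ρ hA d B := hBmax.prop.1
  have hBl : ¬ ll ρ hA d ≤ B := hBmax.prop.2
  have hinv := D.good_inv hB
  -- all conjugates of `l` are in `B ⊔ l`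
  have hall : ∀ m, ll ρ hA (m * d * m⁻¹) ≤ B ⊔ ll ρ hA d := by
    intro m
    by_cases h : ll ρ hA (m * d * m⁻¹) ≤ B
    · exact h.trans le_sup_left
    · have h1 : ll ρ hA d ≤ B ⊔ ll ρ hA (m * d * m⁻¹) := by
        by_contra hc
        have h2 : B ⊔ ll ρ hA (m * d * m⁻¹) ∈ 𝒮 := ⟨Good.step B m hB, hc⟩
        exact h (le_sup_right.trans (hBmax.le_of_ge h2 le_sup_left))
      have h2 : B ⊔ ll ρ hA d ≤ B ⊔ ll ρ hA (m * d * m⁻¹) := sup_le le_sup_left h1
      have h3 : B ⊔ ll ρ hA d = B ⊔ ll ρ hA (m * d * m⁻¹) := by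
        refine eq_of_le_of_card_ge h2 ?_
        rw [D.card_sup m hinv h]
        have := D.card_sup 1 hinv (by rw [hl1]; exact hBl)
        rw [hl1] at this
        rw [this]
      rw [h3]
      exact le_sup_right
  have htop : B ⊔ ll ρ hA d = ⊤ := by
    rw [eq_top_iff, ← D.gen, closure_le]
    rintro a ⟨m, rfl⟩
    exact hall m (ll_conj hA m d D.he)
  have hcardA : Nat.card A = Nat.card B * 4 := by
    have := D.card_sup 1 hinv (by rw [hl1]; exact hBl)
    rw [hl1, htop, card_top] at this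
    exact this
  -- an element of `X` trivial on `B`, not on `A`
  have hx : ∃ x ∈ X, (∀ b ∈ B, ρ x b = b) ∧ ρ x ≠ 1 := by
    by_contra hc
    push Not at hc
    have h1 : cc ρ X B ≤ ρ.ker := fun x hx => hc x hx.1 hx.2
    have h2 : ρ.ker.relIndex X ≤ (cc ρ X B).relIndex X := relIndex_le_of_le_left h1 (rne _ _)
    rw [relIndex_ker] at h2
    have h3 := D.good_card hB
    have h4 := D.card_A
    have h5 : Nat.card (X.map ρ) ^ 2 ≤ Nat.card B := (Nat.pow_le_pow_left h2 2).trans h3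
    have h6 : 0 < Nat.card B := Nat.card_pos
    omega
  obtain ⟨x, hxX, hxB, hx1⟩ := hx
  have hxx := (D.two_aux 1).2 x hxX
  rw [hl1] at hxx
  -- `x` is not trivial on `l`
  have hc : ∃ c ∈ ll ρ hA d, ρ x c ≠ c := by
    by_contra hc
    push Not at hc
    apply hx1
    have h : (⊤ : Subgroup A) ≤ ((ρ x : MulAut A).toMonoidHom.eqLocus (MonoidHom.id A)) := by
      rw [← htop]
      exact sup_le (fun b hb => hxB b hb) fun c hc' => hc c hc'
    ext a
    exact h (mem_top a)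
  obtain ⟨c', hc', hcc⟩ := hc
  have hxl : ∀ a ∈ ll ρ hA d, ρ x a ∈ ll ρ hA d := fun a ha => ll_inv hA (D.commd (D.X_le hxX)) ha
  set c := ρ x c' * c'⁻¹ with hcdef
  have hcl : c ∈ ll ρ hA d := mul_mem (hxl _ hc') (inv_mem hc')
  have hc1 : c ≠ 1 := fun h => hcc (mul_inv_eq_one.1 h)
  have inv' : ∀ a : A, a⁻¹ = a := fun a => inv_eq_of_mul_eq_one_left (D.sq a)
  have fixc : ∀ a ∈ ll ρ hA d, ρ x (ρ x a * a⁻¹) = ρ x a * a⁻¹ := by
    intro a ha
    rw [map_mul, map_inv, hxx a ha, inv', inv', hA]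
  -- the fixed points of `x` on `l` are `1, c`
  have hfix2 : ∀ f ∈ ll ρ hA d, ρ x f = f → f = 1 ∨ f = c := by
    intro f hf hxf
    by_contra hcon
    push Not at hcon
    obtain ⟨hf1, hfc⟩ := hcon
    apply hcc
    have hset : ({1, c, f, c * f} : Set A) = (ll ρ hA d : Set A) := by
      refine Set.eq_of_subset_of_ncard_le ?_ ?_ (Set.toFinite _)
      · rintro y (rfl | rfl | rfl | rfl)
        · exact one_mem _
        · exact hcl
        · exact hf
        · exact mul_mem hcl hf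
      · have hcf : c ≠ f := fun h => hfc h.symm
        have e : ({1, c, f, c * f} : Set A).ncard = 4 := by
          rw [Set.ncard_insert_of_notMem, Set.ncard_insert_of_notMem, Set.ncard_pair]
          · intro h
            exact hc1 (mul_eq_right.1 h.symm)
          · rintro (h | h)
            · exact hcf h
            · exact hf1 (mul_eq_left.1 h.symm)
          · rintro (h | h | h)
            · exact hc1 h.symm
            · exact hf1 h.symm
            · exact hcf (by rw [← inv' f]; exact eq_inv_of_mul_eq_one_left h.symm)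
        rw [e]
        exact D.card_l
    have : c' ∈ ({1, c, f, c * f} : Set A) := by rw [hset]; exact hc'
    have hxc : ρ x c = c := fixc c' hc'
    rcases this with h | h | h | h
    · rw [h, map_one]
    · rw [h, hxc]
    · rw [h, hxf]
    · rw [h, map_mul, hxc, hxf]
  -- the image of `x - 1` is `{1, c}`
  have him : ∀ a : A, ρ x a * a⁻¹ = 1 ∨ ρ x a * a⁻¹ = c := by
    intro a
    have ha : a ∈ B ⊔ ll ρ hA d := by rw [htop]; exact mem_top a
    have hn : B.Normal := ⟨fun b hb g => by rw [hA g b, mul_inv_cancel_right]; exact hb⟩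
    obtain ⟨b, hb, a', ha', rfl⟩ := (mem_sup_of_normal_left.1 ha : _)
    have e : ρ x (b * a') * (b * a')⁻¹ = ρ x a' * a'⁻¹ := by
      rw [map_mul, hxB b hb, mul_inv_rev, hA b, mul_assoc, ← mul_assoc b, mul_assoc]
      rw [hA b, mul_assoc, inv_mul_cancel, mul_one]
    rw [e]
    exact hfix2 _ (mul_mem (hxl _ ha') (inv_mem ha')) (fixc a' ha')
  -- conjugates of `d` fix `c`
  have hdc : ∀ m, ρ (m * d * m⁻¹) c = c := by
    intro m
    have h1 : ρ (m * d * m⁻¹) c = ρ x (ρ (m * d * m⁻¹) c') * (ρ (m * d * m⁻¹) c')⁻¹ := by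
      rw [hcdef, map_mul, map_inv, ← MulAut.mul_apply, ← D.comm x hxX m, MulAut.mul_apply]
    rcases him (ρ (m * d * m⁻¹) c') with h | h
    · rw [h] at h1
      exact absurd ((ρ (m * d * m⁻¹)).injective (h1.trans (map_one _).symm)) hc1
    · rw [h] at h1
      exact h1
  -- the fixed points of all conjugates of `d`
  let F : Subgroup A :=
    { carrier := {a | ∀ m, ρ (m * d * m⁻¹) a = a}
      one_mem' := fun m => map_one _
      mul_mem' := fun {a b} ha hb m => by rw [map_mul, ha m, hb m]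
      inv_mem' := fun {a} ha m => by rw [map_inv, ha m] }
  have hF : ll ρ hA (1 * d * 1⁻¹) ≤ F := by
    refine D.irr 1 (B := F) (fun θ hθ b hb m => ?_) (b := c) (fun m => hdc m) (by rw [hl1]; exact hcl) hc1
    rw [← MulAut.mul_apply, ← D.comm' hθ m, MulAut.mul_apply, hb m]
  rw [hl1] at hF
  have hd : ρ d = 1 := by
    refine D.eq_one fun m => ?_
    have h1 := hF D.he m⁻¹
    have h2 := congrArg (ρ m) h1
    simp only [← MulAut.mul_apply, ← map_mul] at h2 ⊢
    have e2 : m * (m⁻¹ * d * m⁻¹⁻¹) = d * m := by group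
    rwa [e2] at h2
  obtain ⟨x, hx⟩ := D.he
  apply D.e_ne
  rw [hx, hd, MulAut.one_apply, mul_inv_cancel]

end

end Cfsg.Agent.Omega.BTwo.Lin
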