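import Cfsg.Agent.Omega.BTwo.LemL
import Cfsg.Agent.Omega.BTwo.Lin

/-!
# #11818 (a): `q = 2`, `Ω₁Z(Q) > ⟨z⟩`, `d ∼ z` is impossible
-/

set_option autoImplicit false

namespace Cfsg.Agent.Omega.BTwo

open Subgroup

variable {G : Type*} [Group G] {ι : Type*} {V : Subgroup G} {R : ι → Subgroup G}

/-! ### generalities -/

theorem eq_or_of_card_two {H : Subgroup G} (h : Nat.card H = 2) {a c : G} (ha : a ∈ H) (ha1 : a ≠ 1)
    (hc : c ∈ H) : c = 1 ∨ c = a := by
  by_contra hcon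
  push Not at hcon
  have hf : Finite H := Nat.finite_of_card_ne_zero (by rw [h]; norm_num)
  have h1 : ({1, a, c} : Set G).ncard ≤ (H : Set G).ncard := by
    refine Set.ncard_le_ncard ?_ (Set.toFinite _)
    rintro x (rfl | rfl | rfl)
    · exact one_mem _
    · exact ha
    · exact hc
  have h2 : ({1, a, c} : Set G).ncard = 3 := by
    rw [Set.ncard_insert_of_notMem, Set.ncard_pair (Ne.symm hcon.2)]
    rintro (h | h)
    · exact ha1 h.symm
    · exact hcon.1 h.symm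
  have h3 : (H : Set G).ncard = 2 := by rw [← Nat.card_coe_set_eq]; exact h
  rw [h2, h3] at h1
  omega

/-- abelian subgroups `B` of `W` with `[W, B] ≤ R0`, `|R0| ≤ 2` central: `|W : C_W(W)| ≤ |W : B|²` -/
theorem card_abelian [Finite G] {W B R0 Z : Subgroup G} (hBW : B ≤ W) (hB : ∀ a ∈ B, ∀ c ∈ B, a * c = c * a)
    (hR0 : Nat.card R0 = 2) (hRB : ∀ t ∈ W, ∀ a ∈ B, t * a * t⁻¹ * a⁻¹ ∈ R0)
    (hRc : ∀ r ∈ R0, ∀ a ∈ W, a * r = r * a) (hZ : ∀ a ∈ W, (∀ w ∈ W, w * a = a * w) → a ∈ Z) :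
    Z.relIndex W ≤ B.relIndex W ^ 2 := by
  have rne : ∀ H K : Subgroup G, H.relIndex K ≠ 0 := fun H K => index_ne_zero_of_finite
  have two : ∀ t ∈ W, (B ⊓ centralizer {t}).relIndex B ≤ 2 := by
    intro t ht
    refine Nat.le_of_dvd (by norm_num) ?_
    rw [relIndex_dvd_two_iff]
    by_cases hc : ∀ a ∈ B, t * a * t⁻¹ * a⁻¹ = 1
    · refine ⟨1, one_mem _, fun c hc' => Or.inr (mem_inf.2 ⟨hc', ?_⟩)⟩
      rw [mem_centralizer_iff]
      intro z hz
      rw [Set.mem_singleton_iff.1 hz]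
      have := hc c hc'
      rwa [mul_inv_eq_one, mul_inv_eq_iff_eq_mul] at this
    · push Not at hc
      obtain ⟨a, ha, ha1⟩ := hc
      refine ⟨a, ha, fun c hc' => ?_⟩
      have hmem : ∀ x ∈ B, t * x * t⁻¹ * x⁻¹ = 1 → x ∈ B ⊓ centralizer {t} := by
        intro x hx h
        refine mem_inf.2 ⟨hx, ?_⟩
        rw [mem_centralizer_iff]
        intro z hz
        rw [Set.mem_singleton_iff.1 hz]
        rwa [mul_inv_eq_one, mul_inv_eq_iff_eq_mul] at h
      rcases eq_or_of_card_two hR0 (hRB t ht a ha) ha1 (hRB t ht c hc') with h | h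
      · exact Or.inr (hmem c hc' h)
      · left
        refine hmem _ (mul_mem hc' ha) ?_
        set r := t * a * t⁻¹ * a⁻¹ with hr
        have hrR : r ∈ R0 := hRB t ht a ha
        have hrr : r * r = 1 := by
          rcases eq_or_of_card_two hR0 hrR ha1 (mul_mem hrR hrR) with h' | h'
          · exact h'
          · exact absurd (mul_eq_left.1 h') ha1
        have e : t * (c * a) * t⁻¹ * (c * a)⁻¹ = (t * c * t⁻¹ * c⁻¹) * (c * (t * a * t⁻¹ * a⁻¹) * c⁻¹) := by group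
        rw [e, h, ← hr, hRc r hrR c (hBW hc'), mul_inv_cancel_right, hrr]
  -- a maximal `K`
  let 𝒮 : Set (Subgroup G) := {K | B ≤ K ∧ K ≤ W ∧ (B ⊓ centralizer (K : Set G)).relIndex B ≤ B.relIndex K}
  have hB0 : B ∈ 𝒮 := by
    refine ⟨le_rfl, hBW, ?_⟩
    have h : B ⊓ centralizer (B : Set G) = B := inf_eq_left.2 fun a ha => by
      rw [mem_centralizer_iff]
      exact fun c hc => hB c hc a ha
    rw [h]
  obtain ⟨K, hK⟩ := (Set.toFinite 𝒮).exists_maximal ⟨B, hB0⟩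
  obtain ⟨hBK, hKW, hcard⟩ := hK.prop
  have hKW' : K = W := by
    by_contra hne
    obtain ⟨t, ht, htK⟩ := SetLike.exists_of_lt (lt_of_le_of_ne hKW hne)
    have hK' : K ⊔ zpowers t ∈ 𝒮 := by
      refine ⟨hBK.trans le_sup_left, sup_le hKW (zpowers_le.2 ht), ?_⟩
      have h1 : (B ⊓ centralizer (K : Set G)) ⊓ (B ⊓ centralizer {t}) ≤
          B ⊓ centralizer ((K ⊔ zpowers t : Subgroup G) : Set G) := by
        intro x hx
        refine mem_inf.2 ⟨hx.1.1, mem_cen_sup hx.1.2 ?_⟩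
        rw [mem_centralizer_iff]
        rintro _ ⟨n, rfl⟩
        have h2 : t * x = x * t := mem_centralizer_iff.1 hx.2.2 t rfl
        exact ((show Commute t x from h2).zpow_left n)
      have h2 := (relIndex_le_of_le_left h1 (rne _ B)).trans relIndex_inf_le
      have h3 : 2 ≤ K.relIndex (K ⊔ zpowers t) := by
        have h4 := rne K (K ⊔ zpowers t)
        have h5 : K.relIndex (K ⊔ zpowers t) ≠ 1 := by
          rw [Ne, relIndex_eq_one]
          exact fun h => htK (h ((le_sup_right : zpowers t ≤ _) (mem_zpowers t)))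
        omega
      calc (B ⊓ centralizer ((K ⊔ zpowers t : Subgroup G) : Set G)).relIndex B
          ≤ (B ⊓ centralizer (K : Set G)).relIndex B * (B ⊓ centralizer {t}).relIndex B := h2
        _ ≤ B.relIndex K * 2 := Nat.mul_le_mul hcard (two t ht)
        _ ≤ B.relIndex K * K.relIndex (K ⊔ zpowers t) := Nat.mul_le_mul_left _ h3
        _ = B.relIndex (K ⊔ zpowers t) := relIndex_mul_relIndex _ _ _ hBK le_sup_left
    exact htK ((hK.le_of_ge hK' le_sup_left) ((le_sup_right : zpowers t ≤ K ⊔ zpowers t) (mem_zpowers t)))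
  rw [hKW'] at hcard
  have h1 : B ⊓ centralizer (W : Set G) ≤ Z := fun a ha =>
    hZ a (hBW ha.1) fun w hw => mem_centralizer_iff.1 ha.2 w hw
  calc Z.relIndex W ≤ (B ⊓ centralizer (W : Set G)).relIndex W := relIndex_le_of_le_left h1 (rne _ _)
    _ = (B ⊓ centralizer (W : Set G)).relIndex B * B.relIndex W :=
        (relIndex_mul_relIndex _ _ _ inf_le_left hBW).symm
    _ ≤ B.relIndex W * B.relIndex W := Nat.mul_le_mul_right _ hcard
    _ = B.relIndex W ^ 2 := by ring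

/-- `|N : N ∩ P|` divides `|M : P|` -/
theorem relIndex_dvd_of_normal' {M : Type*} [Group M] [Finite M] (P N : Subgroup M) [N.Normal] :
    P.relIndex N ∣ P.index := by
  have h1 : P.relIndex (P ⊔ N) * Nat.card ↥(P ⊓ N) = Nat.card N := by
    have a1 := relIndex_mul_relIndex (⊥ : Subgroup M) N (P ⊔ N) bot_le le_sup_right
    have a2 := relIndex_mul_relIndex (⊥ : Subgroup M) P (P ⊔ N) bot_le le_sup_left
    have a3 := relIndex_mul_relIndex (⊥ : Subgroup M) (P ⊓ N) P bot_le inf_le_left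
    rw [relIndex_bot_left, relIndex_bot_left] at a1 a2 a3
    rw [relIndex_sup_right] at a1
    rw [inf_relIndex_left] at a3
    have hp : 0 < N.relIndex P := Nat.pos_of_ne_zero index_ne_zero_of_finite
    rw [← a1, ← a3] at a2
    have a4 : N.relIndex P * (P.relIndex (P ⊔ N) * Nat.card ↥(P ⊓ N)) = N.relIndex P * Nat.card N := by
      calc N.relIndex P * (P.relIndex (P ⊔ N) * Nat.card ↥(P ⊓ N)) =
          Nat.card ↥(P ⊓ N) * N.relIndex P * P.relIndex (P ⊔ N) := by ring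
        _ = Nat.card N * N.relIndex P := a2
        _ = N.relIndex P * Nat.card N := by ring
    exact Nat.eq_of_mul_eq_mul_left hp a4
  have h2 : P.relIndex N * Nat.card ↥(P ⊓ N) = Nat.card N := by
    have a3 := relIndex_mul_relIndex (⊥ : Subgroup M) (P ⊓ N) N bot_le inf_le_right
    rw [relIndex_bot_left, relIndex_bot_left, inf_relIndex_right] at a3
    rw [← a3]; ring
  have h3 : P.relIndex N = P.relIndex (P ⊔ N) :=
    Nat.eq_of_mul_eq_mul_right (Nat.card_pos (α := ↥(P ⊓ N))) (h2.trans h1.symm)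
  rw [h3]
  have h4 := relIndex_mul_relIndex P (P ⊔ N) ⊤ le_sup_left le_top
  rw [relIndex_top_right, relIndex_top_right] at h4
  exact Dvd.intro _ h4

/-! ### the case `|R i| = 2` -/

section two

variable (b : BT V R) (h2 : ∀ i, Nat.card (R i) = 2)
include b h2

theorem BT.sub_two {i j : ι} (hij : i ≠ j) {x c : G} (hxV : x ∈ normalizer (V : Set G))
    (hxR : x ∈ normalizer (R i : Set G)) (hc : c ∈ R j) : x * c * x⁻¹ * c⁻¹ ∈ R i := by
  by_cases hc1 : c = 1
  · rw [hc1]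
    have e : x * 1 * x⁻¹ * 1⁻¹ = 1 := by group
    rw [e]; exact one_mem _
  have h1 := conj_mem_of_normalizer hxV (b.R_le j hc)
  obtain ⟨a, ha, c', hc', e⟩ := b.exists_mul hij h1
  rcases eq_or_of_card_two (h2 j) hc hc1 hc' with h | h
  · exfalso
    rw [h, mul_one] at e
    have h3 : x * c * x⁻¹ ∈ R i := by rw [e]; exact ha
    have h4 := conj_inv_mem_of_normalizer hxR h3
    have e2 : x⁻¹ * (x * c * x⁻¹) * x = c := by group
    rw [e2] at h4
    exact hc1 (b.eq_one hij h4 hc)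
  · rw [e, h, mul_inv_cancel_right]
    exact ha

theorem BT.cenR_two {i : ι} {x a : G} (hxR : x ∈ normalizer (R i : Set G)) (ha : a ∈ R i) : x * a * x⁻¹ = a := by
  have _ := b
  by_cases h1 : a = 1
  · rw [h1]; group
  rcases eq_or_of_card_two (h2 i) ha h1 (conj_mem_of_normalizer hxR ha) with h | h
  · exfalso
    apply h1
    have : a = x⁻¹ * (x * a * x⁻¹) * x := by group
    rw [this, h]; group
  · exact h

/-- `[x, V] ≤ R i` -/
theorem BT.subV_two {i : ι} {x v : G} (hxV : x ∈ normalizer (V : Set G))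
    (hxR : x ∈ normalizer (R i : Set G)) (hv : v ∈ V) : x * v * x⁻¹ * v⁻¹ ∈ R i := by
  obtain ⟨j, hj, -⟩ := b.third i i
  obtain ⟨a, ha, c, hc, rfl⟩ := b.exists_mul (Ne.symm hj) hv
  have h1 := b.sub_two h2 (Ne.symm hj) hxV hxR hc
  have h3 := b.cenR_two h2 hxR ha
  have h4 := b.V_comm a (b.R_le i ha) _ (mul_mem (b.R_le i h1) (one_mem _))
  rw [mul_one] at h4
  have e : x * (a * c) * x⁻¹ * (a * c)⁻¹ = (x * a * x⁻¹) * (x * c * x⁻¹ * c⁻¹) * a⁻¹ := by group
  rw [e, h3, h4, mul_inv_cancel_right]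
  exact h1

theorem BT.mem_cen_two {i j : ι} (hij : i ≠ j) {x e0 : G} (he0 : e0 ∈ R j) (he : e0 ≠ 1)
    (hxR : x ∈ normalizer (R i : Set G)) (h : x * e0 * x⁻¹ = e0) : x ∈ centralizer (V : Set G) := by
  rw [mem_centralizer_iff]
  intro v hv
  obtain ⟨a, ha, c, hc, rfl⟩ := b.exists_mul hij hv
  have h3 := b.cenR_two h2 hxR ha
  have h4 : x * c * x⁻¹ = c := by
    rcases eq_or_of_card_two (h2 j) he0 he hc with h' | h'
    · rw [h']; group
    · rw [h']; exact h
  have e : x * (a * c) * x⁻¹ = a * c := by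
    have e' : x * (a * c) * x⁻¹ = (x * a * x⁻¹) * (x * c * x⁻¹) := by group
    rw [e', h3, h4]
  rw [mul_inv_eq_iff_eq_mul] at e
  exact e.symm

/-- elements of `N(V) ∩ N(R i)` act on `V` as elements of `W i` -/
theorem BT.exists_W_two {i : ι} {x : G} (hxV : x ∈ normalizer (V : Set G))
    (hxR : x ∈ normalizer (R i : Set G)) : ∃ w ∈ WW V (R i), w⁻¹ * x ∈ centralizer (V : Set G) := by
  obtain ⟨j, hj, -⟩ := b.third i i
  have hij : i ≠ j := Ne.symm hj
  obtain ⟨e0, he0, he⟩ := b.exists_ne j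
  by_cases h : x * e0 * x⁻¹ = e0
  · refine ⟨1, one_mem _, ?_⟩
    rw [inv_one, one_mul]
    exact b.mem_cen_two h2 hij he0 he hxR h
  · obtain ⟨w, hw, v, hv, hwv⟩ := b.exists_comm i (b.sub_two h2 hij hxV hxR he0)
    have hwV := b.W_le_NV i hw
    have hwN := b.W_le_N i hw
    -- `[w, e0] = [x, e0]`
    have hne : x * e0 * x⁻¹ * e0⁻¹ ≠ 1 := fun h' => h (mul_inv_eq_one.1 h')
    have hwe : w * e0 * w⁻¹ * e0⁻¹ = x * e0 * x⁻¹ * e0⁻¹ := by
      rcases eq_or_of_card_two (h2 i) (b.sub_two h2 hij hxV hxR he0) hne (b.sub_two h2 hij hwV hwN he0) with h' | h'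
      · exfalso
        have h3 : w ∈ centralizer (V : Set G) := b.mem_cen_two h2 hij he0 he hwN (mul_inv_eq_one.1 h')
        apply hne
        rw [← hwv, ← mem_centralizer_iff.1 h3 v hv]
        group
      · exact h'
    refine ⟨w, hw, b.mem_cen_two h2 hij he0 he (mul_mem (inv_mem hwN) hxR) ?_⟩
    have h3 : w * e0 * w⁻¹ = x * e0 * x⁻¹ := mul_right_cancel hwe
    calc w⁻¹ * x * e0 * (w⁻¹ * x)⁻¹ = w⁻¹ * (x * e0 * x⁻¹) * w := by group
      _ = w⁻¹ * (w * e0 * w⁻¹) * w := by rw [h3]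
      _ = e0 := by group

/-- `|W i : U i| = 2` -/
theorem BT.index_two {i : ι} {w w0 : G} (hw : w ∈ WW V (R i)) (hw0 : w0 ∈ WW V (R i)) (hw0' : w0 ∉ UU V R i) :
    w ∈ UU V R i ∨ w * w0⁻¹ ∈ UU V R i := by
  obtain ⟨j, hj, -⟩ := b.third i i
  have hij : i ≠ j := Ne.symm hj
  obtain ⟨e0, he0, he⟩ := b.exists_ne j
  have key : ∀ x ∈ WW V (R i), x * e0 * x⁻¹ * e0⁻¹ = 1 → x ∈ UU V R i := fun x hx h =>
    mem_inf.2 ⟨hx, b.mem_cen_two h2 hij he0 he (b.W_le_N i hx) (mul_inv_eq_one.1 h)⟩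
  have hw0e : w0 * e0 * w0⁻¹ * e0⁻¹ ≠ 1 := fun h => hw0' (key w0 hw0 h)
  rcases eq_or_of_card_two (h2 i) (b.sub_two h2 hij (b.W_le_NV i hw0) (b.W_le_N i hw0) he0) hw0e
    (b.sub_two h2 hij (b.W_le_NV i hw) (b.W_le_N i hw) he0) with h | h
  · exact Or.inl (key w hw h)
  · right
    have h3 : w * e0 * w⁻¹ = w0 * e0 * w0⁻¹ := mul_right_cancel h
    -- `w0⁻¹ w` centralises `V`
    have h4 : w0⁻¹ * w ∈ UU V R i := by
      refine key _ (mul_mem (inv_mem hw0) hw) ?_
      rw [mul_inv_eq_one]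
      calc w0⁻¹ * w * e0 * (w0⁻¹ * w)⁻¹ = w0⁻¹ * (w * e0 * w⁻¹) * w0 := by group
        _ = w0⁻¹ * (w0 * e0 * w0⁻¹) * w0 := by rw [h3]
        _ = e0 := by group
    have hn : w0 ∈ normalizer (UU V R i : Set G) := by
      rw [← cj_eq_self_iff]
      exact b.cj_UU (b.W_le_NV i hw0) (cj_eq_self_iff.2 (b.W_le_N i hw0))
    have h5 := conj_mem_of_normalizer hn h4
    have e : w0 * (w0⁻¹ * w) * w0⁻¹ = w * w0⁻¹ := by group
    rwa [e] at h5

end two

/-- **(L)**, consequence -/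
theorem BTC.lemL_two [Finite G] (b : BTC V R) (h2 : ∀ i, Nat.card (R i) = 2) {i : ι} {x : G}
    (hxV : x ∈ normalizer (V : Set G)) (hxR : x ∈ normalizer (R i : Set G))
    (h : ∀ w ∈ WW V (R i), x * w * x⁻¹ * w⁻¹ ∈ ZW V R i) : x ∈ QQ (R i) := by
  obtain ⟨w0, hw0, hc⟩ := b.exists_W_two h2 hxV hxR
  have hwN := N_le_NZW (V := V) i (b.W_le_N i hw0)
  have h1 : w0⁻¹ * x ∈ QQ (R i) := by
    refine b.lemL hc fun w hw => ?_
    have k1 := b.R_le_ZW i (b.WW_comm i (inv_mem hw0) hw)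
    have k2 := h w hw
    have e : w0⁻¹ * x * w * (w0⁻¹ * x)⁻¹ * w⁻¹ =
        (w0⁻¹ * (x * w * x⁻¹ * w⁻¹) * w0⁻¹⁻¹) * (w0⁻¹ * w * w0⁻¹⁻¹ * w⁻¹) := by group
    rw [e]
    exact mul_mem (conj_mem_of_normalizer (inv_mem hwN) k2) k1
  have e : x = w0 * (w0⁻¹ * x) := by group
  rw [e]
  exact mul_mem (b.W_le_Q i hw0) h1

/-! ### the action on `W i / Z(W i)` -/

/-- `N` acts on `W / Z` -/
noncomputable def actQ (W Z N : Subgroup G) [hZ : (Z.subgroupOf W).Normal]
    (hW : N ≤ normalizer (W : Set G)) (hZN : N ≤ normalizer (Z : Set G)) :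
    N →* MulAut (W ⧸ Z.subgroupOf W) where
  toFun n := QuotientGroup.congr (Z.subgroupOf W) (Z.subgroupOf W) (W.normalizerMonoidHom ⟨n, hW n.2⟩) (by
    ext x
    constructor
    · rintro ⟨y, hy, rfl⟩
      exact conj_mem_of_normalizer (hZN n.2) hy
    · intro hx
      refine ⟨⟨(n : G)⁻¹ * x * n, conj_inv_mem_of_normalizer (hW n.2) x.2⟩, ?_, ?_⟩
      · exact conj_inv_mem_of_normalizer (hZN n.2) hx
      · exact Subtype.ext (by
          change (n : G) * ((n : G)⁻¹ * x * n) * (n : G)⁻¹ = x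
          group))
  map_one' := by
    ext x
    induction x using QuotientGroup.induction_on with
    | H x =>
      rw [QuotientGroup.congr_mk]
      rw [MulAut.one_apply]
      congr 1
      exact Subtype.ext (by change (1 : G) * x * (1 : G)⁻¹ = x; group)
  map_mul' n m := by
    ext x
    induction x using QuotientGroup.induction_on with
    | H x =>
      rw [MulAut.mul_apply, QuotientGroup.congr_mk, QuotientGroup.congr_mk, QuotientGroup.congr_mk]
      congr 1
      exact Subtype.ext (by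
        change ((n : G) * m) * x * ((n : G) * m)⁻¹ = n * (m * x * (m : G)⁻¹) * (n : G)⁻¹
        group)

theorem actQ_mk (W Z N : Subgroup G) [hZ : (Z.subgroupOf W).Normal]
    (hW : N ≤ normalizer (W : Set G)) (hZN : N ≤ normalizer (Z : Set G)) (n : N) {w : G} (hw : w ∈ W) :
    actQ W Z N hW hZN n (QuotientGroup.mk ⟨w, hw⟩) =
      QuotientGroup.mk ⟨n * w * (n : G)⁻¹, conj_mem_of_normalizer (hW n.2) hw⟩ := rfl

theorem actQ_eq_one_iff (W Z N : Subgroup G) [hZ : (Z.subgroupOf W).Normal]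
    (hW : N ≤ normalizer (W : Set G)) (hZN : N ≤ normalizer (Z : Set G)) (n : N) :
    actQ W Z N hW hZN n = 1 ↔ ∀ w ∈ W, (n : G) * w * (n : G)⁻¹ * w⁻¹ ∈ Z := by
  constructor
  · intro h w hw
    have h1 := actQ_mk W Z N hW hZN n hw
    rw [h, MulAut.one_apply, eq_comm, QuotientGroup.eq_iff_div_mem, div_eq_mul_inv] at h1
    exact h1
  · intro h
    ext x
    induction x using QuotientGroup.induction_on with
    | H x =>
      obtain ⟨w, hw⟩ := x
      rw [actQ_mk, MulAut.one_apply, QuotientGroup.eq_iff_div_mem, div_eq_mul_inv]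
      exact h w hw

/-- `[A, d]` contains the image of `V` -/
theorem BTC.he_G [Finite G] (b : BTC V R) (h2 : ∀ i, Nat.card (R i) = 2) {i j : ι} (hij : i ≠ j) {d e0 : G}
    (hd : d ∈ centralizer (WW V (R j) : Set G)) (hdR : d ∉ R j) (he0 : e0 ∈ R j) (he : e0 ≠ 1) :
    ∃ w ∈ WW V (R i), (d * w * d⁻¹ * w⁻¹) * e0⁻¹ ∈ ZW V R i := by
  by_cases hc : ∀ u ∈ UU V R i, d * u * d⁻¹ * u⁻¹ = 1
  · -- `d ∉ Q i`
    have hdQ : d ∉ QQ (R i) := fun h => hdR (b.cen_W_Q (Ne.symm hij) hd h)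
    have hdV := cen_W_le V (R j) hd
    have h1 : ∃ w ∈ WW V (R i), d * w * d⁻¹ * w⁻¹ ∉ ZW V R i := by
      by_contra h
      push Not at h
      exact hdQ (b.lemL hdV h)
    obtain ⟨w, hw, hf⟩ := h1
    have hfW : d * w * d⁻¹ * w⁻¹ ∈ WW V (R i) :=
      mul_mem (conj_mem_of_normalizer (b.cen_le_NW i hdV) hw) (inv_mem hw)
    -- `[d, w]` commutes with `U i`
    have hfU : ∀ u ∈ UU V R i, d * w * d⁻¹ * w⁻¹ * u = u * (d * w * d⁻¹ * w⁻¹) := by
      intro u hu
      have k1 : w * u * w⁻¹ * u⁻¹ ∈ R i := b.WU hw hu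
      have k2 : d * (w * u * w⁻¹ * u⁻¹) * d⁻¹ = w * u * w⁻¹ * u⁻¹ := by
        rw [← mem_centralizer_iff.1 hdV _ (b.R_le i k1), mul_inv_cancel_right]
      have k3 : d * u * d⁻¹ = u := mul_inv_eq_one.1 (hc u hu)
      have k4 : d⁻¹ * u * d = u := by
        calc d⁻¹ * u * d = d⁻¹ * (d * u * d⁻¹) * d := by rw [k3]
          _ = u := by group
      have k5 := b.conj_R (b.W_le_Q i hfW) k1
      set f := d * w * d⁻¹ * w⁻¹ with hfdef
      have k6 : d * w * d⁻¹ = f * w := by rw [hfdef]; group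
      -- `[w, u] = [f w, u] = f [w, u] f⁻¹ [f, u]`
      have k7 : f * u * f⁻¹ * u⁻¹ = 1 := by
        have e1 : d * (w * u * w⁻¹ * u⁻¹) * d⁻¹ = (d * w * d⁻¹) * (d * u * d⁻¹) * (d * w * d⁻¹)⁻¹ * (d * u * d⁻¹)⁻¹ := by
          group
        rw [k2, k3, k6] at e1
        have e2 : f * w * u * (f * w)⁻¹ * u⁻¹ = (f * (w * u * w⁻¹ * u⁻¹) * f⁻¹) * (f * u * f⁻¹ * u⁻¹) := by group
        rw [e2, k5] at e1
        exact (mul_eq_left.1 e1.symm)
      rwa [mul_inv_eq_one, mul_inv_eq_iff_eq_mul] at k7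
    obtain ⟨v, hv, hvc⟩ := b.cen_U (b.W_le_Q i hfW) hfU
    have hvf : v⁻¹ * (d * w * d⁻¹ * w⁻¹) ∈ ZW V R i :=
      mem_inf.2 ⟨mul_mem (inv_mem (V_le_WW V (R i) hv)) hfW, hvc⟩
    obtain ⟨a, ha, c, hc', rfl⟩ := b.exists_mul hij hv
    have haZ := b.R_le_ZW i ha
    rcases eq_or_of_card_two (h2 j) he0 he hc' with h | h
    · exfalso
      apply hf
      rw [h, mul_one] at hvf
      have e : d * w * d⁻¹ * w⁻¹ = a * (a⁻¹ * (d * w * d⁻¹ * w⁻¹)) := by group
      rw [e]
      exact mul_mem haZ hvf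
    · refine ⟨w, hw, ?_⟩
      rw [h] at hvf
      set f := d * w * d⁻¹ * w⁻¹
      -- `f e0⁻¹ = a e0 z e0⁻¹`
      have e : f * e0⁻¹ = a * (e0 * ((a * e0)⁻¹ * f) * e0⁻¹) * ((a * e0) * ((a * e0)⁻¹ * f) * ((a * e0) * ((a * e0)⁻¹ * f))⁻¹) := by
        group
      have e2 : f = (a * e0) * ((a * e0)⁻¹ * f) := by group
      set z := (a * e0)⁻¹ * f with hz
      have k1 : e0 * z = z * e0 := ZW_comm hvf (V_le_WW V (R i) (b.R_le j he0))
      have e3 : f * e0⁻¹ = a * z := by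
        rw [e2, mul_assoc a, k1]; group
      rw [e3]
      exact mul_mem haZ hvf
  · push Not at hc
    obtain ⟨u, hu, hu1⟩ := hc
    have h1 : d * u * d⁻¹ * u⁻¹ ∈ R j := b.cen_W_U (Ne.symm hij) hd hu
    refine ⟨u, UU_le_WW i hu, ?_⟩
    rcases eq_or_of_card_two (h2 j) he0 he h1 with h | h
    · exact absurd h hu1
    · rw [h, mul_inv_cancel]; exact one_mem _

theorem BT.gen_G (b : BT V R) (h2 : ∀ i, Nat.card (R i) = 2) {i j : ι} (hij : i ≠ j) {e0 : G} (he0 : e0 ∈ R j)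
    (he : e0 ≠ 1) {T : Subgroup G} (hT : R i ≤ T) (h : ∀ m ∈ normalizer (R i : Set G), m * e0 * m⁻¹ ∈ T) :
    WW V (R i) ≤ T := by
  refine iSup_le fun m => ?_
  rw [cj_le_iff]
  intro v hv
  obtain ⟨a, ha, c, hc, rfl⟩ := b.exists_mul hij hv
  have e : (m : G) * (a * c) * (m : G)⁻¹ = ((m : G) * a * (m : G)⁻¹) * ((m : G) * c * (m : G)⁻¹) := by group
  rw [e]
  refine mul_mem (hT (conj_mem_of_normalizer m.2 ha)) ?_
  rcases eq_or_of_card_two (h2 j) he0 he hc with h' | h'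
  · rw [h']
    have e : (m : G) * 1 * (m : G)⁻¹ = 1 := by group
    rw [e]; exact one_mem _
  · rw [h']; exact h m m.2

/-- `Z(W i)` is normal in `W i` -/
instance ZW_normal (i : ι) : ((ZW V R i).subgroupOf (WW V (R i))).Normal := ⟨fun z hz w => by
  have h1 : (w : G) * z = z * w := ZW_comm hz w.2
  change (w : G) * z * (w : G)⁻¹ ∈ ZW V R i
  rw [h1, mul_inv_cancel_right]
  exact hz⟩

section data

variable [Finite G] (b : BTC V R) (h2 : ∀ i, Nat.card (R i) = 2) {i j : ι} (hij : i ≠ j)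
include b h2 hij

/-- **the kill**: no 2-subgroup `X ≤ S` normalised by `C_{N(R i)}(d)` of order `|Q i|` with `X ∩ Q i` abelian -/
theorem BTC.kill (S : Sylow 2 G) (hSV : (S : Subgroup G) ≤ normalizer (V : Set G))
    (hSR : (S : Subgroup G) ≤ normalizer (R i : Set G)) {d : G}
    (hd : d ∈ centralizer (WW V (R i) : Set G)) (hdR : d ∉ R i) {X : Subgroup G} (hXS : X ≤ S)
    (hXd : normalizer (R i : Set G) ⊓ centralizer {d} ≤ normalizer (X : Set G))
    (hcard : Nat.card X = Nat.card (QQ (R i)))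
    (hab : ∀ a ∈ X ⊓ QQ (R i), ∀ c ∈ X ⊓ QQ (R i), a * c = c * a) : False := by
  obtain ⟨e0, he0, he⟩ := b.exists_ne j
  obtain ⟨x0, hx0, ex0⟩ := b.trans_X_one i j
  have hX2 : IsPGroup 2 X := S.2.to_le hXS
  have hXN : X ≤ normalizer (R i : Set G) := hXS.trans hSR
  have hXV : X ≤ normalizer (V : Set G) := hXS.trans hSV
  -- `d2`
  have hd2 : x0 * d * x0⁻¹ ∈ centralizer (WW V (R j) : Set G) := by
    rw [← b.cj_WW ex0, centralizer_cj]
    exact conj_mem_cj hd
  have hd2R : x0 * d * x0⁻¹ ∉ R j := by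
    intro h
    rw [← ex0, mem_cj] at h
    apply hdR
    have e : x0⁻¹ * (x0 * d * x0⁻¹) * x0 = d := by group
    rwa [e] at h
  set d2 := x0 * d * x0⁻¹ with hd2def
  have hd2N : d2 ∈ normalizer (R i : Set G) := b.cen_W_le_N j i hd2
  set M : Subgroup G := normalizer (R i : Set G) with hM
  set W := WW V (R i) with hWdef
  set Z := ZW V R i with hZdef
  have hMW : M ≤ normalizer (W : Set G) := normalizer_le_WW V (R i)
  have hMZ : M ≤ normalizer (Z : Set G) := N_le_NZW i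
  let ρ : M →* MulAut (W ⧸ Z.subgroupOf W) := actQ W Z M hMW hMZ
  have hρ : ∀ (m : M) (w : G) (hw : w ∈ W), ρ m (QuotientGroup.mk ⟨w, hw⟩) =
      QuotientGroup.mk ⟨m * w * (m : G)⁻¹, conj_mem_of_normalizer (hMW m.2) hw⟩ := fun m w hw => rfl
  have hρ1 : ∀ m : M, ρ m = 1 ↔ ∀ w ∈ W, (m : G) * w * (m : G)⁻¹ * w⁻¹ ∈ Z := fun m =>
    actQ_eq_one_iff W Z M hMW hMZ m
  have hZW : Z ≤ W := ZW_le_WW i
  have heW : e0 ∈ W := V_le_WW V (R i) (b.R_le j he0)
  have hA : ∀ a c : W ⧸ Z.subgroupOf W, a * c = c * a := by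
    intro a c
    induction a using QuotientGroup.induction_on with
    | H a =>
      induction c using QuotientGroup.induction_on with
      | H c =>
        rw [← QuotientGroup.mk_mul, ← QuotientGroup.mk_mul, QuotientGroup.eq_iff_div_mem]
        have h1 := b.R_le_ZW i (b.WW_comm i a.2 c.2)
        change (a : G) * c / (c * a) ∈ Z
        have e : (a : G) * c / (c * a) = a * c * (a : G)⁻¹ * (c : G)⁻¹ := by rw [div_eq_mul_inv]; group
        rw [e]
        exact h1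
  let e : W ⧸ Z.subgroupOf W := QuotientGroup.mk ⟨e0, heW⟩
  have hene : e ≠ 1 := by
    intro h
    rw [QuotientGroup.eq_one_iff] at h
    exact he (b.not_ZW hij he0 h)
  have hgen : closure {a | ∃ m, a = ρ m e} = ⊤ := by
    set C := closure {a | ∃ m, a = ρ m e} with hC
    have hWT : W ≤ (C.comap (QuotientGroup.mk' (Z.subgroupOf W))).map W.subtype := by
      refine b.gen_G h2 hij he0 he (fun a ha => ?_) fun m hm => ?_
      · refine ⟨⟨a, V_le_WW V (R i) (b.R_le i ha)⟩, ?_, rfl⟩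
        change QuotientGroup.mk' (Z.subgroupOf W) _ ∈ C
        have h1 : QuotientGroup.mk' (Z.subgroupOf W) ⟨a, V_le_WW V (R i) (b.R_le i ha)⟩ = 1 := by
          rw [QuotientGroup.mk'_apply, QuotientGroup.eq_one_iff]
          exact b.R_le_ZW i ha
        rw [h1]; exact one_mem _
      · exact ⟨⟨m * e0 * m⁻¹, conj_mem_of_normalizer (hMW hm) heW⟩, subset_closure ⟨⟨m, hm⟩, rfl⟩, rfl⟩
    rw [eq_top_iff]
    intro a _
    induction a using QuotientGroup.induction_on with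
    | H x =>
      obtain ⟨w', hw', hww⟩ := hWT x.2
      have : w' = x := Subtype.ext hww
      rw [← this]
      exact hw'
  have hP : ∀ p : M, (p : G) ∈ S → ρ p e = e := by
    intro p hp
    change QuotientGroup.mk _ = QuotientGroup.mk _
    rw [QuotientGroup.eq_iff_div_mem]
    change (p : G) * e0 * (p : G)⁻¹ / e0 ∈ Z
    rw [div_eq_mul_inv]
    exact b.R_le_ZW i (b.sub_two h2 hij (hSV hp) p.2 he0)
  have rne : ∀ {H : Type _} [Group H] [Finite H] (A B : Subgroup H), A.relIndex B ≠ 0 :=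
    fun A B => index_ne_zero_of_finite
  have D : Lin.Data ρ hA (X.subgroupOf M) ⟨d2, hd2N⟩ e := by
    refine ⟨?_, ?_, ?_, ?_, ?_, ?_, ?_, ?_, ?_⟩
    · -- sq
      intro a
      induction a using QuotientGroup.induction_on with
      | H a =>
        rw [← QuotientGroup.mk_mul, QuotientGroup.eq_one_iff]
        exact b.R_le_ZW i (b.W_sq i a.2)
    · -- comm
      intro x hx m
      have h1 := b.comm_mod hij hd hX2 hXN hXd hx m.2 hd2
      have h3 : ρ (x * (m * ⟨d2, hd2N⟩ * m⁻¹) * x⁻¹ * (m * ⟨d2, hd2N⟩ * m⁻¹)⁻¹) = 1 := by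
        rw [hρ1]
        intro w hw
        exact b.R_le_ZW i (b.WQ i h1 hw)
      rw [map_mul, map_inv, mul_inv_eq_one, map_mul, map_inv, map_mul, mul_inv_eq_iff_eq_mul] at h3
      exact h3
    · -- 2-group
      exact hX2.comap_of_injective _ M.subtype_injective
    · -- card_l
      obtain ⟨w0, hw0, hw0'⟩ := b.exists_mover (Ne.symm hij)
      let f0 : W ⧸ Z.subgroupOf W := QuotientGroup.mk
        ⟨d2 * w0 * d2⁻¹ * w0⁻¹, mul_mem (conj_mem_of_normalizer (hMW hd2N) hw0) (inv_mem hw0)⟩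
      have hsub : (Lin.ll ρ hA ⟨d2, hd2N⟩ : Set (W ⧸ Z.subgroupOf W)) ⊆ {1, e, f0, e * f0} := by
        rintro a ⟨x, rfl⟩
        induction x using QuotientGroup.induction_on with
        | H x =>
          obtain ⟨w, hw⟩ := x
          have k0 : ρ ⟨d2, hd2N⟩ (QuotientGroup.mk ⟨w, hw⟩) * (QuotientGroup.mk ⟨w, hw⟩)⁻¹ =
              QuotientGroup.mk ⟨d2 * w * d2⁻¹ * w⁻¹, mul_mem (conj_mem_of_normalizer (hMW hd2N) hw) (inv_mem hw)⟩ := rfl
          rw [k0]
          have kU : ∀ u ∈ UU V R i, d2 * u * d2⁻¹ * u⁻¹ = 1 ∨ d2 * u * d2⁻¹ * u⁻¹ = e0 := fun u hu =>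
            eq_or_of_card_two (h2 j) he0 he (b.cen_W_U (Ne.symm hij) hd2 hu)
          rcases b.index_two h2 hw hw0 hw0' with h | h
          · rcases kU w h with h' | h'
            · left
              rw [QuotientGroup.eq_one_iff]
              change d2 * w * d2⁻¹ * w⁻¹ ∈ Z
              rw [h']; exact one_mem _
            · right; left
              have : (⟨d2 * w * d2⁻¹ * w⁻¹, mul_mem (conj_mem_of_normalizer (hMW hd2N) hw) (inv_mem hw)⟩ : W) =
                ⟨e0, heW⟩ := Subtype.ext h'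
              rw [this]
          · -- `w = u w0`
            have e1 : d2 * w * d2⁻¹ * w⁻¹ = (d2 * (w * w0⁻¹) * d2⁻¹ * (w * w0⁻¹)⁻¹) *
                ((w * w0⁻¹) * (d2 * w0 * d2⁻¹ * w0⁻¹) * (w * w0⁻¹)⁻¹) := by group
            set g0 := d2 * w0 * d2⁻¹ * w0⁻¹ with hg0
            have hg0W : g0 ∈ W := mul_mem (conj_mem_of_normalizer (hMW hd2N) hw0) (inv_mem hw0)
            have k1 : (w * w0⁻¹) * g0 * (w * w0⁻¹)⁻¹ * g0⁻¹ ∈ Z :=
              b.R_le_ZW i (b.WW_comm i (UU_le_WW i h) hg0W)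
            rcases kU _ h with h' | h'
            · right; right; left
              rw [QuotientGroup.eq_iff_div_mem]
              change (d2 * w * d2⁻¹ * w⁻¹) / g0 ∈ Z
              rw [e1, h', one_mul, div_eq_mul_inv]
              exact k1
            · right; right; right
              change _ = e * f0
              rw [← QuotientGroup.mk_mul, QuotientGroup.eq_iff_div_mem]
              change (d2 * w * d2⁻¹ * w⁻¹) / (e0 * g0) ∈ Z
              rw [e1, h', div_eq_mul_inv]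
              have e2 : e0 * ((w * w0⁻¹) * g0 * (w * w0⁻¹)⁻¹) * (e0 * g0)⁻¹ =
                e0 * ((w * w0⁻¹) * g0 * (w * w0⁻¹)⁻¹ * g0⁻¹) * e0⁻¹ := by group
              rw [e2, ZW_comm k1 heW, mul_inv_cancel_right]
              exact k1
      have h1 := Set.ncard_le_ncard hsub (Set.toFinite _)
      have h3 : ({1, e, f0, e * f0} : Set (W ⧸ Z.subgroupOf W)).ncard ≤ 4 := by
        refine (Set.ncard_insert_le _ _).trans ?_
        refine Nat.succ_le_succ ((Set.ncard_insert_le _ _).trans ?_)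
        refine Nat.succ_le_succ ((Set.ncard_insert_le _ _).trans ?_)
        rw [Set.ncard_singleton]
      exact h1.trans h3
    · -- he
      obtain ⟨w, hw, h⟩ := b.he_G h2 hij hd2 hd2R he0 he
      refine ⟨QuotientGroup.mk ⟨w, hw⟩, ?_⟩
      have k0 : ρ ⟨d2, hd2N⟩ (QuotientGroup.mk ⟨w, hw⟩) * (QuotientGroup.mk ⟨w, hw⟩)⁻¹ =
          QuotientGroup.mk ⟨d2 * w * d2⁻¹ * w⁻¹, mul_mem (conj_mem_of_normalizer (hMW hd2N) hw) (inv_mem hw)⟩ := rfl
      rw [k0, eq_comm, QuotientGroup.eq_iff_div_mem, div_eq_mul_inv]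
      exact h
    · exact hgen
    · -- noN
      intro N hN hN2 n hn
      let St : Subgroup (MulAut (W ⧸ Z.subgroupOf W)) :=
        { carrier := {g | g e = e}
          one_mem' := rfl
          mul_mem' := fun {g h} hg hh => by
            change (g * h) e = e
            rw [MulAut.mul_apply, hh, hg]
          inv_mem' := fun {g} hg => by
            change g⁻¹ e = e
            conv_lhs => rw [← hg]
            exact MulAut.inv_apply_self _ g e }
      have k1 : St.relIndex (N.map ρ) ∣ Nat.card (N.map ρ) := relIndex_dvd_card _ _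
      have k2 : (St.comap ρ).relIndex N = St.relIndex (N.map ρ) := relIndex_comap _ _ _
      obtain ⟨k, hk⟩ := IsPGroup.iff_card.1 hN2
      have k3 : ((S.subtype hSR : Sylow 2 M) : Subgroup M) ≤ St.comap ρ := fun p hp => hP p hp
      have k4 : (St.comap ρ).relIndex N ∣ ((S.subtype hSR : Sylow 2 M) : Subgroup M).relIndex N :=
        relIndex_dvd_of_le_left N k3
      have k5 := k4.trans (relIndex_dvd_of_normal' ((S.subtype hSR : Sylow 2 M) : Subgroup M) N)
      have k6 : Nat.Coprime (2 ^ k) ((S.subtype hSR : Sylow 2 M) : Subgroup M).index := by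
        have : Fact (Nat.Prime 2) := ⟨Nat.prime_two⟩
        exact (Nat.prime_two.coprime_iff_not_dvd.2 (S.subtype hSR).not_dvd_index).pow_left k
      have k7 : (St.comap ρ).relIndex N = 1 := by
        rw [k2] at k5 ⊢
        rw [hk] at k1
        exact Nat.eq_one_of_dvd_coprimes k6 k1 k5
      have k8 : N ≤ St.comap ρ := relIndex_eq_one.1 k7
      rw [MonoidHom.mem_ker]
      have h : (⊤ : Subgroup (W ⧸ Z.subgroupOf W)) ≤
          ((ρ n : MulAut _).toMonoidHom.eqLocus (MonoidHom.id (W ⧸ Z.subgroupOf W))) := by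
        rw [← hgen, closure_le]
        rintro a ⟨m, rfl⟩
        change ρ n (ρ m e) = ρ m e
        have h1 : ρ (m⁻¹ * n * m) e = e := by
          have := hN.conj_mem n hn m⁻¹
          rw [inv_inv] at this
          exact k8 this
        have h3 := congrArg (ρ m) h1
        simp only [← MulAut.mul_apply, ← map_mul] at h3 ⊢
        have e2 : m * (m⁻¹ * n * m) = n * m := by group
        rwa [e2] at h3
      ext a
      exact h (mem_top a)
    · -- card_A
      have hWQ : W ≤ QQ (R i) := b.W_le_Q i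
      have a1 : Z.relIndex W ≤ (X ⊓ W).relIndex W ^ 2 := by
        refine card_abelian (R0 := R i) inf_le_right ?_ (h2 i) ?_ ?_ ?_
        · exact fun a ha c hc => hab a (mem_inf.2 ⟨ha.1, hWQ ha.2⟩) c (mem_inf.2 ⟨hc.1, hWQ hc.2⟩)
        · exact fun t ht a ha => b.WW_comm i ht ha.2
        · exact fun r hr a ha => b.QR i a (hWQ ha) r hr
        · intro a ha h
          exact mem_inf.2 ⟨ha, by rw [mem_centralizer_iff]; exact h⟩
      rw [inf_relIndex_right] at a1
      have a2 : X.relIndex W ≤ X.relIndex (QQ (R i)) := relIndex_le_of_le_right hWQ (rne _ _)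
      have a3 : X.relIndex (QQ (R i)) = (QQ (R i)).relIndex X := by
        have c1 := relIndex_mul_relIndex (⊥ : Subgroup G) (X ⊓ QQ (R i)) X bot_le inf_le_left
        have c2 := relIndex_mul_relIndex (⊥ : Subgroup G) (X ⊓ QQ (R i)) (QQ (R i)) bot_le inf_le_right
        rw [relIndex_bot_left, relIndex_bot_left] at c1 c2
        rw [inf_relIndex_left] at c1
        rw [inf_relIndex_right] at c2
        have c3 := c2.trans (hcard.symm.trans c1.symm)
        exact Nat.eq_of_mul_eq_mul_left Nat.card_pos c3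
      have a4 : (QQ (R i)).relIndex X ≤ ρ.ker.relIndex (X.subgroupOf M) := by
        rw [← relIndex_subgroupOf hXN, ← inf_relIndex_right ρ.ker]
        refine relIndex_le_of_le_left ?_ (rne _ _)
        rintro x ⟨hx1, hx2⟩
        have hx3 := (hρ1 x).1 hx1
        exact b.lemL_two h2 (hXV hx2) x.2 hx3
      rw [← relIndex_ker]
      calc Nat.card (W ⧸ Z.subgroupOf W) = Z.relIndex W := rfl
        _ ≤ X.relIndex W ^ 2 := a1
        _ ≤ ρ.ker.relIndex (X.subgroupOf M) ^ 2 := Nat.pow_le_pow_left ((a2.trans a3.le).trans a4) 2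
    · exact ⟨e, 1, hene⟩
  exact D.false

end data

/-! ### the theorem -/

theorem Q_le_sylow [Finite G] {i : ι} (S : Sylow 2 G) (hSR : (S : Subgroup G) ≤ normalizer (R i : Set G)) :
    QQ (R i) ≤ S := by
  have h1 : IsPGroup 2 ↥((S : Subgroup G) ⊔ QQ (R i)) :=
    S.2.to_sup_of_normal_right' (O2_isPGroup _) (hSR.trans (le_normalizer_O2 _))
  have h2 := S.3 h1 le_sup_left
  rw [← h2]
  exact le_sup_right

theorem coe_smul_sylow {H : Type*} [Group H] (S : Sylow 2 H) (g : H) :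
    ((g • S : Sylow 2 H) : Subgroup H) = cj g S := rfl

theorem exists_cj_le [Finite G] {C T : Subgroup G} (P : Sylow 2 G) (hP : (P : Subgroup G) ≤ C) (hT : T ≤ C)
    (hT2 : IsPGroup 2 T) : ∃ c ∈ C, T ≤ cj c P := by
  have : Fact (Nat.Prime 2) := ⟨Nat.prime_two⟩
  obtain ⟨Q, hQ⟩ := (hT2.comap_of_injective C.subtype C.subtype_injective).exists_le_sylow
  obtain ⟨c, hc⟩ := MulAction.exists_smul_eq C (P.subtype hP) Q
  refine ⟨c, c.2, fun t ht => ?_⟩
  have h1 : (⟨t, hT ht⟩ : C) ∈ (Q : Subgroup C) := hQ ht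
  rw [← hc, coe_smul_sylow, mem_cj] at h1
  rw [mem_cj]
  exact h1

theorem exists_cj_eq [Finite G] {C : Subgroup G} (P Q : Sylow 2 G) (hP : (P : Subgroup G) ≤ C)
    (hQ : (Q : Subgroup G) ≤ C) : ∃ c ∈ C, cj c P = Q := by
  obtain ⟨c, hc, h⟩ := exists_cj_le P hP hQ Q.2
  refine ⟨c, hc, (eq_of_le_of_card_ge h ?_).symm⟩
  rw [card_cj]
  have : Fact (Nat.Prime 2) := ⟨Nat.prime_two⟩
  exact (P.card_eq_multiplicity.trans Q.card_eq_multiplicity.symm).le

/-- **#11818 (a)**: `q = 2`, `d ∈ Z(Q i) - R i` with `[S, d] ≤ R i` is not conjugate to `z` -/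
theorem BTC.caseA [Finite G] (b : BTC V R) (h2 : ∀ i, Nat.card (R i) = 2) {i : ι} (S : Sylow 2 G)
    (hSV : (S : Subgroup G) ≤ normalizer (V : Set G)) (hSR : (S : Subgroup G) ≤ normalizer (R i : Set G))
    (hZS : ∀ x ∈ S, x * x = 1 → (∀ s ∈ S, s * x = x * s) → x ∈ R i) {d : G} (hdQ : d ∈ QQ (R i))
    (hdZ : ∀ q ∈ QQ (R i), q * d = d * q) (hdS : ∀ s ∈ S, s * d * s⁻¹ * d⁻¹ ∈ R i) (hdR : d ∉ R i) {z g : G}
    (hz : z ∈ R i) (hz1 : z ≠ 1) (hg : g * z * g⁻¹ = d) : False := by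
  have : Fact (Nat.Prime 2) := ⟨Nat.prime_two⟩
  obtain ⟨j, hj, -⟩ := b.third i i
  have hij : i ≠ j := Ne.symm hj
  have hzz : z * z = 1 := b.V_sq z (b.R_le i hz)
  have hdd : d * d = 1 := by
    rw [← hg]
    have e : g * z * g⁻¹ * (g * z * g⁻¹) = g * (z * z) * g⁻¹ := by group
    rw [e, hzz]; group
  have hQS : QQ (R i) ≤ S := Q_le_sylow S hSR
  have hdS' : d ∈ S := hQS hdQ
  -- `z` is central in `N(R i)`
  have hzN : ∀ x ∈ normalizer (R i : Set G), x * z = z * x := fun x hx => by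
    have := b.cenR_two h2 hx hz
    rwa [mul_inv_eq_iff_eq_mul] at this
  have hNz : ∀ x : G, x * z = z * x → x ∈ normalizer (R i : Set G) := by
    intro x hx
    refine mem_normalizer_of_conj fun a ha => ?_
    rcases eq_or_of_card_two (h2 i) hz hz1 ha with h | h
    · rw [h]
      have e : x * 1 * x⁻¹ = 1 := by group
      rw [e]; exact one_mem _
    · rw [h, hx, mul_inv_cancel_right]; exact hz
  set T0 : Subgroup G := (S : Subgroup G) ⊓ centralizer {d} with hT0
  have mT0 : ∀ {x : G}, x ∈ T0 ↔ x ∈ S ∧ x * d = d * x := by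
    intro x
    rw [hT0, mem_inf, mem_centralizer_singleton_iff]
    rfl
  have hT02 : IsPGroup 2 T0 := S.2.to_le inf_le_left
  -- replace `g`
  obtain ⟨g, hg, hTg⟩ : ∃ g : G, g * z * g⁻¹ = d ∧ T0 ≤ cj g S := by
    have hP : ((g • S : Sylow 2 G) : Subgroup G) ≤ centralizer {d} := by
      rw [coe_smul_sylow, cj_le_iff]
      intro x hx
      rw [mem_centralizer_singleton_iff, ← hg]
      calc g * x * g⁻¹ * (g * z * g⁻¹) = g * (x * z) * g⁻¹ := by group
        _ = g * (z * x) * g⁻¹ := by rw [hzN x (hSR hx)]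
        _ = g * z * g⁻¹ * (g * x * g⁻¹) := by group
    obtain ⟨c, hc, h⟩ := exists_cj_le (g • S) hP (inf_le_right : T0 ≤ _) hT02
    refine ⟨c * g, ?_, ?_⟩
    · rw [mem_centralizer_singleton_iff] at hc
      calc c * g * z * (c * g)⁻¹ = c * (g * z * g⁻¹) * c⁻¹ := by group
        _ = d := by rw [hg, hc, mul_inv_cancel_right]
    · rw [cj_mul]; exact h
  -- the index
  have hne : T0 ≠ (S : Subgroup G) := by
    intro h
    apply hdR
    refine hZS d hdS' hdd fun s hs => ?_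
    have hs' : s ∈ T0 := by rw [h]; exact hs
    exact (mT0.1 hs').2
  have hSN : (S : Subgroup G) ≤ normalizer (T0 : Set G) := by
    refine le_normalizer_of fun s hs t ht => ?_
    obtain ⟨ht1, ht2⟩ := mT0.1 ht
    refine mT0.2 ⟨mul_mem (mul_mem hs ht1) (inv_mem hs), ?_⟩
    have h1 := hdS s⁻¹ (inv_mem hs)
    have h3 := b.cenR_two h2 (hSR ht1) h1
    rw [mul_inv_eq_iff_eq_mul] at h3
    set r := s⁻¹ * d * s⁻¹⁻¹ * d⁻¹ with hr
    have h4 : s⁻¹ * d * s = r * d := by rw [hr]; group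
    calc s * t * s⁻¹ * d = s * (t * (s⁻¹ * d * s)) * s⁻¹ := by group
      _ = s * (t * r * d) * s⁻¹ := by rw [h4]; group
      _ = s * (r * (t * d)) * s⁻¹ := by rw [h3]; group
      _ = s * (r * d) * t * s⁻¹ := by rw [ht2]; group
      _ = s * (s⁻¹ * d * s) * t * s⁻¹ := by rw [h4]
      _ = d * (s * t * s⁻¹) := by group
  have hidx : T0.relIndex S = 2 := by
    have h1 : T0.relIndex S ∣ 2 := by
      rw [relIndex_dvd_two_iff]
      obtain ⟨s0, hs0, hs0'⟩ := SetLike.exists_of_lt (lt_of_le_of_ne (inf_le_left : T0 ≤ _) hne)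
      have hne0 : s0 * d * s0⁻¹ * d⁻¹ ≠ 1 := by
        intro h
        rw [mul_inv_eq_one, mul_inv_eq_iff_eq_mul] at h
        exact hs0' (mT0.2 ⟨hs0, h⟩)
      refine ⟨s0, hs0, fun s hs => ?_⟩
      rcases eq_or_of_card_two (h2 i) (hdS s0 hs0) hne0 (hdS s hs) with h | h
      · rw [mul_inv_eq_one, mul_inv_eq_iff_eq_mul] at h
        exact Or.inr (mT0.2 ⟨hs, h⟩)
      · left
        refine mT0.2 ⟨mul_mem hs hs0, ?_⟩
        set r := s0 * d * s0⁻¹ * d⁻¹ with hr
        have hrr : r * r = 1 := b.V_sq _ (b.R_le i (hdS s0 hs0))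
        have h3 : s * r * s⁻¹ = r := b.cenR_two h2 (hSR hs) (hdS s0 hs0)
        have e : s * s0 * d * (s * s0)⁻¹ * d⁻¹ = (s * (s0 * d * s0⁻¹ * d⁻¹) * s⁻¹) * (s * d * s⁻¹ * d⁻¹) := by group
        rw [← hr, h3, h, hrr, mul_inv_eq_one, mul_inv_eq_iff_eq_mul] at e
        exact e
    have h3 : T0.relIndex S ≠ 1 := fun h => hne (le_antisymm inf_le_left (relIndex_eq_one.1 h))
    rcases (Nat.dvd_prime Nat.prime_two).1 h1 with h | h
    · exact absurd h h3
    · exact h
  have hcardT : Nat.card T0 * 2 = Nat.card (S : Subgroup G) := by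
    have h1 := relIndex_mul_relIndex (⊥ : Subgroup G) T0 S bot_le inf_le_left
    rw [relIndex_bot_left, relIndex_bot_left, hidx] at h1
    exact h1
  -- `T1 = g S g⁻¹`
  have hT1N : cj g (S : Subgroup G) ≤ normalizer (T0 : Set G) := by
    have h1 : T0.relIndex (cj g (S : Subgroup G)) = 2 := by
      have h1 := relIndex_mul_relIndex (⊥ : Subgroup G) T0 (cj g (S : Subgroup G)) bot_le hTg
      rw [relIndex_bot_left, relIndex_bot_left, card_cj, ← hcardT] at h1
      exact Nat.eq_of_mul_eq_mul_left Nat.card_pos h1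
    have h3 : (T0.subgroupOf (cj g (S : Subgroup G))).Normal := normal_of_index_eq_two h1
    refine le_normalizer_of fun s hs t ht => ?_
    exact h3.conj_mem ⟨t, hTg ht⟩ ht ⟨s, hs⟩
  obtain ⟨y, hy, hyS⟩ := exists_cj_eq S (g • S) hSN hT1N
  rw [coe_smul_sylow] at hyS
  have hzS : z ∈ S := hQS (b.V_Q i (b.R_le i hz))
  -- `y z y⁻¹ = d`
  have hyz : y * z * y⁻¹ = d := by
    have h1 : y * z * y⁻¹ ∈ cj g (S : Subgroup G) := by rw [← hyS]; exact conj_mem_cj hzS
    rw [mem_cj] at h1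
    have h3 : g⁻¹ * (y * z * y⁻¹) * g ∈ R i := by
      refine hZS _ h1 ?_ fun s hs => ?_
      · have e : g⁻¹ * (y * z * y⁻¹) * g * (g⁻¹ * (y * z * y⁻¹) * g) = g⁻¹ * (y * (z * z) * y⁻¹) * g := by group
        rw [e, hzz]; group
      · have h4 : g * s * g⁻¹ ∈ cj y (S : Subgroup G) := by rw [hyS]; exact conj_mem_cj hs
        rw [mem_cj] at h4
        have h5 := hzN _ (hSR h4)
        calc s * (g⁻¹ * (y * z * y⁻¹) * g) = g⁻¹ * (y * ((y⁻¹ * (g * s * g⁻¹) * y) * z) * y⁻¹) * g := by group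
          _ = g⁻¹ * (y * (z * (y⁻¹ * (g * s * g⁻¹) * y)) * y⁻¹) * g := by rw [h5]
          _ = g⁻¹ * (y * z * y⁻¹) * g * s := by group
    rcases eq_or_of_card_two (h2 i) hz hz1 h3 with h | h
    · exfalso
      apply hz1
      calc z = y⁻¹ * (g * (g⁻¹ * (y * z * y⁻¹) * g) * g⁻¹) * y := by group
        _ = 1 := by rw [h]; group
    · calc y * z * y⁻¹ = g * (g⁻¹ * (y * z * y⁻¹) * g) * g⁻¹ := by group
        _ = d := by rw [h, hg]
  have hQT0 : QQ (R i) ≤ T0 := fun x hx => mT0.2 ⟨hQS hx, hdZ x hx⟩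
  have hX : cj y (QQ (R i)) ≤ T0 := by
    have := cj_mono (g := y) hQT0
    rwa [cj_eq_self_iff.2 hy] at this
  refine b.kill h2 hij S hSV hSR (d := d) ?_ hdR (X := cj y (QQ (R i))) (hX.trans inf_le_left) ?_ (card_cj _ _) ?_
  · rw [mem_centralizer_iff]
    exact fun w hw => hdZ w (b.W_le_Q i hw)
  · intro c hc
    have hcd : c * d = d * c := mem_centralizer_singleton_iff.1 hc.2
    rw [normalizer_cj, mem_cj]
    refine le_normalizer_O2 _ (hNz _ ?_)
    calc y⁻¹ * c * y * z = y⁻¹ * (c * (y * z * y⁻¹)) * y := by group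
      _ = y⁻¹ * (y * z * y⁻¹ * c) * y := by rw [hyz, hcd]
      _ = z * (y⁻¹ * c * y) := by group
  · -- `X ∩ Q` is elementary abelian
    have hsq : ∀ a ∈ cj y (QQ (R i)) ⊓ QQ (R i), a * a = 1 := by
      intro a ha
      have h1 := b.Q_sq ha.2
      have h3 := b.Q_sq (mem_cj.1 ha.1)
      have e : y⁻¹ * a * y * (y⁻¹ * a * y) = y⁻¹ * (a * a) * y := by group
      rw [e] at h3
      rcases eq_or_of_card_two (h2 i) hz hz1 h3 with h | h
      · calc a * a = y * (y⁻¹ * (a * a) * y) * y⁻¹ := by group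
          _ = 1 := by rw [h]; group
      · exfalso
        apply hdR
        have : a * a = d := by
          calc a * a = y * (y⁻¹ * (a * a) * y) * y⁻¹ := by group
            _ = d := by rw [h, hyz]
        rw [← this]; exact h1
    intro a ha c hc
    have h1 := hsq a ha
    have h3 := hsq c hc
    have h4 := hsq _ (mul_mem ha hc)
    have e1 : a⁻¹ = a := inv_eq_of_mul_eq_one_left h1
    have e2 : c⁻¹ = c := inv_eq_of_mul_eq_one_left h3
    have e3 : (a * c)⁻¹ = a * c := inv_eq_of_mul_eq_one_left h4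
    rw [mul_inv_rev, e1, e2] at e3
    exact e3.symm

end Cfsg.Agent.Omega.BTwo
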