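import Cfsg.Agent.Omega.BTwo.Str

/-!
# SQ3, `b = 2`: centralisers of `W i` (#10911 (A), (B), (8), (C); #10694 (II); #11043 (8.3)), field-free
-/

set_option autoImplicit false

namespace Cfsg.Agent.Omega.BTwo

open Subgroup

variable {G : Type*} [Group G] {ι : Type*}

/-- `b = 2` together with: `V` meets every 2-subgroup `≠ 1` normalised by `N(V)`; no 2-subgroup `≠ 1` is
normalised by `N(V)` and `N(R i)`; `C(Q i) ≤ Q i`. -/
structure BTC (V : Subgroup G) (R : ι → Subgroup G) : Prop extends BT V R where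
  meet : ∀ T : Subgroup G, IsPGroup 2 T → T ≤ normalizer (V : Set G) →
    normalizer (V : Set G) ≤ normalizer (T : Set G) → T ⊓ V = ⊥ → T = ⊥
  nonloc : ∀ i, ∀ T : Subgroup G, IsPGroup 2 T → T ≤ normalizer (V : Set G) → T ≤ normalizer (R i : Set G) →
    normalizer (V : Set G) ≤ normalizer (T : Set G) →
    normalizer (R i : Set G) ≤ normalizer (T : Set G) → T = ⊥
  cenQ : ∀ i, normalizer (R i : Set G) ⊓ centralizer (QQ (R i) : Set G) ≤ QQ (R i)

/-- odd order elements stabilising a chain of length 2 of a 2-group -/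
theorem comm_of_odd {c w : G} (hc : Odd (orderOf c)) {P : Subgroup G} (hP : IsPGroup 2 P)
    (h : c * w * c⁻¹ * w⁻¹ ∈ P) (h2 : c * (c * w * c⁻¹ * w⁻¹) = c * w * c⁻¹ * w⁻¹ * c) : c * w = w * c := by
  set t := c * w * c⁻¹ * w⁻¹ with ht
  have hk : ∀ k : ℕ, c ^ k * w * (c ^ k)⁻¹ = t ^ k * w := by
    intro k
    induction k with
    | zero => simp
    | succ k ih =>
      have hct : c * t ^ k = t ^ k * c := (show Commute c t from h2).pow_right k
      calc c ^ (k + 1) * w * (c ^ (k + 1))⁻¹ = c * (c ^ k * w * (c ^ k)⁻¹) * c⁻¹ := by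
            rw [pow_succ']; group
        _ = (c * t ^ k) * w * c⁻¹ := by rw [ih]; group
        _ = t ^ k * (c * w * c⁻¹ * w⁻¹) * w := by rw [hct]; group
        _ = t ^ (k + 1) * w := by rw [← ht, pow_succ]
  have h1 := hk (orderOf c)
  rw [pow_orderOf_eq_one, one_mul, inv_one, mul_one, eq_comm, mul_eq_right] at h1
  obtain ⟨n, hn⟩ := hP ⟨t, h⟩
  have hn' : t ^ 2 ^ n = 1 := congrArg Subtype.val hn
  have hd := Nat.dvd_gcd (orderOf_dvd_of_pow_eq_one h1) (orderOf_dvd_of_pow_eq_one hn')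
  have hco : Nat.gcd (orderOf c) (2 ^ n) = 1 := (Nat.coprime_two_right.2 hc).pow_right n
  rw [hco, Nat.dvd_one, orderOf_eq_one_iff] at hd
  rw [hd, eq_comm, mul_inv_eq_one, mul_inv_eq_iff_eq_mul] at ht
  exact ht

theorem isPGroup_of_odd [Finite G] {H : Subgroup G} (h : ∀ c ∈ H, Odd (orderOf c) → c = 1) :
    IsPGroup 2 H := by
  rintro ⟨c, hc⟩
  obtain ⟨k, m, hm, hk⟩ := Nat.exists_eq_two_pow_mul_odd (orderOf_pos c).ne'
  refine ⟨k, Subtype.ext ?_⟩
  change c ^ 2 ^ k = 1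
  refine h _ (pow_mem hc _) ?_
  rw [orderOf_pow' c (by positivity), hk, Nat.gcd_mul_right_left, Nat.mul_div_cancel_left _ (by positivity)]
  exact hm

section

variable {V : Subgroup G} {R : ι → Subgroup G} (b : BT V R)
include b

/-- an element of `Q j` fixing another point centralises `V` -/
theorem BT.mem_cen_Q {i j : ι} (hij : i ≠ j) {w : G} (hw : w ∈ QQ (R j)) (h : cj w (R i) = R i) :
    w ∈ centralizer (V : Set G) := by
  have h1 : ∀ v ∈ R i, v * w = w * v := by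
    intro v hv
    have h2 : w * v * w⁻¹ ∈ R i := by rw [← h]; exact conj_mem_cj hv
    have h3 := b.QV j w hw v (b.R_le i hv)
    have h4 := b.eq_one hij (mul_mem h2 (inv_mem hv)) h3
    rw [mul_inv_eq_one, mul_inv_eq_iff_eq_mul] at h4
    exact h4.symm
  have h2 : ∀ v ∈ R j, v * w = w * v := fun v hv => (b.QR j w hw v hv).symm
  have h3 : V ≤ centralizer {w} := by
    rw [← b.R_sup i j hij]
    refine sup_le (fun v hv => ?_) fun v hv => ?_
    · rw [mem_centralizer_iff]; rintro _ rfl; exact (h1 v hv).symm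
    · rw [mem_centralizer_iff]; rintro _ rfl; exact (h2 v hv).symm
  rw [mem_centralizer_iff]
  exact fun v hv => (mem_centralizer_iff.1 (h3 hv) w rfl).symm

theorem BT.Q_le_NV (i : ι) : QQ (R i) ≤ normalizer (V : Set G) := (b.Q_le_K i).trans (b.K_le_NV i)

/-- `Q i = V^h · C_{Q i}(V)` for the two partners -/
theorem BT.Q_fact {i : ι} {h : G} (H : ∀ j k, j ≠ i → k ≠ i → ∃ v ∈ V, cj (h * v * h⁻¹) (R j) = R k)
    (hh : h ∈ normalizer (R i : Set G)) {x : G} (hx : x ∈ QQ (R i)) :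
    ∃ v ∈ V, (h * v * h⁻¹)⁻¹ * x ∈ centralizer (V : Set G) := by
  obtain ⟨j, hj, -⟩ := b.third i i
  obtain ⟨k, hk⟩ := b.perm x (b.Q_le_NV i hx) j
  have hki : k ≠ i := by
    rintro rfl
    have h1 : cj x (R k) = R k := cj_eq_self_iff.2 (b.Q_le k hx)
    exact hj (b.R_index (cj_injective (hk.trans h1.symm)))
  obtain ⟨v, hv, e⟩ := H j k hj hki
  refine ⟨v, hv, b.mem_cen_Q hj (mul_mem (inv_mem (b.W_le_Q i (cj_le_WW hh (conj_mem_cj hv)))) hx) ?_⟩
  rw [cj_mul, hk, ← e, cj_inv_cj]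

/-- `W i = V^h · U i` -/
theorem BT.W_fact {i : ι} {h : G} (H : ∀ j k, j ≠ i → k ≠ i → ∃ v ∈ V, cj (h * v * h⁻¹) (R j) = R k)
    (hh : h ∈ normalizer (R i : Set G)) {x : G} (hx : x ∈ WW V (R i)) :
    ∃ v ∈ V, (h * v * h⁻¹)⁻¹ * x ∈ UU V R i := by
  obtain ⟨v, hv, h1⟩ := b.Q_fact H hh (b.W_le_Q i hx)
  exact ⟨v, hv, mem_inf.2 ⟨mul_mem (inv_mem (cj_le_WW hh (conj_mem_cj hv))) hx, h1⟩⟩

/-- **(A)** `C_{Q i}(U i) = V (C(W i) ∩ Q i)` -/
theorem BT.cen_U {i : ι} {x : G} (hx : x ∈ QQ (R i)) (hU : ∀ u ∈ UU V R i, x * u = u * x) :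
    ∃ v ∈ V, v⁻¹ * x ∈ centralizer (WW V (R i) : Set G) := by
  obtain ⟨h, hh, H⟩ := b.mt i
  have hh' := inv_mem hh
  have H1 : ∀ j k, j ≠ i → k ≠ i → ∃ v ∈ V, cj (h * v * h⁻¹) (R j) = R k := fun j k hj hk =>
    (H j k hj hk).1
  have H2 : ∀ j k, j ≠ i → k ≠ i → ∃ v ∈ V, cj (h⁻¹ * v * h⁻¹⁻¹) (R j) = R k := fun j k hj hk => by
    rw [inv_inv]
    exact (H j k hj hk).2
  have hQ := le_normalizer_O2 (normalizer (R i : Set G))
  obtain ⟨v, hv, hc⟩ := b.Q_fact H2 hh' (conj_mem_of_normalizer (hQ hh') hx)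
  rw [inv_inv] at hc
  have e1 : (h⁻¹ * v * h)⁻¹ * (h⁻¹ * x * h) = h⁻¹ * (v⁻¹ * x) * h := by group
  rw [e1] at hc
  refine ⟨v, hv, ?_⟩
  rw [mem_centralizer_iff]
  intro w hw
  obtain ⟨v', hv', hu⟩ := b.W_fact H1 hh hw
  -- `v⁻¹ x` commutes with `V^h` and with `U i`
  have h1 : (h * v' * h⁻¹) * (v⁻¹ * x) = (v⁻¹ * x) * (h * v' * h⁻¹) := by
    have := mem_centralizer_iff.1 hc v' hv'
    calc (h * v' * h⁻¹) * (v⁻¹ * x) = h * (v' * (h⁻¹ * (v⁻¹ * x) * h)) * h⁻¹ := by group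
      _ = h * (h⁻¹ * (v⁻¹ * x) * h * v') * h⁻¹ := by rw [this]
      _ = (v⁻¹ * x) * (h * v' * h⁻¹) := by group
  have h2 : ((h * v' * h⁻¹)⁻¹ * w) * (v⁻¹ * x) = (v⁻¹ * x) * ((h * v' * h⁻¹)⁻¹ * w) := by
    have k1 := mem_centralizer_iff.1 (UU_le_cen i hu) _ (inv_mem hv)
    have k2 := hU _ hu
    set u := (h * v' * h⁻¹)⁻¹ * w
    calc u * (v⁻¹ * x) = (u * v⁻¹) * x := by group
      _ = v⁻¹ * (u * x) := by rw [← k1]; group
      _ = v⁻¹ * x * u := by rw [← k2]; group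
  calc w * (v⁻¹ * x) = (h * v' * h⁻¹) * (((h * v' * h⁻¹)⁻¹ * w) * (v⁻¹ * x)) := by group
    _ = (h * v' * h⁻¹) * (v⁻¹ * x) * ((h * v' * h⁻¹)⁻¹ * w) := by rw [h2]; group
    _ = (v⁻¹ * x) * (h * v' * h⁻¹) * ((h * v' * h⁻¹)⁻¹ * w) := by rw [h1]
    _ = v⁻¹ * x * w := by group

theorem BT.exists_mul {i j : ι} (hij : i ≠ j) {v : G} (hv : v ∈ V) : ∃ a ∈ R i, ∃ c ∈ R j, v = a * c := by
  let T : Subgroup G :=
    { carrier := {v | ∃ a ∈ R i, ∃ c ∈ R j, v = a * c}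
      one_mem' := ⟨1, one_mem _, 1, one_mem _, by rw [one_mul]⟩
      mul_mem' := by
        rintro _ _ ⟨a, ha, c, hc, rfl⟩ ⟨a', ha', c', hc', rfl⟩
        refine ⟨a * a', mul_mem ha ha', c * c', mul_mem hc hc', ?_⟩
        have := b.V_comm c (b.R_le j hc) a' (b.R_le i ha')
        calc a * c * (a' * c') = a * (c * a') * c' := by group
          _ = a * a' * (c * c') := by rw [this]; group
      inv_mem' := by
        rintro _ ⟨a, ha, c, hc, rfl⟩
        refine ⟨a⁻¹, inv_mem ha, c⁻¹, inv_mem hc, ?_⟩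
        rw [mul_inv_rev]
        exact b.V_comm _ (inv_mem (b.R_le j hc)) _ (inv_mem (b.R_le i ha)) }
  have hT : R i ⊔ R j ≤ T := sup_le (fun a ha => ⟨a, ha, 1, one_mem _, by rw [mul_one]⟩)
    fun c hc => ⟨1, one_mem _, c, hc, by rw [one_mul]⟩
  rw [b.R_sup i j hij] at hT
  exact hT hv

theorem BT.NV_le_NX : normalizer (V : Set G) ≤ normalizer (XX V R : Set G) := by
  refine le_normalizer_of fun g hg y hy => ?_
  have h : cj g (XX V R) ≤ XX V R := by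
    rw [XX, cj_iSup]
    refine iSup_le fun i => ?_
    obtain ⟨j, hj⟩ := b.perm g hg i
    rw [b.cj_WW hj]
    exact W_le_X V R j
  exact h (conj_mem_cj hy)

/-- `C_V(X) = 1` -/
theorem BT.cen_VX {v : G} (hv : v ∈ V) (h : v ∈ centralizer (XX V R : Set G)) : v = 1 := by
  obtain ⟨i, hi⟩ := b.R_cov v hv
  refine b.eq_one_of_forall fun j => ?_
  obtain ⟨x, hx, e⟩ := b.trans_X_one i j
  rw [← e]
  have := conj_mem_cj (g := x) hi
  rwa [mem_centralizer_iff.1 h x hx, mul_inv_cancel_right] at this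

omit b in
theorem mem_cen_sup {A B : Subgroup G} {x : G} (hA : x ∈ centralizer (A : Set G))
    (hB : x ∈ centralizer (B : Set G)) : x ∈ centralizer ((A ⊔ B : Subgroup G) : Set G) := by
  have h : A ⊔ B ≤ centralizer {x} := by
    refine sup_le (fun a ha => ?_) fun a ha => ?_
    · rw [mem_centralizer_iff]; rintro _ rfl; exact (mem_centralizer_iff.1 hA a ha).symm
    · rw [mem_centralizer_iff]; rintro _ rfl; exact (mem_centralizer_iff.1 hB a ha).symm
  rw [mem_centralizer_iff]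
  exact fun v hv => (mem_centralizer_iff.1 (h hv) x rfl).symm

theorem BT.mem_cen_X {i j : ι} (hij : i ≠ j) {x : G} (hi : x ∈ centralizer (WW V (R i) : Set G))
    (hj : x ∈ centralizer (WW V (R j) : Set G)) : x ∈ centralizer (XX V R : Set G) := by
  rw [b.X_eq hij]
  exact mem_cen_sup hi hj

omit b in
theorem cen_X_le (i : ι) : centralizer (XX V R : Set G) ≤ centralizer (WW V (R i) : Set G) :=
  centralizer_le (W_le_X V R i)

omit b in
theorem cen_W_le (V R : Subgroup G) : centralizer (WW V R : Set G) ≤ centralizer (V : Set G) :=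
  centralizer_le (V_le_WW V R)

theorem BT.R_cen_W (i : ι) : R i ≤ centralizer (WW V (R i) : Set G) := fun a ha => by
  rw [mem_centralizer_iff]
  exact fun w hw => b.QR i w (b.W_le_Q i hw) a ha

/-- the swap argument -/
theorem BT.swap {i j : ι} (hij : i ≠ j) {c : G} (hc : c ∈ centralizer (WW V (R i) : Set G))
    (hX : ∀ x ∈ XX V R, x * c * x⁻¹ * c⁻¹ ∈ V)
    (H : ∀ v ∈ V, v * c ∈ centralizer (XX V R : Set G) → v * c = 1) : c ∈ R i := by
  obtain ⟨n, hn, e1, -⟩ := b.trans_X hij (Ne.symm hij)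
  obtain ⟨a, ha, a', ha', e⟩ := b.exists_mul hij (hX n hn)
  have h1 : n * c * n⁻¹ ∈ centralizer (WW V (R j) : Set G) := by
    rw [← b.cj_WW e1, centralizer_cj]
    exact conj_mem_cj hc
  have h2 : a * c ∈ centralizer (WW V (R i) : Set G) := mul_mem (b.R_cen_W i ha) hc
  have h3 : a * c ∈ centralizer (WW V (R j) : Set G) := by
    have h4 : a * c = a'⁻¹ * (n * c * n⁻¹) := by
      have h5 := b.V_comm a (b.R_le i ha) a' (b.R_le j ha')
      calc a * c = a'⁻¹ * (a' * a) * c := by group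
        _ = a'⁻¹ * (n * c * n⁻¹ * c⁻¹) * c := by rw [← h5, ← e]
        _ = a'⁻¹ * (n * c * n⁻¹) := by group
    rw [h4]
    exact mul_mem (inv_mem (b.R_cen_W j ha')) h1
  have h4 := H a (b.R_le i ha) (b.mem_cen_X hij h2 h3)
  rw [mul_eq_one_iff_inv_eq] at h4
  rw [← h4]
  exact inv_mem ha

theorem BT.cen_W_le_N (i j : ι) : centralizer (WW V (R i) : Set G) ≤ normalizer (R j : Set G) :=
  (cen_W_le V (R i)).trans (b.cen_le_N j)

theorem BT.cen_W_le_K (i : ι) : centralizer (WW V (R i) : Set G) ≤ KK V R i := fun c hc =>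
  ⟨b.cen_W_le_N i i hc, fun w hw => by
    rw [← mem_centralizer_iff.1 hc w hw]
    have e : w * c * c⁻¹ * w⁻¹ = 1 := by group
    rw [e]
    exact one_mem _⟩

/-- `[C(W i), W j] ≤ U j` -/
theorem BT.cen_W_W {i j : ι} {c w : G} (hc : c ∈ centralizer (WW V (R i) : Set G))
    (hw : w ∈ WW V (R j)) : c * w * c⁻¹ * w⁻¹ ∈ UU V R j := by
  have hcV := cen_W_le V (R i) hc
  refine mem_inf.2 ⟨mul_mem (conj_mem_of_normalizer (b.cen_le_NW j hcV) hw) (inv_mem hw), ?_⟩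
  have e : c * w * c⁻¹ * w⁻¹ = c * (w * c⁻¹ * w⁻¹) := by group
  rw [e]
  exact mul_mem hcV (conj_mem_of_normalizer
    (normalizer_le_normalizer_centralizer V (b.W_le_NV j hw)) (inv_mem hcV))

/-- `Q_1 ∩ Q_2` -/
def CC (R : ι → Subgroup G) : Subgroup G := ⨅ i, QQ (R i)

theorem BT.QQ_aux {i j : ι} (hij : i ≠ j) : XX V R ≤ cenMod V (QQ (R i) ⊓ QQ (R j)) := by
  have key : ∀ k, ∀ w ∈ WW V (R k), ∀ d ∈ QQ (R k), w * d * w⁻¹ * d⁻¹ ∈ V := by
    intro k w hw d hd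
    have e : w * d * w⁻¹ * d⁻¹ = (d * w * d⁻¹ * w⁻¹)⁻¹ := by group
    rw [e]
    exact b.R_le k (inv_mem (b.WQ k hd hw))
  rw [b.X_eq hij]
  exact sup_le (fun w hw => ⟨b.W_le_NV i hw, fun d hd => key i w hw d hd.1⟩)
    fun w hw => ⟨b.W_le_NV j hw, fun d hd => key j w hw d hd.2⟩

/-- `Q i ∩ Q j` is independent of `i ≠ j` -/
theorem BT.C_eq {i j : ι} (hij : i ≠ j) : CC R = QQ (R i) ⊓ QQ (R j) := by
  have key : ∀ k l, k ≠ l → QQ (R i) ⊓ QQ (R j) = QQ (R k) ⊓ QQ (R l) := by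
    intro k l hkl
    obtain ⟨x, hx, e1, e2⟩ := b.trans_X hij hkl
    have h1 := cj_eq_self_iff.2 (cenMod_normalizes (le_inf (b.V_Q i) (b.V_Q j)) (b.QQ_aux hij hx))
    rw [cj_inf, b.cj_QQ e1, b.cj_QQ e2] at h1
    exact h1.symm
  apply le_antisymm
  · exact le_inf (iInf_le _ i) (iInf_le _ j)
  · refine le_iInf fun k => ?_
    obtain ⟨l, hl, -⟩ := b.third k k
    rw [key k l (Ne.symm hl)]
    exact inf_le_left

theorem BT.CX {x c : G} (hx : x ∈ XX V R) (hc : c ∈ CC R) : x * c * x⁻¹ * c⁻¹ ∈ V := by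
  obtain ⟨i, j, hij⟩ := b.exists_pair
  rw [b.C_eq hij] at hc
  exact (b.QQ_aux hij hx).2 c hc

theorem BT.V_le_C : V ≤ CC R := le_iInf fun i => b.V_Q i

theorem BT.D_le_C : DD V R ≤ CC R := le_iInf fun i => (D_le_W V R i).trans (b.W_le_Q i)

theorem BT.C_inf_W (i : ι) : CC R ⊓ WW V (R i) = DD V R := by
  apply le_antisymm
  · obtain ⟨j, hj, -⟩ := b.third i i
    rw [b.D_eq (Ne.symm hj)]
    exact le_inf inf_le_right (inf_le_left.trans (iInf_le _ j))
  · exact le_inf b.D_le_C (D_le_W V R i)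

omit b in
theorem CC_isPGroup [Nonempty ι] : IsPGroup 2 (CC R) :=
  (O2_isPGroup _).to_le (iInf_le _ (Classical.arbitrary ι))

theorem BT.nonempty : Nonempty ι := by
  obtain ⟨i, -⟩ := b.R_cov 1 (one_mem V)
  exact ⟨i⟩

theorem BT.W_isPGroup (i : ι) : IsPGroup 2 (WW V (R i)) := (O2_isPGroup _).to_le (b.W_le_Q i)

end

section BTC

variable {V : Subgroup G} {R : ι → Subgroup G} (b : BTC V R)
include b

/-- `C_D(X) = 1` -/
theorem BTC.cen_D {d : G} (hd : d ∈ DD V R) (h : d ∈ centralizer (XX V R : Set G)) : d = 1 := by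
  have key : DD V R ⊓ centralizer (XX V R : Set G) = ⊥ := by
    obtain ⟨i⟩ := b.nonempty
    refine b.meet _ ((b.W_isPGroup i).to_le (inf_le_left.trans (D_le_W V R i)))
      (inf_le_left.trans (b.D_le_cen.trans (cen_le_NV V))) ?_ ?_
    · intro g hg
      rw [← cj_eq_self_iff, cj_inf, ← centralizer_cj, cj_eq_self_iff.2 (b.NV_le_ND hg),
        cj_eq_self_iff.2 (b.NV_le_NX hg)]
    · rw [eq_bot_iff_forall]
      rintro x ⟨⟨-, h1⟩, h2⟩
      exact b.cen_VX h2 h1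
  have : d ∈ DD V R ⊓ centralizer (XX V R : Set G) := mem_inf.2 ⟨hd, h⟩
  rw [key] at this
  exact mem_bot.1 this

/-- **(B)** `C_D(W i) = R i` -/
theorem BTC.cen_DW {i : ι} {d : G} (hd : d ∈ DD V R) (h : d ∈ centralizer (WW V (R i) : Set G)) :
    d ∈ R i := by
  obtain ⟨j, hj, -⟩ := b.third i i
  exact b.swap (Ne.symm hj) h (fun x hx => b.XD hx hd)
    fun v hv hvd => b.cen_D (mul_mem (V_le_D V R hv) hd) hvd

/-- **(8)** `C_D(U i) = V` -/
theorem BTC.cen_DU {i : ι} {d : G} (hd : d ∈ DD V R) (hU : ∀ u ∈ UU V R i, d * u = u * d) : d ∈ V := by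
  obtain ⟨v, hv, hc⟩ := b.cen_U (b.W_le_Q i (D_le_W V R i hd)) hU
  have h1 := b.cen_DW (mul_mem (inv_mem (V_le_D V R hv)) hd) hc
  have e : d = v * (v⁻¹ * d) := by group
  rw [e]
  exact mul_mem hv (b.R_le i h1)

/-- `λ` is injective on `D / V` -/
theorem BTC.lam_inj {d : G} (hd : d ∈ DD V R) (h : ∀ y ∈ YY V R, d * y * d⁻¹ * y⁻¹ = 1) : d ∈ V := by
  obtain ⟨i⟩ := b.nonempty
  refine b.cen_DU (i := i) hd fun u hu => ?_
  have := h u (UU_le_YY i hu)
  rwa [mul_inv_eq_one, mul_inv_eq_iff_eq_mul] at this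

/-- `[C(W i), U j] ≤ R i` -/
theorem BTC.cen_W_U {i j : ι} (hij : i ≠ j) {c u : G} (hc : c ∈ centralizer (WW V (R i) : Set G))
    (hu : u ∈ UU V R j) : c * u * c⁻¹ * u⁻¹ ∈ R i := by
  have hcV := cen_W_le V (R i) hc
  have huV := UU_le_cen j hu
  have hc2 := conj_mem_of_normalizer (normalizer_le_normalizer_centralizer _ (b.cen_le_NW i huV)) (inv_mem hc)
  have e : c * u * c⁻¹ * u⁻¹ = c * (u * c⁻¹ * u⁻¹) := by group
  have h1 : c * u * c⁻¹ * u⁻¹ ∈ centralizer (WW V (R i) : Set G) := by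
    rw [e]
    exact mul_mem hc hc2
  have h2 : c * u * c⁻¹ * u⁻¹ ∈ UU V R j :=
    mul_mem (conj_mem_of_normalizer (b.cen_le_NU j hcV) hu) (inv_mem hu)
  refine b.cen_DW ?_ h1
  rw [← b.UK hij]
  exact mem_inf.2 ⟨h2, b.cen_W_le_K i h1⟩

/-- odd order elements of `C(W i)` centralise `W j` -/
theorem BTC.odd_cen {i j : ι} (hij : i ≠ j) {c : G} (hc : c ∈ centralizer (WW V (R i) : Set G))
    (ho : Odd (orderOf c)) : c ∈ centralizer (WW V (R j) : Set G) := by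
  have hcV := cen_W_le V (R i) hc
  have hcV' : ∀ v ∈ V, c * v = v * c := fun v hv => (mem_centralizer_iff.1 hcV v hv).symm
  have h1 : ∀ u ∈ UU V R j, c * u = u * c := by
    intro u hu
    have h := b.R_le i (b.cen_W_U hij hc hu)
    exact comm_of_odd ho ((b.W_isPGroup i).to_le (V_le_WW V (R i))) h (hcV' _ h)
  rw [mem_centralizer_iff]
  intro w hw
  have h := b.cen_W_W hc hw
  exact (comm_of_odd ho (b.U_isPGroup j) h (h1 _ h)).symm

/-- the subgroup generated by the odd order elements of `C(W i)` -/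
def LL (V : Subgroup G) (R : ι → Subgroup G) (i : ι) : Subgroup G :=
  closure {c | c ∈ centralizer (WW V (R i) : Set G) ∧ Odd (orderOf c)}

omit b in
theorem LL_le (i : ι) : LL V R i ≤ centralizer (WW V (R i) : Set G) :=
  (closure_le _).2 fun _ hc => hc.1

theorem BTC.LL_eq (i j : ι) : LL V R i = LL V R j := by
  have key : ∀ i j : ι, i ≠ j → LL V R i ≤ LL V R j := fun i j hij =>
    closure_mono fun c hc => ⟨b.odd_cen hij hc.1 hc.2, hc.2⟩
  by_cases h : i = j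
  · rw [h]
  · exact le_antisymm (key i j h) (key j i (Ne.symm h))

theorem BTC.cj_LL {g : G} {i j : ι} (h : cj g (R i) = R j) : cj g (LL V R i) = LL V R j := by
  have key : ∀ (g : G) (i j : ι), cj g (R i) = R j → cj g (LL V R i) ≤ LL V R j := by
    intro g i j h
    rw [cj, map_le_iff_le_comap, LL, closure_le]
    rintro c ⟨hc, ho⟩
    refine subset_closure ⟨?_, ?_⟩
    · rw [← b.cj_WW h, centralizer_cj]
      exact conj_mem_cj hc
    · exact ((orderOf_injective (MulAut.conj g).toMonoidHom (MulAut.conj g).injective c).symm ▸ ho :)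
  apply le_antisymm (key g i j h)
  have h' : cj g⁻¹ (R j) = R i := by rw [← h, cj_inv_cj]
  have h3 := cj_mono (g := g) (key g⁻¹ j i h')
  rwa [cj_cj_inv] at h3

/-- **(C)** `C(W i)` is a 2-group -/
theorem BTC.cen_W_isPGroup [Finite G] (i : ι) : IsPGroup 2 (centralizer (WW V (R i) : Set G)) := by
  have hLV : LL V R i ≤ centralizer (V : Set G) := (LL_le i).trans (cen_W_le V (R i))
  have hLN : LL V R i ≤ normalizer (R i : Set G) := hLV.trans (b.cen_le_N i)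
  have h1 : normalizer (V : Set G) ≤ normalizer (LL V R i : Set G) := by
    intro g hg
    obtain ⟨j, hj⟩ := b.perm g hg i
    rw [← cj_eq_self_iff, b.cj_LL hj, b.LL_eq]
  have h2 : normalizer (R i : Set G) ≤ normalizer (LL V R i : Set G) := by
    intro g hg
    rw [← cj_eq_self_iff, b.cj_LL (cj_eq_self_iff.2 hg)]
  have h3 : normalizer (LL V R i : Set G) ≤ normalizer (O2 (LL V R i) : Set G) := by
    intro g hg
    rw [← cj_eq_self_iff] at hg ⊢
    rw [cj_O2, hg]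
  have h4 : O2 (LL V R i) = ⊥ := b.nonloc i _ (O2_isPGroup _) ((O2_le _).trans (hLV.trans (cen_le_NV V)))
    ((O2_le _).trans hLN) (h1.trans h3) (h2.trans h3)
  have hQ := le_normalizer_O2 (normalizer (R i : Set G))
  have h5 : LL V R i ≤ centralizer (QQ (R i) : Set G) := by
    intro l hl
    rw [mem_centralizer_iff]
    intro q hq
    have k1 : q * l * q⁻¹ * l⁻¹ ∈ LL V R i :=
      mul_mem (conj_mem_of_normalizer (h2 (b.Q_le i hq)) hl) (inv_mem hl)
    have k2 : q * l * q⁻¹ * l⁻¹ ∈ QQ (R i) := by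
      have e : q * l * q⁻¹ * l⁻¹ = q * (l * q⁻¹ * l⁻¹) := by group
      rw [e]
      exact mul_mem hq (conj_mem_of_normalizer (hQ (hLN hl)) (inv_mem hq))
    have k3 : LL V R i ⊓ QQ (R i) ≤ O2 (LL V R i) := by
      refine le_O2_of_normal inf_le_left ((O2_isPGroup _).to_le inf_le_right) ?_
      intro g hg a ha
      exact mem_inf.2 ⟨mul_mem (mul_mem hg ha.1) (inv_mem hg), conj_mem_of_normalizer (hQ (hLN hg)) ha.2⟩
    have k4 : q * l * q⁻¹ * l⁻¹ ∈ O2 (LL V R i) := k3 (mem_inf.2 ⟨k1, k2⟩)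
    rw [h4, mem_bot, mul_inv_eq_one, mul_inv_eq_iff_eq_mul] at k4
    exact k4
  have h6 : LL V R i ≤ QQ (R i) := fun l hl => b.cenQ i (mem_inf.2 ⟨hLN hl, h5 hl⟩)
  refine isPGroup_of_odd fun c hc ho => ?_
  have h7 : c ∈ QQ (R i) := h6 (subset_closure ⟨hc, ho⟩)
  obtain ⟨n, hn⟩ := O2_isPGroup _ (⟨c, h7⟩ : QQ (R i))
  have hn' : c ^ 2 ^ n = 1 := congrArg Subtype.val hn
  have hd := Nat.dvd_gcd (dvd_refl (orderOf c)) (orderOf_dvd_of_pow_eq_one hn')
  have hco : Nat.gcd (orderOf c) (2 ^ n) = 1 := (Nat.coprime_two_right.2 ho).pow_right n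
  rw [hco, Nat.dvd_one, orderOf_eq_one_iff] at hd
  exact hd

/-- `K i` is a 2-group, `= Q i` -/
theorem BTC.K_eq [Finite G] (i : ι) : KK V R i = QQ (R i) := by
  apply le_antisymm _ (b.Q_le_K i)
  refine le_O2_of_normal (KK_le_N i) ?_ fun g hg c hc => conj_mem_of_normalizer (b.N_le_NK i hg) hc
  refine isPGroup_of_odd fun c hc ho => ?_
  have h1 : c ∈ centralizer (WW V (R i) : Set G) := by
    rw [mem_centralizer_iff]
    intro w hw
    have h := hc.2 w hw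
    have h2 := b.KR i hc h
    rw [mul_inv_eq_iff_eq_mul] at h2
    exact (comm_of_odd ho ((b.W_isPGroup i).to_le ((b.R_le i).trans (V_le_WW V (R i)))) h h2).symm
  obtain ⟨n, hn⟩ := b.cen_W_isPGroup i ⟨c, h1⟩
  have hn' : c ^ 2 ^ n = 1 := congrArg Subtype.val hn
  have hd := Nat.dvd_gcd (dvd_refl (orderOf c)) (orderOf_dvd_of_pow_eq_one hn')
  have hco : Nat.gcd (orderOf c) (2 ^ n) = 1 := (Nat.coprime_two_right.2 ho).pow_right n
  rw [hco, Nat.dvd_one, orderOf_eq_one_iff] at hd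
  exact hd

theorem BTC.cen_W_le_Q [Finite G] (i : ι) : centralizer (WW V (R i) : Set G) ≤ QQ (R i) := by
  rw [← b.K_eq i]
  exact b.cen_W_le_K i

/-- `C(X) = 1` -/
theorem BTC.cen_X [Finite G] : centralizer (XX V R : Set G) = ⊥ := by
  obtain ⟨i⟩ := b.nonempty
  refine b.meet _ ((b.cen_W_isPGroup i).to_le (cen_X_le i))
    (((cen_X_le i).trans (cen_W_le V (R i))).trans (cen_le_NV V)) ?_ ?_
  · intro g hg
    rw [← cj_eq_self_iff, ← centralizer_cj, cj_eq_self_iff.2 (b.NV_le_NX hg)]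
  · rw [eq_bot_iff_forall]
    rintro x ⟨h1, h2⟩
    exact b.cen_VX h2 h1

theorem BTC.cen_inf [Finite G] {i j : ι} (hij : i ≠ j) {c : G} (hi : c ∈ centralizer (WW V (R i) : Set G))
    (hj : c ∈ centralizer (WW V (R j) : Set G)) : c = 1 := by
  have := b.mem_cen_X hij hi hj
  rw [b.cen_X] at this
  exact mem_bot.1 this

/-- `[C(W i), C(W j)] = 1` -/
theorem BTC.cen_comm [Finite G] {i j : ι} (hij : i ≠ j) {c c' : G}
    (hc : c ∈ centralizer (WW V (R i) : Set G)) (hc' : c' ∈ centralizer (WW V (R j) : Set G)) :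
    c * c' = c' * c := by
  have n1 := normalizer_le_normalizer_centralizer _ (b.cen_le_NW j (cen_W_le V (R i) hc))
  have n2 := normalizer_le_normalizer_centralizer _ (b.cen_le_NW i (cen_W_le V (R j) hc'))
  have h1 : c * c' * c⁻¹ * c'⁻¹ ∈ centralizer (WW V (R j) : Set G) :=
    mul_mem (conj_mem_of_normalizer n1 hc') (inv_mem hc')
  have h2 : c * c' * c⁻¹ * c'⁻¹ ∈ centralizer (WW V (R i) : Set G) := by
    have e : c * c' * c⁻¹ * c'⁻¹ = c * (c' * c⁻¹ * c'⁻¹) := by group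
    rw [e]
    exact mul_mem hc (conj_mem_of_normalizer n2 (inv_mem hc))
  have h3 := b.cen_inf hij h2 h1
  rwa [mul_inv_eq_one, mul_inv_eq_iff_eq_mul] at h3

/-- `C(W i) ∩ Q j = R i` -/
theorem BTC.cen_W_Q [Finite G] {i j : ι} (hij : i ≠ j) {c : G}
    (hc : c ∈ centralizer (WW V (R i) : Set G)) (hj : c ∈ QQ (R j)) : c ∈ R i := by
  refine b.swap hij hc (fun x hx => b.CX hx ?_) fun v hv hvd => ?_
  · rw [b.C_eq hij]
    exact mem_inf.2 ⟨b.cen_W_le_Q i hc, hj⟩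
  · rw [b.cen_X] at hvd
    exact mem_bot.1 hvd

/-- `Q_1 ∩ Q_2` is elementary abelian -/
theorem BTC.C_sq [Finite G] {x : G} (hx : x ∈ CC R) : x * x = 1 := by
  obtain ⟨i, j, hij⟩ := b.exists_pair
  have key : ∀ k, x * x ∈ centralizer (WW V (R k) : Set G) := by
    intro k
    rw [mem_centralizer_iff]
    intro w hw
    have hxk : x ∈ QQ (R k) := (mem_iInf.1 hx) k
    have h1 := b.WQ k hxk hw
    have h2 := b.conj_R hxk h1
    have e : x * x * w * (x * x)⁻¹ * w⁻¹ =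
        x * (x * w * x⁻¹ * w⁻¹) * x⁻¹ * (x * w * x⁻¹ * w⁻¹) := by group
    rw [h2, b.V_sq _ (b.R_le k h1), mul_inv_eq_one, mul_inv_eq_iff_eq_mul] at e
    exact e.symm
  exact b.cen_inf hij (key i) (key j)

theorem BTC.C_comm [Finite G] {x y : G} (hx : x ∈ CC R) (hy : y ∈ CC R) : x * y = y * x := by
  have h1 := b.C_sq hx
  have h2 := b.C_sq hy
  have h3 := b.C_sq (mul_mem hx hy)
  have e1 : x⁻¹ = x := inv_eq_of_mul_eq_one_left h1
  have e2 : y⁻¹ = y := inv_eq_of_mul_eq_one_left h2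
  have e3 : (x * y)⁻¹ = x * y := inv_eq_of_mul_eq_one_left h3
  rw [mul_inv_rev, e1, e2] at e3
  exact e3.symm

/-- `C_{Q_1 ∩ Q_2}(W i) = R i` -/
theorem BTC.cen_CW [Finite G] {i : ι} {x : G} (hx : x ∈ CC R) (h : x ∈ centralizer (WW V (R i) : Set G)) :
    x ∈ R i := by
  obtain ⟨j, hj, -⟩ := b.third i i
  exact b.cen_W_Q (Ne.symm hj) h (mem_iInf.1 hx j)

/-- `C_{Q_1 ∩ Q_2}(U i) = V` -/
theorem BTC.cen_CU [Finite G] {i : ι} {x : G} (hx : x ∈ CC R) (hU : ∀ u ∈ UU V R i, x * u = u * x) :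
    x ∈ V := by
  obtain ⟨v, hv, hc⟩ := b.cen_U (mem_iInf.1 hx i) hU
  have h1 := b.cen_CW (mul_mem (inv_mem (b.V_le_C hv)) hx) hc
  have e : x = v * (v⁻¹ * x) := by group
  rw [e]
  exact mul_mem hv (b.R_le i h1)

/-- `c² ∈ R i` for `c ∈ C(W i)` -/
theorem BTC.cen_sq [Finite G] {i : ι} {c : G} (hc : c ∈ centralizer (WW V (R i) : Set G)) : c * c ∈ R i := by
  obtain ⟨j, hj, -⟩ := b.third i i
  refine b.cen_W_Q (Ne.symm hj) (mul_mem hc hc) ?_
  rw [← b.K_eq j]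
  have hcN := b.cen_W_le_N i j hc
  -- outside `U j`
  have h1 : ∀ v ∈ WW V (R j), v ∉ UU V R j → v * (c * c) * v⁻¹ * (c * c)⁻¹ ∈ R j := by
    intro v hv hv'
    obtain ⟨k, hki, hkj, hk⟩ := b.moves (Ne.symm hj) hv hv'
    have h2 : v * c * v⁻¹ ∈ centralizer (WW V (R k) : Set G) := by
      rw [← b.cj_WW hk, centralizer_cj]
      exact conj_mem_cj hc
    have h3 := b.cen_comm hki h2 hc
    have h4 : v * c * v⁻¹ * c⁻¹ ∈ UU V R j := by
      have h5 := b.cen_W_W hc hv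
      have e : v * c * v⁻¹ * c⁻¹ = (c * v * c⁻¹ * v⁻¹)⁻¹ := by group
      rw [e]
      exact inv_mem h5
    have h6 := b.W_sq j (UU_le_WW j h4)
    have e : v * (c * c) * v⁻¹ * (c * c)⁻¹ = v * c * v⁻¹ * c⁻¹ * (v * c * v⁻¹ * c⁻¹) := by
      set d := v * c * v⁻¹ with hd
      have h7 : c⁻¹ * d = d * c⁻¹ := ((show Commute d c from h3).inv_right).symm
      calc v * (c * c) * v⁻¹ * (c * c)⁻¹ = d * (d * c⁻¹) * c⁻¹ := by rw [hd]; group
        _ = d * (c⁻¹ * d) * c⁻¹ := by rw [h7]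
        _ = d * c⁻¹ * (d * c⁻¹) := by simp only [mul_assoc]
    rw [e]
    exact h6
  -- an element outside `U j`
  obtain ⟨k, hkj, hki⟩ := b.third j i
  obtain ⟨v0, hv0, e0⟩ := b.trans j (Ne.symm hj) hkj
  have hv0' : v0 ∉ UU V R j := by
    intro h
    have h2 := b.cen_le_N i (UU_le_cen j h)
    rw [← cj_eq_self_iff, e0] at h2
    exact hki (b.R_index h2)
  have h2 : ∀ v ∈ WW V (R j), v * (c * c) * v⁻¹ * (c * c)⁻¹ ∈ R j := by
    intro v hv
    by_cases hv' : v ∈ UU V R j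
    · have h3 : v * v0⁻¹ ∉ UU V R j := fun h => by
        apply hv0'
        have e : v0 = (v * v0⁻¹)⁻¹ * v := by group
        rw [e]
        exact mul_mem (inv_mem h) hv'
      have h4 := h1 _ (mul_mem hv (inv_mem hv0)) h3
      have h5 := h1 v0 hv0 hv0'
      have h6 := conj_mem_of_normalizer (b.W_le_N j (mul_mem hv (inv_mem hv0))) h5
      have e : v * (c * c) * v⁻¹ * (c * c)⁻¹ =
          (v * v0⁻¹) * (v0 * (c * c) * v0⁻¹ * (c * c)⁻¹) * (v * v0⁻¹)⁻¹ *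
            ((v * v0⁻¹) * (c * c) * (v * v0⁻¹)⁻¹ * (c * c)⁻¹) := by group
      rw [e]
      exact mul_mem h6 h4
    · exact h1 v hv hv'
  refine ⟨mul_mem hcN hcN, fun w hw => ?_⟩
  have e : ∀ s : G, s * w * s⁻¹ * w⁻¹ = (w * s * w⁻¹ * s⁻¹)⁻¹ := fun s => by group
  rw [e]
  exact inv_mem (h2 w hw)

/-- `[c, c'] ∈ R i` for `c, c' ∈ C(W i)` -/
theorem BTC.cen_comm_self [Finite G] {i : ι} {c c' : G} (hc : c ∈ centralizer (WW V (R i) : Set G))
    (hc' : c' ∈ centralizer (WW V (R i) : Set G)) : c * c' * c⁻¹ * c'⁻¹ ∈ R i := by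
  have h1 := b.cen_sq (mul_mem hc hc')
  have h2 := inv_mem (b.cen_sq hc)
  have h3 := inv_mem (b.cen_sq hc')
  have h4 := conj_mem_of_normalizer (b.cen_W_le_N i i (inv_mem hc')) h2
  have e : c * c' * c⁻¹ * c'⁻¹ = (c * c' * (c * c')) * (c'⁻¹ * (c * c)⁻¹ * c'⁻¹⁻¹) * (c' * c')⁻¹ := by group
  rw [e]
  exact mul_mem (mul_mem h1 h4) h3

end BTC

end Cfsg.Agent.Omega.BTwo
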