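import Cfsg.Agent.Omega.BTwo.QuadGrp

/-!
Version of `QuadGrp.lean` modulo a subgroup `D` of `G` (everything happens in `N(D)/D`).
-/

set_option autoImplicit false

namespace Cfsg.Agent.Omega.BTwo

open Subgroup

universe u v

/-- the structure delivered: `U1 / D` and `U2 / D` are one and the same `F`-space `M` -/
structure YMod {G : Type u} [Group G] {F : Type v} [Field F] (D U1 U2 : Subgroup G)
    (w1 w2 : F → G) (M : Type u) [AddCommGroup M] [Module F M] (p1 p2 : G → M) : Prop where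
  mul1 : ∀ x ∈ U1, ∀ y ∈ U1, p1 (x * y) = p1 x + p1 y
  mul2 : ∀ x ∈ U2, ∀ y ∈ U2, p2 (x * y) = p2 x + p2 y
  ker1 : ∀ x ∈ U1, (p1 x = 0 ↔ x ∈ D)
  ker2 : ∀ x ∈ U2, (p2 x = 0 ↔ x ∈ D)
  surj1 : ∀ m, ∃ x ∈ U1, p1 x = m
  surj2 : ∀ m, ∃ x ∈ U2, p2 x = m
  act12 : ∀ a, ∀ x ∈ U2, p1 (w1 a * x * (w1 a)⁻¹ * x⁻¹) = a • p2 x
  act21 : ∀ a, ∀ x ∈ U1, p2 (w2 a * x * (w2 a)⁻¹ * x⁻¹) = a • p1 x

/-- the quadratic situation modulo `D` -/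
structure QuadMod {G : Type u} [Group G] {F : Type v} [Field F] (D U1 U2 : Subgroup G)
    (w1 w2 : F → G) : Prop where
  D1 : D ≤ U1
  D2 : D ≤ U2
  N1 : U1 ≤ normalizer (D : Set G)
  N2 : U2 ≤ normalizer (D : Set G)
  K1 : ∀ a, w1 a ∈ normalizer (D : Set G)
  K2 : ∀ a, w2 a ∈ normalizer (D : Set G)
  inf : ∀ x ∈ U1, x ∈ U2 → x ∈ D
  comm1 : ∀ x ∈ U1, ∀ y ∈ U1, x * y * x⁻¹ * y⁻¹ ∈ D
  comm2 : ∀ x ∈ U2, ∀ y ∈ U2, x * y * x⁻¹ * y⁻¹ ∈ D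
  comm12 : ∀ x ∈ U1, ∀ y ∈ U2, x * y * x⁻¹ * y⁻¹ ∈ D
  sq1 : ∀ x ∈ U1, x * x ∈ D
  sq2 : ∀ x ∈ U2, x * x ∈ D
  c1 : ∀ a, ∀ x ∈ U1, w1 a * x * (w1 a)⁻¹ * x⁻¹ ∈ D
  c2 : ∀ a, ∀ x ∈ U2, w2 a * x * (w2 a)⁻¹ * x⁻¹ ∈ D
  m1 : ∀ a, ∀ x ∈ U2, w1 a * x * (w1 a)⁻¹ * x⁻¹ ∈ U1
  m2 : ∀ a, ∀ x ∈ U1, w2 a * x * (w2 a)⁻¹ * x⁻¹ ∈ U2
  add1 : ∀ a b, ∀ x ∈ U2,
    (w1 (a + b) * x * (w1 (a + b))⁻¹) * ((w1 a * w1 b) * x * (w1 a * w1 b)⁻¹)⁻¹ ∈ D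
  zero2 : ∀ x ∈ U1, w2 0 * x * (w2 0)⁻¹ * x⁻¹ ∈ D
  n12 : ∀ a, a ≠ 0 → ∀ x ∈ U1, nn w1 w2 a * x * (nn w1 w2 a)⁻¹ ∈ U2
  n21 : ∀ a, a ≠ 0 → ∀ x ∈ U2, nn w1 w2 a * x * (nn w1 w2 a)⁻¹ ∈ U1
  tor : ∀ a, a ≠ 0 → ∀ b, ∀ x ∈ U2,
    ((hh w1 w2 a * w1 b * (hh w1 w2 a)⁻¹) * x * (hh w1 w2 a * w1 b * (hh w1 w2 a)⁻¹)⁻¹) *
      (w1 (a ^ 2 * b) * x * (w1 (a ^ 2 * b))⁻¹)⁻¹ ∈ D

section bar

variable {G : Type u} [Group G] (D : Subgroup G)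

/-- `N(D)/D` -/
abbrev Gam : Type u :=
  ↥(normalizer (D : Set G)) ⧸ (D.subgroupOf (normalizer (D : Set G)))

instance : (D.subgroupOf (normalizer (D : Set G))).Normal := Subgroup.normal_in_normalizer

open Classical in
/-- reduction of an element of `G` modulo `D` (`1` outside `N(D)`) -/
noncomputable def bar (g : G) : Gam D :=
  if h : g ∈ normalizer (D : Set G) then QuotientGroup.mk ⟨g, h⟩ else 1

variable {D}

theorem bar_of {g : G} (h : g ∈ normalizer (D : Set G)) :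
    bar D g = QuotientGroup.mk ⟨g, h⟩ := by
  unfold bar; rw [dif_pos h]

theorem bar_mul {g h : G} (hg : g ∈ normalizer (D : Set G)) (hh : h ∈ normalizer (D : Set G)) :
    bar D (g * h) = bar D g * bar D h := by
  rw [bar_of hg, bar_of hh, bar_of (mul_mem hg hh)]; rfl

theorem bar_inv {g : G} (hg : g ∈ normalizer (D : Set G)) : bar D g⁻¹ = (bar D g)⁻¹ := by
  rw [bar_of hg, bar_of (inv_mem hg)]; rfl

theorem bar_eq_one {g : G} (hg : g ∈ normalizer (D : Set G)) : bar D g = 1 ↔ g ∈ D := by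
  rw [bar_of hg, QuotientGroup.eq_one_iff, Subgroup.mem_subgroupOf]

theorem bar_conj {g x : G} (hg : g ∈ normalizer (D : Set G)) (hx : x ∈ normalizer (D : Set G)) :
    bar D (g * x * g⁻¹) = bar D g * bar D x * (bar D g)⁻¹ := by
  rw [bar_mul (mul_mem hg hx) (inv_mem hg), bar_mul hg hx, bar_inv hg]

theorem bar_comm {g x : G} (hg : g ∈ normalizer (D : Set G)) (hx : x ∈ normalizer (D : Set G)) :
    bar D (g * x * g⁻¹ * x⁻¹) = bar D g * bar D x * (bar D g)⁻¹ * (bar D x)⁻¹ := by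
  rw [bar_mul (mul_mem (mul_mem hg hx) (inv_mem hg)) (inv_mem hx), bar_conj hg hx, bar_inv hx]

theorem bar_eq_iff {g h : G} (hg : g ∈ normalizer (D : Set G)) (hh : h ∈ normalizer (D : Set G)) :
    bar D g = bar D h ↔ g * h⁻¹ ∈ D := by
  rw [← bar_eq_one (mul_mem hg (inv_mem hh)), bar_mul hg (inv_mem hh), bar_inv hh,
    mul_inv_eq_one]

/-- the image of a subgroup -/
def barS (U : Subgroup G) (h : U ≤ normalizer (D : Set G)) : Subgroup (Gam D) where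
  carrier := {x | ∃ u ∈ U, bar D u = x}
  one_mem' := ⟨1, U.one_mem, (bar_eq_one (one_mem _)).2 (one_mem _)⟩
  mul_mem' := by
    rintro _ _ ⟨x, hx, rfl⟩ ⟨y, hy, rfl⟩
    exact ⟨x * y, U.mul_mem hx hy, bar_mul (h hx) (h hy)⟩
  inv_mem' := by
    rintro _ ⟨x, hx, rfl⟩
    exact ⟨x⁻¹, U.inv_mem hx, bar_inv (h hx)⟩

theorem bar_mem_barS {U : Subgroup G} {h : U ≤ normalizer (D : Set G)} {u : G} (hu : u ∈ U) :
    bar D u ∈ barS U h := ⟨u, hu, rfl⟩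

/-- membership in `barS` for a subgroup containing `D` -/
theorem mem_of_bar_mem {U : Subgroup G} {h : U ≤ normalizer (D : Set G)} (hD : D ≤ U) {g : G}
    (hg : g ∈ normalizer (D : Set G)) (hb : bar D g ∈ barS U h) : g ∈ U := by
  obtain ⟨u, hu, e⟩ := hb
  have := (bar_eq_iff (h hu) hg).1 e
  have h2 : g * u⁻¹ ∈ U := by
    have := U.inv_mem (hD this)
    rwa [mul_inv_rev, inv_inv] at this
  have e3 : g = g * u⁻¹ * u := by group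
  rw [e3]; exact U.mul_mem h2 hu

end bar

namespace QuadMod

variable {G : Type u} [Group G] {F : Type v} [Field F] {D U1 U2 : Subgroup G} {w1 w2 : F → G}
  (q : QuadMod D U1 U2 w1 w2)
include q

theorem nn_mem (a : F) : nn w1 w2 a ∈ normalizer (D : Set G) :=
  mul_mem (mul_mem (q.K1 a) (q.K2 _)) (q.K1 a)

theorem hh_mem (a : F) : hh w1 w2 a ∈ normalizer (D : Set G) :=
  mul_mem (q.nn_mem a) (q.nn_mem 1)

theorem bar_nn (a : F) : bar D (nn w1 w2 a) = nn (fun a => bar D (w1 a)) (fun a => bar D (w2 a)) a := by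
  unfold nn
  rw [bar_mul (mul_mem (q.K1 a) (q.K2 _)) (q.K1 a), bar_mul (q.K1 a) (q.K2 _)]

theorem bar_hh (a : F) : bar D (hh w1 w2 a) = hh (fun a => bar D (w1 a)) (fun a => bar D (w2 a)) a := by
  unfold hh
  rw [bar_mul (q.nn_mem a) (q.nn_mem 1), q.bar_nn, q.bar_nn]

theorem quadEx : QuadEx (barS U1 q.N1) (barS U2 q.N2) (fun a => bar D (w1 a))
    (fun a => bar D (w2 a)) where
  comm1 := by
    rintro _ ⟨x, hx, rfl⟩ _ ⟨y, hy, rfl⟩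
    have h := (bar_eq_one (mul_mem (mul_mem (mul_mem (q.N1 hx) (q.N1 hy)) (inv_mem (q.N1 hx)))
      (inv_mem (q.N1 hy)))).2 (q.comm1 x hx y hy)
    rw [bar_comm (q.N1 hx) (q.N1 hy)] at h
    rw [mul_inv_eq_one, mul_inv_eq_iff_eq_mul] at h
    exact h
  comm2 := by
    rintro _ ⟨x, hx, rfl⟩ _ ⟨y, hy, rfl⟩
    have h := (bar_eq_one (mul_mem (mul_mem (mul_mem (q.N2 hx) (q.N2 hy)) (inv_mem (q.N2 hx)))
      (inv_mem (q.N2 hy)))).2 (q.comm2 x hx y hy)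
    rw [bar_comm (q.N2 hx) (q.N2 hy)] at h
    rw [mul_inv_eq_one, mul_inv_eq_iff_eq_mul] at h
    exact h
  comm12 := by
    rintro _ ⟨x, hx, rfl⟩ _ ⟨y, hy, rfl⟩
    have h := (bar_eq_one (mul_mem (mul_mem (mul_mem (q.N1 hx) (q.N2 hy)) (inv_mem (q.N1 hx)))
      (inv_mem (q.N2 hy)))).2 (q.comm12 x hx y hy)
    rw [bar_comm (q.N1 hx) (q.N2 hy)] at h
    rw [mul_inv_eq_one, mul_inv_eq_iff_eq_mul] at h
    exact h
  inf := by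
    rintro _ ⟨x, hx, rfl⟩ h2
    rw [bar_eq_one (q.N1 hx)]
    exact q.inf x hx (mem_of_bar_mem q.D2 (q.N1 hx) h2)
  sq1 := by
    rintro _ ⟨x, hx, rfl⟩
    rw [← bar_mul (q.N1 hx) (q.N1 hx), bar_eq_one (mul_mem (q.N1 hx) (q.N1 hx))]
    exact q.sq1 x hx
  sq2 := by
    rintro _ ⟨x, hx, rfl⟩
    rw [← bar_mul (q.N2 hx) (q.N2 hx), bar_eq_one (mul_mem (q.N2 hx) (q.N2 hx))]
    exact q.sq2 x hx
  c1 := by
    rintro a _ ⟨x, hx, rfl⟩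
    have h := (bar_eq_one (mul_mem (mul_mem (mul_mem (q.K1 a) (q.N1 hx)) (inv_mem (q.K1 a)))
      (inv_mem (q.N1 hx)))).2 (q.c1 a x hx)
    rw [bar_comm (q.K1 a) (q.N1 hx)] at h
    rw [mul_inv_eq_one, mul_inv_eq_iff_eq_mul] at h
    exact h
  c2 := by
    rintro a _ ⟨x, hx, rfl⟩
    have h := (bar_eq_one (mul_mem (mul_mem (mul_mem (q.K2 a) (q.N2 hx)) (inv_mem (q.K2 a)))
      (inv_mem (q.N2 hx)))).2 (q.c2 a x hx)
    rw [bar_comm (q.K2 a) (q.N2 hx)] at h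
    rw [mul_inv_eq_one, mul_inv_eq_iff_eq_mul] at h
    exact h
  m1 := by
    rintro a _ ⟨x, hx, rfl⟩
    exact ⟨_, q.m1 a x hx, bar_comm (q.K1 a) (q.N2 hx)⟩
  m2 := by
    rintro a _ ⟨x, hx, rfl⟩
    exact ⟨_, q.m2 a x hx, bar_comm (q.K2 a) (q.N1 hx)⟩
  add1 := by
    rintro a b _ ⟨x, hx, rfl⟩
    have h := (bar_eq_iff (mul_mem (mul_mem (q.K1 (a + b)) (q.N2 hx)) (inv_mem (q.K1 (a + b))))
      (mul_mem (mul_mem (mul_mem (q.K1 a) (q.K1 b)) (q.N2 hx))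
        (inv_mem (mul_mem (q.K1 a) (q.K1 b))))).2 (q.add1 a b x hx)
    rw [bar_conj (q.K1 (a + b)) (q.N2 hx), bar_conj (mul_mem (q.K1 a) (q.K1 b)) (q.N2 hx),
      bar_mul (q.K1 a) (q.K1 b)] at h
    exact h
  zero2 := by
    rintro _ ⟨x, hx, rfl⟩
    have h := (bar_eq_one (mul_mem (mul_mem (mul_mem (q.K2 0) (q.N1 hx)) (inv_mem (q.K2 0)))
      (inv_mem (q.N1 hx)))).2 (q.zero2 x hx)
    rw [bar_comm (q.K2 0) (q.N1 hx)] at h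
    rw [mul_inv_eq_one, mul_inv_eq_iff_eq_mul] at h
    exact h
  n12 := by
    rintro a ha _ ⟨x, hx, rfl⟩
    rw [← q.bar_nn, ← bar_conj (q.nn_mem a) (q.N1 hx)]
    exact ⟨_, q.n12 a ha x hx, rfl⟩
  n21 := by
    rintro a ha _ ⟨x, hx, rfl⟩
    rw [← q.bar_nn, ← bar_conj (q.nn_mem a) (q.N2 hx)]
    exact ⟨_, q.n21 a ha x hx, rfl⟩
  tor := by
    rintro a ha b _ ⟨x, hx, rfl⟩
    have hk : hh w1 w2 a * w1 b * (hh w1 w2 a)⁻¹ ∈ normalizer (D : Set G) :=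
      mul_mem (mul_mem (q.hh_mem a) (q.K1 b)) (inv_mem (q.hh_mem a))
    have h := (bar_eq_iff (mul_mem (mul_mem hk (q.N2 hx)) (inv_mem hk))
      (mul_mem (mul_mem (q.K1 (a ^ 2 * b)) (q.N2 hx)) (inv_mem (q.K1 (a ^ 2 * b))))).2
      (q.tor a ha b x hx)
    rw [bar_conj hk (q.N2 hx), bar_conj (q.K1 (a ^ 2 * b)) (q.N2 hx),
      bar_conj (q.hh_mem a) (q.K1 b), q.bar_hh] at h
    exact h

/-- **Theorem.** `Y / D = N ⊗ M`. -/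
theorem exists_yMod [CharP F 2] (hperf : ∀ a : F, ∃ b, b ^ 2 = a) :
    ∃ (M : Type u) (_ : AddCommGroup M) (_ : Module F M) (p1 p2 : G → M),
      YMod D U1 U2 w1 w2 M p1 p2 := by
  obtain ⟨M, i1, i2, p1, p2, h1, h2, h3, h4, h5, h6, h7, h8⟩ := q.quadEx.exists_module hperf
  refine ⟨M, i1, i2, fun g => p1 (bar D g), fun g => p2 (bar D g), ?_⟩
  refine
    { mul1 := fun x hx y hy => ?_
      mul2 := fun x hx y hy => ?_
      ker1 := fun x hx => ?_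
      ker2 := fun x hx => ?_
      surj1 := fun m => ?_
      surj2 := fun m => ?_
      act12 := fun a x hx => ?_
      act21 := fun a x hx => ?_ }
  · rw [bar_mul (q.N1 hx) (q.N1 hy)]
    exact h1 _ ⟨x, hx, rfl⟩ _ ⟨y, hy, rfl⟩
  · rw [bar_mul (q.N2 hx) (q.N2 hy)]
    exact h4 _ ⟨x, hx, rfl⟩ _ ⟨y, hy, rfl⟩
  · rw [← bar_eq_one (q.N1 hx)]
    constructor
    · exact h2 _ ⟨x, hx, rfl⟩
    · intro h
      rw [h]
      have := h1 1 (one_mem _) 1 (one_mem _)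
      rw [mul_one] at this
      exact left_eq_add.1 this
  · rw [← bar_eq_one (q.N2 hx)]
    constructor
    · exact h5 _ ⟨x, hx, rfl⟩
    · intro h
      rw [h]
      have := h4 1 (one_mem _) 1 (one_mem _)
      rw [mul_one] at this
      exact left_eq_add.1 this
  · obtain ⟨_, ⟨x, hx, rfl⟩, e⟩ := h3 m
    exact ⟨x, hx, e⟩
  · obtain ⟨_, ⟨x, hx, rfl⟩, e⟩ := h6 m
    exact ⟨x, hx, e⟩
  · rw [bar_comm (q.K1 a) (q.N2 hx)]
    exact h7 a _ ⟨x, hx, rfl⟩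
  · rw [bar_comm (q.K2 a) (q.N1 hx)]
    exact h8 a _ ⟨x, hx, rfl⟩

end QuadMod

end Cfsg.Agent.Omega.BTwo
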