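import Cfsg.Agent.Omega.BTwo.Str
import Cfsg.Agent.Omega.BTwo.QuadMod

/-!
# SQ3, `b = 2`: coordinates on `V`, and `Y / D = N ⊗ M` (end of (4) of #10337)

`Coord`: `V = F²`, `R i = {v b 0}`, `R j = {v 0 c}`, `W i` acts by `(b, c) ↦ (b + a c, c)`, `W j` by
`(b, c) ↦ (b, c + a b)`.  `Coord.exists_yMod`: then `U i / D` and `U j / D` are one and the same `F`-space `M`.
-/

set_option autoImplicit false
set_option linter.unusedSectionVars false

namespace Cfsg.Agent.Omega.BTwo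

open Subgroup

universe u v w

variable {G : Type u} [Group G] {ι : Type w}

/-- coordinates on `V` -/
structure Coord (V : Subgroup G) (R : ι → Subgroup G) (i j : ι) {F : Type v} [Field F]
    (v : F → F → G) (w1 w2 : F → G) : Prop where
  ne : i ≠ j
  v_add : ∀ b c b' c', v (b + b') (c + c') = v b c * v b' c'
  v_one : ∀ b c, v b c = 1 → b = 0 ∧ c = 0
  mem_V : ∀ x, x ∈ V ↔ ∃ b c, v b c = x
  mem_R1 : ∀ x, x ∈ R i ↔ ∃ b, v b 0 = x
  mem_R2 : ∀ x, x ∈ R j ↔ ∃ c, v 0 c = x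
  w1_mem : ∀ a, w1 a ∈ WW V (R i)
  w2_mem : ∀ a, w2 a ∈ WW V (R j)
  w1_act : ∀ a b c, w1 a * v b c * (w1 a)⁻¹ = v (b + a * c) c
  w2_act : ∀ a b c, w2 a * v b c * (w2 a)⁻¹ = v b (c + a * b)
  W1_act : ∀ x ∈ WW V (R i), ∃ a, ∀ b c, x * v b c * x⁻¹ = v (b + a * c) c
  W2_act : ∀ x ∈ WW V (R j), ∃ a, ∀ b c, x * v b c * x⁻¹ = v b (c + a * b)

/-- two elements of `W i` with the same action on `V` act in the same way on `Y / D` -/
theorem BT.same {V : Subgroup G} {R : ι → Subgroup G} (b : BT V R) {i : ι} {x x' y : G}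
    (hx : x ∈ WW V (R i)) (hx' : x' ∈ WW V (R i)) (h : ∀ v ∈ V, x * v * x⁻¹ = x' * v * x'⁻¹)
    (hy : y ∈ YY V R) : (x * y * x⁻¹) * (x' * y * x'⁻¹)⁻¹ ∈ DD V R := by
  have hu : x * x'⁻¹ ∈ UU V R i := by
    refine mem_inf.2 ⟨mul_mem hx (inv_mem hx'), ?_⟩
    rw [mem_centralizer_iff]
    intro v hv
    have hv' : x'⁻¹ * v * x' ∈ V := conj_inv_mem_of_normalizer (b.W_le_NV i hx') hv
    have h1 := h _ hv'
    have h2 : x' * (x'⁻¹ * v * x') * x'⁻¹ = v := by group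
    rw [h2] at h1
    calc v * (x * x'⁻¹) = x * (x'⁻¹ * v * x') * x⁻¹ * (x * x'⁻¹) := by rw [h1]
      _ = x * x'⁻¹ * v := by group
  have hy' : x' * y * x'⁻¹ ∈ YY V R := conj_mem_of_normalizer (b.NV_le_NY (b.W_le_NV i hx')) hy
  have h3 := b.Y_comm (UU_le_YY i hu) hy'
  have e : x * x'⁻¹ * (x' * y * x'⁻¹) * (x * x'⁻¹)⁻¹ * (x' * y * x'⁻¹)⁻¹ =
      (x * y * x⁻¹) * (x' * y * x'⁻¹)⁻¹ := by group
  rwa [e] at h3

namespace Coord

variable {V : Subgroup G} {R : ι → Subgroup G} {i j : ι} {F : Type v} [Field F]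
  {v : F → F → G} {w1 w2 : F → G}

section

variable (c : Coord V R i j v w1 w2)
include c

theorem v_zero : v 0 0 = 1 := by
  have := c.v_add 0 0 0 0
  rw [add_zero] at this
  exact left_eq_mul.1 this

theorem v_inj {a b a' b' : F} (h : v a b = v a' b') : a = a' ∧ b = b' := by
  have h1 := c.v_add (a - a') (b - b') a' b'
  rw [sub_add_cancel, sub_add_cancel, h] at h1
  have h2 := c.v_one _ _ (right_eq_mul.1 h1)
  exact ⟨sub_eq_zero.1 h2.1, sub_eq_zero.1 h2.2⟩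

theorem v_mem (a b : F) : v a b ∈ V := (c.mem_V _).2 ⟨a, b, rfl⟩

theorem symm : Coord V R j i (fun a b => v b a) w2 w1 where
  ne := c.ne.symm
  v_add := fun b d b' d' => c.v_add d b d' b'
  v_one := fun b d h => (c.v_one d b h).symm
  mem_V := fun x => by rw [c.mem_V]; exact exists_comm
  mem_R1 := c.mem_R2
  mem_R2 := c.mem_R1
  w1_mem := c.w2_mem
  w2_mem := c.w1_mem
  w1_act := fun a b d => c.w2_act a d b
  w2_act := fun a b d => c.w1_act a d b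
  W1_act := fun x hx => by
    obtain ⟨a, ha⟩ := c.W2_act x hx
    exact ⟨a, fun b d => ha d b⟩
  W2_act := fun x hx => by
    obtain ⟨a, ha⟩ := c.W1_act x hx
    exact ⟨a, fun b d => ha d b⟩

/-- the action of `n(a) = w1(a) w2(1/a) w1(a)` -/
theorem nn_act [CharP F 2] {a : F} (ha : a ≠ 0) (b d : F) :
    nn w1 w2 a * v b d * (nn w1 w2 a)⁻¹ = v (a * d) (a⁻¹ * b) := by
  have e : nn w1 w2 a * v b d * (nn w1 w2 a)⁻¹ =
      w1 a * (w2 a⁻¹ * (w1 a * v b d * (w1 a)⁻¹) * (w2 a⁻¹)⁻¹) * (w1 a)⁻¹ := by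
    unfold nn; group
  rw [e, c.w1_act, c.w2_act, c.w1_act]
  have h1 : d + a⁻¹ * (b + a * d) = a⁻¹ * b := by
    rw [mul_add, ← mul_assoc, inv_mul_cancel₀ ha, one_mul, add_comm (a⁻¹ * b), ← add_assoc,
      CharTwo.add_self_eq_zero, zero_add]
  have h2 : b + a * d + a * (a⁻¹ * b) = a * d := by
    rw [← mul_assoc, mul_inv_cancel₀ ha, one_mul, add_comm b, add_assoc, CharTwo.add_self_eq_zero,
      add_zero]
  rw [h1, h2]

/-- the action of `h(a) = n(a) n(1)` -/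
theorem hh_act [CharP F 2] {a : F} (ha : a ≠ 0) (b d : F) :
    hh w1 w2 a * v b d * (hh w1 w2 a)⁻¹ = v (a * b) (a⁻¹ * d) := by
  have e : hh w1 w2 a * v b d * (hh w1 w2 a)⁻¹ =
      nn w1 w2 a * (nn w1 w2 1 * v b d * (nn w1 w2 1)⁻¹) * (nn w1 w2 a)⁻¹ := by
    unfold hh; group
  rw [e, c.nn_act one_ne_zero, c.nn_act ha, inv_one, one_mul, one_mul]

theorem hh_act_inv [CharP F 2] {a : F} (ha : a ≠ 0) (b d : F) :
    (hh w1 w2 a)⁻¹ * v b d * hh w1 w2 a = v (a⁻¹ * b) (a * d) := by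
  have h1 := c.hh_act ha (a⁻¹ * b) (a * d)
  rw [← mul_assoc, ← mul_assoc, mul_inv_cancel₀ ha, inv_mul_cancel₀ ha, one_mul, one_mul] at h1
  rw [← h1]; group

end

section

variable (c : Coord V R i j v w1 w2) (b : BT V R)
include c b

theorem nn_mem_X (a : F) : nn w1 w2 a ∈ XX V R :=
  mul_mem (mul_mem (W_le_X V R i (c.w1_mem a)) (W_le_X V R j (c.w2_mem _))) (W_le_X V R i (c.w1_mem a))

theorem hh_mem_X (a : F) : hh w1 w2 a ∈ XX V R := mul_mem (c.nn_mem_X b a) (c.nn_mem_X b 1)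

theorem nn_R1 [CharP F 2] {a : F} (ha : a ≠ 0) : cj (nn w1 w2 a) (R i) = R j := by
  ext x
  rw [mem_cj, c.mem_R1, c.mem_R2]
  constructor
  · rintro ⟨d, hd⟩
    refine ⟨a⁻¹ * d, ?_⟩
    have h1 := c.nn_act ha d 0
    rw [mul_zero] at h1
    rw [← h1, hd]; group
  · rintro ⟨d, rfl⟩
    refine ⟨a * d, ?_⟩
    have h1 := c.nn_act ha (a * d) 0
    rw [mul_zero, ← mul_assoc, inv_mul_cancel₀ ha, one_mul] at h1
    rw [← h1]; group

theorem nn_R2 [CharP F 2] {a : F} (ha : a ≠ 0) : cj (nn w1 w2 a) (R j) = R i := by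
  ext x
  rw [mem_cj, c.mem_R1, c.mem_R2]
  constructor
  · rintro ⟨d, hd⟩
    refine ⟨a * d, ?_⟩
    have h1 := c.nn_act ha 0 d
    rw [mul_zero] at h1
    rw [← h1, hd]; group
  · rintro ⟨d, rfl⟩
    refine ⟨a⁻¹ * d, ?_⟩
    have h1 := c.nn_act ha 0 (a⁻¹ * d)
    rw [mul_zero, ← mul_assoc, mul_inv_cancel₀ ha, one_mul] at h1
    rw [← h1]; group

theorem hh_R1 [CharP F 2] {a : F} (ha : a ≠ 0) : cj (hh w1 w2 a) (R i) = R i := by
  unfold hh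
  rw [cj_mul, c.nn_R1 b one_ne_zero, c.nn_R2 b ha]

theorem hh_R2 [CharP F 2] {a : F} (ha : a ≠ 0) : cj (hh w1 w2 a) (R j) = R j := by
  unfold hh
  rw [cj_mul, c.nn_R2 b one_ne_zero, c.nn_R1 b ha]

/-- `h(a) w1(t) h(a)⁻¹` acts on `V` as `w1(a² t)` -/
theorem hh_w1_act [CharP F 2] {a : F} (ha : a ≠ 0) (t : F) {x : G} (hx : x ∈ V) :
    (hh w1 w2 a * w1 t * (hh w1 w2 a)⁻¹) * x * (hh w1 w2 a * w1 t * (hh w1 w2 a)⁻¹)⁻¹ =
      w1 (a ^ 2 * t) * x * (w1 (a ^ 2 * t))⁻¹ := by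
  obtain ⟨d, f, rfl⟩ := (c.mem_V x).1 hx
  have _ := b
  have e : (hh w1 w2 a * w1 t * (hh w1 w2 a)⁻¹) * v d f * (hh w1 w2 a * w1 t * (hh w1 w2 a)⁻¹)⁻¹ =
      hh w1 w2 a * (w1 t * ((hh w1 w2 a)⁻¹ * v d f * hh w1 w2 a) * (w1 t)⁻¹) * (hh w1 w2 a)⁻¹ := by
    group
  rw [e, c.hh_act_inv ha, c.w1_act, c.hh_act ha, c.w1_act]
  congr 1
  · rw [mul_add, ← mul_assoc, mul_inv_cancel₀ ha, one_mul]; ring
  · rw [← mul_assoc, inv_mul_cancel₀ ha, one_mul]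

/-- **the quadratic situation** -/
theorem quadMod [CharP F 2] : QuadMod (DD V R) (UU V R i) (UU V R j) w1 w2 where
  D1 := b.D_le_U i
  D2 := b.D_le_U j
  N1 := (UU_le_YY i).trans b.Y_le_ND
  N2 := (UU_le_YY j).trans b.Y_le_ND
  K1 := fun a => b.NV_le_ND (b.W_le_NV i (c.w1_mem a))
  K2 := fun a => b.NV_le_ND (b.W_le_NV j (c.w2_mem a))
  inf := fun x h1 h2 => by
    rw [← b.UU_inf c.ne]
    exact ⟨h1, h2⟩
  comm1 := fun x hx y hy => b.Y_comm (UU_le_YY i hx) (UU_le_YY i hy)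
  comm2 := fun x hx y hy => b.Y_comm (UU_le_YY j hx) (UU_le_YY j hy)
  comm12 := fun x hx y hy => b.UU_comm c.ne hx hy
  sq1 := fun x hx => b.Y_sq (UU_le_YY i hx)
  sq2 := fun x hx => b.Y_sq (UU_le_YY j hx)
  c1 := fun a x hx => V_le_D V R (b.R_le i (b.WU (c.w1_mem a) hx))
  c2 := fun a x hx => V_le_D V R (b.R_le j (b.WU (c.w2_mem a) hx))
  m1 := fun a x hx => b.WU' (c.w1_mem a) hx
  m2 := fun a x hx => b.WU' (c.w2_mem a) hx
  add1 := fun a d x hx => by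
    refine b.same (c.w1_mem _) (mul_mem (c.w1_mem a) (c.w1_mem d)) ?_ (UU_le_YY j hx)
    intro y hy
    obtain ⟨e, f, rfl⟩ := (c.mem_V y).1 hy
    have e1 : w1 a * w1 d * v e f * (w1 a * w1 d)⁻¹ = w1 a * (w1 d * v e f * (w1 d)⁻¹) * (w1 a)⁻¹ := by
      group
    rw [e1, c.w1_act, c.w1_act, c.w1_act]
    congr 1
    ring
  zero2 := fun x hx => by
    refine b.Y_comm (UU_le_YY j ?_) (UU_le_YY i hx)
    refine mem_inf.2 ⟨c.w2_mem 0, ?_⟩
    rw [mem_centralizer_iff]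
    intro y hy
    obtain ⟨e, f, rfl⟩ := (c.mem_V y).1 hy
    have h1 := c.w2_act 0 e f
    rw [zero_mul, add_zero, mul_inv_eq_iff_eq_mul] at h1
    exact h1.symm
  n12 := fun a ha x hx => by
    rw [← b.cj_UU (b.X_le_NV (c.nn_mem_X b a)) (c.nn_R1 b ha)]
    exact conj_mem_cj hx
  n21 := fun a ha x hx => by
    rw [← b.cj_UU (b.X_le_NV (c.nn_mem_X b a)) (c.nn_R2 b ha)]
    exact conj_mem_cj hx
  tor := fun a ha t x hx => by
    refine b.same (i := i) ?_ (c.w1_mem _) (fun y hy => c.hh_w1_act b ha t hy) (UU_le_YY j hx)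
    have h1 := conj_mem_cj (g := hh w1 w2 a) (c.w1_mem t)
    rwa [b.cj_WW (c.hh_R1 b ha)] at h1

/-- **`Y / D = N ⊗ M`** -/
theorem exists_yMod [Finite F] [CharP F 2] :
    ∃ (M : Type u) (_ : AddCommGroup M) (_ : Module F M) (p1 p2 : G → M),
      YMod (DD V R) (UU V R i) (UU V R j) w1 w2 M p1 p2 := by
  refine (c.quadMod b).exists_yMod fun a => ?_
  have h := (Finite.injective_iff_surjective (f := fun x : F => x ^ 2)).1 (by
    intro x y hxy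
    have h1 : (x - y) ^ 2 = 0 := by
      have h2 : x ^ 2 = y ^ 2 := hxy
      have h3 : (x - y) ^ 2 = x ^ 2 - y ^ 2 := by
        rw [CharTwo.sub_eq_add, CharTwo.sub_eq_add, CharTwo.add_sq]
      rw [h3, h2, sub_self]
    exact sub_eq_zero.1 (pow_eq_zero_iff two_ne_zero |>.1 h1))
  exact h a

end

end Coord

end Cfsg.Agent.Omega.BTwo
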