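import Cfsg.Agent.Omega.BTwo.CoordNat
import Cfsg.Agent.Omega.BTwo.Cen

/-!
# Coordinates at two points from `BT V (pt M)` alone

`BT.exists_at` : a mutual element at every point; `coordBT` : for `b : BT V (pt M)`, `M : NatMod F V`, and any two points
`i ≠ j` there are `v w1 w2` with `Coord V (pt M) i j v w1 w2` (no Sylow 2-subgroup, no mutual pair as a hypothesis).
-/

set_option autoImplicit false
set_option linter.unusedSectionVars false

namespace Cfsg.Agent.Omega.BTwo.CoordBT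

open Subgroup Cfsg.Agent.Lib.SL2Mat Cfsg.Agent.Omega.NatPair Cfsg.Agent.Omega.BTwo

universe u v w

section gen

variable {G : Type u} [Group G] {ι : Type w} {V : Subgroup G} {R : ι → Subgroup G}

/-- a mutual element at every point -/
theorem exists_at_bt [Finite G] (b : BT V R) (i : ι) : ∃ h, At V (R i) h := by
  obtain ⟨h, hh, H⟩ := b.mt i
  have hW : BTwo.cj h V ≤ WW V (R i) := cj_le_WW hh
  have hWi : BTwo.cj h⁻¹ V ≤ WW V (R i) := cj_le_WW (inv_mem hh)
  have hmem : ∀ v ∈ V, h * v * h⁻¹ ∈ BTwo.cj h V := fun v hv => conj_mem_cj hv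
  have hcomm : ∀ x ∈ BTwo.cj h V, ∀ v ∈ V, x * (h * v * h⁻¹) = h * v * h⁻¹ * x := by
    intro x hx v hv
    rw [BTwo.mem_cj] at hx
    have h1 := b.V_comm _ hx v hv
    calc x * (h * v * h⁻¹) = h * (h⁻¹ * x * h * v) * h⁻¹ := by group
      _ = h * (v * (h⁻¹ * x * h)) * h⁻¹ := by rw [h1]
      _ = h * v * h⁻¹ * x := by group
  refine ⟨h, hh, ⟨hW.trans (b.W_le_NV i), ?_, ?_⟩, ?_, b.V_Q i⟩
  · have h1 : BTwo.cj h (BTwo.cj h⁻¹ V) ≤ BTwo.cj h (normalizer (V : Set G)) := cj_mono (hWi.trans (b.W_le_NV i))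
    rw [cj_cj_inv, ← normalizer_cj] at h1
    exact h1
  · by_contra hcon
    push Not at hcon
    obtain ⟨j, hj, -⟩ := b.third i i
    obtain ⟨k, hk, hkj⟩ := b.third i j
    obtain ⟨v, hv, e⟩ := (H j k hj hk).1
    apply hkj
    apply b.R_index
    rw [← e]
    refine cj_eq_self_iff.2 (centralizer_le_normalizer _ (mem_centralizer_iff.2 fun x hx => ?_))
    exact hcon x (b.R_le j hx) _ (hmem v hv)
  · apply le_antisymm
    · rintro x ⟨hxV, hx⟩
      obtain ⟨j, hxj⟩ := b.R_cov x hxV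
      by_cases hji : j = i
      · rwa [← hji]
      obtain ⟨k, hk, hkj⟩ := b.third i j
      obtain ⟨v, hv, e⟩ := (H j k hji hk).1
      have h2 : x ∈ R k := by
        rw [← e, BTwo.mem_cj]
        have h3 := hcomm x hx v hv
        have h4 : (h * v * h⁻¹)⁻¹ * x * (h * v * h⁻¹) = x := by
          rw [mul_assoc, h3]; group
        rwa [h4]
      have h5 : x ∈ R k ⊓ R j := ⟨h2, hxj⟩
      rw [b.R_inf k j hkj, mem_bot] at h5
      rw [h5]; exact one_mem _
    · refine le_inf (b.R_le i) ?_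
      have h1 := cj_mono (g := h) (b.R_le i)
      rwa [cj_eq_self_iff.2 hh] at h1

end gen

section nat

variable {G : Type u} [Group G] {F : Type v} [Field F] {V : Subgroup G} [Finite G] [Finite F] [CharP F 2]
  (M : NatMod F V)

theorem dataBT {R : Subgroup G} {h : G} (a : At V R h) (hQ : QQ R ≤ normalizer (V : Set G)) :
    ∃ w, w ≠ 0 ∧ R = M.line w ∧ QQ R ≤ M.UW w ∧ (∀ B, ap B w = w → ∃ x ∈ BTwo.cj h V, M.Ind x B) := by
  have hR : V ⊓ BTwo.cj h V = R := a.inf
  obtain ⟨w, hw, hl, hU, hf, -, -⟩ := bridge M (M.conj h) a.mtl (Q := QQ R) a.V'Q hQ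
    (by
      show QQ R ≤ normalizer ((V ⊓ BTwo.cj h V : Subgroup G) : Set G)
      rw [hR]; exact BTwo.O2_le _) (O2_isPGroup _) (by
      intro g _ hg x hx
      have hg' : g ∈ normalizer ((V ⊓ BTwo.cj h V : Subgroup G) : Set G) := hg
      rw [hR] at hg'
      exact conj_mem_of_normalizer (le_normalizer_O2 _ hg') hx)
  exact ⟨w, hw, by rw [← hl]; exact hR.symm, hU, hf⟩

theorem halfBT {w u : Fin 2 → F} (hdt : dt w u = 1) {h : G} (a : At V (M.line w) h)
    (hQ : QQ (M.line w) ≤ normalizer (V : Set G)) (hW : WW V (M.line w) ≤ QQ (M.line w)) :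
    ∃ w1 : F → G, (∀ t, w1 t ∈ WW V (M.line w)) ∧
      (∀ t b c, w1 t * M.e (b • w + c • u) * (w1 t)⁻¹ = M.e ((b + t * c) • w + c • u)) ∧
      ∀ x ∈ WW V (M.line w), ∃ t : F, ∀ b c, x * M.e (b • w + c • u) * x⁻¹ = M.e ((b + t * c) • w + c • u) := by
  obtain ⟨w', hw', hl, hU, hf⟩ := dataBT M a hQ
  have hw : w ≠ 0 := by
    rintro rfl
    unfold dt at hdt
    simp at hdt
  obtain ⟨k, hk⟩ := (M.line_eq_iff hw).1 hl
  obtain ⟨k', hk'⟩ := (M.line_eq_iff hw').1 hl.symm
  have h1 : ∀ t : F, ∃ x ∈ WW V (M.line w), ∀ b c : F,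
      x * M.e (b • w + c • u) * x⁻¹ = M.e ((b + t * c) • w + c • u) := by
    intro t
    obtain ⟨B, hB, hBu⟩ := exists_tv hdt t
    obtain ⟨x, hx, hxB⟩ := hf B (by rw [hk', ap_smul, hB])
    refine ⟨x, cj_le_WW a.norm hx, fun b c => ?_⟩
    rw [hxB, ap_comb B hB hBu]
  choose w1 hw1 hw1' using h1
  refine ⟨w1, hw1, hw1', fun x hx => ?_⟩
  obtain ⟨B, hB, hxB⟩ := hU (hW hx)
  have hBw : ap B w = w := by rw [hk, ap_smul, hB]
  obtain ⟨t, ht⟩ := exists_tv' hdt hBw
  refine ⟨t, fun b c => ?_⟩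
  rw [hxB, ap_comb B hBw ht]

theorem coord_of_bt (b : BT V (pt M)) {i j : Pt M} (hij : i ≠ j)
    {w u : Fin 2 → F} (hdt : dt w u = 1) (hi : pt M i = M.line w) (hj : pt M j = M.line u) :
    ∃ w1 w2 : F → G, Coord V (pt M) i j (fun a b => M.e (a • w + b • u)) w1 w2 := by
  have hdt' : dt u w = 1 := by
    have h1 : dt u w = - dt w u := by unfold dt; ring
    rw [h1, hdt, CharTwo.neg_eq]
  obtain ⟨h, ha⟩ := exists_at_bt b i
  obtain ⟨h', ha'⟩ := exists_at_bt b j
  have hWi := b.W_le_Q i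
  have hWj := b.W_le_Q j
  have hQi := b.Q_le_NV i
  have hQj := b.Q_le_NV j
  rw [hi] at ha hWi hQi
  rw [hj] at ha' hWj hQj
  obtain ⟨w1, hw1, hw1', hw1''⟩ := halfBT M hdt ha hQi hWi
  obtain ⟨w2, hw2, hw2', hw2''⟩ := halfBT M hdt' ha' hQj hWj
  have hc : ∀ a b : F, a • w + b • u = b • u + a • w := fun a b => add_comm _ _
  refine ⟨w1, w2, ?_⟩
  exact
    { ne := hij
      v_add := fun b c b' c' => by
        rw [← M.e_add]
        congr 1
        rw [add_smul, add_smul]; abel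
      v_one := fun b c h1 => by
        rw [M.e_eq_one] at h1
        constructor
        · have h2 := congrArg (dt u) h1
          rw [dt_add, dt_smul, dt_smul, dt_self, hdt', mul_zero, mul_one, add_zero] at h2
          rw [h2]; unfold dt; simp
        · have h2 := congrArg (dt w) h1
          rw [dt_add, dt_smul, dt_smul, dt_self, hdt, mul_zero, mul_one, zero_add] at h2
          rw [h2]; unfold dt; simp
      mem_V := fun x => by
        rw [M.mem_iff]
        constructor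
        · rintro ⟨y, rfl⟩
          obtain ⟨α, β, rfl⟩ := exists_comb (by rw [hdt]; exact one_ne_zero : dt w u ≠ 0) y
          exact ⟨α, β, rfl⟩
        · rintro ⟨α, β, rfl⟩
          exact ⟨_, rfl⟩
      mem_R1 := fun x => by
        rw [hi, M.mem_line]
        simp only [zero_smul, add_zero]
      mem_R2 := fun x => by
        rw [hj, M.mem_line]
        simp only [zero_smul, zero_add]
      w1_mem := fun a => by rw [hi]; exact hw1 a
      w2_mem := fun a => by rw [hj]; exact hw2 a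
      w1_act := hw1'
      w2_act := fun a b c => by
        have := hw2' a c b
        rw [hc, this, hc]
      W1_act := fun x hx => by
        rw [hi] at hx
        exact hw1'' x hx
      W2_act := fun x hx => by
        rw [hj] at hx
        obtain ⟨a, ha⟩ := hw2'' x hx
        refine ⟨a, fun b c => ?_⟩
        rw [hc, ha, hc] }

/-- **Coordinates at two points.** -/
theorem coordBT (b : BT V (pt M)) {i j : Pt M} (hij : i ≠ j) :
    ∃ w u : Fin 2 → F, dt w u = 1 ∧ pt M i = M.line w ∧ pt M j = M.line u ∧ ∃ w1 w2 : F → G,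
      Coord V (pt M) i j (fun a b => M.e (a • w + b • u)) w1 w2 := by
  obtain ⟨Ri, w, hw, hi⟩ := i
  obtain ⟨Rj, u', hu', hj⟩ := j
  have h1 : dt w u' ≠ 0 := by
    intro h1
    apply hij
    apply Subtype.ext
    show Ri = Rj
    rw [hi, hj]
    exact ((line_eq_iff_dt M hw hu').2 h1).symm
  have h2 : dt w ((dt w u')⁻¹ • u') = 1 := by rw [dt_smul, inv_mul_cancel₀ h1]
  have hj' : Rj = M.line ((dt w u')⁻¹ • u') := by rw [hj, M.line_smul (inv_ne_zero h1)]
  exact ⟨w, _, h2, hi, hj', coord_of_bt M b hij h2 hi hj'⟩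

/-- `Coord` at two points, short form. -/
theorem exists_coordBT (b : BT V (pt M)) {i j : Pt M} (hij : i ≠ j) :
    ∃ (v : F → F → G) (w1 w2 : F → G), Coord V (pt M) i j v w1 w2 := by
  obtain ⟨w, u, -, -, -, w1, w2, c⟩ := coordBT M b hij
  exact ⟨_, w1, w2, c⟩

end nat

end Cfsg.Agent.Omega.BTwo.CoordBT
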