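import Cfsg.Agent.Omega.BTwo.Basic
import Cfsg.Agent.Omega.NatPair.Bridge

/-!
# SQ3: the structure `BT` from a mutual pair (#9945, #10337 (1))

`bt`: `V` a natural module (`NatMod F V`), `S ≤ N_G(V)` a Sylow 2-subgroup of `G`, `(V, V^g)` a mutual pair,
`R = V ∩ V^g` and `V ≤ O₂(N_G(R))` (`b = 2`): then `BT V (points of V)`; `full`: an element of `O₂(N_G(R))` centralises `V`
or `[V, g] = R`.
-/

set_option autoImplicit false
set_option linter.unusedSectionVars false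

namespace Cfsg.Agent.Omega.BTwo

open Subgroup Cfsg.Agent.Lib.SL2Mat Cfsg.Agent.Omega.NatPair

variable {G : Type*} [Group G] {F : Type*} [Field F] {V : Subgroup G}

/-- the points of `V` -/
def Pt (M : NatMod F V) : Type _ := {R : Subgroup G // ∃ w, w ≠ 0 ∧ R = M.line w}

/-- the points of `V`, as subgroups -/
def pt (M : NatMod F V) (i : Pt M) : Subgroup G := i.1

theorem exists_basis {w u : Fin 2 → F} (h : dt w u ≠ 0) :
    ∃ D : Matrix.SpecialLinearGroup (Fin 2) F, ap D ![1, 0] = w ∧ ap D ![0, 1] = (dt w u)⁻¹ • u := by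
  refine ⟨mk (w 0) ((dt w u)⁻¹ * u 0) (w 1) ((dt w u)⁻¹ * u 1) ?_, ?_, ?_⟩
  · have h1 : (dt w u)⁻¹ * dt w u = 1 := inv_mul_cancel₀ h
    nth_rewrite 2 [dt] at h1
    linear_combination h1
  · apply ext2
    · rw [ap_zero']; simp
    · rw [ap_one']; simp
  · apply ext2
    · rw [ap_zero']; simp
    · rw [ap_one']; simp

theorem exists_move {w u u' : Fin 2 → F} (h : dt w u ≠ 0) (h' : dt w u' ≠ 0) :
    ∃ B : Matrix.SpecialLinearGroup (Fin 2) F, ap B w = w ∧ ∃ c : F, c ≠ 0 ∧ ap B u = c • u' := by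
  obtain ⟨D, hD1, hD2⟩ := exists_basis h
  obtain ⟨D', hD1', hD2'⟩ := exists_basis h'
  refine ⟨D' * D⁻¹, ?_, dt w u * (dt w u')⁻¹, mul_ne_zero h (inv_ne_zero h'), ?_⟩
  · nth_rewrite 1 [← hD1]
    rw [ap_mul, ap_inv_ap, hD1']
  · have h1 : u = dt w u • ap D ![0, 1] := by rw [hD2, smul_smul, mul_inv_cancel₀ h, one_smul]
    nth_rewrite 1 [h1]
    rw [ap_smul, ap_mul, ap_inv_ap, hD2', smul_smul]

theorem dt_smul_left (w x : Fin 2 → F) (c : F) : dt (c • w) x = c * dt w x := by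
  simp only [dt, Pi.smul_apply, smul_eq_mul]; ring

theorem dt_self (w : Fin 2 → F) : dt w w = 0 := by unfold dt; ring

theorem line_eq_iff_dt (M : NatMod F V) {w u : Fin 2 → F} (hw : w ≠ 0) (hu : u ≠ 0) :
    M.line u = M.line w ↔ dt w u = 0 := by
  rw [M.line_eq_iff hu]
  constructor
  · rintro ⟨c, rfl⟩
    rw [dt_smul, dt_self, mul_zero]
  · exact fun h => exists_smul_of_dt hw h

theorem exists_dt {w : Fin 2 → F} (hw : w ≠ 0) : ∃ u, dt w u ≠ 0 := by
  obtain ⟨D, hD⟩ := exists_ap_e hw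
  refine ⟨ap D ![0, 1], ?_⟩
  have h1 := det_eq D
  rw [← hD]
  unfold dt
  rw [ap_zero', ap_zero', ap_one', ap_one']
  simp only [Matrix.cons_val_zero, Matrix.cons_val_one, mul_one, mul_zero, add_zero, zero_add]
  intro h2
  rw [show ent D 0 0 * ent D 1 1 - ent D 1 0 * ent D 0 1 = ent D 0 0 * ent D 1 1 - ent D 0 1 * ent D 1 0 by ring,
    h1] at h2
  exact one_ne_zero h2

theorem ne_zero_of_dt {w u : Fin 2 → F} (h : dt w u ≠ 0) : u ≠ 0 := by
  rintro rfl
  apply h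
  unfold dt
  simp

/-- the mutual pair `(V, V^h)`, with `R = V ∩ V^h` normalised by `h` and `V ≤ O₂(N(R))` -/
structure At (V R : Subgroup G) (h : G) : Prop where
  norm : h ∈ normalizer (R : Set G)
  mtl : Mutual V (cj h V)
  inf : V ⊓ cj h V = R
  VQ : V ≤ QQ R

theorem Mutual.cj {A B : Subgroup G} (h : Mutual A B) (g : G) : Mutual (cj g A) (cj g B) where
  le := by rw [normalizer_cj]; exact cj_mono h.le
  le' := by rw [normalizer_cj]; exact cj_mono h.le'
  ne := by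
    obtain ⟨v, hv, w, hw, hvw⟩ := h.ne
    refine ⟨g * v * g⁻¹, conj_mem_cj hv, g * w * g⁻¹, conj_mem_cj hw, fun h1 => hvw ?_⟩
    have h2 : g * (v * w) * g⁻¹ = g * (w * v) * g⁻¹ := by
      calc g * (v * w) * g⁻¹ = g * v * g⁻¹ * (g * w * g⁻¹) := by group
        _ = g * w * g⁻¹ * (g * v * g⁻¹) := h1
        _ = g * (w * v) * g⁻¹ := by group
    exact mul_left_cancel (mul_right_cancel h2)

theorem At.cj {R : Subgroup G} {h : G} (a : At V R h) {l : G} (hl : l ∈ normalizer (V : Set G)) :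
    At V (cj l R) (l * h * l⁻¹) := by
  have h1 : BTwo.cj (l * h * l⁻¹) V = BTwo.cj l (BTwo.cj h V) := by
    rw [cj_mul, cj_mul, cj_eq_self_iff.2 (inv_mem hl)]
  have h2 : BTwo.cj l V = V := cj_eq_self_iff.2 hl
  refine ⟨?_, ?_, ?_, ?_⟩
  · rw [← cj_eq_self_iff, cj_mul, cj_mul, cj_inv_cj, cj_eq_self_iff.2 a.norm]
  · have := Mutual.cj a.mtl l
    rwa [h2, ← h1] at this
  · rw [h1]
    nth_rewrite 1 [← h2]
    rw [← cj_inf, a.inf]
  · have := cj_mono (g := l) a.VQ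
    rwa [h2, cj_O2, ← normalizer_cj] at this

theorem At.inv {R : Subgroup G} {h : G} (a : At V R h) : At V R h⁻¹ := by
  have h3 : BTwo.cj h⁻¹ R = R := cj_eq_self_iff.2 (inv_mem a.norm)
  refine ⟨inv_mem a.norm, ?_, ?_, a.VQ⟩
  · have := (Mutual.cj a.mtl h⁻¹).symm
    rwa [cj_inv_cj] at this
  · have : BTwo.cj h⁻¹ (V ⊓ BTwo.cj h V) = BTwo.cj h⁻¹ V ⊓ V := by rw [cj_inf, cj_inv_cj]
    rw [inf_comm, ← this, a.inf, h3]

theorem At.V'Q {R : Subgroup G} {h : G} (a : At V R h) : BTwo.cj h V ≤ QQ R := by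
  have := cj_mono (g := h) a.VQ
  rwa [cj_eq_self_iff.2 (le_normalizer_O2 _ a.norm)] at this

section main

variable [Finite G] [Finite F] [CharP F 2] (M : NatMod F V) (S : Sylow 2 G)
  (hS : (S : Subgroup G) ≤ normalizer (V : Set G))

include M hS in
/-- `O₂(N(R))` normalises `V` -/
theorem At.Q_le {R : Subgroup G} {h : G} (a : At V R h) : QQ R ≤ normalizer (V : Set G) := by
  have : Fact (Nat.Prime 2) := ⟨Nat.prime_two⟩
  obtain ⟨-, w, w', hw, hw', hl, -⟩ := pair M (M.conj h) a.mtl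
  obtain ⟨S₁, h1, h2⟩ := M.exists_sylow S hS hw.ne
  have hR : M.line w = R := by rw [← hl]; exact a.inf
  rw [hR] at h2
  have h3 : IsPGroup 2 ((S₁ : Subgroup G) ⊔ QQ R : Subgroup G) :=
    S₁.isPGroup'.to_sup_of_normal_right' (O2_isPGroup _) (h2.trans (le_normalizer_O2 _))
  have h4 := S₁.is_maximal' h3 le_sup_left
  exact (le_sup_right.trans_eq h4).trans h1

include hS in
theorem At.data {R : Subgroup G} {h : G} (a : At V R h) :
    ∃ w, w ≠ 0 ∧ R = M.line w ∧ QQ R ≤ M.UW w ∧ (∀ B, ap B w = w → ∃ x ∈ BTwo.cj h V, M.Ind x B) ∧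
      ∀ x ∈ QQ R, ∀ v ∈ V, x * v * x⁻¹ * v⁻¹ ∈ R := by
  have hR : V ⊓ BTwo.cj h V = R := a.inf
  obtain ⟨w, hw, hl, hU, hf, -, hc⟩ := bridge M (M.conj h) a.mtl (Q := QQ R) a.V'Q (a.Q_le M S hS)
    (by
      show QQ R ≤ normalizer ((V ⊓ BTwo.cj h V : Subgroup G) : Set G)
      rw [hR]; exact BTwo.O2_le _) (O2_isPGroup _) (by
      intro g _ hg x hx
      have hg' : g ∈ normalizer ((V ⊓ BTwo.cj h V : Subgroup G) : Set G) := hg
      rw [hR] at hg'
      exact conj_mem_of_normalizer (le_normalizer_O2 _ hg') hx)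
  refine ⟨w, hw, ?_, hU, hf, ?_⟩
  · rw [← hl]; exact hR.symm
  · intro x hx v hv
    rw [← hR]
    exact hc x hx v hv

include M hS in
/-- an element of `O₂(N(R))` centralises `V` or has commutator space `R` -/
theorem At.full {R : Subgroup G} {h : G} (a : At V R h) {x : G} (hx : x ∈ QQ R) :
    (∀ v ∈ V, x * v = v * x) ∨ ∀ r ∈ R, ∃ v ∈ V, x * v * x⁻¹ * v⁻¹ = r := by
  obtain ⟨w, hw, rfl, hU, -, -⟩ := a.data M S hS
  obtain ⟨B, hB, hB'⟩ := hU hx
  obtain ⟨u, hu⟩ := exists_dt hw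
  have h1 : dt w (ap B u - u) = 0 := by
    have h2 : dt (ap B w) (ap B u) = dt w u := by
      unfold dt
      rw [ap_zero', ap_zero', ap_one', ap_one']
      linear_combination (w 0 * u 1 - w 1 * u 0) * det_eq B
    rw [hB] at h2
    unfold dt at h2 ⊢
    rw [Pi.sub_apply, Pi.sub_apply]
    linear_combination h2
  obtain ⟨c, hc⟩ := exists_smul_of_dt hw h1
  by_cases hc0 : c = 0
  · left
    intro v hv
    obtain ⟨y, rfl⟩ := (M.mem_iff v).1 hv
    obtain ⟨α, β, rfl⟩ := exists_comb hu y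
    rw [hc0, zero_smul, sub_eq_zero] at hc
    rw [← mul_inv_eq_iff_eq_mul, hB', ap_add, ap_smul, ap_smul, hB, hc]
  · right
    rintro _ ⟨d, rfl⟩
    refine ⟨M.e ((d * c⁻¹) • u), M.e_mem _, ?_⟩
    rw [hB', ← M.e_sub, ap_smul, ← smul_sub, hc, smul_smul, mul_assoc, inv_mul_cancel₀ hc0, mul_one]

include hS in
theorem bt_of_at {w₀ : Fin 2 → F} (hw₀ : w₀ ≠ 0) {h : G} (a : At V (M.line w₀) h) : BT V (pt M) := by
  -- the same at every point
  have hat : ∀ i : Pt M, ∃ h, At V (pt M i) h := by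
    rintro ⟨_, w, hw, rfl⟩
    obtain ⟨A, hA⟩ := exists_ap hw₀ hw
    obtain ⟨l, hl⟩ := M.lift A
    refine ⟨l * h * l⁻¹, ?_⟩
    have h1 : BTwo.cj l (M.line w₀) = M.line w := by
      have := M.cj_line_of_ind hl w₀
      rw [hA] at this
      exact this
    show At V (M.line w) (l * h * l⁻¹)
    rw [← h1]
    exact a.cj (M.mem_normalizer hl)
  have hmt : ∀ i : Pt M, ∀ h, At V (pt M i) h → ∀ j k : Pt M, j ≠ i → k ≠ i →
      ∃ v ∈ V, BTwo.cj (h * v * h⁻¹) (pt M j) = pt M k := by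
    rintro i h a ⟨_, u, hu, rfl⟩ ⟨_, u', hu', rfl⟩ hj hk
    obtain ⟨w, hw, hR, -, hf, -⟩ := a.data M S hS
    have hju : dt w u ≠ 0 := by
      intro h1
      apply hj
      apply Subtype.ext
      show M.line u = pt M i
      rw [hR, (line_eq_iff_dt M hw hu).2 h1]
    have hku : dt w u' ≠ 0 := by
      intro h1
      apply hk
      apply Subtype.ext
      show M.line u' = pt M i
      rw [hR, (line_eq_iff_dt M hw hu').2 h1]
    obtain ⟨B, hB, c, hc, hBu⟩ := exists_move hju hku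
    obtain ⟨x, hx, hxB⟩ := hf B hB
    obtain ⟨v, hv, rfl⟩ := hx
    refine ⟨v, hv, ?_⟩
    show BTwo.cj _ (M.line u) = M.line u'
    have h1 := M.cj_line_of_ind hxB u
    rw [hBu, M.line_smul hc] at h1
    exact h1
  refine
    { V_comm := fun a ha b hb => M.comm ha hb
      V_sq := fun a ha => M.sq ha
      R_le := ?_
      R_inf := ?_
      R_sup := ?_
      R_cov := ?_
      R_ne := ?_
      third := ?_
      perm := ?_
      V_Q := ?_
      QV := ?_
      QR := ?_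
      mt := ?_ }
  · rintro ⟨_, w, hw, rfl⟩
    exact M.line_le w
  · rintro ⟨_, w, hw, rfl⟩ ⟨_, u, hu, rfl⟩ hne
    have h1 : dt w u ≠ 0 := by
      intro h1
      apply hne
      apply Subtype.ext
      exact ((line_eq_iff_dt M hw hu).2 h1).symm
    rw [eq_bot_iff]
    rintro _ ⟨⟨c, hc⟩, ⟨d, hd⟩⟩
    have h2 : c • w = d • u := M.e_inj (hc.trans hd.symm)
    have h3 : d = 0 := by
      have h4 := congrArg (dt w) h2
      rw [dt_smul, dt_smul, dt_self, mul_zero] at h4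
      exact (mul_eq_zero.1 h4.symm).resolve_right h1
    rw [mem_bot, ← hd, h3, zero_smul, M.e_zero]
  · rintro ⟨_, w, hw, rfl⟩ ⟨_, u, hu, rfl⟩ hne
    have h1 : dt w u ≠ 0 := by
      intro h1
      apply hne
      apply Subtype.ext
      exact ((line_eq_iff_dt M hw hu).2 h1).symm
    apply le_antisymm
    · exact sup_le (M.line_le w) (M.line_le u)
    · intro v hv
      obtain ⟨x, rfl⟩ := (M.mem_iff v).1 hv
      obtain ⟨α, β, rfl⟩ := exists_comb h1 x
      rw [M.e_add]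
      exact mul_mem (mem_sup_left ⟨α, rfl⟩) (mem_sup_right ⟨β, rfl⟩)
  · intro v hv
    obtain ⟨x, rfl⟩ := (M.mem_iff v).1 hv
    by_cases hx : x = 0
    · refine ⟨⟨_, w₀, hw₀, rfl⟩, ?_⟩
      rw [hx, M.e_zero]
      exact one_mem _
    · exact ⟨⟨_, x, hx, rfl⟩, ⟨1, by rw [one_smul]⟩⟩
  · rintro ⟨_, w, hw, rfl⟩ h1
    have h2 : M.e w ∈ M.line w := ⟨1, by rw [one_smul]⟩
    have h3 : M.line w = ⊥ := h1
    rw [h3, mem_bot, M.e_eq_one] at h2
    exact hw h2
  · rintro ⟨_, w, hw, rfl⟩ ⟨_, u, hu, rfl⟩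
    by_cases hwu : dt w u = 0
    · obtain ⟨x, hx⟩ := exists_dt hw
      refine ⟨⟨_, x, ne_zero_of_dt hx, rfl⟩, ?_, ?_⟩
      · intro h1
        exact hx ((line_eq_iff_dt M hw (ne_zero_of_dt hx)).1 (congrArg Subtype.val h1))
      · intro h1
        have h2 : M.line x = M.line u := congrArg Subtype.val h1
        rw [(line_eq_iff_dt M hw hu).2 hwu, line_eq_iff_dt M hw (ne_zero_of_dt hx)] at h2
        exact hx h2
    · have h0 : w + u ≠ 0 := by
        intro h1
        apply hwu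
        have h2 := congrArg (dt w) h1
        rw [dt_add, dt_self, zero_add] at h2
        rw [h2]
        unfold dt
        simp
      refine ⟨⟨_, w + u, h0, rfl⟩, ?_, ?_⟩
      · intro h1
        have h2 : M.line (w + u) = M.line w := congrArg Subtype.val h1
        rw [line_eq_iff_dt M hw h0, dt_add, dt_self, zero_add] at h2
        exact hwu h2
      · intro h1
        have h2 : M.line (w + u) = M.line u := congrArg Subtype.val h1
        rw [line_eq_iff_dt M hu h0, dt_add, dt_self, add_zero] at h2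
        apply hwu
        have h3 : dt w u = - dt u w := by unfold dt; ring
        rw [h3, h2, neg_zero]
  · rintro g hg ⟨_, w, hw, rfl⟩
    exact ⟨⟨_, M.act g w, M.act_ne_zero hg hw, rfl⟩, M.cj_line hg w⟩
  · intro i
    obtain ⟨h, a⟩ := hat i
    exact a.VQ
  · intro i
    obtain ⟨h, a⟩ := hat i
    obtain ⟨w, hw, hR, -, -, hc⟩ := a.data M S hS
    exact hc
  · intro i g hg r hr
    obtain ⟨h, a⟩ := hat i
    obtain ⟨w, hw, hR, hU, -, -⟩ := a.data M S hS
    rw [hR] at hr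
    obtain ⟨c, rfl⟩ := hr
    obtain ⟨B, hB, hB'⟩ := hU hg
    rw [← mul_inv_eq_iff_eq_mul, hB', ap_smul, hB]
  · intro i
    obtain ⟨h, a⟩ := hat i
    refine ⟨h, a.norm, fun j k hj hk => ⟨hmt i h a j k hj hk, ?_⟩⟩
    obtain ⟨v, hv, h1⟩ := hmt i h⁻¹ a.inv j k hj hk
    rw [inv_inv] at h1
    exact ⟨v, hv, h1⟩

include hS in
/-- **the entry**: a mutual pair with `b = 2` gives `BT` -/
theorem bt {g : G} (h : Mutual V (NatPair.cj g V)) (hQ : V ≤ QQ (V ⊓ NatPair.cj g V)) : BT V (pt M) := by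
  obtain ⟨-, w, w', hw, hw', hl, -⟩ := pair M (M.conj g) h
  obtain ⟨x, hx, hxV⟩ := exists_conj M h
  refine bt_of_at M S hS hw.ne (h := x) ⟨?_, ?_, ?_, ?_⟩
  · rw [← hl]; exact hx
  · have h1 : BTwo.cj x V = NatPair.cj g V := hxV
    rw [h1]; exact h
  · have h1 : BTwo.cj x V = NatPair.cj g V := hxV
    rw [h1]; exact hl
  · rw [← hl]; exact hQ

include hS in
/-- an element of `O₂(N(R))`, `R` any point, centralises `V` or has commutator space `R` -/
theorem bt_full {g : G} (h : Mutual V (NatPair.cj g V)) (hQ : V ≤ QQ (V ⊓ NatPair.cj g V)) (i : Pt M) {x : G}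
    (hx : x ∈ QQ (pt M i)) : (∀ v ∈ V, x * v = v * x) ∨ ∀ r ∈ pt M i, ∃ v ∈ V, x * v * x⁻¹ * v⁻¹ = r := by
  obtain ⟨-, w, w', hw, hw', hl, -⟩ := pair M (M.conj g) h
  obtain ⟨y, hy, hyV⟩ := exists_conj M h
  have a : At V (M.line w) y := by
    refine ⟨?_, ?_, ?_, ?_⟩
    · rw [← hl]; exact hy
    · have h1 : BTwo.cj y V = NatPair.cj g V := hyV
      rw [h1]; exact h
    · have h1 : BTwo.cj y V = NatPair.cj g V := hyV
      rw [h1]; exact hl
    · rw [← hl]; exact hQ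
  obtain ⟨_, u, hu, rfl⟩ := i
  obtain ⟨A, hA⟩ := exists_ap hw.ne hu
  obtain ⟨l, hlA⟩ := M.lift A
  have h1 : BTwo.cj l (M.line w) = M.line u := by
    have := M.cj_line_of_ind hlA w
    rw [hA] at this
    exact this
  have a' : At V (M.line u) (l * y * l⁻¹) := by
    rw [← h1]
    exact a.cj (M.mem_normalizer hlA)
  exact a'.full M S hS hx

end main

end Cfsg.Agent.Omega.BTwo
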