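import Cfsg.Agent.Omega.BTwo.Key

/-!
# SQ3, `b = 2`: `|D / V| ≤ |Q₁ ∩ Q₂ / V| ≤ |U i / D|`, `|W i / R i| ≤ q² |U i / D|²`, field-free
-/

set_option autoImplicit false

namespace Cfsg.Agent.Omega.BTwo

open Subgroup

variable {G : Type*} [Group G] {ι : Type*} {V : Subgroup G} {R : ι → Subgroup G}

section count

variable (b : BT V R)
include b

/-- for `y ∈ R j`, `y ≠ 1`, the map `w ↦ [w, y]`, `W i → R i` is onto -/
theorem BT.onto {i j : ι} (hij : i ≠ j) {y r : G} (hy : y ∈ R j) (hy1 : y ≠ 1) (hr : r ∈ R i) :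
    ∃ w ∈ WW V (R i), w * y * w⁻¹ * y⁻¹ = r := by
  obtain ⟨k, hk⟩ := b.R_cov (r * y) (mul_mem (b.R_le i hr) (b.R_le j hy))
  have hki : k ≠ i := by
    rintro rfl
    have : y ∈ R k := by
      have h := mul_mem (inv_mem hr) hk
      rwa [inv_mul_cancel_left] at h
    exact b.not_mem (Ne.symm hij) hy hy1 this
  obtain ⟨w, hw, e⟩ := b.trans i (Ne.symm hij) hki
  refine ⟨w, hw, ?_⟩
  have h1 : w * y * w⁻¹ ∈ R k := by rw [← e]; exact conj_mem_cj hy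
  have h2 := b.QV i w (b.W_le_Q i hw) y (b.R_le j hy)
  have h3 : w * y * w⁻¹ * y⁻¹ * r⁻¹ ∈ R i := mul_mem h2 (inv_mem hr)
  have h4 : w * y * w⁻¹ * y⁻¹ * r⁻¹ ∈ R k := by
    have := mul_mem h1 (inv_mem hk)
    have e2 : w * y * w⁻¹ * (r * y)⁻¹ = w * y * w⁻¹ * y⁻¹ * r⁻¹ := by group
    rwa [e2] at this
  exact mul_inv_eq_one.1 (b.eq_one (Ne.symm hki) h3 h4)

/-- `V = R i × R j` -/
theorem BT.card_V [Finite G] (i : ι) : Nat.card V = Nat.card (R i) ^ 2 := by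
  obtain ⟨j, hj, -⟩ := b.third i i
  have h : Function.Bijective (fun x : R i × R j =>
      (⟨x.1 * x.2, mul_mem (b.R_le i x.1.2) (b.R_le j x.2.2)⟩ : V)) := by
    constructor
    · rintro ⟨⟨x, hx⟩, ⟨y, hy⟩⟩ ⟨⟨x', hx'⟩, ⟨y', hy'⟩⟩ h
      have h1 : x * y = x' * y' := congrArg Subtype.val h
      have h2 : x'⁻¹ * x = y' * y⁻¹ := by
        calc x'⁻¹ * x = x'⁻¹ * (x * y) * y⁻¹ := by group
          _ = x'⁻¹ * (x' * y') * y⁻¹ := by rw [h1]
          _ = y' * y⁻¹ := by group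
      have h3 : x'⁻¹ * x = 1 := b.eq_one (Ne.symm hj) (mul_mem (inv_mem hx') hx) (by
        rw [h2]; exact mul_mem hy' (inv_mem hy))
      have h4 : y' * y⁻¹ = 1 := by rw [← h2]; exact h3
      have e1 : x = x' := (inv_mul_eq_one.1 h3).symm
      have e2 : y = y' := (mul_inv_eq_one.1 h4).symm
      subst e1; subst e2; rfl
    · rintro ⟨v, hv⟩
      obtain ⟨x, hx, y, hy, e⟩ := b.exists_mul (Ne.symm hj) hv
      exact ⟨⟨⟨x, hx⟩, ⟨y, hy⟩⟩, Subtype.ext e.symm⟩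
  rw [← Nat.card_eq_of_bijective _ h, Nat.card_prod, ← b.card_R i j, sq]

theorem BT.relIndex_R_V [Finite G] (i : ι) : (R i).relIndex V = Nat.card (R i) := by
  have h1 : Nat.card (R i) * (R i).relIndex V = Nat.card V := by
    rw [← relIndex_bot_left, ← relIndex_bot_left]
    exact relIndex_mul_relIndex _ _ _ bot_le (b.R_le i)
  rw [b.card_V i, sq] at h1
  exact Nat.eq_of_mul_eq_mul_left Nat.card_pos h1

/-- `|W i : U i| = |R i|` -/
theorem BT.relIndex_U [Finite G] (i : ι) :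
    (UU V R i).relIndex (WW V (R i)) = Nat.card (R i) := by
  have e : (UU V R i).relIndex (WW V (R i)) = (centralizer (V : Set G)).relIndex (WW V (R i)) := by
    rw [UU, inf_comm, inf_relIndex_right]
  rw [e]
  apply le_antisymm (b.relIndex_U_le i)
  obtain ⟨j, hj, -⟩ := b.third i i
  obtain ⟨v, hv, hv1⟩ := b.exists_ne j
  -- `w ↦ [w, v]` is well defined on cosets and onto
  let f : WW V (R i) ⧸ (centralizer (V : Set G)).subgroupOf (WW V (R i)) → R i :=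
    Quotient.lift (fun w : WW V (R i) =>
      (⟨w * v * (w : G)⁻¹ * v⁻¹, b.QV i w (b.W_le_Q i w.2) v (b.R_le j hv)⟩ : R i)) (by
      intro w w' h
      have h' := QuotientGroup.leftRel_apply.1 h
      rw [mem_subgroupOf, mem_centralizer_iff] at h'
      have h2 := h' v (b.R_le j hv)
      apply Subtype.ext
      change (w : G) * v * (w : G)⁻¹ * v⁻¹ = w' * v * (w' : G)⁻¹ * v⁻¹
      push_cast at h2
      have h3 : (w : G) * v * (w : G)⁻¹ = w' * v * (w' : G)⁻¹ := by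
        calc (w : G) * v * (w : G)⁻¹ = w * (v * ((w : G)⁻¹ * w')) * (w' : G)⁻¹ := by group
          _ = w * (((w : G)⁻¹ * w') * v) * (w' : G)⁻¹ := by rw [h2]
          _ = w' * v * (w' : G)⁻¹ := by group
      rw [h3])
  have hf : Function.Surjective f := by
    rintro ⟨r, hr⟩
    obtain ⟨w, hw, e⟩ := b.onto (Ne.symm hj) hv hv1 hr
    exact ⟨QuotientGroup.mk ⟨w, hw⟩, Subtype.ext e⟩
  exact Nat.card_le_card_of_surjective f hf

/-! ### `λ_x`, `x ∈ CC` -/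

theorem BT.lamC_mem {x y : G} (hx : x ∈ CC R) (hy : y ∈ YY V R) : x * y * x⁻¹ * y⁻¹ ∈ V := by
  have h := b.CX (YY_le_XX hy) hx
  have e : x * y * x⁻¹ * y⁻¹ = (y * x * y⁻¹ * x⁻¹)⁻¹ := by group
  rw [e]
  exact inv_mem h

theorem BT.lamC_U {i : ι} {x u : G} (hx : x ∈ CC R) (hu : u ∈ UU V R i) : x * u * x⁻¹ * u⁻¹ ∈ R i :=
  b.WQ i (mem_iInf.1 hx i) (UU_le_WW i hu)

theorem BT.lamC_mul {x y y' : G} (hx : x ∈ CC R) (hy : y ∈ YY V R) (hy' : y' ∈ YY V R) :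
    x * (y * y') * x⁻¹ * (y * y')⁻¹ = (x * y * x⁻¹ * y⁻¹) * (x * y' * x⁻¹ * y'⁻¹) := by
  have h := mem_centralizer_iff.1 (YY_le_cen hy) _ (b.lamC_mem hx hy')
  calc x * (y * y') * x⁻¹ * (y * y')⁻¹
      = (x * y * x⁻¹ * y⁻¹) * (y * (x * y' * x⁻¹ * y'⁻¹)) * y⁻¹ := by group
    _ = (x * y * x⁻¹ * y⁻¹) * (x * y' * x⁻¹ * y'⁻¹ * y) * y⁻¹ := by rw [h]
    _ = _ := by group

/-- equivariance -/
theorem BT.lamC_conj {x y g : G} (hx : x ∈ CC R) (hy : y ∈ YY V R) (hg : g ∈ XX V R) :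
    g * (x * y * x⁻¹ * y⁻¹) * g⁻¹ = x * (g * y * g⁻¹) * x⁻¹ * (g * y * g⁻¹)⁻¹ := by
  have hy' : g * y * g⁻¹ ∈ YY V R := conj_mem_of_normalizer (b.NV_le_NY (b.X_le_NV hg)) hy
  have hv := b.CX hg hx
  set v := g * x * g⁻¹ * x⁻¹ with hvdef
  have e1 : g * x * g⁻¹ = v * x := by rw [hvdef]; group
  set y' := g * y * g⁻¹ with hy'def
  have h4 := b.lamC_mem hx hy'
  have h5 := b.V_comm v hv _ h4
  have h3 := mem_centralizer_iff.1 (YY_le_cen hy') _ (inv_mem hv)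
  have e2 : g * (x * y * x⁻¹ * y⁻¹) * g⁻¹ = (g * x * g⁻¹) * y' * (g * x * g⁻¹)⁻¹ * y'⁻¹ := by
    rw [hy'def]; group
  rw [e2, e1]
  calc v * x * y' * (v * x)⁻¹ * y'⁻¹
      = v * (x * y' * x⁻¹ * y'⁻¹) * (y' * v⁻¹) * y'⁻¹ := by group
    _ = (x * y' * x⁻¹ * y'⁻¹) * v * (v⁻¹ * y') * y'⁻¹ := by rw [h5, h3]
    _ = x * y' * x⁻¹ * y'⁻¹ := by group

/-- `[g, λ_x(y)] = λ_x([g, y])` -/
theorem BT.lamC_comm {x y g : G} (hx : x ∈ CC R) (hy : y ∈ YY V R) (hg : g ∈ XX V R) :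
    g * (x * y * x⁻¹ * y⁻¹) * g⁻¹ * (x * y * x⁻¹ * y⁻¹)⁻¹ =
      x * (g * y * g⁻¹ * y⁻¹) * x⁻¹ * (g * y * g⁻¹ * y⁻¹)⁻¹ := by
  have hy' : g * y * g⁻¹ ∈ YY V R := conj_mem_of_normalizer (b.NV_le_NY (b.X_le_NV hg)) hy
  rw [b.lamC_conj hx hy hg, b.lamC_mul hx hy' (inv_mem hy)]
  congr 1
  -- `λ_x(y⁻¹) = λ_x(y)⁻¹`
  have h1 := b.lamC_mul hx hy (inv_mem hy)
  rw [mul_inv_cancel] at h1
  have h2 : (1 : G) = (x * y * x⁻¹ * y⁻¹) * (x * y⁻¹ * x⁻¹ * y⁻¹⁻¹) := by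
    rw [← h1]; group
  exact (eq_inv_of_mul_eq_one_right h2.symm).symm

/-- an element of `W j` outside `C(V)` -/
theorem BT.exists_moving (j : ι) : ∃ w ∈ WW V (R j), w ∉ UU V R j := by
  obtain ⟨i, hij, -⟩ := b.third j j
  obtain ⟨k, hkj, hki⟩ := b.third j i
  obtain ⟨w, hw, e⟩ := b.trans j hij hkj
  refine ⟨w, hw, fun h => hki ?_⟩
  refine b.R_index (e.symm.trans ?_)
  exact cj_eq_self_iff.2 (b.cen_le_N i (UU_le_cen j h))

/-- **(L)** if `[x, u] ≠ 1` for some `u ∈ U i` then `[x, U i] = R i` -/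
theorem BT.lamC_full {i : ι} {x u : G} (hx : x ∈ CC R) (hu : u ∈ UU V R i)
    (h1 : x * u * x⁻¹ * u⁻¹ ≠ 1) {r : G} (hr : r ∈ R i) : ∃ u' ∈ UU V R i, x * u' * x⁻¹ * u'⁻¹ = r := by
  obtain ⟨j, hj, -⟩ := b.third i i
  obtain ⟨w, hw, hwU⟩ := b.exists_moving j
  have hl := b.lamC_U hx hu
  -- `y = [w, l] ≠ 1`
  set l := x * u * x⁻¹ * u⁻¹ with hldef
  have hy : w * l * w⁻¹ * l⁻¹ ∈ R j := b.QV j w (b.W_le_Q j hw) l (b.R_le i hl)
  have hy1 : w * l * w⁻¹ * l⁻¹ ≠ 1 := by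
    intro h
    rw [mul_inv_eq_one, mul_inv_eq_iff_eq_mul] at h
    have h2 := b.reg (b.W_le_Q j hw) (b.R_le i hl) (b.not_mem (Ne.symm hj) hl h1) h
    apply hwU
    refine ⟨hw, ?_⟩
    change w ∈ centralizer (V : Set G)
    rw [mem_centralizer_iff]
    exact fun v hv => (h2 v hv).symm
  obtain ⟨w', hw', e⟩ := b.onto (Ne.symm hj) hy hy1 hr
  have hu1 : w * u * w⁻¹ * u⁻¹ ∈ UU V R j := b.WU' hw hu
  have hu2 := b.WU' hw' hu1
  refine ⟨_, hu2, ?_⟩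
  rw [← b.lamC_comm hx (UU_le_YY j hu1) (W_le_X V R i hw'),
    ← b.lamC_comm hx (UU_le_YY i hu) (W_le_X V R j hw)]
  exact e

theorem BT.pairingC (i : ι) : Pairing (CC R) (UU V R i) (R i) where
  comm := fun _ hg _ hw => b.lamC_U hg hw
  cA := fun _ hg => b.QR i _ (mem_iInf.1 hg i)
  cW := fun w hw => b.QR i w (b.W_le_Q i (UU_le_WW i hw))

end count

section

variable (b : BTC V R)
include b

/-- **`|Q₁ ∩ Q₂ : V| ≤ |U i : D|`** -/
theorem BTC.relIndex_CC_le [Finite G] (i : ι) :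
    V.relIndex (CC R) ≤ (DD V R).relIndex (UU V R i) := by
  obtain ⟨ξ, r, hr⟩ := b.exists_char i
  refine (b.pairingC i).relIndex_le ξ ?_ ?_ ?_
  · intro w hw w' hw'
    exact V_le_D V R (b.R_le i (b.WU (UU_le_WW i hw) hw'))
  · intro a ha n hn hnD
    have : (⟨a * n * a⁻¹ * n⁻¹, (b.pairingC i).comm a ha n hn⟩ : R i) = 1 := by
      apply Subtype.ext
      change a * n * a⁻¹ * n⁻¹ = 1
      rw [b.C_comm ha (b.D_le_C hnD)]
      group
    rw [this, map_one]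
  · intro x hx h
    refine b.cen_CU (i := i) hx fun u hu => ?_
    by_contra hne
    have h1 : x * u * x⁻¹ * u⁻¹ ≠ 1 := by
      intro h2
      rw [mul_inv_eq_one, mul_inv_eq_iff_eq_mul] at h2
      exact hne h2
    obtain ⟨u', hu', e⟩ := b.lamC_full hx hu h1 r.2
    apply hr
    have h3 := h u' hu'
    have h4 : (⟨x * u' * x⁻¹ * u'⁻¹, (b.pairingC i).comm x hx u' hu'⟩ : R i) = r := Subtype.ext e
    rwa [h4] at h3

/-- `|D : V| ≤ |U i : D|` -/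
theorem BTC.relIndex_D_le [Finite G] (i : ι) :
    V.relIndex (DD V R) ≤ (DD V R).relIndex (UU V R i) :=
  (relIndex_le_of_le_right b.D_le_C (index_ne_zero_of_finite)).trans (b.relIndex_CC_le i)

/-- **`|W i : R i| = q² |U i : D| |D : V| ≤ q² |U i : D|²`** -/
theorem BTC.relIndex_W_le [Finite G] (i : ι) :
    (R i).relIndex (WW V (R i)) ≤ Nat.card (R i) ^ 2 * (DD V R).relIndex (UU V R i) ^ 2 := by
  have h1 : (R i).relIndex V * V.relIndex (WW V (R i)) = (R i).relIndex (WW V (R i)) :=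
    relIndex_mul_relIndex _ _ _ (b.R_le i) (V_le_WW V (R i))
  have h2 : V.relIndex (DD V R) * (DD V R).relIndex (WW V (R i)) = V.relIndex (WW V (R i)) :=
    relIndex_mul_relIndex _ _ _ (V_le_D V R) (D_le_W V R i)
  have h3 : (DD V R).relIndex (UU V R i) * (UU V R i).relIndex (WW V (R i)) =
      (DD V R).relIndex (WW V (R i)) :=
    relIndex_mul_relIndex _ _ _ (b.D_le_U i) (UU_le_WW i)
  rw [← h1, ← h2, ← h3, b.relIndex_R_V i, b.relIndex_U i]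
  calc Nat.card (R i) * (V.relIndex (DD V R) * ((DD V R).relIndex (UU V R i) * Nat.card (R i)))
      = Nat.card (R i) ^ 2 * (V.relIndex (DD V R) * (DD V R).relIndex (UU V R i)) := by ring
    _ ≤ Nat.card (R i) ^ 2 * ((DD V R).relIndex (UU V R i) * (DD V R).relIndex (UU V R i)) := by
      gcongr
      exact b.relIndex_D_le i
    _ = _ := by ring

/-- `Z(W i) = R i` gives `Q i = W i C_G(W i)` -/
theorem BTC.Q_le [Finite G] (i : ι)
    (hrad : ∀ w ∈ WW V (R i), (∀ w' ∈ WW V (R i), w * w' = w' * w) → w ∈ R i) :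
    QQ (R i) = WW V (R i) ⊔ centralizer (WW V (R i) : Set G) := by
  apply le_antisymm
  · intro g hg
    obtain ⟨w, hw, h⟩ := b.Q_eq i hrad g hg
    have h2 : w⁻¹ * g ∈ centralizer (WW V (R i) : Set G) := by
      rw [mem_centralizer_iff]
      exact fun w' hw' => (h w' hw').symm
    have e : g = w * (w⁻¹ * g) := by group
    rw [e]
    exact mul_mem_sup hw h2
  · exact sup_le (b.W_le_Q i) (b.cen_W_le_Q i)

end

end Cfsg.Agent.Omega.BTwo
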