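import Cfsg.Agent.Omega.BTwo.Coord
import Cfsg.Agent.Omega.BTwo.Cen
import Cfsg.Agent.StdEven.Syl
import Cfsg.Agent.Lib.NormalAbelian

/-!
# THEOREM F6 (bb OMEGA 13299): `C_G(z) ≤ N_G(R)` for `z ∈ R`, field automorphisms in `S` allowed

* `Cz.scalar`: an element of `N(V)` which normalises `R i`, `R j` and is trivial on `U j / D` acts on `R i` as a scalar.
* `Cz.O_le_cen`: a 2-subgroup `O` of `N(V) ∩ N(R i)` with `[O, C(R i)] ≤ Q i` centralises `R i`.
* `Cz.cen_V`: a 2-element of `N(V)` which normalises `R i`, `R j` and centralises `R i` centralises `V`.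
* `Cz.main`: `K = C_G(z)`, `O = O₂(K)`, `C_K(O) ≤ O` give `O ≤ Q i`, `Z(O) = R i` and `K ≤ N(R i)`.
-/

set_option autoImplicit false

namespace Cfsg.Agent.Omega.BTwo.Cz

open Subgroup

universe u v w

variable {G : Type u} [Group G] {ι : Type w} {V : Subgroup G} {R : ι → Subgroup G} {i j : ι}

section scalar

variable {F : Type v} [Field F] {v : F → F → G} {w1 w2 : F → G}

/-- the action of an element of `N(V) ∩ N(R i) ∩ N(R j)` on `V` and `W i` -/
theorem semi (c : Coord V R i j v w1 w2) (b : BT V R) {x : G} (hi : cj x (R i) = R i)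
    (hj : cj x (R j) = R j) : ∃ τ ρ σ : F → F, (∀ p, v (τ p) 0 = x * v p 0 * x⁻¹) ∧
      (∀ p, v 0 (ρ p) = x * v 0 p * x⁻¹) ∧
      (∀ s p q, (x * w1 s * x⁻¹) * v p q * (x * w1 s * x⁻¹)⁻¹ = v (p + σ s * q) q) ∧
      ∀ s q, τ (s * q) = σ s * ρ q := by
  have hR1 : ∀ p, ∃ q, v q 0 = x * v p 0 * x⁻¹ := by
    intro p
    rw [← c.mem_R1, ← hi]
    exact conj_mem_cj ((c.mem_R1 _).2 ⟨p, rfl⟩)
  have hR2 : ∀ p, ∃ q, v 0 q = x * v 0 p * x⁻¹ := by
    intro p
    rw [← c.mem_R2, ← hj]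
    exact conj_mem_cj ((c.mem_R2 _).2 ⟨p, rfl⟩)
  have hW : ∀ s, ∃ t, ∀ p q, (x * w1 s * x⁻¹) * v p q * (x * w1 s * x⁻¹)⁻¹ = v (p + t * q) q := by
    intro s
    apply c.W1_act
    rw [← b.cj_WW hi]
    exact conj_mem_cj (c.w1_mem s)
  choose τ hτ using hR1
  choose ρ hρ using hR2
  choose σ hσ using hW
  refine ⟨τ, ρ, σ, hτ, hρ, hσ, fun s q => ?_⟩
  have e1 : x * (w1 s * v 0 q * (w1 s)⁻¹) * x⁻¹ =
      (x * w1 s * x⁻¹) * (x * v 0 q * x⁻¹) * (x * w1 s * x⁻¹)⁻¹ := by group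
  rw [c.w1_act, ← hρ q, hσ] at e1
  have e2 : v (0 + s * q) q = v (s * q) 0 * v 0 q := by
    rw [← c.v_add, zero_add, add_zero, zero_add]
  rw [e2] at e1
  have e3 : x * (v (s * q) 0 * v 0 q) * x⁻¹ = (x * v (s * q) 0 * x⁻¹) * (x * v 0 q * x⁻¹) := by group
  rw [e3, ← hτ, ← hρ, ← c.v_add, add_zero, zero_add, zero_add] at e1
  exact (c.v_inj e1).1

/-- an element of `N(V)` which normalises `R i`, `R j` and is trivial on `U j / D` acts on `R i` as a scalar -/
theorem scalar [Finite F] [CharP F 2] (c : Coord V R i j v w1 w2) (b : BT V R) (hU : ¬ UU V R j ≤ DD V R)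
    {x : G} (hx : x ∈ normalizer (V : Set G)) (hi : cj x (R i) = R i) (hj : cj x (R j) = R j)
    (ht : ∀ u ∈ UU V R j, x * u * x⁻¹ * u⁻¹ ∈ DD V R) :
    ∃ κ : F, ∀ p, x * v p 0 * x⁻¹ = v (κ * p) 0 := by
  obtain ⟨M, _, _, p1, p2, ym⟩ := c.exists_yMod b
  obtain ⟨τ, ρ, σ, hτ, hρ, hσ, hrel⟩ := semi c b hi hj
  -- an element of `U j` outside `D`
  obtain ⟨u0, hu0, hu0'⟩ := SetLike.not_le_iff_exists.1 hU
  have hm0 : p2 u0 ≠ 0 := fun h => hu0' ((ym.ker2 u0 hu0).1 h)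
  set m0 := p2 u0 with hm0def
  have hxi : ∀ u ∈ UU V R i, x * u * x⁻¹ ∈ UU V R i := fun u hu => by
    rw [← b.cj_UU hx hi]; exact conj_mem_cj hu
  have hxj : ∀ u ∈ UU V R j, x * u * x⁻¹ ∈ UU V R j := fun u hu => by
    rw [← b.cj_UU hx hj]; exact conj_mem_cj hu
  have hp2 : ∀ u ∈ UU V R j, p2 (x * u * x⁻¹) = p2 u := by
    intro u hu
    have e : x * u * x⁻¹ = (x * u * x⁻¹ * u⁻¹) * u := by group
    rw [e, ym.mul2 _ (b.D_le_U j (ht u hu)) _ hu, (ym.ker2 _ (b.D_le_U j (ht u hu))).2 (ht u hu), zero_add]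
  -- `x` acts on `U i / D`
  have hp1 : ∀ m ∈ UU V R i, ∀ m' ∈ UU V R i, p1 m = p1 m' → p1 (x * m * x⁻¹) = p1 (x * m' * x⁻¹) := by
    intro m hm m' hm' e
    have h1 : m * m'⁻¹ ∈ DD V R := by
      rw [← ym.ker1 _ (mul_mem hm (inv_mem hm')), ym.mul1 _ hm _ (inv_mem hm'), e,
        ← ym.mul1 _ hm' _ (inv_mem hm'), mul_inv_cancel, ym.ker1 _ (one_mem _)]
      exact one_mem _
    have h2 : x * (m * m'⁻¹) * x⁻¹ ∈ DD V R := conj_mem_of_normalizer (b.NV_le_ND hx) h1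
    have e2 : x * m * x⁻¹ = x * (m * m'⁻¹) * x⁻¹ * (x * m' * x⁻¹) := by group
    rw [e2, ym.mul1 _ (b.D_le_U i h2) _ (hxi _ hm'), (ym.ker1 _ (b.D_le_U i h2)).2 h2, zero_add]
  have hkey : ∀ s, s ≠ 0 → ∃ m ∈ UU V R i, p1 m = m0 ∧ p1 (x * m * x⁻¹) = (σ s * s⁻¹) • m0 := by
    intro s hs
    obtain ⟨u, hu, hpu⟩ := ym.surj2 (s⁻¹ • m0)
    refine ⟨w1 s * u * (w1 s)⁻¹ * u⁻¹, b.WU' (c.w1_mem s) hu, ?_, ?_⟩
    · rw [ym.act12 s u hu, hpu, smul_smul, mul_inv_cancel₀ hs, one_smul]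
    · have hw : x * w1 s * x⁻¹ ∈ WW V (R i) := by
        rw [← b.cj_WW hi]; exact conj_mem_cj (c.w1_mem s)
      set y := x * w1 s * x⁻¹ with hy
      set u' := x * u * x⁻¹ with hu'
      have hu'' : u' ∈ UU V R j := hxj u hu
      have e1 : x * (w1 s * u * (w1 s)⁻¹ * u⁻¹) * x⁻¹ = y * u' * y⁻¹ * u'⁻¹ := by
        rw [hy, hu']; group
      have h3 := b.same hw (c.w1_mem (σ s)) (fun r hr => by
        obtain ⟨p, q, rfl⟩ := (c.mem_V r).1 hr
        rw [hσ, c.w1_act]) (UU_le_YY j hu'')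
      have e2 : y * u' * y⁻¹ * u'⁻¹ =
          (y * u' * y⁻¹ * (w1 (σ s) * u' * (w1 (σ s))⁻¹)⁻¹) * (w1 (σ s) * u' * (w1 (σ s))⁻¹ * u'⁻¹) := by
        group
      rw [e1, e2, ym.mul1 _ (b.D_le_U i h3) _ (b.WU' (c.w1_mem _) hu''),
        (ym.ker1 _ (b.D_le_U i h3)).2 h3, zero_add, ym.act12 _ _ hu'', hp2 u hu, hpu, smul_smul]
  have hσ1 : ∀ s, s ≠ 0 → σ s = σ 1 * s := by
    intro s hs
    obtain ⟨m, hm, e1, e2⟩ := hkey s hs
    obtain ⟨m', hm', e1', e2'⟩ := hkey 1 one_ne_zero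
    have h := hp1 m hm m' hm' (e1.trans e1'.symm)
    rw [e2, e2', inv_one, mul_one, ← sub_eq_zero, ← sub_smul, smul_eq_zero] at h
    rcases h with h | h
    · rw [← sub_eq_zero.1 h, mul_assoc, inv_mul_cancel₀ hs, mul_one]
    · exact absurd h hm0
  refine ⟨σ 1 * ρ 1, fun p => ?_⟩
  by_cases hp : p = 0
  · rw [hp, mul_zero, c.v_zero, mul_one, mul_inv_cancel]
  · rw [← hτ]
    congr 1
    have := hrel p 1
    rw [mul_one] at this
    rw [this, hσ1 p hp]
    ring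

theorem scalar_pow {f : F → G} {x : G} {κ : F} (h : ∀ p, x * f p * x⁻¹ = f (κ * p)) (n : ℕ) (p : F) :
    x ^ n * f p * (x ^ n)⁻¹ = f (κ ^ n * p) := by
  induction n with
  | zero => simp
  | succ n ih =>
    have e : x ^ (n + 1) * f p * (x ^ (n + 1))⁻¹ = x * (x ^ n * f p * (x ^ n)⁻¹) * x⁻¹ := by
      rw [pow_succ']; group
    rw [e, ih, h, pow_succ', mul_assoc]

/-- a 2-element acting as a scalar acts trivially -/
theorem scalar_one [CharP F 2] {f : F → G} (hf : Function.Injective f) {x : G} {n : ℕ} (hn : x ^ 2 ^ n = 1)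
    {κ : F} (h : ∀ p, x * f p * x⁻¹ = f (κ * p)) : ∀ p, x * f p * x⁻¹ = f p := by
  have h1 := scalar_pow h (2 ^ n) 1
  rw [hn, one_mul, inv_one, mul_one, mul_one] at h1
  have h2 : κ ^ 2 ^ n = 1 := (hf h1).symm
  have h3 : κ = 1 := by
    have h4 : (κ - 1) ^ 2 ^ n = 0 := by
      have : ExpChar F 2 := ExpChar.prime Nat.prime_two
      rw [sub_pow_char_pow, h2, one_pow, sub_self]
    exact sub_eq_zero.1 (pow_eq_zero_iff (by positivity) |>.1 h4)
  intro p
  rw [h, h3, one_mul]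

/-- a 2-subgroup `O` of `N(V) ∩ N(R i)` with `[O, C(R i)] ≤ Q i` centralises `R i` -/
theorem O_le_cen [Finite F] [CharP F 2] (c : Coord V R i j v w1 w2) (b : BT V R) (hU : ¬ UU V R j ≤ DD V R)
    {O : Subgroup G} (hO : IsPGroup 2 O) (hV : O ≤ normalizer (V : Set G))
    (hR : O ≤ normalizer (R i : Set G))
    (hc : ∀ x ∈ O, ∀ g ∈ centralizer (R i : Set G), x * g * x⁻¹ * g⁻¹ ∈ QQ (R i)) :
    O ≤ centralizer (R i : Set G) := by
  intro x hx
  have hi : cj x (R i) = R i := cj_eq_self_iff.2 (hR hx)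
  obtain ⟨k, hk⟩ := b.perm x (hV hx) j
  have hki : k ≠ i := by
    rintro rfl
    exact c.ne (b.R_index (cj_injective (hi.trans hk.symm)))
  obtain ⟨w, hw, hwk⟩ := b.trans i hki c.ne.symm
  have hwQ := b.W_le_Q i hw
  have h1 : cj (w * x) (R j) = R j := by rw [cj_mul, hk, hwk]
  have h2 : cj (w * x) (R i) = R i := by rw [cj_mul, hi, cj_eq_self_iff.2 (b.W_le_N i hw)]
  have h3 : w * x ∈ normalizer (V : Set G) := mul_mem (b.W_le_NV i hw) (hV hx)
  have h4 : ∀ u ∈ UU V R j, (w * x) * u * (w * x)⁻¹ * u⁻¹ ∈ DD V R := by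
    intro u hu
    rw [← b.UK c.ne]
    have huV : u ∈ centralizer (V : Set G) := UU_le_cen j hu
    have huR : u ∈ centralizer (R i : Set G) := centralizer_le (b.R_le i) huV
    refine mem_inf.2 ⟨?_, b.Q_le_K i ?_⟩
    · refine mul_mem ?_ (inv_mem hu)
      rw [← b.cj_UU h3 h1]
      exact conj_mem_cj hu
    · have e : (w * x) * u * (w * x)⁻¹ * u⁻¹ =
          (w * (x * u * x⁻¹ * u⁻¹) * w⁻¹) * (w * (u * w⁻¹ * u⁻¹)) := by group
      rw [e]
      exact mul_mem (mul_mem (mul_mem hwQ (hc x hx u huR)) (inv_mem hwQ))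
        (mul_mem hwQ (conj_mem_of_normalizer (le_normalizer_O2 _ (b.cen_le_N i huV)) (inv_mem hwQ)))
  obtain ⟨κ, hκ⟩ := scalar c b hU h3 h2 h1 h4
  have hκ' : ∀ p, x * v p 0 * x⁻¹ = v (κ * p) 0 := by
    intro p
    rw [← hκ p]
    have h5 : x * v p 0 * x⁻¹ ∈ R i := by
      rw [← hi]; exact conj_mem_cj ((c.mem_R1 _).2 ⟨p, rfl⟩)
    have h6 := b.conj_R hwQ h5
    rw [← h6]; group
  obtain ⟨n, hn⟩ := hO ⟨x, hx⟩
  have hn' : x ^ 2 ^ n = 1 := congrArg Subtype.val hn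
  have h7 := scalar_one (f := fun p => v p 0) (fun p q h => (c.v_inj h).1) hn' hκ'
  rw [mem_centralizer_iff]
  intro r hr
  obtain ⟨p, rfl⟩ := (c.mem_R1 r).1 hr
  exact (mul_inv_eq_iff_eq_mul.1 (h7 p)).symm

/-- a 2-element of `N(R i) ∩ N(R j)` which centralises `R i` centralises `V` -/
theorem cen_V [CharP F 2] (c : Coord V R i j v w1 w2) (b : BT V R) {x : G} (hi : x ∈ centralizer (R i : Set G))
    (hj : cj x (R j) = R j) {n : ℕ} (hn : x ^ 2 ^ n = 1) : x ∈ centralizer (V : Set G) := by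
  have hi' : cj x (R i) = R i := by
    rw [cj_eq_self_iff]
    refine le_normalizer_of (K := centralizer (R i : Set G)) (fun k hk r hr => ?_) hi
    rw [← mem_centralizer_iff.1 hk r hr, mul_inv_cancel_right]
    exact hr
  obtain ⟨τ, ρ, σ, hτ, hρ, hσ, hrel⟩ := semi c b hi' hj
  have h0 : ∀ p, τ p = p := by
    intro p
    have h1 := hτ p
    rw [← mem_centralizer_iff.1 hi (v p 0) ((c.mem_R1 _).2 ⟨p, rfl⟩), mul_inv_cancel_right] at h1
    exact (c.v_inj h1).1
  have h1 : ∀ q, ρ q = (σ 1)⁻¹ * q := by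
    intro q
    have h2 := hrel 1 q
    rw [h0, one_mul] at h2
    have h3 : σ 1 ≠ 0 := by
      intro h3
      have h4 := hrel 1 1
      rw [h0, h3, zero_mul, mul_one] at h4
      exact one_ne_zero h4
    calc ρ q = (σ 1)⁻¹ * (σ 1 * ρ q) := by rw [← mul_assoc, inv_mul_cancel₀ h3, one_mul]
      _ = (σ 1)⁻¹ * q := by rw [← h2]
  have h2 := scalar_one (f := fun p => v 0 p) (fun p q h => (c.v_inj h).2) hn
    (κ := (σ 1)⁻¹) (fun p => by rw [← hρ, h1])
  rw [mem_centralizer_iff]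
  intro y hy
  obtain ⟨p, q, rfl⟩ := (c.mem_V y).1 hy
  have e1 : v p q = v p 0 * v 0 q := by rw [← c.v_add, add_zero, zero_add]
  have e2 := h2 q
  have e3 := mem_centralizer_iff.1 hi (v p 0) ((c.mem_R1 _).2 ⟨p, rfl⟩)
  rw [e1]
  calc v p 0 * v 0 q * x = v p 0 * (v 0 q * x) := by group
    _ = v p 0 * (x * v 0 q) := by rw [← mul_inv_eq_iff_eq_mul.1 e2]
    _ = (v p 0 * x) * v 0 q := by group
    _ = x * (v p 0 * v 0 q) := by rw [e3]; group

/-- a 2-element of `N(V)` which centralises `R i` acts trivially on `V / R i` -/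
theorem comm_mem [CharP F 2] (c : Coord V R i j v w1 w2) (b : BT V R) {T : Subgroup G} (hT : IsPGroup 2 T)
    (hV : T ≤ normalizer (V : Set G)) (hC : T ≤ centralizer (R i : Set G)) (hW : WW V (R i) ≤ T) :
    ∀ m ∈ V, ∀ t ∈ T, t * m * t⁻¹ * m⁻¹ ∈ R i := by
  intro m hm t ht
  obtain ⟨k, hk⟩ := b.perm t (hV ht) j
  have hi : cj t (R i) = R i := by
    rw [cj_eq_self_iff]
    refine le_normalizer_of (K := centralizer (R i : Set G)) (fun k hk r hr => ?_) (hC ht)
    rw [← mem_centralizer_iff.1 hk r hr, mul_inv_cancel_right]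
    exact hr
  have hki : k ≠ i := by
    rintro rfl
    exact c.ne (b.R_index (cj_injective (hi.trans hk.symm)))
  obtain ⟨w, hw, hwk⟩ := b.trans i hki c.ne.symm
  have h1 : cj (w * t) (R j) = R j := by rw [cj_mul, hk, hwk]
  have hwt : w * t ∈ T := mul_mem (hW hw) ht
  obtain ⟨n, hn⟩ := hT ⟨_, hwt⟩
  have h2 := cen_V c b (hC hwt) h1 (n := n) (congrArg Subtype.val hn)
  have h3 : t * m * t⁻¹ = w⁻¹ * m * w := by
    have h4 := mem_centralizer_iff.1 h2 m hm
    have h5 : w * t * m * t⁻¹ = m * w := by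
      calc w * t * m * t⁻¹ = (w * t * m) * t⁻¹ := rfl
        _ = (m * (w * t)) * t⁻¹ := by rw [h4]
        _ = m * w := by group
    calc t * m * t⁻¹ = w⁻¹ * (w * t * m * t⁻¹) := by group
      _ = w⁻¹ * m * w := by rw [h5]; group
  rw [h3]
  have h6 := b.QV i w⁻¹ (b.W_le_Q i (inv_mem hw)) m hm
  rwa [inv_inv] at h6

end scalar

/-- a nontrivial section `B / A` has a nontrivial fixed point under a 2-group -/
theorem exists_fixed_mod [Finite G] {T B A : Subgroup G} (hT : IsPGroup 2 T) (hBT : B ≤ T)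
    (hB : T ≤ normalizer (B : Set G)) (hA : T ≤ normalizer (A : Set G)) (hne : ¬ B ≤ A) :
    ∃ m ∈ B, m ∉ A ∧ ∀ t ∈ T, t * m * t⁻¹ * m⁻¹ ∈ A := by
  have : Fact (Nat.Prime 2) := ⟨Nat.prime_two⟩
  have hnA : (A.subgroupOf T).Normal := normal_subgroupOf_of_le_normalizer hA
  have hnB : (B.subgroupOf T).Normal := normal_subgroupOf_of_le_normalizer hB
  have hp : IsPGroup 2 (T ⧸ A.subgroupOf T) := hT.to_quotient _
  have : Group.IsNilpotent (T ⧸ A.subgroupOf T) := hp.isNilpotent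
  let N : Subgroup (T ⧸ A.subgroupOf T) := (B.subgroupOf T).map (QuotientGroup.mk' (A.subgroupOf T))
  have hN : N.Normal := hnB.map _ (QuotientGroup.mk'_surjective _)
  have hN1 : N ≠ ⊥ := by
    intro h
    apply hne
    intro x hx
    have h1 : QuotientGroup.mk' (A.subgroupOf T) ⟨x, hBT hx⟩ ∈ N := ⟨⟨x, hBT hx⟩, hx, rfl⟩
    rw [h, mem_bot] at h1
    exact (QuotientGroup.eq_one_iff (⟨x, hBT hx⟩ : T)).1 h1
  have h2 := Lib.NormalAbelian.normal_inf_center_ne_bot N hN1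
  obtain ⟨⟨y, hy⟩, hy1⟩ := Subgroup.ne_bot_iff_exists_ne_one.1 h2
  obtain ⟨⟨m, hm, rfl⟩, hyc⟩ := mem_inf.1 hy
  refine ⟨m, hm, fun h => hy1 ?_, fun t ht => ?_⟩
  · apply Subtype.ext
    exact (QuotientGroup.eq_one_iff m).2 h
  · have h3 := mem_center_iff.1 hyc (QuotientGroup.mk' (A.subgroupOf T) ⟨t, ht⟩)
    rw [← map_mul, ← map_mul] at h3
    have h4 : QuotientGroup.mk' (A.subgroupOf T) (⟨t, ht⟩ * m * (⟨t, ht⟩ : T)⁻¹ * m⁻¹) = 1 := by
      rw [mul_assoc, map_mul, h3, ← map_mul]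
      rw [show m * ⟨t, ht⟩ * ((⟨t, ht⟩ : T)⁻¹ * m⁻¹) = 1 by group, map_one]
    have h5 := (QuotientGroup.eq_one_iff ((⟨t, ht⟩ : T) * m * (⟨t, ht⟩ : T)⁻¹ * m⁻¹)).1 h4
    exact h5

/-- `C_G(z)` and `R`: the part of the argument after `O₂(C_G(z)) ≤ C(R i)` -/
theorem core [Finite G] (b : BT V R) {i : ι} {z : G} (hz : z ∈ R i) {T : Subgroup G}
    (hO : O2 (centralizer {z}) ≤ centralizer (R i : Set G))
    (hOc : ∀ g ∈ centralizer {z}, g ∈ centralizer (O2 (centralizer {z}) : Set G) → g ∈ O2 (centralizer {z}))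
    (hT : IsPGroup 2 T) (hTC : T ≤ centralizer (R i : Set G)) (hQT : QQ (R i) ≤ T)
    (hFr : ∀ n ∈ normalizer (R i : Set G), ∃ c ∈ centralizer (R i : Set G), c * n ∈ normalizer (T : Set G))
    (hE' : ∀ m ∈ V, ∀ t ∈ T, t * m * t⁻¹ * m⁻¹ ∈ R i)
    (hE : ∀ m ∈ QQ (R i), (∀ t ∈ T, t * m * t⁻¹ * m⁻¹ ∈ R i) → m ∈ V) :
    O2 (centralizer {z}) ≤ QQ (R i) ∧
      O2 (centralizer {z}) ⊓ centralizer (O2 (centralizer {z}) : Set G) = R i ∧
      centralizer {z} ≤ normalizer (R i : Set G) := by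
  have hCK : centralizer (R i : Set G) ≤ centralizer {z} := centralizer_le (Set.singleton_subset_iff.2 hz)
  set K := centralizer {z} with hK
  set O := O2 K with hOdef
  have hCN : centralizer (R i : Set G) ≤ normalizer (R i : Set G) := by
    refine le_normalizer_of fun k hk r hr => ?_
    rw [← mem_centralizer_iff.1 hk r hr, mul_inv_cancel_right]
    exact hr
  have hOQ : O ≤ QQ (R i) :=
    le_O2_of_chain (A := O) (B := centralizer (R i : Set G)) (C := centralizer (R i : Set G)) hO le_rfl hCN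
      (O2_isPGroup _) (fun g hg a ha => conj_mem_of_normalizer (le_normalizer_O2 K (hCK hg)) ha)
      (fun g hg a ha => mul_mem (mul_mem hg ha) (inv_mem hg))
      (fun g hg a ha => conj_mem_of_normalizer (normalizer_le_normalizer_centralizer _ hg) ha)
  have hVK : ∀ a ∈ V, a ∈ K := by
    intro a ha
    rw [hK, mem_centralizer_iff]
    rintro _ rfl
    exact b.V_comm _ (b.R_le i hz) a ha
  have hRO : R i ≤ O := by
    intro a ha
    refine hOc a (hVK a (b.R_le i ha)) ?_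
    rw [mem_centralizer_iff]
    intro o ho
    exact (mem_centralizer_iff.1 (hO ho) a ha).symm
  set B := O ⊓ centralizer (O : Set G) with hB
  have hRB : R i ≤ B := fun a ha => mem_inf.2 ⟨hRO ha, by
    rw [mem_centralizer_iff]
    intro o ho
    exact (mem_centralizer_iff.1 (hO ho) a ha).symm⟩
  have hKO : K ≤ normalizer (O : Set G) := le_normalizer_O2 K
  have hKB : K ≤ normalizer (B : Set G) := by
    intro g hg
    rw [← cj_eq_self_iff, hB, cj_inf, ← centralizer_cj, cj_eq_self_iff.2 (hKO hg)]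
  have hBR : B ≤ R i := by
    by_contra h
    obtain ⟨m, hmB, hmR, hmt⟩ := exists_fixed_mod hT (inf_le_left.trans (hOQ.trans hQT))
      (hTC.trans (hCK.trans hKB)) (hTC.trans hCN) h
    have hmV : m ∈ V := hE m (hOQ (mem_inf.1 hmB).1) hmt
    have hOV : O ≤ centralizer (V : Set G) := by
      intro o ho
      obtain ⟨k, hk⟩ := b.R_cov m hmV
      have hki : k ≠ i := by rintro rfl; exact hmR hk
      have hoQ := hOQ ho
      obtain ⟨l, hl⟩ := b.perm o (b.Q_le_NV i hoQ) k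
      have h1 : m ∈ R l := by
        rw [← hl, mem_cj]
        have := mem_centralizer_iff.1 (mem_inf.1 hmB).2 o ho
        rw [mul_assoc, ← this]
        rwa [inv_mul_cancel_left]
      have h2 : l = k := by
        by_contra h3
        exact hmR (by rw [b.eq_one h3 h1 hk]; exact one_mem _)
      rw [h2] at hl
      exact b.mem_cen_Q hki hoQ hl
    have hVB : V ≤ B := by
      intro a ha
      have h1 : a ∈ centralizer (O : Set G) := by
        rw [mem_centralizer_iff]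
        intro o ho
        exact (mem_centralizer_iff.1 (hOV ho) a ha).symm
      exact mem_inf.2 ⟨hOc a (hVK a ha) h1, h1⟩
    have hWB : WW V (R i) ≤ B := by
      refine iSup_le fun h => ?_
      obtain ⟨c, hc, hcn⟩ := hFr h h.2
      set n := c * (h : G) with hn
      have hnR : n ∈ normalizer (R i : Set G) := mul_mem (hCN hc) h.2
      have hnV : n ∈ normalizer (V : Set G) := by
        refine mem_normalizer_of_conj fun a ha => ?_
        refine hE _ (conj_mem_of_normalizer (le_normalizer_O2 _ hnR) (b.V_Q i ha)) fun t ht => ?_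
        have h1 := hE' a ha _ (conj_inv_mem_of_normalizer hcn ht)
        have h2 := conj_mem_of_normalizer hnR h1
        have e : n * (n⁻¹ * t * n * a * (n⁻¹ * t * n)⁻¹ * a⁻¹) * n⁻¹ =
            t * (n * a * n⁻¹) * t⁻¹ * (n * a * n⁻¹)⁻¹ := by group
        rwa [e] at h2
      have e1 : (h : G) = c⁻¹ * n := by rw [hn, inv_mul_cancel_left]
      rw [e1, cj_mul, cj_eq_self_iff.2 hnV]
      have h3 := cj_mono (g := c⁻¹) hVB
      rwa [cj_eq_self_iff.2 (hKB (hCK (inv_mem hc)))] at h3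
    obtain ⟨a, ha, ha1⟩ := b.exists_ne i
    obtain ⟨w, hw, y, hy, e⟩ := b.exists_comm i ha
    apply ha1
    rw [← e]
    have h4 := mem_centralizer_iff.1 (mem_inf.1 (hWB hw)).2 y (mem_inf.1 (hVB hy)).1
    rw [← h4]
    group
  have hBeq : B = R i := le_antisymm hBR hRB
  exact ⟨hOQ, hBeq, by rw [← hBeq]; exact hKB⟩

variable {F : Type v} [Field F] [Finite F] [CharP F 2] {v : F → F → G} {w1 w2 : F → G}

/-- **THEOREM F6.** `V` natural, `R i` a point, `z ∈ R i ∩ Z(S)`, `S` any Sylow subgroup of `G` normalising `V` and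
`R i` (field automorphisms allowed), `U j > D`, `C_{Q i / R i}(S ∩ C(R i)) ≤ V / R i`:
then `O₂(C_G(z)) ≤ Q i` has centre `R i` and `C_G(z) ≤ N_G(R i)`. -/
theorem main [Finite G] (c : Coord V R i j v w1 w2) (b : BT V R) (hU : ¬ UU V R j ≤ DD V R) (S : Sylow 2 G)
    (hSV : (S : Subgroup G) ≤ normalizer (V : Set G)) (hSR : (S : Subgroup G) ≤ normalizer (R i : Set G))
    {z : G} (hz : z ∈ R i) (hzS : (S : Subgroup G) ≤ centralizer {z})
    (hOc : ∀ g ∈ centralizer {z}, g ∈ centralizer (O2 (centralizer {z}) : Set G) → g ∈ O2 (centralizer {z}))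
    (hE : ∀ m ∈ QQ (R i), (∀ t ∈ (S : Subgroup G), t ∈ centralizer (R i : Set G) → t * m * t⁻¹ * m⁻¹ ∈ R i) →
      m ∈ V) :
    O2 (centralizer {z}) ≤ QQ (R i) ∧
      O2 (centralizer {z}) ⊓ centralizer (O2 (centralizer {z}) : Set G) = R i ∧
      centralizer {z} ≤ normalizer (R i : Set G) := by
  have : Fact (Nat.Prime 2) := ⟨Nat.prime_two⟩
  have hCK : centralizer (R i : Set G) ≤ centralizer {z} := centralizer_le (Set.singleton_subset_iff.2 hz)
  have hCN : centralizer (R i : Set G) ≤ normalizer (R i : Set G) := by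
    refine le_normalizer_of fun k hk r hr => ?_
    rw [← mem_centralizer_iff.1 hk r hr, mul_inv_cancel_right]
    exact hr
  -- a normal 2-subgroup of a subgroup containing `S` is in `S`
  have hnS : ∀ {L A : Subgroup G}, (S : Subgroup G) ≤ L → A ≤ L → IsPGroup 2 A → L ≤ normalizer (A : Set G) →
      A ≤ S := by
    intro L A hSL hAL hA hn
    have h1 : IsPGroup 2 ((S : Subgroup G) ⊔ A : Subgroup G) := by
      have h2 : IsPGroup 2 (S.subgroupOf L ⊔ A.subgroupOf L : Subgroup L) := by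
        have : (A.subgroupOf L).Normal := normal_subgroupOf_of_le_normalizer hn
        exact IsPGroup.to_sup_of_normal_right (S.isPGroup'.comap_of_injective _ L.subtype_injective)
          (hA.comap_of_injective _ L.subtype_injective)
      have h3 := h2.map L.subtype
      rwa [Subgroup.map_sup, subgroupOf_map_subtype, subgroupOf_map_subtype, inf_eq_left.2 hSL,
        inf_eq_left.2 hAL] at h3
    rw [← S.is_maximal' h1 le_sup_left]
    exact le_sup_right
  have hOS : O2 (centralizer {z}) ≤ (S : Subgroup G) :=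
    hnS hzS (O2_le _) (O2_isPGroup _) (le_normalizer_O2 _)
  have hQS : QQ (R i) ≤ (S : Subgroup G) := hnS hSR (O2_le _) (O2_isPGroup _) (le_normalizer_O2 _)
  have hQC : QQ (R i) ≤ centralizer (R i : Set G) := by
    intro g hg
    rw [mem_centralizer_iff]
    intro r hr
    exact (b.QR i g hg r hr).symm
  have hO : O2 (centralizer {z}) ≤ centralizer (R i : Set G) := by
    refine O_le_cen c b hU (O2_isPGroup _) (hOS.trans hSV) (hOS.trans hSR) fun x hx g hg => ?_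
    -- `[O, C(R i)] ≤ O ∩ C(R i) ≤ O₂(C(R i)) ≤ Q i`
    have h1 : O2 (centralizer {z}) ⊓ centralizer (R i : Set G) ≤ QQ (R i) :=
      le_O2_of_chain (A := O2 (centralizer {z}) ⊓ centralizer (R i : Set G)) (B := centralizer (R i : Set G))
        (C := centralizer (R i : Set G)) inf_le_right le_rfl hCN
        ((O2_isPGroup _).to_le inf_le_left)
        (fun g hg a ha => mem_inf.2 ⟨conj_mem_of_normalizer (le_normalizer_O2 _ (hCK hg)) (mem_inf.1 ha).1,
          mul_mem (mul_mem hg (mem_inf.1 ha).2) (inv_mem hg)⟩)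
        (fun g hg a ha => mul_mem (mul_mem hg ha) (inv_mem hg))
        (fun g hg a ha => conj_mem_of_normalizer (normalizer_le_normalizer_centralizer _ hg) ha)
    apply h1
    refine mem_inf.2 ⟨?_, ?_⟩
    · have e : x * g * x⁻¹ * g⁻¹ = x * (g * x⁻¹ * g⁻¹) := by group
      rw [e]
      exact mul_mem hx (conj_mem_of_normalizer (le_normalizer_O2 _ (hCK hg)) (inv_mem hx))
    · exact mul_mem (conj_mem_of_normalizer (normalizer_le_normalizer_centralizer _ (hSR (hOS hx))) hg)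
        (inv_mem hg)
  have hSyl : StdEven.Syl.IsSyl (S : Subgroup G) (normalizer (R i : Set G)) :=
    ⟨hSR, S.isPGroup', fun X hX _ hle => S.is_maximal' hX hle⟩
  have hT := hSyl.inf_normal hCN (normalizer_le_normalizer_centralizer _)
  refine core b hz hO hOc hT.two hT.le (le_inf hQS hQC) (fun n hn => ?_) ?_ fun m hm h => ?_
  · exact hT.frattini (normalizer_le_normalizer_centralizer _ hn)
  · exact comm_mem c b hT.two (inf_le_left.trans hSV) inf_le_right
      ((b.W_le_Q i).trans (le_inf hQS hQC))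
  · exact hE m hm fun t ht ht' => h t (mem_inf.2 ⟨ht, ht'⟩)

end Cfsg.Agent.Omega.BTwo.Cz
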