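import Cfsg.Agent.Omega.BTwo.Cz

/-!
# `U j > D`, and `C_G(r) ≤ N(R)` for all `r ∈ R#`, `R` TI (THEOREM F6, second part)

* `Cz.not_UU_le`: `U j > D` (`c ≥ 1`), from a Sylow 2-subgroup of `G` in `N(V) ∩ N(R i)`;
* `Cz.exists_move`: `N(V) ∩ N(R i)` is transitive on `R i - 1`;
* `Cz.tir`: `R i` is TI as soon as `C_G(z) ≤ N(R i)` for one `i` and one `1 ≠ z ∈ R i`.
-/

set_option autoImplicit false

namespace Cfsg.Agent.Omega.BTwo.Cz

open Subgroup

universe u v w

variable {G : Type u} [Group G] {ι : Type w} {V : Subgroup G} {R : ι → Subgroup G} {i j : ι}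

theorem le_or_le {A B C : Subgroup G} (h : ∀ x ∈ C, x ∈ A ∨ x ∈ B) : C ≤ A ∨ C ≤ B := by
  by_contra hcon
  rw [not_or, SetLike.not_le_iff_exists, SetLike.not_le_iff_exists] at hcon
  obtain ⟨⟨x, hx, hxA⟩, y, hy, hyB⟩ := hcon
  have hxB := (h x hx).resolve_left hxA
  have hyA := (h y hy).resolve_right hyB
  rcases h _ (mul_mem hx hy) with h1 | h1
  · exact hxA ((mul_mem_cancel_right hyA).1 h1)
  · exact hyB ((mul_mem_cancel_left hxB).1 h1)

/-- `c ≥ 1` -/
theorem not_UU_le [Finite G] (b : BTC V R) (S : Sylow 2 G) (hij : i ≠ j)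
    (hSV : (S : Subgroup G) ≤ normalizer (V : Set G)) (hSR : (S : Subgroup G) ≤ normalizer (R i : Set G)) :
    ¬ UU V R j ≤ DD V R := by
  intro hU
  have b' := b.toBT
  have hUk : ∀ k, UU V R k ≤ DD V R := by
    intro k
    obtain ⟨x, hx, hxk⟩ := b'.trans_one j k
    rw [← b'.cj_UU hx hxk, ← cj_eq_self_iff.2 (b'.NV_le_ND hx)]
    exact cj_mono hU
  have hD : DD V R ≤ V := by
    intro d hd
    refine b.lam_inj hd fun y hy => ?_
    rw [b'.Y_eq hij] at hy
    have hyD : y ∈ DD V R := (sup_le (hUk i) (hUk j)) hy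
    exact b'.lam_D hd hyD
  have hUV : ∀ k, UU V R k ≤ V := fun k => (hUk k).trans hD
  obtain ⟨h, hh, H⟩ := b'.mt i
  have hRV' : R i ≤ cj h V := by
    rw [← cj_eq_self_iff.2 hh]
    exact cj_mono (b'.R_le i)
  have key : ∀ x ∈ WW V (R i), x * x = 1 → x ∈ V ∨ x ∈ cj h V := by
    intro x hx hx2
    obtain ⟨v, hv, hxv⟩ := b'.W_fact (fun j k hj hk => (H j k hj hk).1) hh hx
    have hv0 := hUV i hxv
    set a := h * v * h⁻¹ with ha
    set v0 := a⁻¹ * x with hv0def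
    have haV : a ∈ cj h V := conj_mem_cj hv
    have haW : a ∈ WW V (R i) := cj_le_WW hh haV
    have e : x = a * v0 := by rw [hv0def, mul_inv_cancel_left]
    by_cases hR : v0 ∈ R i
    · right
      rw [e]
      exact mul_mem haV (hRV' hR)
    · left
      obtain ⟨k, hk⟩ := b'.R_cov v0 hv0
      have hki : k ≠ i := by rintro rfl; exact hR hk
      have ha2 : a * a = 1 := by
        rw [ha]
        have : h * v * h⁻¹ * (h * v * h⁻¹) = h * (v * v) * h⁻¹ := by group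
        rw [this, b'.V_sq v hv, mul_one, mul_inv_cancel]
      have hcom : a * v0 = v0 * a := by
        rw [e] at hx2
        have h1 : a * v0 = v0⁻¹ * a⁻¹ := by
          rw [← mul_inv_rev, eq_inv_iff_mul_eq_one]
          exact hx2
        rw [h1, b'.inv_eq hv0, inv_eq_of_mul_eq_one_left ha2]
      obtain ⟨l, hl⟩ := b'.perm a (b'.W_le_NV i haW) k
      have h1 : v0 ∈ R l := by
        rw [← hl, mem_cj, mul_assoc, ← hcom, inv_mul_cancel_left]
        exact hk
      have h2 : l = k := by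
        by_contra h3
        exact hR (by rw [b'.eq_one h3 h1 hk]; exact one_mem _)
      rw [h2] at hl
      rw [e]
      exact mul_mem (hUV i (b'.mem_cen hki haW hl)) hv0
  have hcard : ∀ n, Nat.card (cj n V) = Nat.card V := fun n => card_cj n V
  have two : ∀ n ∈ normalizer (R i : Set G), cj n V = V ∨ cj n V = cj h V := by
    intro n hn
    have h1 : ∀ x ∈ cj n V, x ∈ V ∨ x ∈ cj h V := by
      intro x hx
      refine key x (cj_le_WW hn hx) ?_
      rw [mem_cj] at hx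
      have h2 := b'.V_sq _ hx
      have e : x * x = n * (n⁻¹ * x * n * (n⁻¹ * x * n)) * n⁻¹ := by group
      rw [e, h2, mul_one, mul_inv_cancel]
    rcases le_or_le h1 with h2 | h2
    · exact Or.inl (eq_of_le_of_card_ge h2 (hcard n).ge)
    · exact Or.inr (eq_of_le_of_card_ge h2 (by rw [hcard n, hcard h]))
  have hne : cj h V ≠ V := by
    intro hcon
    obtain ⟨j', hj', -⟩ := b'.third i i
    obtain ⟨k, hki, hkj⟩ := b'.third i j'
    obtain ⟨⟨v, hv, hvk⟩, -⟩ := H j' k hj' hki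
    have h1 : h * v * h⁻¹ ∈ V := by rw [← hcon]; exact conj_mem_cj hv
    have h2 : cj (h * v * h⁻¹) (R j') = R j' :=
      cj_eq_self_iff.2 (b'.cen_le_N j' (b'.V_le_cen h1))
    rw [h2] at hvk
    exact hkj (b'.R_index hvk).symm
  have hrel : (normalizer (V : Set G) ⊓ normalizer (R i : Set G)).relIndex (normalizer (R i : Set G)) = 2 := by
    rw [relIndex_eq_two_iff]
    refine ⟨h, hh, fun n hn => ?_⟩
    by_cases h1 : n ∈ normalizer (V : Set G)
    · refine Or.inr ⟨⟨h1, hn⟩, fun h2 => hne ?_⟩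
      have h3 : cj (n * h) V = V := cj_eq_self_iff.2 h2.1
      rw [cj_mul] at h3
      exact cj_injective (h3.trans (cj_eq_self_iff.2 h1).symm)
    · refine Or.inl ⟨⟨?_, mul_mem hn hh⟩, fun h2 => h1 h2.1⟩
      have h2 : cj n V = cj h V := (two n hn).resolve_left fun h3 => h1 (cj_eq_self_iff.1 h3)
      change n * h ∈ normalizer (V : Set G)
      rw [← cj_eq_self_iff]
      rcases two _ (mul_mem hn hh) with h3 | h3
      · exact h3
      · exfalso
        rw [← h2, cj_mul] at h3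
        exact hne (cj_injective h3)
  have h1 := relIndex_dvd_of_le_left (L := normalizer (R i : Set G)) (le_inf hSV hSR)
  rw [hrel] at h1
  have : Fact (Nat.Prime 2) := ⟨Nat.prime_two⟩
  exact S.not_dvd_index (h1.trans (relIndex_dvd_index_of_le hSR))

variable {F : Type v} [Field F] [CharP F 2] {v : F → F → G} {w1 w2 : F → G}

/-- `N(V) ∩ N(R i)` is transitive on `R i - 1` -/
theorem exists_move (c : Coord V R i j v w1 w2) (b : BT V R) {r r' : G} (hr : r ∈ R i) (hr1 : r ≠ 1)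
    (hr' : r' ∈ R i) (hr1' : r' ≠ 1) :
    ∃ n ∈ normalizer (R i : Set G), n ∈ normalizer (V : Set G) ∧ n * r * n⁻¹ = r' := by
  obtain ⟨p, rfl⟩ := (c.mem_R1 r).1 hr
  obtain ⟨q, rfl⟩ := (c.mem_R1 r').1 hr'
  have hp : p ≠ 0 := by rintro rfl; exact hr1 c.v_zero
  have hq : q ≠ 0 := by rintro rfl; exact hr1' c.v_zero
  have ha : q * p⁻¹ ≠ 0 := mul_ne_zero hq (inv_ne_zero hp)
  refine ⟨hh w1 w2 (q * p⁻¹), cj_eq_self_iff.1 (c.hh_R1 b ha), b.X_le_NV (c.hh_mem_X b _), ?_⟩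
  rw [c.hh_act ha, mul_zero, mul_assoc, inv_mul_cancel₀ hp, mul_one]

/-- `C_G(r) ≤ N(R k)` for all `1 ≠ r ∈ R k`, all `k` -/
theorem cen_le (c : ∀ i j : ι, i ≠ j → ∃ (v : F → F → G) (w1 w2 : F → G), Coord V R i j v w1 w2) (b : BT V R)
    {z : G} (hz : z ∈ R i) (hz1 : z ≠ 1) (h : centralizer {z} ≤ normalizer (R i : Set G)) :
    ∀ k, ∀ r ∈ R k, r ≠ 1 → centralizer {r} ≤ normalizer (R k : Set G) := by
  -- conjugation
  have hcj : ∀ (x r : G) (k l : ι), cj x (R k) = R l → centralizer {r} ≤ normalizer (R k : Set G) →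
      centralizer {x * r * x⁻¹} ≤ normalizer (R l : Set G) := by
    intro x r k l hx hr y hy
    rw [← hx, normalizer_cj, mem_cj]
    apply hr
    rw [mem_centralizer_iff]
    intro s hs
    rw [Set.mem_singleton_iff.1 hs]
    have h1 := mem_centralizer_iff.1 hy _ (Set.mem_singleton _)
    have h2 : x⁻¹ * (x * r * x⁻¹ * y) * x = x⁻¹ * (y * (x * r * x⁻¹)) * x := by rw [h1]
    calc r * (x⁻¹ * y * x) = x⁻¹ * (x * r * x⁻¹ * y) * x := by group
      _ = x⁻¹ * (y * (x * r * x⁻¹)) * x := h2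
      _ = x⁻¹ * y * x * r := by group
  intro k r hr hr1
  obtain ⟨x, hx, hxk⟩ := b.trans_one k i
  obtain ⟨l, hl, -⟩ := b.third i i
  obtain ⟨v, w1, w2, c'⟩ := c i l (Ne.symm hl)
  have h1 : x * r * x⁻¹ ∈ R i := by rw [← hxk]; exact conj_mem_cj hr
  have h2 : x * r * x⁻¹ ≠ 1 := by
    intro h2
    apply hr1
    have : r = x⁻¹ * (x * r * x⁻¹) * x := by group
    rw [this, h2]; group
  obtain ⟨n, hn, -, hnz⟩ := exists_move c' b hz hz1 h1 h2
  have h3 := hcj n z i i (cj_eq_self_iff.2 hn) h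
  rw [hnz] at h3
  have h4 := hcj x⁻¹ _ i k (by rw [← hxk, cj_inv_cj]) h3
  have e : x⁻¹ * (x * r * x⁻¹) * x⁻¹⁻¹ = r := by group
  rwa [e] at h4

/-- `R k` is TI -/
theorem tir (c : ∀ i j : ι, i ≠ j → ∃ (v : F → F → G) (w1 w2 : F → G), Coord V R i j v w1 w2) (b : BT V R)
    {z : G} (hz : z ∈ R i) (hz1 : z ≠ 1) (h : centralizer {z} ≤ normalizer (R i : Set G)) (k : ι) (g r : G)
    (hr : r ∈ R k) (hr1 : r ≠ 1) (hg : g * r * g⁻¹ ∈ R k) : g ∈ normalizer (R k : Set G) := by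
  obtain ⟨l, hl, -⟩ := b.third k k
  obtain ⟨v, w1, w2, c'⟩ := c k l (Ne.symm hl)
  have h2 : g * r * g⁻¹ ≠ 1 := by
    intro h2
    apply hr1
    have : r = g⁻¹ * (g * r * g⁻¹) * g := by group
    rw [this, h2]; group
  obtain ⟨n, hn, -, hnz⟩ := exists_move c' b hg h2 hr hr1
  have h3 : n * g ∈ centralizer {r} := by
    rw [mem_centralizer_iff]
    intro s hs
    rw [Set.mem_singleton_iff.1 hs]
    have e : n * (g * r * g⁻¹) * n⁻¹ = n * g * r * (n * g)⁻¹ := by group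
    rw [e] at hnz
    exact (mul_inv_eq_iff_eq_mul.1 hnz).symm
  have h4 := cen_le c b hz hz1 h k r hr hr1 h3
  have h5 := mul_mem (inv_mem hn) h4
  rwa [inv_mul_cancel_left] at h5

end Cfsg.Agent.Omega.BTwo.Cz
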