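import Mathlib

/-!
Frame of the structure theorem for `b = 2`, one natural module (blueprint: bb OMEGA #10337, (1)-(4)).
Everything here is pure group theory; `V` is a subgroup of `G`, `Pt` its set of points (subgroups),
`W R` the group generated by the lines on the point `R`, `Q R` the 2-core of the normaliser of `R`.
-/

namespace Cfsg.Agent.Omega.BFrame

open Subgroup

variable {G : Type*} [Group G]

/-- the conjugate `g K g⁻¹` -/
def cj (g : G) (K : Subgroup G) : Subgroup G := K.map (MulAut.conj g).toMonoidHom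

theorem mem_cj {g x : G} {K : Subgroup G} : x ∈ cj g K ↔ g⁻¹ * x * g ∈ K := by
  unfold cj
  rw [Subgroup.mem_map]
  constructor
  · rintro ⟨y, hy, rfl⟩
    have : g⁻¹ * ((MulAut.conj g).toMonoidHom y) * g = y := by
      simp [MulAut.conj_apply, mul_assoc]
    rw [this]; exact hy
  · intro h
    exact ⟨g⁻¹ * x * g, h, by simp [MulAut.conj_apply, mul_assoc]⟩

theorem conj_mem_cj {g x : G} {K : Subgroup G} (h : x ∈ K) : g * x * g⁻¹ ∈ cj g K := by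
  rw [mem_cj]
  have : g⁻¹ * (g * x * g⁻¹) * g = x := by group
  rw [this]; exact h

theorem cj_one (K : Subgroup G) : cj 1 K = K := by
  ext x; rw [mem_cj]; simp

theorem cj_mul (g h : G) (K : Subgroup G) : cj (g * h) K = cj g (cj h K) := by
  ext x; rw [mem_cj, mem_cj, mem_cj]
  have : (g * h)⁻¹ * x * (g * h) = h⁻¹ * (g⁻¹ * x * g) * h := by group
  rw [this]

theorem cj_inv_cj (g : G) (K : Subgroup G) : cj g⁻¹ (cj g K) = K := by
  rw [← cj_mul]; simp [cj_one]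

theorem cj_cj_inv (g : G) (K : Subgroup G) : cj g (cj g⁻¹ K) = K := by
  rw [← cj_mul]; simp [cj_one]

theorem cj_mono (g : G) {K L : Subgroup G} (h : K ≤ L) : cj g K ≤ cj g L := by
  intro x hx; rw [mem_cj] at *; exact h hx

theorem cj_le_iff {g : G} {K L : Subgroup G} : cj g K ≤ cj g L ↔ K ≤ L :=
  ⟨fun h => by have := cj_mono g⁻¹ h; rwa [cj_inv_cj, cj_inv_cj] at this, cj_mono g⟩

theorem cj_injective (g : G) : Function.Injective (cj g : Subgroup G → Subgroup G) := by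
  intro K L h
  rw [← cj_inv_cj g K, h, cj_inv_cj]

theorem cj_inf (g : G) (K L : Subgroup G) : cj g (K ⊓ L) = cj g K ⊓ cj g L := by
  ext x; simp only [Subgroup.mem_inf, mem_cj]

theorem cj_eq_of_mem {g : G} {K : Subgroup G} (h : g ∈ K) : cj g K = K := by
  ext x; rw [mem_cj]
  constructor
  · intro hx
    have : x = g * (g⁻¹ * x * g) * g⁻¹ := by group
    rw [this]; exact K.mul_mem (K.mul_mem h hx) (K.inv_mem h)
  · intro hx
    exact K.mul_mem (K.mul_mem (K.inv_mem h) hx) h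

theorem cj_eq_of_normalizer {g : G} {K : Subgroup G} (h : g ∈ normalizer (K : Set G)) :
    cj g K = K := by
  ext x; rw [mem_cj]
  rw [Subgroup.mem_normalizer_iff] at h
  have := h (g⁻¹ * x * g)
  rw [this]
  have e : g * (g⁻¹ * x * g) * g⁻¹ = x := by group
  rw [e]

theorem mem_normalizer_of_cj {g : G} {K : Subgroup G} (h : cj g K = K) :
    g ∈ normalizer (K : Set G) := by
  rw [Subgroup.mem_normalizer_iff]
  intro x
  constructor
  · intro hx; rw [← h]; exact conj_mem_cj hx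
  · intro hx
    rw [← h, mem_cj] at hx
    have e : g⁻¹ * (g * x * g⁻¹) * g = x := by group
    rwa [e] at hx

theorem normalizer_iff_cj {g : G} {K : Subgroup G} :
    g ∈ normalizer (K : Set G) ↔ cj g K = K :=
  ⟨cj_eq_of_normalizer, mem_normalizer_of_cj⟩

theorem cj_eq_of_centralizes {g : G} {K : Subgroup G} (h : ∀ x ∈ K, g * x = x * g) :
    cj g K = K := by
  ext x; rw [mem_cj]
  constructor
  · intro hx
    have h1 := h _ hx
    have : x = g⁻¹ * x * g := by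
      have h2 : g * (g⁻¹ * x * g) = x * g := by group
      rw [h2] at h1
      have h3 : x = (g⁻¹ * x * g) := by
        have := congrArg (fun y => y * g⁻¹) h1
        simpa [mul_assoc] using this
      exact h3
    rw [this]; exact hx
  · intro hx
    have h1 := h _ hx
    have : g⁻¹ * x * g = x := by
      rw [mul_assoc, ← h1]; group
    rw [this]; exact hx

/-- stability of a subgroup under a generating family gives normalisation by the sup -/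
theorem cj_eq_of_le_normalizer {g : G} {H K : Subgroup G} (h : H ≤ normalizer (K : Set G))
    (hg : g ∈ H) : cj g K = K := cj_eq_of_normalizer (h hg)

/-- an element `g` such that `g K g⁻¹ ≤ K` and `g⁻¹ K g ≤ K` -/
theorem mem_normalizer_of {g : G} {K : Subgroup G} (h1 : ∀ x ∈ K, g * x * g⁻¹ ∈ K)
    (h2 : ∀ x ∈ K, g⁻¹ * x * g ∈ K) : g ∈ normalizer (K : Set G) := by
  rw [Subgroup.mem_normalizer_iff]
  intro x
  constructor
  · exact h1 x
  · intro hx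
    have := h2 _ hx
    have e : g⁻¹ * (g * x * g⁻¹) * g = x := by group
    rwa [e] at this

/-- normal form in a product of two subgroups, the first normalising the second -/
theorem mem_sup_iff {A B : Subgroup G} (h : ∀ a ∈ A, cj a B = B) {y : G} :
    y ∈ A ⊔ B ↔ ∃ a ∈ A, ∃ b ∈ B, a * b = y := by
  constructor
  · intro hy
    let K : Subgroup G :=
      { carrier := {y | ∃ a ∈ A, ∃ b ∈ B, a * b = y}
        one_mem' := ⟨1, A.one_mem, 1, B.one_mem, by simp⟩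
        mul_mem' := by
          rintro _ _ ⟨a, ha, b, hb, rfl⟩ ⟨c, hc, d, hd, rfl⟩
          refine ⟨a * c, A.mul_mem ha hc, c⁻¹ * b * c * d, ?_, by group⟩
          apply B.mul_mem _ hd
          have h1 := conj_mem_cj (g := c⁻¹) hb
          rw [h _ (A.inv_mem hc), inv_inv] at h1
          exact h1
        inv_mem' := by
          rintro _ ⟨a, ha, b, hb, rfl⟩
          refine ⟨a⁻¹, A.inv_mem ha, a * b⁻¹ * a⁻¹, ?_, by group⟩
          have h1 := conj_mem_cj (g := a) (B.inv_mem hb)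
          rwa [h _ ha] at h1 }
    have hK : A ⊔ B ≤ K := sup_le (fun a ha => ⟨a, ha, 1, B.one_mem, by simp⟩)
      (fun b hb => ⟨1, A.one_mem, b, hb, by simp⟩)
    exact hK hy
  · rintro ⟨a, ha, b, hb, rfl⟩
    exact Subgroup.mul_mem _ (Subgroup.mem_sup_left ha) (Subgroup.mem_sup_right hb)

/-- The frame. -/
structure Frame (V : Subgroup G) (Pt : Set (Subgroup G)) (W Q : Subgroup G → Subgroup G) :
    Prop where
  ne : Pt.Nonempty
  cjW : ∀ g, cj g V = V → ∀ R, W (cj g R) = cj g (W R)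
  cjQ : ∀ g R, Q (cj g R) = cj g (Q R)
  pt : ∀ g, cj g V = V → ∀ R ∈ Pt, cj g R ∈ Pt
  le : ∀ R ∈ Pt, R ≤ V
  V_le : ∀ R ∈ Pt, V ≤ W R
  W_le : ∀ R ∈ Pt, W R ≤ Q R
  W_nrm : ∀ R ∈ Pt, ∀ w ∈ W R, cj w V = V
  comm : ∀ R ∈ Pt, ∀ w ∈ W R, ∀ g ∈ Q R, w * g * w⁻¹ * g⁻¹ ∈ R
  sq : ∀ R ∈ Pt, ∀ w ∈ W R, w * w ∈ R
  disj : ∀ R ∈ Pt, ∀ S ∈ Pt, R ≠ S → ∀ x ∈ R, x ∈ S → x = 1
  trans : ∀ R ∈ Pt, ∀ S ∈ Pt, ∀ T ∈ Pt, R ≠ S → R ≠ T → ∃ w ∈ W R, cj w S = T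
  three : ∀ R ∈ Pt, ∀ S ∈ Pt, ∃ T ∈ Pt, T ≠ R ∧ T ≠ S
  two : ∀ R ∈ Pt, ∃ S ∈ Pt, S ≠ R
  /-- an element of `W S` fixing a second point is trivial on `V` -/
  reg : ∀ S ∈ Pt, ∀ R ∈ Pt, S ≠ R → ∀ w ∈ W S, cj w R = R → ∀ v ∈ V, w * v = v * w
  /-- (3): `U_S ∩ K_R ≤ Q_R` -/
  core : ∀ R ∈ Pt, ∀ S ∈ Pt, R ≠ S → ∀ u ∈ W S, (∀ v ∈ V, u * v = v * u) →
    (∀ w ∈ W R, u * w * u⁻¹ * w⁻¹ ∈ R) → u ∈ Q R

/-- `D` = intersection of all `W R` -/
def DD (Pt : Set (Subgroup G)) (W : Subgroup G → Subgroup G) : Subgroup G := ⨅ R ∈ Pt, W R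

/-- `X` = group generated by all `W R` -/
def XX (Pt : Set (Subgroup G)) (W : Subgroup G → Subgroup G) : Subgroup G := ⨆ R ∈ Pt, W R

/-- `U_R = C_{W_R}(V)` -/
def UU (V : Subgroup G) (W : Subgroup G → Subgroup G) (R : Subgroup G) : Subgroup G :=
  W R ⊓ centralizer (V : Set G)

/-- `Y` = group generated by all `U_R` -/
def YY (V : Subgroup G) (Pt : Set (Subgroup G)) (W : Subgroup G → Subgroup G) : Subgroup G :=
  ⨆ R ∈ Pt, UU V W R

variable {V : Subgroup G} {Pt : Set (Subgroup G)} {W Q : Subgroup G → Subgroup G}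

theorem mem_DD {x : G} : x ∈ DD Pt W ↔ ∀ R ∈ Pt, x ∈ W R := by
  unfold DD; simp [Subgroup.mem_iInf]

theorem le_XX {R : Subgroup G} (hR : R ∈ Pt) : W R ≤ XX Pt W := by
  unfold XX; exact le_iSup₂_of_le R hR le_rfl

theorem XX_le {K : Subgroup G} (h : ∀ R ∈ Pt, W R ≤ K) : XX Pt W ≤ K := by
  unfold XX; exact iSup₂_le h

theorem mem_UU {R : Subgroup G} {x : G} :
    x ∈ UU V W R ↔ x ∈ W R ∧ ∀ v ∈ V, x * v = v * x := by
  unfold UU
  rw [Subgroup.mem_inf, Subgroup.mem_centralizer_iff]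
  constructor
  · rintro ⟨h1, h2⟩; exact ⟨h1, fun v hv => (h2 v hv).symm⟩
  · rintro ⟨h1, h2⟩; exact ⟨h1, fun v hv => (h2 v hv).symm⟩

theorem le_YY {R : Subgroup G} (hR : R ∈ Pt) : UU V W R ≤ YY V Pt W := by
  unfold YY; exact le_iSup₂_of_le R hR le_rfl

theorem YY_le {K : Subgroup G} (h : ∀ R ∈ Pt, UU V W R ≤ K) : YY V Pt W ≤ K := by
  unfold YY; exact iSup₂_le h

namespace Frame

variable (F : Frame V Pt W Q)
include F

theorem R_le_W {R S : Subgroup G} (hR : R ∈ Pt) (hS : S ∈ Pt) : R ≤ W S :=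
  (F.le R hR).trans (F.V_le S hS)

theorem R_le_Q {R S : Subgroup G} (hR : R ∈ Pt) (hS : S ∈ Pt) : R ≤ Q S :=
  (F.R_le_W hR hS).trans (F.W_le S hS)

theorem V_le_Q {S : Subgroup G} (hS : S ∈ Pt) : V ≤ Q S :=
  (F.V_le S hS).trans (F.W_le S hS)

/-- `[g, w] ∈ R` for `w ∈ W R`, `g ∈ Q R` -/
theorem comm' {R : Subgroup G} (hR : R ∈ Pt) {w g : G} (hw : w ∈ W R) (hg : g ∈ Q R) :
    g * w * g⁻¹ * w⁻¹ ∈ R := by
  have := R.inv_mem (F.comm R hR w hw g hg)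
  have e : (w * g * w⁻¹ * g⁻¹)⁻¹ = g * w * g⁻¹ * w⁻¹ := by group
  rwa [e] at this

/-- elements of `Q R` normalise `R` -/
theorem Q_nrm_R {R : Subgroup G} (hR : R ∈ Pt) {g : G} (hg : g ∈ Q R) : cj g R = R := by
  apply cj_eq_of_normalizer
  have key : ∀ h ∈ Q R, ∀ r ∈ R, h * r * h⁻¹ ∈ R := by
    intro h hh r hr
    have h1 := F.comm' hR (F.R_le_W hR hR hr) hh
    have e : h * r * h⁻¹ = (h * r * h⁻¹ * r⁻¹) * r := by group
    rw [e]; exact R.mul_mem h1 hr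
  apply mem_normalizer_of (key g hg)
  intro r hr
  have := key g⁻¹ ((Q R).inv_mem hg) r hr
  rwa [inv_inv] at this

theorem W_nrm_R {R : Subgroup G} (hR : R ∈ Pt) {w : G} (hw : w ∈ W R) : cj w R = R :=
  F.Q_nrm_R hR (F.W_le R hR hw)

theorem cjW_of {g : G} (hg : cj g V = V) {R : Subgroup G} (h : cj g R = R) :
    cj g (W R) = W R := by
  rw [← F.cjW g hg, h]

theorem cjQ_of {g : G} {R : Subgroup G} (h : cj g R = R) : cj g (Q R) = Q R := by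
  rw [← F.cjQ, h]

theorem C_nrm_R {R : Subgroup G} (hR : R ∈ Pt) {c : G} (hc : ∀ v ∈ V, c * v = v * c) :
    cj c R = R := cj_eq_of_centralizes (fun x hx => hc x (F.le R hR hx))

theorem C_nrm_W {R : Subgroup G} (hR : R ∈ Pt) {c : G} (hc : ∀ v ∈ V, c * v = v * c) :
    cj c (W R) = W R := F.cjW_of (cj_eq_of_centralizes hc) (F.C_nrm_R hR hc)

theorem X_nrm_V {x : G} (hx : x ∈ XX Pt W) : cj x V = V := by
  have : XX Pt W ≤ normalizer (V : Set G) :=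
    XX_le (fun R hR w hw => mem_normalizer_of_cj (F.W_nrm R hR w hw))
  exact cj_eq_of_normalizer (this hx)

/-- 2-transitivity of `W R ⊔ W S` -/
theorem two_trans_aux {R S : Subgroup G} (hR : R ∈ Pt) (hS : S ∈ Pt) (hRS : R ≠ S)
    {R' : Subgroup G} (hR' : R' ∈ Pt) : ∃ x ∈ W R ⊔ W S, cj x R = R' := by
  by_cases h1 : R' = S
  · subst h1
    obtain ⟨T, hT, hTR, hTS⟩ := F.three R hR R' hR'
    obtain ⟨w1, hw1, e1⟩ := F.trans R' hR' R hR T hT (Ne.symm hRS) (Ne.symm hTS)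
    obtain ⟨w2, hw2, e2⟩ := F.trans R hR T hT R' hR' (Ne.symm hTR) hRS
    refine ⟨w2 * w1, (W R ⊔ W R').mul_mem (Subgroup.mem_sup_left hw2)
      (Subgroup.mem_sup_right hw1), ?_⟩
    rw [cj_mul, e1, e2]
  · obtain ⟨w, hw, e⟩ := F.trans S hS R hR R' hR' (Ne.symm hRS) (Ne.symm h1)
    exact ⟨w, Subgroup.mem_sup_right hw, e⟩

theorem two_trans {R S : Subgroup G} (hR : R ∈ Pt) (hS : S ∈ Pt) (hRS : R ≠ S)
    {R' S' : Subgroup G} (hR' : R' ∈ Pt) (hS' : S' ∈ Pt) (h' : R' ≠ S') :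
    ∃ x ∈ W R ⊔ W S, cj x R = R' ∧ cj x S = S' := by
  obtain ⟨x, hx, ex⟩ := F.two_trans_aux hR hS hRS hR'
  have hxV : cj x V = V := by
    have : W R ⊔ W S ≤ XX Pt W := sup_le (le_XX hR) (le_XX hS)
    exact F.X_nrm_V (this hx)
  set S'' := cj x S with hS''
  have hS''m : S'' ∈ Pt := F.pt x hxV S hS
  have hne : R' ≠ S'' := by
    intro h
    apply hRS
    apply cj_injective x
    rw [ex, h]
  obtain ⟨w, hw, ew⟩ := F.trans R' hR' S'' hS''m S' hS' hne h'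
  have hwX : w ∈ W R ⊔ W S := by
    rw [← ex, F.cjW x hxV, mem_cj] at hw
    have h2 : x⁻¹ * w * x ∈ W R ⊔ W S := Subgroup.mem_sup_left hw
    have e : w = x * (x⁻¹ * w * x) * x⁻¹ := by group
    rw [e]
    exact Subgroup.mul_mem _ (Subgroup.mul_mem _ hx h2) (Subgroup.inv_mem _ hx)
  refine ⟨w * x, Subgroup.mul_mem _ hwX hx, ?_, ?_⟩
  · rw [cj_mul, ex, F.W_nrm_R hR' hw]
  · rw [cj_mul, ← hS'', ew]

theorem XX_eq {R S : Subgroup G} (hR : R ∈ Pt) (hS : S ∈ Pt) (hRS : R ≠ S) :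
    XX Pt W = W R ⊔ W S := by
  apply le_antisymm
  · apply XX_le
    intro T hT w hw
    obtain ⟨x, hx, ex⟩ := F.two_trans_aux hR hS hRS hT
    have hxV : cj x V = V :=
      F.X_nrm_V ((sup_le (le_XX hR) (le_XX hS) : W R ⊔ W S ≤ XX Pt W) hx)
    rw [← ex, F.cjW x hxV, mem_cj] at hw
    have h2 : x⁻¹ * w * x ∈ W R ⊔ W S := Subgroup.mem_sup_left hw
    have e : w = x * (x⁻¹ * w * x) * x⁻¹ := by group
    rw [e]
    exact Subgroup.mul_mem _ (Subgroup.mul_mem _ hx h2) (Subgroup.inv_mem _ hx)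
  · exact sup_le (le_XX hR) (le_XX hS)

/-- `W R` normalises `W S ⊓ Q R` -/
theorem nrm_left {R S : Subgroup G} (hR : R ∈ Pt) (hS : S ∈ Pt) {w : G} (hw : w ∈ W R) :
    w ∈ normalizer ((W S ⊓ Q R : Subgroup G) : Set G) := by
  have key : ∀ h ∈ W R, ∀ d ∈ W S ⊓ Q R, h * d * h⁻¹ ∈ W S ⊓ Q R := by
    intro h hh d hd
    rw [Subgroup.mem_inf] at hd
    have h1 := F.comm R hR h hh d hd.2
    have e : h * d * h⁻¹ = (h * d * h⁻¹ * d⁻¹) * d := by group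
    rw [e, Subgroup.mem_inf]
    exact ⟨(W S).mul_mem (F.R_le_W hR hS h1) hd.1, (Q R).mul_mem (F.R_le_Q hR hR h1) hd.2⟩
  apply mem_normalizer_of (key w hw)
  intro d hd
  have := key w⁻¹ ((W R).inv_mem hw) d hd
  rwa [inv_inv] at this

/-- `W S` normalises `W S ⊓ Q R` -/
theorem nrm_right {R S : Subgroup G} (hR : R ∈ Pt) (hS : S ∈ Pt) {w : G} (hw : w ∈ W S) :
    w ∈ normalizer ((W S ⊓ Q R : Subgroup G) : Set G) := by
  have key : ∀ h ∈ W S, ∀ d ∈ W S ⊓ Q R, h * d * h⁻¹ ∈ W S ⊓ Q R := by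
    intro h hh d hd
    rw [Subgroup.mem_inf] at hd
    have h1 := F.comm' hS hd.1 (F.W_le S hS hh)
    have e : h * d * h⁻¹ = (h * d * h⁻¹ * d⁻¹) * d := by group
    rw [e, Subgroup.mem_inf]
    exact ⟨(W S).mul_mem (F.R_le_W hS hS h1) hd.1, (Q R).mul_mem (F.R_le_Q hS hR h1) hd.2⟩
  apply mem_normalizer_of (key w hw)
  intro d hd
  have := key w⁻¹ ((W S).inv_mem hw) d hd
  rwa [inv_inv] at this

theorem X_nrm_aux {R S : Subgroup G} (hR : R ∈ Pt) (hS : S ∈ Pt) {x : G}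
    (hx : x ∈ W R ⊔ W S) : cj x (W S ⊓ Q R) = W S ⊓ Q R := by
  have : W R ⊔ W S ≤ normalizer ((W S ⊓ Q R : Subgroup G) : Set G) :=
    sup_le (fun w hw => F.nrm_left hR hS hw) (fun w hw => F.nrm_right hR hS hw)
  exact cj_eq_of_normalizer (this hx)

theorem inf_eq_aux {R S R' S' : Subgroup G} (hR : R ∈ Pt) (hS : S ∈ Pt) (hRS : R ≠ S)
    (hR' : R' ∈ Pt) (hS' : S' ∈ Pt) (h' : R' ≠ S') : W S ⊓ Q R = W S' ⊓ Q R' := by
  obtain ⟨x, hx, e1, e2⟩ := F.two_trans hR hS hRS hR' hS' h'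
  have hxV : cj x V = V :=
    F.X_nrm_V ((sup_le (le_XX hR) (le_XX hS) : W R ⊔ W S ≤ XX Pt W) hx)
  rw [← F.X_nrm_aux hR hS hx, cj_inf, ← F.cjW x hxV, ← F.cjQ, e1, e2]

theorem inf_Q_eq {R S : Subgroup G} (hR : R ∈ Pt) (hS : S ∈ Pt) (hRS : R ≠ S) :
    W S ⊓ Q R = DD Pt W := by
  apply le_antisymm
  · intro x hx
    rw [mem_DD]
    intro T hT
    obtain ⟨T', hT', hne⟩ := F.two T hT
    rw [F.inf_eq_aux hR hS hRS hT' hT hne, Subgroup.mem_inf] at hx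
    exact hx.1
  · intro x hx
    rw [mem_DD] at hx
    exact Subgroup.mem_inf.2 ⟨hx S hS, F.W_le R hR (hx R hR)⟩

theorem inf_W_eq {R S : Subgroup G} (hR : R ∈ Pt) (hS : S ∈ Pt) (hRS : R ≠ S) :
    W R ⊓ W S = DD Pt W := by
  apply le_antisymm
  · rw [← F.inf_Q_eq hR hS hRS]
    intro x hx
    rw [Subgroup.mem_inf] at hx ⊢
    exact ⟨hx.2, F.W_le R hR hx.1⟩
  · intro x hx
    rw [mem_DD] at hx
    exact Subgroup.mem_inf.2 ⟨hx R hR, hx S hS⟩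

omit F in
theorem D_le_W {R : Subgroup G} (hR : R ∈ Pt) : DD Pt W ≤ W R := fun _ hx => mem_DD.1 hx R hR

theorem V_le_D : V ≤ DD Pt W := fun _ hx => mem_DD.2 (fun R hR => F.V_le R hR hx)

/-- `D` is abelian -/
theorem D_comm {d e : G} (hd : d ∈ DD Pt W) (he : e ∈ DD Pt W) :
    d * e = e * d := by
  obtain ⟨R, hR⟩ := F.ne
  obtain ⟨S, hS, hSR⟩ := F.two R hR
  have h1 := F.comm R hR d (mem_DD.1 hd R hR) e (F.W_le R hR (mem_DD.1 he R hR))
  have h2 := F.comm S hS d (mem_DD.1 hd S hS) e (F.W_le S hS (mem_DD.1 he S hS))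
  have h3 := F.disj R hR S hS hSR.symm _ h1 h2
  have : d * e = (d * e * d⁻¹ * e⁻¹) * (e * d) := by group
  rw [this, h3, one_mul]

theorem D_sq {d : G} (hd : d ∈ DD Pt W) : d * d = 1 := by
  obtain ⟨R, hR⟩ := F.ne
  obtain ⟨S, hS, hSR⟩ := F.two R hR
  exact F.disj R hR S hS hSR.symm _ (F.sq R hR d (mem_DD.1 hd R hR))
    (F.sq S hS d (mem_DD.1 hd S hS))

theorem V_comm {d e : G} (hd : d ∈ V) (he : e ∈ V) : d * e = e * d :=
  F.D_comm (F.V_le_D hd) (F.V_le_D he)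

theorem V_sq {d : G} (hd : d ∈ V) : d * d = 1 :=
  F.D_sq (F.V_le_D hd)

/-- `N(V)` normalises `D` -/
theorem N_nrm_D {g : G} (hg : cj g V = V) : cj g (DD Pt W) = DD Pt W := by
  have key : ∀ h : G, cj h V = V → cj h (DD Pt W) ≤ DD Pt W := by
    intro h hh x hx
    rw [mem_cj] at hx
    rw [mem_DD]
    intro R hR
    have hinv : cj h⁻¹ V = V := by
      have := cj_inv_cj h V
      rwa [hh] at this
    have h1 := mem_DD.1 hx (cj h⁻¹ R) (F.pt _ hinv R hR)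
    rw [F.cjW _ hinv, mem_cj] at h1
    have e : h⁻¹⁻¹ * (h⁻¹ * x * h) * h⁻¹ = x := by group
    rwa [e] at h1
  apply le_antisymm (key g hg)
  have hinv : cj g⁻¹ V = V := by
    have := cj_inv_cj g V
    rwa [hg] at this
  have := cj_mono g (key g⁻¹ hinv)
  rwa [cj_cj_inv] at this

theorem N_nrm_X {g : G} (hg : cj g V = V) : cj g (XX Pt W) = XX Pt W := by
  have key : ∀ h : G, cj h V = V → XX Pt W ≤ cj h (XX Pt W) := by
    intro h hh
    apply XX_le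
    intro R hR
    have hinv : cj h⁻¹ V = V := by
      have := cj_inv_cj h V
      rwa [hh] at this
    have h1 : W (cj h⁻¹ R) ≤ XX Pt W := le_XX (F.pt _ hinv R hR)
    have h2 := cj_mono h h1
    rwa [F.cjW _ hinv, cj_cj_inv] at h2
  apply le_antisymm _ (key g hg)
  have hinv : cj g⁻¹ V = V := by
    have := cj_inv_cj g V
    rwa [hg] at this
  have := cj_mono g (key g⁻¹ hinv)
  rwa [cj_cj_inv] at this

/-- `[x, d] ∈ V` for `x ∈ X`, `d ∈ D` -/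
theorem comm_X_D {x d : G} (hx : x ∈ XX Pt W) (hd : d ∈ DD Pt W) :
    x * d * x⁻¹ * d⁻¹ ∈ V := by
  -- the set of x normalising V with this property for all d is a subgroup
  let K : Subgroup G :=
    { carrier := {x | cj x V = V ∧ ∀ d ∈ DD Pt W, x * d * x⁻¹ * d⁻¹ ∈ V}
      one_mem' := ⟨cj_one V, fun d _ => by simp⟩
      mul_mem' := by
        rintro x y ⟨hx1, hx2⟩ ⟨hy1, hy2⟩
        refine ⟨by rw [cj_mul, hy1, hx1], fun d hd => ?_⟩
        have e : x * y * d * (x * y)⁻¹ * d⁻¹ =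
            (x * (y * d * y⁻¹ * d⁻¹) * x⁻¹) * (x * d * x⁻¹ * d⁻¹) := by group
        rw [e]
        apply V.mul_mem _ (hx2 d hd)
        have := conj_mem_cj (g := x) (hy2 d hd)
        rwa [hx1] at this
      inv_mem' := by
        rintro x ⟨hx1, hx2⟩
        have hinv : cj x⁻¹ V = V := by
          have := cj_inv_cj x V
          rwa [hx1] at this
        refine ⟨hinv, fun d hd => ?_⟩
        have e : x⁻¹ * d * x⁻¹⁻¹ * d⁻¹ = x⁻¹ * (x * d * x⁻¹ * d⁻¹)⁻¹ * x⁻¹⁻¹ := by group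
        rw [e]
        have := conj_mem_cj (g := x⁻¹) (V.inv_mem (hx2 d hd))
        rwa [hinv] at this }
  have hK : XX Pt W ≤ K := by
    apply XX_le
    intro R hR w hw
    refine ⟨F.W_nrm R hR w hw, fun d hd => ?_⟩
    exact F.le R hR (F.comm R hR w hw d (F.W_le R hR (mem_DD.1 hd R hR)))
  exact (hK hx).2 d hd

/-- `U R` -/
theorem D_le_U {R : Subgroup G} (hR : R ∈ Pt) : DD Pt W ≤ UU V W R := by
  intro d hd
  rw [mem_UU]
  exact ⟨mem_DD.1 hd R hR, fun v hv => F.D_comm hd (F.V_le_D hv)⟩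

theorem U_inf_W {R S : Subgroup G} (hR : R ∈ Pt) (hS : S ∈ Pt)
    (hRS : R ≠ S) : UU V W R ⊓ W S = DD Pt W := by
  apply le_antisymm
  · intro x hx
    rw [Subgroup.mem_inf, mem_UU] at hx
    rw [← F.inf_W_eq hR hS hRS]
    exact Subgroup.mem_inf.2 ⟨hx.1.1, hx.2⟩
  · intro x hx
    exact Subgroup.mem_inf.2 ⟨F.D_le_U hR hx, mem_DD.1 hx S hS⟩

/-- (3): `U_S ∩ K_R = D` -/
theorem mem_D_of_U {R S : Subgroup G} (hR : R ∈ Pt) (hS : S ∈ Pt) (hRS : R ≠ S) {u : G}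
    (hu : u ∈ UU V W S) (h : ∀ w ∈ W R, u * w * u⁻¹ * w⁻¹ ∈ R) : u ∈ DD Pt W := by
  rw [mem_UU] at hu
  have := F.core R hR S hS hRS u hu.1 hu.2 h
  rw [← F.inf_Q_eq hR hS hRS]
  exact Subgroup.mem_inf.2 ⟨hu.1, this⟩

/-- `N(V)` permutes the `U R` -/
theorem cjU {g : G} (hg : cj g V = V) (R : Subgroup G) :
    cj g (UU V W R) = UU V W (cj g R) := by
  have key : ∀ h : G, cj h V = V → ∀ x, (∀ v ∈ V, x * v = v * x) →
      ∀ v ∈ V, (h⁻¹ * x * h) * v = v * (h⁻¹ * x * h) := by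
    intro h hh x hx v hv
    have h1 : h * v * h⁻¹ ∈ V := by
      have := conj_mem_cj (g := h) hv
      rwa [hh] at this
    have h2 := hx _ h1
    have e1 : (h⁻¹ * x * h) * v = h⁻¹ * (x * (h * v * h⁻¹)) * h := by group
    have e2 : v * (h⁻¹ * x * h) = h⁻¹ * ((h * v * h⁻¹) * x) * h := by group
    rw [e1, e2, h2]
  have hinv : cj g⁻¹ V = V := by
    have := cj_inv_cj g V
    rwa [hg] at this
  ext x
  rw [mem_cj, mem_UU, mem_UU, F.cjW g hg, mem_cj]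
  constructor
  · rintro ⟨h1, h2⟩
    refine ⟨h1, ?_⟩
    have h3 := key g⁻¹ hinv (g⁻¹ * x * g) h2
    have e : g⁻¹⁻¹ * (g⁻¹ * x * g) * g⁻¹ = x := by group
    rwa [e] at h3
  · rintro ⟨h1, h2⟩
    exact ⟨h1, key g hg x h2⟩

/-- `[w, c] ∈ U R` for `w ∈ W R`, `c ∈ C(V)` -/
theorem comm_W_C {R : Subgroup G} (hR : R ∈ Pt) {w c : G} (hw : w ∈ W R)
    (hc : ∀ v ∈ V, c * v = v * c) : w * c * w⁻¹ * c⁻¹ ∈ UU V W R := by
  rw [mem_UU]
  constructor
  · have h1 : c * w⁻¹ * c⁻¹ ∈ W R := by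
      have := conj_mem_cj (g := c) ((W R).inv_mem hw)
      rwa [F.C_nrm_W hR hc] at this
    have e : w * c * w⁻¹ * c⁻¹ = w * (c * w⁻¹ * c⁻¹) := by group
    rw [e]; exact (W R).mul_mem hw h1
  · intro v hv
    have hwV := F.W_nrm R hR w hw
    have hwV' : cj w⁻¹ V = V := by
      have := cj_inv_cj w V
      rwa [hwV] at this
    -- c⁻¹ v c = v
    have hc' : c⁻¹ * v = v * c⁻¹ := by
      have := hc v hv
      calc c⁻¹ * v = c⁻¹ * (v * c) * c⁻¹ := by group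
        _ = c⁻¹ * (c * v) * c⁻¹ := by rw [this]
        _ = v * c⁻¹ := by group
    have h1 : w⁻¹ * v * w ∈ V := by
      have := conj_mem_cj (g := w⁻¹) hv
      rw [hwV', inv_inv] at this
      exact this
    have h2 := hc _ h1
    calc w * c * w⁻¹ * c⁻¹ * v = w * c * w⁻¹ * (c⁻¹ * v) := by group
      _ = w * c * w⁻¹ * (v * c⁻¹) := by rw [hc']
      _ = w * (c * (w⁻¹ * v * w)) * w⁻¹ * c⁻¹ := by group
      _ = w * ((w⁻¹ * v * w) * c) * w⁻¹ * c⁻¹ := by rw [h2]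
      _ = v * (w * c * w⁻¹ * c⁻¹) := by group

theorem W_nrm_U {R : Subgroup G} (hR : R ∈ Pt) {w : G} (hw : w ∈ W R) :
    cj w (UU V W R) = UU V W R := by
  rw [F.cjU (F.W_nrm R hR w hw), F.W_nrm_R hR hw]

theorem C_nrm_U {R : Subgroup G} (hR : R ∈ Pt) {c : G} (hc : ∀ v ∈ V, c * v = v * c) :
    cj c (UU V W R) = UU V W R := by
  have : cj c V = V := cj_eq_of_centralizes hc
  rw [F.cjU this, F.C_nrm_R hR hc]

/-- `[U_R, U_S] ≤ D` -/
theorem comm_U_U {R S : Subgroup G} (hR : R ∈ Pt) (hS : S ∈ Pt) (hRS : R ≠ S) {u u' : G}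
    (hu : u ∈ UU V W R) (hu' : u' ∈ UU V W S) : u * u' * u⁻¹ * u'⁻¹ ∈ DD Pt W := by
  rw [← F.inf_W_eq hR hS hRS]
  rw [mem_UU] at hu hu'
  have h1 := F.comm_W_C hR hu.1 hu'.2
  have h2 := F.comm_W_C hS hu'.1 hu.2
  rw [mem_UU] at h1 h2
  refine Subgroup.mem_inf.2 ⟨h1.1, ?_⟩
  have e : u * u' * u⁻¹ * u'⁻¹ = (u' * u * u'⁻¹ * u⁻¹)⁻¹ := by group
  rw [e]; exact (W S).inv_mem h2.1

/-- normal form of `U_R U_S` -/
theorem mem_sup_U {R S : Subgroup G} (_hR : R ∈ Pt) (hS : S ∈ Pt) {y : G} :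
    y ∈ UU V W R ⊔ UU V W S ↔ ∃ u ∈ UU V W R, ∃ u' ∈ UU V W S, u * u' = y := by
  apply mem_sup_iff
  intro u hu
  rw [mem_UU] at hu
  exact F.C_nrm_U hS hu.2

/-- `W R` normalises `U_R U_S` -/
theorem W_nrm_sup {R S : Subgroup G} (hR : R ∈ Pt) {w : G} (hw : w ∈ W R) :
    cj w (UU V W R ⊔ UU V W S) = UU V W R ⊔ UU V W S := by
  apply cj_eq_of_normalizer
  have key : ∀ h ∈ W R, ∀ d ∈ UU V W R ⊔ UU V W S, h * d * h⁻¹ ∈ UU V W R ⊔ UU V W S := by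
    intro h hh
    have h1 : UU V W R ⊔ UU V W S ≤ cj h⁻¹ (UU V W R ⊔ UU V W S) := by
      apply sup_le
      · intro u hu
        rw [mem_cj, inv_inv]
        apply Subgroup.mem_sup_left
        have := conj_mem_cj (g := h) hu
        rwa [F.W_nrm_U hR hh] at this
      · intro u hu
        rw [mem_cj, inv_inv]
        rw [mem_UU] at hu
        have h2 := F.comm_W_C hR hh hu.2
        have e : h * u * h⁻¹ = (h * u * h⁻¹ * u⁻¹) * u := by group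
        rw [e]
        exact Subgroup.mul_mem _ (Subgroup.mem_sup_left h2)
          (Subgroup.mem_sup_right (mem_UU.2 hu))
    intro d hd
    have := h1 hd
    rwa [mem_cj, inv_inv] at this
  apply mem_normalizer_of (key w hw)
  intro d hd
  have := key w⁻¹ ((W R).inv_mem hw) d hd
  rwa [inv_inv] at this

theorem YY_eq {R S : Subgroup G} (hR : R ∈ Pt) (hS : S ∈ Pt) (hRS : R ≠ S) :
    YY V Pt W = UU V W R ⊔ UU V W S := by
  apply le_antisymm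
  · apply YY_le
    intro T hT
    obtain ⟨x, hx, ex⟩ := F.two_trans_aux hR hS hRS hT
    have hX : W R ⊔ W S ≤ normalizer ((UU V W R ⊔ UU V W S : Subgroup G) : Set G) := by
      apply sup_le
      · intro w hw
        exact mem_normalizer_of_cj (F.W_nrm_sup hR hw)
      · intro w hw
        apply mem_normalizer_of_cj
        rw [sup_comm]
        exact F.W_nrm_sup hS hw
    have h1 := cj_eq_of_normalizer (hX hx)
    have hxV : cj x V = V :=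
      F.X_nrm_V ((sup_le (le_XX hR) (le_XX hS) : W R ⊔ W S ≤ XX Pt W) hx)
    rw [← ex, ← F.cjU hxV, ← h1]
    exact cj_mono x le_sup_left
  · exact sup_le (le_YY hR) (le_YY hS)

/-- `N(V)` normalises `Y` -/
theorem N_nrm_Y {g : G} (hg : cj g V = V) : cj g (YY V Pt W) = YY V Pt W := by
  have key : ∀ h : G, cj h V = V → YY V Pt W ≤ cj h (YY V Pt W) := by
    intro h hh
    apply YY_le
    intro R hR
    have hinv : cj h⁻¹ V = V := by
      have := cj_inv_cj h V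
      rwa [hh] at this
    have h1 : UU V W (cj h⁻¹ R) ≤ YY V Pt W := le_YY (F.pt _ hinv R hR)
    have h2 := cj_mono h h1
    rwa [← F.cjU hinv, cj_cj_inv] at h2
  apply le_antisymm _ (key g hg)
  have hinv : cj g⁻¹ V = V := by
    have := cj_inv_cj g V
    rwa [hg] at this
  have := cj_mono g (key g⁻¹ hinv)
  rwa [cj_cj_inv] at this

theorem X_nrm_Y {x : G} (hx : x ∈ XX Pt W) : cj x (YY V Pt W) = YY V Pt W :=
  F.N_nrm_Y (F.X_nrm_V hx)

theorem X_nrm_D {x : G} (hx : x ∈ XX Pt W) : cj x (DD Pt W) = DD Pt W :=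
  F.N_nrm_D (F.X_nrm_V hx)

omit F in
/-- `Y ≤ C(V)` -/
theorem Y_comm_V {y : G} (hy : y ∈ YY V Pt W) : ∀ v ∈ V, y * v = v * y := by
  have : YY V Pt W ≤ centralizer (V : Set G) := YY_le (fun R _ => inf_le_right)
  intro v hv
  have h := this hy
  rw [Subgroup.mem_centralizer_iff] at h
  exact (h v hv).symm

omit F in
theorem Y_le_X : YY V Pt W ≤ XX Pt W :=
  YY_le (fun R hR => (inf_le_left : UU V W R ≤ W R).trans (le_XX hR))

theorem D_le_Y : DD Pt W ≤ YY V Pt W := by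
  obtain ⟨R, hR⟩ := F.ne
  exact (F.D_le_U hR).trans (le_YY hR)

omit F in
/-- `W_R ∩ Y = U_R` -/
theorem W_inf_Y {R : Subgroup G} (hR : R ∈ Pt) : W R ⊓ YY V Pt W = UU V W R := by
  apply le_antisymm
  · intro y hy
    rw [Subgroup.mem_inf] at hy
    exact mem_UU.2 ⟨hy.1, Y_comm_V hy.2⟩
  · intro u hu
    exact Subgroup.mem_inf.2 ⟨(mem_UU.1 hu).1, le_YY hR hu⟩

/-- `[Y, Y] ≤ D`-part: `[U_R, U_R] ≤ R`, `[U_R, U_S] ≤ D`; so `[Y, Y] ≤ D` -/
theorem comm_U_Y {R : Subgroup G} (hR : R ∈ Pt) {u y : G}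
    (hu : u ∈ UU V W R) (hy : y ∈ YY V Pt W) : u * y * u⁻¹ * y⁻¹ ∈ DD Pt W := by
  obtain ⟨S, hS, hSR⟩ := F.two R hR
  rw [F.YY_eq hR hS hSR.symm, F.mem_sup_U hR hS] at hy
  obtain ⟨a, ha, b, hb, rfl⟩ := hy
  have h1 : u * a * u⁻¹ * a⁻¹ ∈ DD Pt W :=
    (F.le R hR).trans F.V_le_D (F.comm R hR u (mem_UU.1 hu).1 a (F.W_le R hR (mem_UU.1 ha).1))
  have h2 := F.comm_U_U hR hS hSR.symm hu hb
  have e : u * (a * b) * u⁻¹ * (a * b)⁻¹ =
      (u * a * u⁻¹ * a⁻¹) * (a * (u * b * u⁻¹ * b⁻¹) * a⁻¹) := by group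
  rw [e]
  apply (DD Pt W).mul_mem h1
  have := conj_mem_cj (g := a) h2
  rwa [F.X_nrm_D (le_XX hR (mem_UU.1 ha).1)] at this

theorem comm_Y_Y {y z : G} (hy : y ∈ YY V Pt W) (hz : z ∈ YY V Pt W) :
    y * z * y⁻¹ * z⁻¹ ∈ DD Pt W := by
  obtain ⟨R, hR⟩ := F.ne
  obtain ⟨S, hS, hSR⟩ := F.two R hR
  have hy' := hy
  rw [F.YY_eq hR hS hSR.symm, F.mem_sup_U hR hS] at hy'
  obtain ⟨a, ha, b, hb, rfl⟩ := hy'
  have h1 := F.comm_U_Y hR ha hz
  have h2 := F.comm_U_Y hS hb hz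
  have e : (a * b) * z * (a * b)⁻¹ * z⁻¹ =
      (a * (b * z * b⁻¹ * z⁻¹) * a⁻¹) * (a * z * a⁻¹ * z⁻¹) := by group
  rw [e]
  apply (DD Pt W).mul_mem _ h1
  have := conj_mem_cj (g := a) h2
  rwa [F.X_nrm_D (le_XX hR (mem_UU.1 ha).1)] at this

/-- an element of `W S` outside `C(V)` moves every other point -/
theorem moves {R S : Subgroup G} (hR : R ∈ Pt) (hS : S ∈ Pt) (hRS : R ≠ S) {w : G}
    (hw : w ∈ W S) (hwU : w ∉ UU V W S) : cj w R ≠ R := by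
  intro h
  apply hwU
  exact mem_UU.2 ⟨hw, F.reg S hS R hR hRS.symm w hw h⟩

/-- (4), injectivity of `U_R / D → U_S / D`, `u ↦ [w, u]` for `w ∈ W S - U S` -/
theorem mem_D_of_comm {R S : Subgroup G} (hR : R ∈ Pt) (hS : S ∈ Pt) (hRS : R ≠ S) {w u : G}
    (hw : w ∈ W S) (hwU : w ∉ UU V W S) (hu : u ∈ W R)
    (h : w * u * w⁻¹ * u⁻¹ ∈ DD Pt W) : u ∈ DD Pt W := by
  have hm := F.moves hR hS hRS hw hwU
  have hwV := F.W_nrm S hS w hw
  have hR' : cj w R ∈ Pt := F.pt w hwV R hR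
  have h1 : w * u * w⁻¹ ∈ W (cj w R) := by
    rw [F.cjW w hwV]; exact conj_mem_cj hu
  have h2 : w * u * w⁻¹ ∈ W R := by
    have e : w * u * w⁻¹ = (w * u * w⁻¹ * u⁻¹) * u := by group
    rw [e]; exact (W R).mul_mem (D_le_W hR h) hu
  have h3 : w * u * w⁻¹ ∈ DD Pt W := by
    rw [← F.inf_W_eq hR' hR hm]
    exact Subgroup.mem_inf.2 ⟨h1, h2⟩
  have h4 := conj_mem_cj (g := w⁻¹) h3
  have hwD : cj w⁻¹ (DD Pt W) = DD Pt W := F.X_nrm_D ((XX Pt W).inv_mem (le_XX hS hw))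
  rw [hwD] at h4
  have e : w⁻¹ * (w * u * w⁻¹) * w⁻¹⁻¹ = u := by group
  rwa [e] at h4

/-- `[x, c] ∈ Y` for `x ∈ X`, `c ∈ C(V)` -/
theorem comm_X_C {x c : G} (hx : x ∈ XX Pt W) (hc : ∀ v ∈ V, c * v = v * c) :
    x * c * x⁻¹ * c⁻¹ ∈ YY V Pt W := by
  let K : Subgroup G :=
    { carrier := {x | cj x V = V ∧ ∀ c, (∀ v ∈ V, c * v = v * c) →
        x * c * x⁻¹ * c⁻¹ ∈ YY V Pt W}
      one_mem' := ⟨cj_one V, fun d _ => by simp⟩
      mul_mem' := by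
        rintro x y ⟨hx1, hx2⟩ ⟨hy1, hy2⟩
        refine ⟨by rw [cj_mul, hy1, hx1], fun d hd => ?_⟩
        have e : x * y * d * (x * y)⁻¹ * d⁻¹ =
            (x * (y * d * y⁻¹ * d⁻¹) * x⁻¹) * (x * d * x⁻¹ * d⁻¹) := by group
        rw [e]
        apply (YY V Pt W).mul_mem _ (hx2 d hd)
        have := conj_mem_cj (g := x) (hy2 d hd)
        rwa [F.N_nrm_Y hx1] at this
      inv_mem' := by
        rintro x ⟨hx1, hx2⟩
        have hinv : cj x⁻¹ V = V := by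
          have := cj_inv_cj x V
          rwa [hx1] at this
        refine ⟨hinv, fun d hd => ?_⟩
        have e : x⁻¹ * d * x⁻¹⁻¹ * d⁻¹ = x⁻¹ * (x * d * x⁻¹ * d⁻¹)⁻¹ * x⁻¹⁻¹ := by group
        rw [e]
        have := conj_mem_cj (g := x⁻¹) ((YY V Pt W).inv_mem (hx2 d hd))
        rwa [F.N_nrm_Y hinv] at this }
  have hK : XX Pt W ≤ K := by
    apply XX_le
    intro R hR w hw
    refine ⟨F.W_nrm R hR w hw, fun d hd => ?_⟩
    exact le_YY hR (F.comm_W_C hR hw hd)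
  exact (hK hx).2 c hc

/-- `d ∈ D`, `y ∈ Y`: `[d, y] ∈ V` and it is central in `Y` -/
theorem comm_D_Y {d y : G} (hd : d ∈ DD Pt W) (hy : y ∈ YY V Pt W) :
    d * y * d⁻¹ * y⁻¹ ∈ V := by
  have h := V.inv_mem (F.comm_X_D (Y_le_X hy) hd)
  have e : (y * d * y⁻¹ * d⁻¹)⁻¹ = d * y * d⁻¹ * y⁻¹ := by group
  rwa [e] at h

/-- additivity of `y ↦ [d, y]` -/
theorem comm_D_mul {d y z : G} (hd : d ∈ DD Pt W) (hy : y ∈ YY V Pt W) (hz : z ∈ YY V Pt W) :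
    d * (y * z) * d⁻¹ * (y * z)⁻¹ = (d * y * d⁻¹ * y⁻¹) * (d * z * d⁻¹ * z⁻¹) := by
  have h1 := F.comm_D_Y hd hz
  have h2 := Y_comm_V hy _ h1
  calc d * (y * z) * d⁻¹ * (y * z)⁻¹
      = (d * y * d⁻¹ * y⁻¹) * (y * (d * z * d⁻¹ * z⁻¹)) * y⁻¹ := by group
    _ = (d * y * d⁻¹ * y⁻¹) * ((d * z * d⁻¹ * z⁻¹) * y) * y⁻¹ := by rw [h2]
    _ = (d * y * d⁻¹ * y⁻¹) * (d * z * d⁻¹ * z⁻¹) := by group

/-- equivariance of `[d, ·]` under `X` -/
theorem comm_D_equivariant {d y x : G} (hd : d ∈ DD Pt W) (hy : y ∈ YY V Pt W)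
    (hx : x ∈ XX Pt W) :
    x * (d * y * d⁻¹ * y⁻¹) * x⁻¹ = d * (x * y * x⁻¹) * d⁻¹ * (x * y * x⁻¹)⁻¹ := by
  have hy' : x * y * x⁻¹ ∈ YY V Pt W := by
    have := conj_mem_cj (g := x) hy
    rwa [F.X_nrm_Y hx] at this
  -- x d x⁻¹ = v d
  have hv := F.comm_X_D hx hd
  set v := x * d * x⁻¹ * d⁻¹ with hvdef
  have e1 : x * d * x⁻¹ = v * d := by rw [hvdef]; group
  set y' := x * y * x⁻¹ with hy'def
  have e2 : x * (d * y * d⁻¹ * y⁻¹) * x⁻¹ = (x * d * x⁻¹) * y' * (x * d * x⁻¹)⁻¹ * y'⁻¹ := by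
    rw [hy'def]; group
  rw [e2, e1]
  have h4 := F.comm_D_Y hd hy'
  have h5 := F.V_comm hv h4
  have h3 := Y_comm_V hy' _ (V.inv_mem hv)
  calc v * d * y' * (v * d)⁻¹ * y'⁻¹
      = v * (d * y' * d⁻¹ * y'⁻¹) * (y' * v⁻¹) * y'⁻¹ := by group
    _ = (d * y' * d⁻¹ * y'⁻¹) * v * (v⁻¹ * y') * y'⁻¹ := by rw [h5, h3]
    _ = d * y' * d⁻¹ * y'⁻¹ := by group

end Frame

end Cfsg.Agent.Omega.BFrame
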