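import Mathlib

/-!
# Counting with characters

`A`, `W` subgroups of a finite group with `[A, W] ≤ T` central in `A` and in `W`; a character of `T`
gives homomorphisms `W → ℂˣ`.
-/

set_option autoImplicit false

namespace Cfsg.Agent.Omega.BTwo

open Subgroup

/-- characters of a finite group that are trivial on a subgroup containing all commutators -/
theorem index_ker_le {W A : Type*} [Group W] [Finite W] [Group A] (N : Subgroup W) [N.Normal]
    (hN : ∀ w w' : W, w * w' * w⁻¹ * w'⁻¹ ∈ N) (f : A →* (W →* ℂˣ)) (hf : ∀ a, ∀ n ∈ N, f a n = 1) :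
    f.ker.index ≤ N.index := by
  let _ : CommGroup (W ⧸ N) :=
    { (inferInstance : Group (W ⧸ N)) with
      mul_comm := by
        intro x y
        induction x using QuotientGroup.induction_on with
        | H x =>
          induction y using QuotientGroup.induction_on with
          | H y =>
            rw [← QuotientGroup.mk_mul, ← QuotientGroup.mk_mul, QuotientGroup.eq]
            have := hN y⁻¹ x⁻¹
            have e : (x * y)⁻¹ * (y * x) = y⁻¹ * x⁻¹ * y⁻¹⁻¹ * x⁻¹⁻¹ := by group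
            rw [e]
            exact this }
  have : NeZero (Monoid.exponent (W ⧸ N)) := ⟨Monoid.exponent_ne_zero_of_finite⟩
  have h1 : Nat.card ((W ⧸ N) →* ℂˣ) = Nat.card (W ⧸ N) :=
    CommGroup.card_monoidHom_of_hasEnoughRootsOfUnity (W ⧸ N) ℂ
  have h2 : Finite ((W ⧸ N) →* ℂˣ) := by
    apply Nat.finite_of_card_ne_zero
    rw [h1]
    exact Nat.card_pos.ne'
  rw [index_ker]
  change _ ≤ Nat.card (W ⧸ N)
  rw [← h1]
  -- the injection
  have key : ∀ φ : f.range, ∀ n ∈ N, (φ : W →* ℂˣ) n = 1 := by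
    rintro ⟨_, a, rfl⟩ n hn
    exact hf a n hn
  refine Nat.card_le_card_of_injective
    (fun φ : f.range => QuotientGroup.lift N (φ : W →* ℂˣ) (key φ)) ?_
  intro φ ψ h
  apply Subtype.ext
  ext w
  have := congrArg (fun g : (W ⧸ N) →* ℂˣ => g (w : W ⧸ N)) h
  exact congrArg Units.val this

variable {G : Type*} [Group G]

/-- a character of a finite elementary abelian (or just commutative) nontrivial subgroup -/
theorem exists_char {T : Subgroup G} [Finite T] (hc : ∀ a ∈ T, ∀ b ∈ T, a * b = b * a) {t : G}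
    (ht : t ∈ T) (h1 : t ≠ 1) : ∃ ξ : T →* ℂˣ, ξ ⟨t, ht⟩ ≠ 1 := by
  let _ : CommGroup T :=
    { (inferInstance : Group T) with
      mul_comm := fun x y => Subtype.ext (hc x x.2 y y.2) }
  have : NeZero (Monoid.exponent T) := ⟨Monoid.exponent_ne_zero_of_finite⟩
  exact CommGroup.exists_apply_ne_one_of_hasEnoughRootsOfUnity T ℂ
    (a := ⟨t, ht⟩) (fun h => h1 (congrArg Subtype.val h))

/-- the pairing `(a, w) ↦ ξ [a, w]` -/
structure Pairing (A W T : Subgroup G) : Prop where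
  comm : ∀ a ∈ A, ∀ w ∈ W, a * w * a⁻¹ * w⁻¹ ∈ T
  cA : ∀ a ∈ A, ∀ t ∈ T, a * t = t * a
  cW : ∀ w ∈ W, ∀ t ∈ T, w * t = t * w

namespace Pairing

variable {A W T : Subgroup G} (p : Pairing A W T)
include p

theorem comm_mul_right {a w w' : G} (ha : a ∈ A) (hw : w ∈ W) (hw' : w' ∈ W) :
    a * (w * w') * a⁻¹ * (w * w')⁻¹ = (a * w * a⁻¹ * w⁻¹) * (a * w' * a⁻¹ * w'⁻¹) := by
  have h := p.cW w hw _ (p.comm a ha w' hw')
  calc a * (w * w') * a⁻¹ * (w * w')⁻¹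
      = (a * w * a⁻¹ * w⁻¹) * (w * (a * w' * a⁻¹ * w'⁻¹)) * w⁻¹ := by group
    _ = (a * w * a⁻¹ * w⁻¹) * (a * w' * a⁻¹ * w'⁻¹ * w) * w⁻¹ := by rw [h]
    _ = _ := by group

theorem comm_mul_left {a a' w : G} (ha : a ∈ A) (ha' : a' ∈ A) (hw : w ∈ W) :
    (a * a') * w * (a * a')⁻¹ * w⁻¹ = (a * w * a⁻¹ * w⁻¹) * (a' * w * a'⁻¹ * w⁻¹) := by
  have h := p.cA a ha _ (p.comm a' ha' w hw)
  have h2 := p.cW w hw _ (p.comm a' ha' w hw)
  calc (a * a') * w * (a * a')⁻¹ * w⁻¹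
      = (a * (a' * w * a'⁻¹ * w⁻¹)) * w * a⁻¹ * w⁻¹ := by group
    _ = ((a' * w * a'⁻¹ * w⁻¹) * a) * w * a⁻¹ * w⁻¹ := by rw [h]
    _ = (a' * w * a'⁻¹ * w⁻¹) * (a * w * a⁻¹ * w⁻¹) := by group
    _ = (a * w * a⁻¹ * w⁻¹) * (a' * w * a'⁻¹ * w⁻¹) := by
      have h3 := p.cA a ha _ (p.comm a' ha' w hw)
      set t := a' * w * a'⁻¹ * w⁻¹ with ht
      have ht' : t ∈ T := p.comm a' ha' w hw
      have e1 : a⁻¹ * t = t * a⁻¹ := by
        calc a⁻¹ * t = a⁻¹ * (t * a) * a⁻¹ := by group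
          _ = a⁻¹ * (a * t) * a⁻¹ := by rw [h3]
          _ = t * a⁻¹ := by group
      have e2 : w⁻¹ * t = t * w⁻¹ := by
        calc w⁻¹ * t = w⁻¹ * (t * w) * w⁻¹ := by group
          _ = w⁻¹ * (w * t) * w⁻¹ := by rw [h2]
          _ = t * w⁻¹ := by group
      calc t * (a * w * a⁻¹ * w⁻¹) = (t * a) * w * a⁻¹ * w⁻¹ := by group
        _ = (a * t) * w * a⁻¹ * w⁻¹ := by rw [h3]
        _ = a * (t * w) * a⁻¹ * w⁻¹ := by group
        _ = a * (w * t) * a⁻¹ * w⁻¹ := by rw [h2]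
        _ = a * w * (t * a⁻¹) * w⁻¹ := by group
        _ = a * w * (a⁻¹ * t) * w⁻¹ := by rw [e1]
        _ = a * w * a⁻¹ * (t * w⁻¹) := by group
        _ = a * w * a⁻¹ * (w⁻¹ * t) := by rw [e2]
        _ = (a * w * a⁻¹ * w⁻¹) * t := by group

/-- the homomorphism `w ↦ ξ [a, w]` -/
noncomputable def chi (ξ : T →* ℂˣ) : A →* (W →* ℂˣ) where
  toFun a :=
    { toFun := fun w => ξ ⟨a * w * (a : G)⁻¹ * (w : G)⁻¹, p.comm a a.2 w w.2⟩
      map_one' := by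
        have : (⟨(a : G) * (1 : W) * (a : G)⁻¹ * ((1 : W) : G)⁻¹, p.comm a a.2 (1 : W) (1 : W).2⟩ : T) = 1 := by
          apply Subtype.ext
          simp
        rw [this, map_one]
      map_mul' := by
        intro w w'
        rw [← map_mul]
        congr 1
        apply Subtype.ext
        exact p.comm_mul_right a.2 w.2 w'.2 }
  map_one' := by
    ext w
    have : (⟨((1 : A) : G) * w * ((1 : A) : G)⁻¹ * (w : G)⁻¹, p.comm (1 : A) (1 : A).2 w w.2⟩ : T) = 1 := by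
      apply Subtype.ext
      simp
    change ((ξ ⟨((1 : A) : G) * w * ((1 : A) : G)⁻¹ * (w : G)⁻¹, p.comm (1 : A) (1 : A).2 w w.2⟩ : ℂˣ) : ℂ) = _
    rw [this, map_one]
    rfl
  map_mul' := by
    intro a a'
    ext w
    change ((ξ ⟨((a * a' : A) : G) * w * ((a * a' : A) : G)⁻¹ * (w : G)⁻¹, _⟩ : ℂˣ) : ℂ) =
      ((ξ ⟨(a : G) * w * (a : G)⁻¹ * (w : G)⁻¹, _⟩ * ξ ⟨(a' : G) * w * (a' : G)⁻¹ * (w : G)⁻¹, _⟩ : ℂˣ) : ℂ)
    rw [← map_mul]
    congr 2
    apply Subtype.ext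
    exact p.comm_mul_left a.2 a'.2 w.2

theorem chi_apply (ξ : T →* ℂˣ) (a : A) (w : W) :
    p.chi ξ a w = ξ ⟨a * w * (a : G)⁻¹ * (w : G)⁻¹, p.comm a a.2 w w.2⟩ := rfl

/-- **counting**: if `ξ [a, W] = 1` implies `a ∈ K`, and `ξ [A, N] = 1`, `[W, W] ≤ N`, then
`|A : A ∩ K| ≤ |W : N|` -/
theorem relIndex_le [Finite G] (ξ : T →* ℂˣ) {K N : Subgroup G}
    (hN : ∀ w ∈ W, ∀ w' ∈ W, w * w' * w⁻¹ * w'⁻¹ ∈ N)
    (hA : ∀ a (ha : a ∈ A), ∀ n (hn : n ∈ W), n ∈ N → ξ ⟨a * n * a⁻¹ * n⁻¹, p.comm a ha n hn⟩ = 1)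
    (hK : ∀ a (ha : a ∈ A), (∀ w (hw : w ∈ W), ξ ⟨a * w * a⁻¹ * w⁻¹, p.comm a ha w hw⟩ = 1) → a ∈ K) :
    K.relIndex A ≤ N.relIndex W := by
  have hnorm : (N.subgroupOf W).Normal := by
    refine ⟨fun n hn g => ?_⟩
    rw [mem_subgroupOf] at hn ⊢
    have h1 := hN g g.2 n n.2
    have e : ((g * n * g⁻¹ : W) : G) = (g * n * (g : G)⁻¹ * (n : G)⁻¹) * n := by
      push_cast; group
    rw [e]
    exact mul_mem h1 hn
  have h1 := index_ker_le (N.subgroupOf W) (fun w w' => by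
    rw [mem_subgroupOf]
    exact hN w w.2 w' w'.2) (p.chi ξ) (fun a n hn => by
      rw [p.chi_apply]
      exact hA a a.2 n n.2 hn)
  refine le_trans ?_ h1
  have h2 : (p.chi ξ).ker ≤ K.subgroupOf A := ?_
  · exact index_antitone h2
  intro a ha
  rw [mem_subgroupOf]
  refine hK a a.2 fun w hw => ?_
  have := congrArg (fun f : W →* ℂˣ => f ⟨w, hw⟩) (MonoidHom.mem_ker.1 ha)
  simpa [p.chi_apply] using this

end Pairing

end Cfsg.Agent.Omega.BTwo
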