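import Cfsg.Agent.Omega.BTwo.Rad

/-!
# #11818 (L) and (N): elements of `C(V)` acting trivially on `W i / Z(W i)` lie in `Q i`; `Q i' ≤ R i`
-/

set_option autoImplicit false

namespace Cfsg.Agent.Omega.BTwo

open Subgroup

variable {G : Type*} [Group G] {ι : Type*} {V : Subgroup G} {R : ι → Subgroup G}

/-- `Z(W i)` -/
def ZW (V : Subgroup G) (R : ι → Subgroup G) (i : ι) : Subgroup G :=
  WW V (R i) ⊓ centralizer (WW V (R i) : Set G)

theorem ZW_le_WW (i : ι) : ZW V R i ≤ WW V (R i) := inf_le_left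

theorem ZW_le_cen (i : ι) : ZW V R i ≤ centralizer (WW V (R i) : Set G) := inf_le_right

theorem ZW_comm {i : ι} {z w : G} (hz : z ∈ ZW V R i) (hw : w ∈ WW V (R i)) : w * z = z * w :=
  mem_centralizer_iff.1 hz.2 w hw

theorem ZW_le_UU (i : ι) : ZW V R i ≤ UU V R i :=
  inf_le_inf_left _ (cen_W_le V (R i))

theorem N_le_NZW (i : ι) : normalizer (R i : Set G) ≤ normalizer (ZW V R i : Set G) := by
  intro g hg
  have h1 := normalizer_le_WW V (R i) hg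
  rw [← cj_eq_self_iff, ZW, cj_inf, ← centralizer_cj, cj_eq_self_iff.2 h1]

section

variable (b : BT V R)
include b

theorem BT.R_le_ZW (i : ι) : R i ≤ ZW V R i := fun _ ha =>
  mem_inf.2 ⟨V_le_WW V (R i) (b.R_le i ha), b.R_cen_W i ha⟩

/-- a point other than `R i` is not centralised by `W i` -/
theorem BT.not_ZW {i j : ι} (hij : i ≠ j) {a : G} (ha : a ∈ R j) (h : a ∈ ZW V R i) : a = 1 := by
  obtain ⟨k, hkj, hki⟩ := b.third j i
  obtain ⟨w, hw, e⟩ := b.trans i (Ne.symm hij) hki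
  have h1 : w * a * w⁻¹ ∈ R k := by rw [← e]; exact conj_mem_cj ha
  rw [ZW_comm h hw, mul_inv_cancel_right] at h1
  exact b.eq_one (Ne.symm hkj) ha h1

theorem BT.Q_cenMod (i : ι) : QQ (R i) ≤ cenMod (R i) (WW V (R i)) := b.Q_le_K i

end

/-- `Q i' ≤ R i` -/
theorem BTC.Q_comm (b : BTC V R) [Finite G] {i : ι} {x y : G} (hx : x ∈ QQ (R i)) (hy : y ∈ QQ (R i)) :
    x * y * x⁻¹ * y⁻¹ ∈ R i := by
  have hW : WW V (R i) ≤ cenMod (R i) (QQ (R i)) := fun w hw =>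
    ⟨b.W_le_N i hw, fun d hd => by
      have h1 := b.WQ i hd hw
      have e : w * d * w⁻¹ * d⁻¹ = (d * w * d⁻¹ * w⁻¹)⁻¹ := by group
      rw [e]
      exact inv_mem h1⟩
  have hC : CC R ≤ cenMod (R i) (QQ (R i)) := fun c hc => by
    have hcQ : c ∈ QQ (R i) := mem_iInf.1 hc i
    refine ⟨b.Q_le i hcQ, fun d hd => ?_⟩
    obtain ⟨w, hw, hd'⟩ := b.exists_eps_W hd
    have h1 := b.C_comm hc hd'
    have h2 := b.WQ i hcQ (inv_mem hw)
    -- `d = (d w) w⁻¹`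
    have e : c * d * c⁻¹ * d⁻¹ = (c * (d * w) * c⁻¹ * (d * w)⁻¹) * ((d * w) * (c * w⁻¹ * c⁻¹ * w⁻¹⁻¹) * (d * w)⁻¹) := by
      group
    rw [e]
    refine mul_mem ?_ (conj_mem_of_normalizer (b.Q_le i (mul_mem hd (b.W_le_Q i hw))) h2)
    rw [h1]
    have e2 : d * w * c * c⁻¹ * (d * w)⁻¹ = 1 := by group
    rw [e2]
    exact one_mem _
  obtain ⟨w, hw, hx'⟩ := b.exists_eps_W hx
  have h : x ∈ cenMod (R i) (QQ (R i)) := by
    have e : x = (x * w) * w⁻¹ := by group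
    rw [e]
    exact mul_mem (hC hx') (inv_mem (hW hw))
  exact h.2 y hy

theorem BTC.Q_sq (b : BTC V R) [Finite G] {i : ι} {x : G} (hx : x ∈ QQ (R i)) : x * x ∈ R i := by
  obtain ⟨w, hw, hx'⟩ := b.exists_eps_W hx
  have h1 := b.C_sq hx'
  have h2 := b.Q_comm (mem_iInf.1 hx' i) (b.W_le_Q i (inv_mem hw))
  have h3 := b.W_sq i (inv_mem hw)
  set c := x * w with hc
  have e : x = c * w⁻¹ := by rw [hc]; group
  have e1 : c⁻¹ = c := inv_eq_of_mul_eq_one_left h1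
  have e2 : x * x = (c * w⁻¹ * c⁻¹ * w⁻¹⁻¹) * (w⁻¹ * w⁻¹) := by
    rw [e1]
    have e3 : x * x = c * w⁻¹ * c * w⁻¹ := by rw [e]; group
    rw [e3]; group
  rw [e2]
  exact mul_mem h2 h3

/-- elements of `C(R i)` stabilising `W i ≥ Z(W i) ≥ R i` -/
def NN (V : Subgroup G) (R : ι → Subgroup G) (i : ι) : Subgroup G :=
  cenMod (ZW V R i) (WW V (R i)) ⊓ cenMod (R i) (ZW V R i) ⊓ centralizer (R i : Set G)

theorem conj_cenMod {V D : Subgroup G} {g x : G} (hgV : g ∈ normalizer (V : Set G))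
    (hgD : g ∈ normalizer (D : Set G)) (hx : x ∈ cenMod V D) : g * x * g⁻¹ ∈ cenMod V D := by
  refine ⟨mul_mem (mul_mem hgV hx.1) (inv_mem hgV), fun w hw => ?_⟩
  have h1 := hx.2 _ (conj_inv_mem_of_normalizer hgD hw)
  have h2 := conj_mem_of_normalizer hgV h1
  have e : g * (x * (g⁻¹ * w * g) * x⁻¹ * (g⁻¹ * w * g)⁻¹) * g⁻¹ =
      g * x * g⁻¹ * w * (g * x * g⁻¹)⁻¹ * w⁻¹ := by group
  rwa [e] at h2

theorem eq_one_of_odd {H : Subgroup G} (hH : IsPGroup 2 H) {c : G} (hc : c ∈ H) (ho : Odd (orderOf c)) : c = 1 := by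
  obtain ⟨n, hn⟩ := hH ⟨c, hc⟩
  have hn' : c ^ 2 ^ n = 1 := congrArg Subtype.val hn
  have hd := Nat.dvd_gcd (dvd_refl (orderOf c)) (orderOf_dvd_of_pow_eq_one hn')
  have hco : Nat.gcd (orderOf c) (2 ^ n) = 1 := (Nat.coprime_two_right.2 ho).pow_right n
  rwa [hco, Nat.dvd_one, orderOf_eq_one_iff] at hd

section

variable (b : BTC V R)
include b

theorem BTC.NN_le_Q [Finite G] (i : ι) : NN V R i ≤ QQ (R i) := by
  refine le_O2_of_normal (fun x hx => hx.1.2.1) ?_ ?_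
  · refine isPGroup_of_odd fun c hc ho => ?_
    have hW2 := b.W_isPGroup i
    have hR : ∀ a ∈ R i, c * a = a * c := fun a ha => (mem_centralizer_iff.1 hc.2 a ha).symm
    have hZ : ∀ z ∈ ZW V R i, c * z = z * c := by
      intro z hz
      have h := hc.1.2.2 z hz
      exact comm_of_odd ho (hW2.to_le ((b.R_le i).trans (V_le_WW V (R i)))) h (hR _ h)
    have hW : c ∈ centralizer (WW V (R i) : Set G) := by
      rw [mem_centralizer_iff]
      intro w hw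
      have h := hc.1.1.2 w hw
      exact (comm_of_odd ho (hW2.to_le (ZW_le_WW i)) h (hZ _ h)).symm
    exact eq_one_of_odd (b.cen_W_isPGroup i) hW ho
  · intro g hg x hx
    have h1 := normalizer_le_WW V (R i) hg
    have h2 := N_le_NZW (V := V) i hg
    exact mem_inf.2 ⟨mem_inf.2 ⟨conj_cenMod h2 h1 hx.1.1, conj_cenMod hg h2 hx.1.2⟩,
      conj_mem_of_normalizer (normalizer_le_normalizer_centralizer _ hg) hx.2⟩

/-- **(L)** -/
theorem BTC.lemL [Finite G] {i : ι} {q : G} (hq : q ∈ centralizer (V : Set G))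
    (h : ∀ w ∈ WW V (R i), q * w * q⁻¹ * w⁻¹ ∈ ZW V R i) : q ∈ QQ (R i) := by
  obtain ⟨j, hj, -⟩ := b.third i i
  have hij : i ≠ j := Ne.symm hj
  have hqN := b.cen_le_N i hq
  have hqZ := N_le_NZW (V := V) i hqN
  have hq1 : q ∈ cenMod (ZW V R i) (WW V (R i)) := ⟨hqZ, h⟩
  -- `[q, u] ∈ D` for `u ∈ U j`
  have h1 : ∀ u ∈ UU V R j, q * u * q⁻¹ * u⁻¹ ∈ DD V R := by
    intro u hu
    have huV := UU_le_cen j hu
    have huN := b.cen_le_N i huV
    have huZ := N_le_NZW (V := V) i huN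
    have huW := normalizer_le_WW V (R i) huN
    have hNN : q * u * q⁻¹ * u⁻¹ ∈ NN V R i := by
      refine mem_inf.2 ⟨mem_inf.2 ⟨?_, ?_⟩, ?_⟩
      · have e : q * u * q⁻¹ * u⁻¹ = q * (u * q⁻¹ * u⁻¹) := by group
        rw [e]
        exact mul_mem hq1 (conj_cenMod huZ huW (inv_mem hq1))
      · have hu1 : u ∈ cenMod (R i) (ZW V R i) := ⟨huN, fun z hz => by
          have h2 := b.cen_W_U hij (ZW_le_cen i hz) hu
          have e : u * z * u⁻¹ * z⁻¹ = (z * u * z⁻¹ * u⁻¹)⁻¹ := by group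
          rw [e]
          exact inv_mem h2⟩
        exact mul_mem (conj_cenMod hqN hqZ hu1) (inv_mem hu1)
      · have h3 : centralizer (V : Set G) ≤ centralizer (R i : Set G) := centralizer_le (b.R_le i)
        exact h3 (mul_mem (mul_mem (mul_mem hq huV) (inv_mem hq)) (inv_mem huV))
    rw [b.D_eq (Ne.symm hij)]
    refine mem_inf.2 ⟨UU_le_WW j ?_, b.NN_le_Q i hNN⟩
    exact mul_mem (conj_mem_of_normalizer (b.cen_le_NU j hq) hu) (inv_mem hu)
  -- `[q, u] ∈ D` for `u ∈ U i`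
  obtain ⟨w, hw, hw'⟩ := b.exists_mover hij
  have h2 : ∀ u ∈ UU V R i, q * u * q⁻¹ * u⁻¹ ∈ DD V R := by
    intro u hu
    have hqu : q * u * q⁻¹ ∈ UU V R i := conj_mem_of_normalizer (b.cen_le_NU i hq) hu
    have hqu' : q * u * q⁻¹ * u⁻¹ ∈ UU V R i := mul_mem hqu (inv_mem hu)
    refine b.inj hij hw hw' hqu' ?_
    -- `[w, q u q⁻¹] ≡ [w, u]`
    set s := w * u * w⁻¹ * u⁻¹ with hs
    have hsU : s ∈ UU V R j := b.WU' hw hu
    have k1 := h1 s hsU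
    -- `t = q w q⁻¹ w⁻¹ ∈ U j`
    set t := q * w * q⁻¹ * w⁻¹ with ht
    have htU : t ∈ UU V R j := by
      refine mem_inf.2 ⟨mul_mem (conj_mem_of_normalizer (b.cen_le_NW j hq) hw) (inv_mem hw), ?_⟩
      have e : t = q * (w * q⁻¹ * w⁻¹) := by rw [ht]; group
      rw [e]
      exact mul_mem hq (conj_mem_of_normalizer
        (normalizer_le_normalizer_centralizer V (b.W_le_NV j hw)) (inv_mem hq))
    set u' := q * u * q⁻¹ with hu'
    -- `q s q⁻¹ = [t w, u']`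
    have k2 : q * s * q⁻¹ = t * (w * u' * w⁻¹ * u'⁻¹) * t⁻¹ * (t * u' * t⁻¹ * u'⁻¹) := by
      rw [hs, ht, hu']; group
    have k3 : t * u' * t⁻¹ * u'⁻¹ ∈ DD V R := b.UU_comm hj htU hqu
    have hs' : w * u' * w⁻¹ * u'⁻¹ ∈ UU V R j := b.WU' hw hqu
    have k4 : t * (w * u' * w⁻¹ * u'⁻¹) * t⁻¹ * (w * u' * w⁻¹ * u'⁻¹)⁻¹ ∈ DD V R :=
      b.Y_comm (UU_le_YY j htU) (UU_le_YY j hs')
    set s' := w * u' * w⁻¹ * u'⁻¹ with hs'def
    -- `s' s⁻¹ ∈ D`
    have nD : ∀ y ∈ YY V R, ∀ d ∈ DD V R, y * d * y⁻¹ ∈ DD V R := fun y hy d hd =>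
      conj_mem_of_normalizer (b.Y_le_ND hy) hd
    have htY := UU_le_YY j htU
    have hsY' := UU_le_YY j hs'
    have k5 : s' * s⁻¹ ∈ DD V R := by
      have e1 : s' * (t * s' * t⁻¹)⁻¹ = (t * s' * t⁻¹ * s'⁻¹)⁻¹ := by group
      have m1 : s' * (t * s' * t⁻¹)⁻¹ ∈ DD V R := by rw [e1]; exact inv_mem k4
      have e2 : (t * s' * t⁻¹) * (q * s * q⁻¹)⁻¹ =
          (t * s' * t⁻¹) * (t * u' * t⁻¹ * u'⁻¹)⁻¹ * (t * s' * t⁻¹)⁻¹ := by rw [k2]; group
      have m2 : (t * s' * t⁻¹) * (q * s * q⁻¹)⁻¹ ∈ DD V R := by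
        rw [e2]
        exact nD _ (mul_mem (mul_mem htY hsY') (inv_mem htY)) _ (inv_mem k3)
      have e3 : s' * s⁻¹ = (s' * (t * s' * t⁻¹)⁻¹) * ((t * s' * t⁻¹) * (q * s * q⁻¹)⁻¹) *
          (q * s * q⁻¹ * s⁻¹) := by group
      rw [e3]
      exact mul_mem (mul_mem m1 m2) k1
    -- `[w, u' u⁻¹]`
    have k6 : s * (u' * u⁻¹) * s⁻¹ * (u' * u⁻¹)⁻¹ ∈ DD V R :=
      b.Y_comm (UU_le_YY j hsU) (UU_le_YY i hqu')
    have e : w * (u' * u⁻¹) * w⁻¹ * (u' * u⁻¹)⁻¹ = s' * s⁻¹ * (s * (u' * u⁻¹) * s⁻¹ * (u' * u⁻¹)⁻¹) := by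
      rw [hs'def, hs]; group
    rw [e]
    exact mul_mem k5 k6
  refine b.NN_le_Q i (mem_inf.2 ⟨mem_inf.2 ⟨hq1, hqN, fun z hz => ?_⟩, ?_⟩)
  · refine b.cen_DW (h2 z (ZW_le_UU i hz)) (ZW_le_cen i ?_)
    exact mul_mem (conj_mem_of_normalizer hqZ hz) (inv_mem hz)
  · exact centralizer_le (b.R_le i) hq

/-- **(N)**: a 2-subgroup `X ≤ N(R i)` normalised by `C(d)`, `d ∈ C(W i)` central in `Q i`, commutes with the
conjugates of `C(W j)` modulo `Q i` -/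
theorem BTC.comm_mod [Finite G] {i j : ι} (hij : i ≠ j) {d : G} (hd : d ∈ centralizer (WW V (R i) : Set G))
    {X : Subgroup G} (hX : IsPGroup 2 X) (hXN : X ≤ normalizer (R i : Set G))
    (hXd : normalizer (R i : Set G) ⊓ centralizer {d} ≤ normalizer (X : Set G)) {x m c : G} (hx : x ∈ X)
    (hm : m ∈ normalizer (R i : Set G)) (hc : c ∈ centralizer (WW V (R j) : Set G)) :
    x * (m * c * m⁻¹) * x⁻¹ * (m * c * m⁻¹)⁻¹ ∈ QQ (R i) := by
  set H0 : Subgroup G := ⨆ m : normalizer (R i : Set G), cj (m : G) (centralizer (WW V (R j) : Set G)) with hH0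
  have hle : ∀ m ∈ normalizer (R i : Set G), cj m (centralizer (WW V (R j) : Set G)) ≤ H0 := fun m hm =>
    le_iSup (fun m : normalizer (R i : Set G) => cj (m : G) (centralizer (WW V (R j) : Set G))) ⟨m, hm⟩
  have hN : normalizer (R i : Set G) ≤ normalizer (H0 : Set G) := by
    refine le_normalizer_of fun g hg y hy => ?_
    have h : cj g H0 ≤ H0 := by
      rw [hH0, cj_iSup]
      refine iSup_le fun m => ?_
      rw [← cj_mul]
      exact hle _ (mul_mem hg m.2)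
    exact h (conj_mem_cj hy)
  have hH0N : H0 ≤ normalizer (R i : Set G) := by
    refine iSup_le fun m => ?_
    rw [cj_le_iff]
    exact fun y hy => mul_mem (mul_mem m.2 (b.cen_W_le_N j i hy)) (inv_mem m.2)
  have hH0d : H0 ≤ centralizer {d} := by
    refine iSup_le fun m => ?_
    rw [cj_le_iff]
    intro y hy
    have h1 := conj_inv_mem_of_normalizer (normalizer_le_normalizer_centralizer _
      (normalizer_le_WW V (R i) m.2)) hd
    have h2 := b.cen_comm hij h1 hy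
    rw [mem_centralizer_iff]
    intro z hz
    rw [Set.mem_singleton_iff.1 hz]
    calc d * ((m : G) * y * (m : G)⁻¹) = m * (((m : G)⁻¹ * d * m) * y) * (m : G)⁻¹ := by group
      _ = m * (y * ((m : G)⁻¹ * d * m)) * (m : G)⁻¹ := by rw [h2]
      _ = (m : G) * y * (m : G)⁻¹ * d := by group
  have key : X ⊓ H0 ≤ QQ (R i) := by
    refine le_O2_of_chain (B := H0) (C := normalizer (R i : Set G)) inf_le_right hH0N le_rfl
      (hX.to_le inf_le_left) ?_ ?_ ?_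
    · intro h hh a ha
      exact mem_inf.2 ⟨conj_mem_of_normalizer (hXd (mem_inf.2 ⟨hH0N hh, hH0d hh⟩)) ha.1,
        mul_mem (mul_mem hh ha.2) (inv_mem hh)⟩
    · exact fun g hg h hh => conj_mem_of_normalizer (hN hg) hh
    · exact fun g hg h hh => mul_mem (mul_mem hg hh) (inv_mem hg)
  have hh : m * c * m⁻¹ ∈ H0 := hle m hm (conj_mem_cj hc)
  refine key (mem_inf.2 ⟨?_, mul_mem (conj_mem_of_normalizer (hN (hXN hx)) hh) (inv_mem hh)⟩)
  have e : x * (m * c * m⁻¹) * x⁻¹ * (m * c * m⁻¹)⁻¹ = x * ((m * c * m⁻¹) * x⁻¹ * (m * c * m⁻¹)⁻¹) := by group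
  rw [e]
  exact mul_mem hx (conj_mem_of_normalizer (hXd (mem_inf.2 ⟨hH0N hh, hH0d hh⟩)) (inv_mem hx))

end

end Cfsg.Agent.Omega.BTwo
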