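import Mathlib

/-!
# LEMMA R of #12282 (helper326, TEXT 2 (1)), abstract form

`M` a finite abelian group of exponent 2 with an `H`-action, `K` a normal subgroup of `H`, `S ≤ K` a subgroup of
odd index, `f` a nondegenerate `K`-invariant reflexive form on `M`, `e ≤ C_M(S)`, `M = ⟨e^H⟩`, `C_M(K) ≤ e^⊥`.
Then `C_M(K) = 0` and `M = [M, K]`.
-/

set_option autoImplicit false
set_option linter.style.haveILetI false

namespace Cfsg.Agent.Omega.BTwo.LemR

variable {H M : Type*} [Group H] [AddCommGroup M] [DistribMulAction H M]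

/-- `C_M(K)` -/
def fix (K : Subgroup H) : AddSubgroup M where
  carrier := {x | ∀ k ∈ K, k • x = x}
  zero_mem' := fun k _ => smul_zero k
  add_mem' := fun {x y} hx hy k hk => by rw [smul_add, hx k hk, hy k hk]
  neg_mem' := fun {x} hx k hk => by rw [smul_neg, hx k hk]

/-- `[M, K]` -/
def com (K : Subgroup H) : AddSubgroup M := AddSubgroup.closure {z | ∃ x : M, ∃ k ∈ K, z = k • x - x}

theorem sub_mem_com (K : Subgroup H) {k : H} (hk : k ∈ K) (x : M) : k • x - x ∈ (com K : AddSubgroup M) :=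
  AddSubgroup.subset_closure ⟨x, k, hk, rfl⟩

theorem fix_inv (K : Subgroup H) [K.Normal] (h : H) {x : M} (hx : x ∈ (fix K : AddSubgroup M)) :
    h • x ∈ (fix K : AddSubgroup M) := by
  intro k hk
  have h1 := hx (h⁻¹ * k * h) (by simpa using Subgroup.Normal.conj_mem (inferInstance : K.Normal) k hk h⁻¹)
  have e : k • h • x = h • (h⁻¹ * k * h) • x := by
    rw [smul_smul, smul_smul]; congr 1; group
  rw [e, h1]

theorem com_inv (K : Subgroup H) [K.Normal] (h : H) {x : M} (hx : x ∈ (com K : AddSubgroup M)) :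
    h • x ∈ (com K : AddSubgroup M) := by
  have h0 : (com K : AddSubgroup M) ≤ (com K : AddSubgroup M).comap (DistribSMul.toAddMonoidHom M h) := by
    refine (AddSubgroup.closure_le _).2 ?_
    rintro _ ⟨x, k, hk, rfl⟩
    change h • (k • x - x) ∈ (com K : AddSubgroup M)
    have e : h • (k • x - x) = (h * k * h⁻¹) • (h • x) - h • x := by
      rw [smul_sub, smul_smul, smul_smul]; congr 2; group
    rw [e]
    exact sub_mem_com K (Subgroup.Normal.conj_mem (inferInstance : K.Normal) k hk h) _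
  exact h0 hx

/-- averaging: a vector fixed by a subgroup of odd index lies in `C_M(K) + [M, K]` -/
theorem mem_sup_of_fix [Finite H] (h2 : ∀ x : M, x + x = 0) {K S : Subgroup H}
    (hodd : Odd (S.relIndex K)) {v : M} (hv : v ∈ (fix S : AddSubgroup M)) :
    v ∈ (fix K ⊔ com K : AddSubgroup M) := by
  classical
  let Q := K ⧸ S.subgroupOf K
  haveI : Fintype Q := Fintype.ofFinite Q
  -- the orbit map
  let g : Q → M := fun c => Quotient.liftOn' c (fun k : K => (k : H) • v) (by
    intro a b hab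
    rw [QuotientGroup.leftRel_apply] at hab
    have h1 : ((a : H)⁻¹ * (b : H)) • v = v := hv _ hab
    change (a : H) • v = (b : H) • v
    nth_rewrite 1 [← h1]
    rw [smul_smul]
    congr 1
    group)
  have hg : ∀ k : K, g (QuotientGroup.mk k) = (k : H) • v := fun k => rfl
  have hgk : ∀ (k : K) (c : Q), g (k • c) = (k : H) • g c := by
    intro k c
    induction c using QuotientGroup.induction_on with
    | H a =>
      rw [hg]
      change g (QuotientGroup.mk (k * a)) = _
      rw [hg, Subgroup.coe_mul, mul_smul]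
  have hgc : ∀ c : Q, g c - v ∈ (com K : AddSubgroup M) := by
    intro c
    induction c using QuotientGroup.induction_on with
    | H a => rw [hg]; exact sub_mem_com K a.2 v
  set w : M := ∑ c : Q, g c with hw
  have hwK : w ∈ (fix K : AddSubgroup M) := by
    intro k hk
    rw [hw, Finset.smul_sum]
    rw [← Equiv.sum_comp (MulAction.toPerm (⟨k, hk⟩ : K) : Equiv.Perm Q) g]
    refine Finset.sum_congr rfl fun c _ => ?_
    exact (hgk ⟨k, hk⟩ c).symm
  have hcard : (Fintype.card Q) • v = v := by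
    have h3 : Fintype.card Q = S.relIndex K := by
      rw [Subgroup.relIndex, Subgroup.index_eq_card, Nat.card_eq_fintype_card]
    rw [h3]
    obtain ⟨m, hm⟩ := hodd
    rw [hm, add_smul, one_smul, mul_comm, mul_smul, two_smul, h2, smul_zero, zero_add]
  have h4 : w - v ∈ (com K : AddSubgroup M) := by
    have h5 : w - v = ∑ c : Q, (g c - v) := by
      rw [Finset.sum_sub_distrib, Finset.sum_const, Finset.card_univ, hcard]
    rw [h5]
    exact AddSubgroup.sum_mem _ fun c _ => hgc c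
  have e : v = w + -(w - v) := by abel
  rw [e]
  exact add_mem (AddSubgroup.mem_sup_left hwK) (AddSubgroup.mem_sup_right (neg_mem h4))

/-- **LEMMA R** -/
theorem lemmaR [Finite H] (h2 : ∀ x : M, x + x = 0) {K S : Subgroup H} [K.Normal] (hS : S ≤ K)
    (hodd : Odd (S.relIndex K)) {B : Type*} [AddCommGroup B] (f : M →+ M →+ B)
    (hsym : ∀ x y, f x y = 0 → f y x = 0) (hnd : ∀ x, (∀ y, f x y = 0) → x = 0)
    (hf : ∀ k ∈ K, ∀ x y, f (k • x) (k • y) = f x y) {e : AddSubgroup M}
    (heS : e ≤ (fix S : AddSubgroup M)) (he : ∀ x ∈ (fix K : AddSubgroup M), ∀ y ∈ e, f x y = 0)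
    (hgen : ∀ X : AddSubgroup M, (∀ h : H, ∀ x ∈ X, h • x ∈ X) → e ≤ X → X = ⊤) :
    (fix K : AddSubgroup M) = ⊥ ∧ (com K : AddSubgroup M) = ⊤ := by
  -- `C_M(K) ⊥ [M, K]`
  have horth : ∀ x ∈ (fix K : AddSubgroup M), ∀ y ∈ (com K : AddSubgroup M), f x y = 0 := by
    intro x hx y hy
    have h0 : (com K : AddSubgroup M) ≤ (f x).ker := by
      refine (AddSubgroup.closure_le _).2 ?_
      rintro _ ⟨z, k, hk, rfl⟩
      change f x (k • z - z) = 0
      rw [map_sub]
      nth_rewrite 1 [← hx k hk]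
      rw [hf k hk, sub_self]
    exact h0 hy
  have h1 : (fix K ⊔ com K : AddSubgroup M) = ⊤ := by
    refine hgen _ ?_ fun v hv => mem_sup_of_fix h2 hodd (heS hv)
    intro h x hx
    rw [AddSubgroup.mem_sup] at hx ⊢
    obtain ⟨a, ha, b, hb, rfl⟩ := hx
    exact ⟨h • a, fix_inv K h ha, h • b, com_inv K h hb, (smul_add h a b).symm⟩
  have h3 : e ≤ (com K : AddSubgroup M) := by
    intro v hv
    have hv' : v ∈ (fix K ⊔ com K : AddSubgroup M) := by rw [h1]; trivial
    rw [AddSubgroup.mem_sup] at hv'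
    obtain ⟨a, ha, b, hb, hab⟩ := hv'
    have h4 : a = 0 := by
      refine hnd a fun y => ?_
      have hy : y ∈ (fix K ⊔ com K : AddSubgroup M) := by rw [h1]; trivial
      rw [AddSubgroup.mem_sup] at hy
      obtain ⟨c, hc, d, hd, rfl⟩ := hy
      rw [map_add, horth a ha d hd, add_zero]
      have h5 := he c hc v hv
      rw [← hab, map_add, horth c hc b hb, add_zero] at h5
      exact hsym _ _ h5
    rw [← hab, h4, zero_add]
    exact hb
  have h4 : (com K : AddSubgroup M) = ⊤ := hgen _ (fun h x hx => com_inv K h hx) h3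
  refine ⟨?_, h4⟩
  rw [eq_bot_iff]
  intro x hx
  refine hnd x fun y => horth x hx y ?_
  rw [h4]; trivial

/-- **LEMMA R, irreducible form**: if moreover `K` is trivial on `X` or on `M / X` for every `K`-submodule `X` (exactly one
nontrivial `K`-factor), then `M` is an irreducible `K`-module -/
theorem lemmaR_irr [Finite H] (h2 : ∀ x : M, x + x = 0) {K S : Subgroup H} [K.Normal] (hS : S ≤ K)
    (hodd : Odd (S.relIndex K)) {B : Type*} [AddCommGroup B] (f : M →+ M →+ B)
    (hsym : ∀ x y, f x y = 0 → f y x = 0) (hnd : ∀ x, (∀ y, f x y = 0) → x = 0)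
    (hf : ∀ k ∈ K, ∀ x y, f (k • x) (k • y) = f x y) {e : AddSubgroup M}
    (heS : e ≤ (fix S : AddSubgroup M)) (he : ∀ x ∈ (fix K : AddSubgroup M), ∀ y ∈ e, f x y = 0)
    (hgen : ∀ X : AddSubgroup M, (∀ h : H, ∀ x ∈ X, h • x ∈ X) → e ≤ X → X = ⊤)
    (hone : ∀ X : AddSubgroup M, (∀ k ∈ K, ∀ x ∈ X, k • x ∈ X) →
      (∀ x : M, ∀ k ∈ K, k • x - x ∈ X) ∨ (∀ x ∈ X, ∀ k ∈ K, k • x = x)) :
    ∀ X : AddSubgroup M, (∀ k ∈ K, ∀ x ∈ X, k • x ∈ X) → X = ⊥ ∨ X = ⊤ := by
  obtain ⟨h3, h4⟩ := lemmaR h2 hS hodd f hsym hnd hf heS he hgen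
  intro X hX
  rcases hone X hX with h | h
  · right
    rw [eq_top_iff, ← h4]
    refine (AddSubgroup.closure_le _).2 ?_
    rintro _ ⟨x, k, hk, rfl⟩
    exact h x k hk
  · left
    rw [eq_bot_iff, ← h3]
    exact fun x hx k hk => h x hx k hk

end Cfsg.Agent.Omega.BTwo.LemR
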