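import Cfsg.Agent.Omega.BTwo.Key

/-!
# SQ3, `b = 2`: the module `M = W i / R i` (frame of TEXT 2 #12282)

`ModFr`: `M ≅ W i / R i` as an additive group with the action of `N(R i)`, `B ≅ R i`, `f : M → M → B` the commutator
form. `BT.exists_mod`: existence.
-/

set_option autoImplicit false
set_option linter.unusedSectionVars false

namespace Cfsg.Agent.Omega.BTwo

open Subgroup

universe u v w

variable {G : Type u} [Group G] {ι : Type w}

/-- `N(R i)` -/
abbrev NR (R : ι → Subgroup G) (i : ι) : Subgroup G := normalizer (R i : Set G)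

/-- the module `M = W i / R i`, `B = R i`, and the commutator form -/
structure ModFr (V : Subgroup G) (R : ι → Subgroup G) (i : ι) (M B : Type u) [AddCommGroup M] [AddCommGroup B]
    [DistribMulAction (NR R i) M] [DistribMulAction (NR R i) B] (p : G → M) (r : G → B)
    (f : M →+ M →+ B) : Prop where
  p_mul : ∀ x ∈ WW V (R i), ∀ y ∈ WW V (R i), p (x * y) = p x + p y
  p_ker : ∀ x ∈ WW V (R i), (p x = 0 ↔ x ∈ R i)
  p_surj : ∀ m, ∃ x ∈ WW V (R i), p x = m
  p_act : ∀ (h : NR R i), ∀ x ∈ WW V (R i), h • p x = p (h * x * (h : G)⁻¹)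
  r_mul : ∀ x ∈ R i, ∀ y ∈ R i, r (x * y) = r x + r y
  r_ker : ∀ x ∈ R i, (r x = 0 ↔ x = 1)
  r_surj : ∀ m, ∃ x ∈ R i, r x = m
  r_act : ∀ (h : NR R i), ∀ x ∈ R i, h • r x = r (h * x * (h : G)⁻¹)
  f_eq : ∀ x ∈ WW V (R i), ∀ y ∈ WW V (R i), f (p x) (p y) = r (x * y * x⁻¹ * y⁻¹)

section exist

variable {V : Subgroup G} {R : ι → Subgroup G}

/-- conjugation by `N(A)` on `A` -/
def conjHom {A : Subgroup G} {N : Subgroup G} (h : N ≤ normalizer (A : Set G)) (n : N) : A →* A where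
  toFun x := ⟨n * x * (n : G)⁻¹, conj_mem_of_normalizer (h n.2) x.2⟩
  map_one' := Subtype.ext (by simp)
  map_mul' x y := Subtype.ext (by
    change (n : G) * (x * y) * (n : G)⁻¹ = n * x * (n : G)⁻¹ * (n * y * (n : G)⁻¹)
    group)

theorem BT.exists_mod (b : BT V R) (i : ι) :
    ∃ (M B : Type u) (_ : AddCommGroup M) (_ : AddCommGroup B) (_ : DistribMulAction (NR R i) M)
      (_ : DistribMulAction (NR R i) B) (p : G → M) (r : G → B) (f : M →+ M →+ B),
      ModFr V R i M B p r f := by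
  classical
  set W := WW V (R i) with hW
  have hRW : R i ≤ W := (b.R_le i).trans (V_le_WW V (R i))
  have hRc : ∀ x ∈ R i, ∀ w ∈ W, w * x = x * w := fun x hx w hw => b.QR i w (b.W_le_Q i hw) x hx
  set R' := (R i).subgroupOf W with hR'
  have hN : R'.Normal := ⟨by
    rintro ⟨x, hx⟩ hx' ⟨w, hw⟩
    change w * x * w⁻¹ ∈ R i
    have hx'' : x ∈ R i := hx'
    rw [hRc x hx'' w hw, mul_inv_cancel_right]
    exact hx''⟩
  have hmk : ∀ a c : W, (QuotientGroup.mk a : W ⧸ R') = QuotientGroup.mk c ↔ (a : G)⁻¹ * c ∈ R i := by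
    intro a c
    rw [QuotientGroup.eq]
    rfl
  let cM : CommGroup (W ⧸ R') :=
    { (inferInstance : Group (W ⧸ R')) with
      mul_comm := by
        intro x y
        induction x using QuotientGroup.induction_on with
        | H x =>
          induction y using QuotientGroup.induction_on with
          | H y =>
            change (QuotientGroup.mk (x * y) : W ⧸ R') = QuotientGroup.mk (y * x)
            rw [hmk]
            have h1 := b.WW_comm i (inv_mem y.2) (inv_mem x.2)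
            have e : ((x * y : W) : G)⁻¹ * (y * x : W) = (y : G)⁻¹ * (x : G)⁻¹ * (y : G)⁻¹⁻¹ * (x : G)⁻¹⁻¹ := by
              push_cast; group
            rw [e]
            exact h1 }
  let cB : CommGroup (R i) :=
    { (inferInstance : Group (R i)) with
      mul_comm := fun x y => Subtype.ext (b.V_comm x (b.R_le i x.2) y (b.R_le i y.2)) }
  have hNW : NR R i ≤ normalizer (W : Set G) := normalizer_le_WW V (R i)
  have hNR : NR R i ≤ normalizer (R i : Set G) := le_rfl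
  let φ : NR R i → (W ⧸ R') →* (W ⧸ R') := fun n => QuotientGroup.map R' R' (conjHom hNW n) (by
    rintro ⟨x, hx⟩ hx'
    exact conj_mem_of_normalizer n.2 hx')
  have hφ : ∀ (n : NR R i) (x : W), φ n (QuotientGroup.mk x) = QuotientGroup.mk (conjHom hNW n x) :=
    fun n x => rfl
  let aM : DistribMulAction (NR R i) (Additive (W ⧸ R')) :=
    { smul := fun n m => Additive.ofMul (φ n m.toMul)
      one_smul := by
        intro m
        change Additive.ofMul (φ 1 m.toMul) = m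
        have key : ∀ m : W ⧸ R', φ 1 m = m := by
          intro m
          induction m using QuotientGroup.induction_on with
          | H x =>
            rw [hφ]
            congr 1
            apply Subtype.ext
            change (1 : G) * x * (1 : G)⁻¹ = x
            group
        rw [key]
        rfl
      mul_smul := by
        intro n n' m
        change Additive.ofMul (φ (n * n') m.toMul) = Additive.ofMul (φ n (φ n' m.toMul))
        have key : ∀ m : W ⧸ R', φ (n * n') m = φ n (φ n' m) := by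
          intro m
          induction m using QuotientGroup.induction_on with
          | H x =>
            rw [hφ, hφ, hφ]
            congr 1
            apply Subtype.ext
            change ((n * n' : NR R i) : G) * x * ((n * n' : NR R i) : G)⁻¹ =
              n * (n' * x * (n' : G)⁻¹) * (n : G)⁻¹
            push_cast
            group
        rw [key]
      smul_zero := fun n => map_one (φ n)
      smul_add := fun n x y => map_mul (φ n) x.toMul y.toMul }
  let aB : DistribMulAction (NR R i) (Additive (R i)) :=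
    { smul := fun n m => Additive.ofMul (conjHom hNR n m.toMul)
      one_smul := by
        intro m
        change Additive.ofMul (conjHom hNR 1 m.toMul) = m
        have key : ∀ m : R i, conjHom hNR 1 m = m := by
          intro m
          apply Subtype.ext
          change (1 : G) * m * (1 : G)⁻¹ = m
          group
        rw [key]
        rfl
      mul_smul := by
        intro n n' m
        change Additive.ofMul (conjHom hNR (n * n') m.toMul) =
          Additive.ofMul (conjHom hNR n (conjHom hNR n' m.toMul))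
        have key : ∀ m : R i, conjHom hNR (n * n') m = conjHom hNR n (conjHom hNR n' m) := by
          intro m
          apply Subtype.ext
          change ((n * n' : NR R i) : G) * m * ((n * n' : NR R i) : G)⁻¹ =
              n * (n' * m * (n' : G)⁻¹) * (n : G)⁻¹
          push_cast
          group
        rw [key]
      smul_zero := fun n => map_one (conjHom hNR n)
      smul_add := fun n x y => map_mul (conjHom hNR n) x.toMul y.toMul }
  -- the form
  let f0 : W → W →* R i := fun x =>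
    { toFun := fun y => ⟨x * y * (x : G)⁻¹ * (y : G)⁻¹, b.WW_comm i x.2 y.2⟩
      map_one' := Subtype.ext (by
        change (x : G) * 1 * (x : G)⁻¹ * (1 : G)⁻¹ = 1
        group)
      map_mul' := fun y y' => Subtype.ext (by
        change (x : G) * (y * y') * (x : G)⁻¹ * (y * y' : G)⁻¹ =
          x * y * (x : G)⁻¹ * (y : G)⁻¹ * (x * y' * (x : G)⁻¹ * (y' : G)⁻¹)
        have h1 := b.conj_R (b.W_le_Q i y.2) (b.WW_comm i x.2 y'.2)
        calc (x : G) * (y * y') * (x : G)⁻¹ * (y * y' : G)⁻¹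
            = x * y * (x : G)⁻¹ * (y : G)⁻¹ * (y * (x * y' * (x : G)⁻¹ * (y' : G)⁻¹) * (y : G)⁻¹) := by group
          _ = _ := by rw [h1]) }
  have hf0 : ∀ (x y : W), ((f0 x y : R i) : G) = x * y * (x : G)⁻¹ * (y : G)⁻¹ := fun x y => rfl
  have hf0R : ∀ (x y : W), (y : G) ∈ R i → f0 x y = 1 := by
    intro x y hy
    apply Subtype.ext
    rw [hf0, hRc y hy x x.2]
    group
    rfl
  let f1 : W → (W ⧸ R') →* R i := fun x => QuotientGroup.lift R' (f0 x) (fun y hy => hf0R x y hy)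
  have hf1 : ∀ x y : W, f1 x (QuotientGroup.mk y) = f0 x y := fun x y => rfl
  let f2 : W →* ((W ⧸ R') →* R i) := MonoidHom.mk' f1 (by
    intro x x'
    apply MonoidHom.ext
    intro m
    induction m using QuotientGroup.induction_on with
    | H y =>
      rw [MonoidHom.mul_apply, hf1, hf1, hf1]
      apply Subtype.ext
      change (x * x' : G) * y * (x * x' : G)⁻¹ * (y : G)⁻¹ =
        x * y * (x : G)⁻¹ * (y : G)⁻¹ * (x' * y * (x' : G)⁻¹ * (y : G)⁻¹)
      have h1 := b.conj_R (b.W_le_Q i x.2) (b.WW_comm i x'.2 y.2)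
      have h2 := b.V_comm _ (b.R_le i (b.WW_comm i x'.2 y.2)) _ (b.R_le i (b.WW_comm i x.2 y.2))
      calc (x * x' : G) * y * (x * x' : G)⁻¹ * (y : G)⁻¹
          = (x * (x' * y * (x' : G)⁻¹ * (y : G)⁻¹) * (x : G)⁻¹) * (x * y * (x : G)⁻¹ * (y : G)⁻¹) := by group
        _ = (x' * y * (x' : G)⁻¹ * (y : G)⁻¹) * (x * y * (x : G)⁻¹ * (y : G)⁻¹) := by rw [h1]
        _ = _ := h2)
  let f3 : (W ⧸ R') →* ((W ⧸ R') →* R i) := QuotientGroup.lift R' f2 (by
    intro x hx
    apply MonoidHom.ext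
    intro m
    induction m using QuotientGroup.induction_on with
    | H y =>
      change f0 x y = 1
      apply Subtype.ext
      rw [hf0, ← hRc x hx y y.2]
      group
      rfl)
  have hf3 : ∀ x y : W, f3 (QuotientGroup.mk x) (QuotientGroup.mk y) = f0 x y := fun x y => rfl
  let f : Additive (W ⧸ R') →+ Additive (W ⧸ R') →+ Additive (R i) :=
    AddMonoidHom.mk' (fun a => MonoidHom.toAdditive (f3 a.toMul)) (by
      intro x y
      apply AddMonoidHom.ext
      intro z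
      change Additive.ofMul (f3 (x.toMul * y.toMul) z.toMul) =
        Additive.ofMul (f3 x.toMul z.toMul * f3 y.toMul z.toMul)
      rw [map_mul]
      rfl)
  let p : G → Additive (W ⧸ R') := fun g => if h : g ∈ W then Additive.ofMul (QuotientGroup.mk ⟨g, h⟩) else 0
  let r : G → Additive (R i) := fun g => if h : g ∈ R i then Additive.ofMul ⟨g, h⟩ else 0
  have hp : ∀ (x : G) (hx : x ∈ W), p x = Additive.ofMul (QuotientGroup.mk ⟨x, hx⟩) := fun x hx => dif_pos hx
  have hr : ∀ (x : G) (hx : x ∈ R i), r x = Additive.ofMul ⟨x, hx⟩ := fun x hx => dif_pos hx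
  refine ⟨Additive (W ⧸ R'), Additive (R i), inferInstance, inferInstance, aM, aB, p, r, f, ?_⟩
  refine
    { p_mul := fun x hx y hy => ?_
      p_ker := fun x hx => ?_
      p_surj := fun m => ?_
      p_act := fun h x hx => ?_
      r_mul := fun x hx y hy => ?_
      r_ker := fun x hx => ?_
      r_surj := fun m => ?_
      r_act := fun h x hx => ?_
      f_eq := fun x hx y hy => ?_ }
  · rw [hp _ (mul_mem hx hy), hp _ hx, hp _ hy]; rfl
  · rw [hp _ hx]
    change (QuotientGroup.mk ⟨x, hx⟩ : W ⧸ R') = 1 ↔ _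
    rw [QuotientGroup.eq_one_iff]
    rfl
  · obtain ⟨⟨x, hx⟩, h⟩ := QuotientGroup.mk_surjective m.toMul
    refine ⟨x, hx, ?_⟩
    rw [hp _ hx, h]
    rfl
  · have h1 : (h : G) * x * (h : G)⁻¹ ∈ W := conj_mem_of_normalizer (hNW h.2) hx
    rw [hp _ hx, hp _ h1]; rfl
  · rw [hr _ (mul_mem hx hy), hr _ hx, hr _ hy]; rfl
  · rw [hr _ hx]
    change (⟨x, hx⟩ : R i) = 1 ↔ _
    rw [Subtype.ext_iff]
    rfl
  · refine ⟨(m.toMul : R i), m.toMul.2, ?_⟩
    rw [hr _ m.toMul.2]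
    rfl
  · have h1 : (h : G) * x * (h : G)⁻¹ ∈ R i := conj_mem_of_normalizer h.2 hx
    rw [hr _ hx, hr _ h1]; rfl
  · rw [hp _ hx, hp _ hy, hr _ (b.WW_comm i hx hy)]; rfl

end exist

namespace ModFr

variable {V : Subgroup G} {R : ι → Subgroup G} {i : ι} {M B : Type u} [AddCommGroup M] [AddCommGroup B]
  [DistribMulAction (NR R i) M] [DistribMulAction (NR R i) B] {p : G → M} {r : G → B}
  {f : M →+ M →+ B}

section basic

variable (m : ModFr V R i M B p r f)
include m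

theorem p_one : p 1 = 0 := by
  have := m.p_mul 1 (one_mem _) 1 (one_mem _)
  rw [mul_one] at this
  exact left_eq_add.1 this

theorem p_inv {x : G} (hx : x ∈ WW V (R i)) : p x⁻¹ = - p x := by
  rw [eq_neg_iff_add_eq_zero, ← m.p_mul _ (inv_mem hx) _ hx, inv_mul_cancel, m.p_one]

theorem p_eq_iff {x y : G} (hx : x ∈ WW V (R i)) (hy : y ∈ WW V (R i)) : p x = p y ↔ x * y⁻¹ ∈ R i := by
  rw [← m.p_ker _ (mul_mem hx (inv_mem hy)), m.p_mul _ hx _ (inv_mem hy), m.p_inv hy, ← sub_eq_add_neg,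
    sub_eq_zero]

theorem r_one : r 1 = 0 := by
  have := m.r_mul 1 (one_mem _) 1 (one_mem _)
  rw [mul_one] at this
  exact left_eq_add.1 this

theorem r_inv {x : G} (hx : x ∈ R i) : r x⁻¹ = - r x := by
  rw [eq_neg_iff_add_eq_zero, ← m.r_mul _ (inv_mem hx) _ hx, inv_mul_cancel, m.r_one]

theorem r_inj {x y : G} (hx : x ∈ R i) (hy : y ∈ R i) (h : r x = r y) : x = y := by
  have h1 : r (x * y⁻¹) = 0 := by rw [m.r_mul _ hx _ (inv_mem hy), m.r_inv hy, h, add_neg_cancel]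
  rw [m.r_ker _ (mul_mem hx (inv_mem hy)), mul_inv_eq_one] at h1
  exact h1

/-- the subspace `X / R i` for a subgroup `X` of `W i` -/
def sb (X : Subgroup G) : AddSubgroup M where
  carrier := {a | ∃ x ∈ X, x ∈ WW V (R i) ∧ p x = a}
  zero_mem' := ⟨1, one_mem _, one_mem _, m.p_one⟩
  add_mem' := by
    rintro _ _ ⟨x, hx, hx', rfl⟩ ⟨y, hy, hy', rfl⟩
    exact ⟨x * y, mul_mem hx hy, mul_mem hx' hy', m.p_mul x hx' y hy'⟩
  neg_mem' := by
    rintro _ ⟨x, hx, hx', rfl⟩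
    exact ⟨x⁻¹, inv_mem hx, inv_mem hx', m.p_inv hx'⟩

theorem mem_sb {X : Subgroup G} {a : M} : a ∈ m.sb X ↔ ∃ x ∈ X, x ∈ WW V (R i) ∧ p x = a := Iff.rfl

theorem p_mem {X : Subgroup G} {x : G} (hx : x ∈ WW V (R i)) (h : x ∈ X) : p x ∈ m.sb X := ⟨x, h, hx, rfl⟩

theorem p_mem_iff {X : Subgroup G} {x : G} (hx : x ∈ WW V (R i)) (hR : R i ≤ X) :
    p x ∈ m.sb X ↔ x ∈ X := by
  refine ⟨?_, m.p_mem hx⟩
  rintro ⟨y, hy, hy', e⟩
  have h1 := hR ((m.p_eq_iff hy' hx).1 e)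
  have e2 : x = (y * x⁻¹)⁻¹ * y := by group
  rw [e2]
  exact mul_mem (inv_mem h1) hy

theorem sb_mono {X X' : Subgroup G} (h : X ≤ X') : m.sb X ≤ m.sb X' := by
  rintro _ ⟨x, hx, hx', rfl⟩
  exact ⟨x, h hx, hx', rfl⟩

theorem sb_smul {X : Subgroup G} {h : NR R i} (hX : (h : G) ∈ normalizer (X : Set G)) {a : M}
    (ha : a ∈ m.sb X) : h • a ∈ m.sb X := by
  obtain ⟨x, hx, hx', rfl⟩ := ha
  rw [m.p_act h x hx']
  exact ⟨_, conj_mem_of_normalizer hX hx, conj_mem_of_normalizer (normalizer_le_WW V (R i) h.2) hx', rfl⟩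

theorem sb_W : m.sb (WW V (R i)) = ⊤ := by
  rw [eq_top_iff]
  intro a _
  obtain ⟨x, hx, rfl⟩ := m.p_surj a
  exact ⟨x, hx, hx, rfl⟩

/-- `M = ⟨e^H⟩` -/
theorem gen {S : AddSubgroup M} (hS : ∀ h : NR R i, ∀ a ∈ S, h • a ∈ S) (hV : m.sb V ≤ S) : S = ⊤ := by
  rw [eq_top_iff]
  intro a _
  obtain ⟨x, hx, rfl⟩ := m.p_surj a
  let T : Subgroup G :=
    { carrier := {x | x ∈ WW V (R i) ∧ p x ∈ S}
      one_mem' := ⟨one_mem _, by rw [m.p_one]; exact zero_mem _⟩
      mul_mem' := by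
        rintro x y ⟨hx, hx'⟩ ⟨hy, hy'⟩
        exact ⟨mul_mem hx hy, by rw [m.p_mul x hx y hy]; exact add_mem hx' hy'⟩
      inv_mem' := by
        rintro x ⟨hx, hx'⟩
        exact ⟨inv_mem hx, by rw [m.p_inv hx]; exact neg_mem hx'⟩ }
  have hT : WW V (R i) ≤ T := by
    refine iSup_le fun h => ?_
    rintro _ ⟨v, hv, rfl⟩
    change (h : G) * v * (h : G)⁻¹ ∈ T
    have hvW := V_le_WW V (R i) hv
    refine ⟨cj_le_WW h.2 (conj_mem_cj hv), ?_⟩
    rw [← m.p_act h v hvW]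
    exact hS h _ (hV ⟨v, hv, hvW, rfl⟩)
  exact (hT hx).2

end basic

section facts

variable (m : ModFr V R i M B p r f) (b : BT V R)
include m b

theorem two_M (a : M) : a + a = 0 := by
  obtain ⟨x, hx, rfl⟩ := m.p_surj a
  rw [← m.p_mul x hx x hx, m.p_ker _ (mul_mem hx hx)]
  exact b.W_sq i hx

theorem two_B (a : B) : a + a = 0 := by
  obtain ⟨x, hx, rfl⟩ := m.r_surj a
  rw [← m.r_mul x hx x hx, m.r_ker _ (mul_mem hx hx)]
  exact b.V_sq x (b.R_le i hx)

theorem f_self (a : M) : f a a = 0 := by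
  obtain ⟨x, hx, rfl⟩ := m.p_surj a
  rw [m.f_eq x hx x hx]
  have e : x * x * x⁻¹ * x⁻¹ = 1 := by group
  rw [e, m.r_one]

theorem f_symm (a c : M) : f a c = f c a := by
  have h := m.f_self b (a + c)
  rw [map_add, map_add, AddMonoidHom.add_apply, AddMonoidHom.add_apply, m.f_self b a, m.f_self b c, zero_add,
    add_zero] at h
  have h2 := m.two_B b (f a c)
  rw [← h2] at h
  exact (add_right_cancel h).symm

theorem f_act (h : NR R i) (a c : M) : f (h • a) (h • c) = h • f a c := by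
  obtain ⟨x, hx, rfl⟩ := m.p_surj a
  obtain ⟨y, hy, rfl⟩ := m.p_surj c
  have hN := normalizer_le_WW V (R i) h.2
  rw [m.p_act h x hx, m.p_act h y hy, m.f_eq _ (conj_mem_of_normalizer hN hx) _ (conj_mem_of_normalizer hN hy),
    m.f_eq x hx y hy, m.r_act h _ (b.WW_comm i hx hy)]
  congr 1
  group

/-- `Q i` acts trivially on `M` -/
theorem Q_act {h : NR R i} (hh : (h : G) ∈ QQ (R i)) (a : M) : h • a = a := by
  obtain ⟨x, hx, rfl⟩ := m.p_surj a
  rw [m.p_act h x hx, m.p_eq_iff (conj_mem_of_normalizer (normalizer_le_WW V (R i) h.2) hx) hx]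
  exact b.WQ i hh hx

/-- the kernel of the action on `M` is `K i` -/
theorem mem_K {h : NR R i} (hh : ∀ a : M, h • a = a) : (h : G) ∈ KK V R i := by
  have _ := b
  refine ⟨h.2, fun x hx => ?_⟩
  have h1 := hh (p x)
  rwa [m.p_act h x hx, m.p_eq_iff (conj_mem_of_normalizer (normalizer_le_WW V (R i) h.2) hx) hx] at h1

/-- elements of `N(R i)` centralising `R i` act trivially on `B` -/
theorem act_B {h : NR R i} (hh : (h : G) ∈ centralizer (R i : Set G)) (β : B) : h • β = β := by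
  have _ := b
  obtain ⟨x, hx, rfl⟩ := m.r_surj β
  rw [m.r_act h x hx, ← mem_centralizer_iff.1 hh x hx, mul_inv_cancel_right]

/-- `e^⊥ = U i / R i` -/
theorem perp_iff (a : M) : (∀ c ∈ m.sb V, f a c = 0) ↔ a ∈ m.sb (UU V R i) := by
  obtain ⟨x, hx, rfl⟩ := m.p_surj a
  rw [m.p_mem_iff hx (b.R_le_U i)]
  constructor
  · intro h
    refine mem_inf.2 ⟨hx, ?_⟩
    rw [mem_centralizer_iff]
    intro v hv
    have hvW := V_le_WW V (R i) hv
    have h1 := h (p v) (m.p_mem hvW hv)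
    rw [m.f_eq x hx v hvW, m.r_ker _ (b.WW_comm i hx hvW), mul_inv_eq_one, mul_inv_eq_iff_eq_mul] at h1
    exact h1.symm
  · rintro h _ ⟨v, hv, hvW, rfl⟩
    rw [m.f_eq x hx v hvW]
    have h1 := mem_centralizer_iff.1 (UU_le_cen i h) v hv
    have e : x * v * x⁻¹ * v⁻¹ = 1 := by rw [← h1]; group
    rw [e, m.r_one]

theorem f_DD {a c : M} (ha : a ∈ m.sb (DD V R)) (hc : c ∈ m.sb (DD V R)) : f a c = 0 := by
  obtain ⟨x, hx, hx', rfl⟩ := ha
  obtain ⟨y, hy, hy', rfl⟩ := hc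
  rw [m.f_eq x hx' y hy']
  have e : x * y * x⁻¹ * y⁻¹ = 1 := by rw [b.D_comm hx hy]; group
  rw [e, m.r_one]

theorem smul_sub_p {h : NR R i} {x : G} (hx : x ∈ WW V (R i)) :
    h • p x - p x = p (h * x * (h : G)⁻¹ * x⁻¹) := by
  have _ := b
  have h1 := conj_mem_of_normalizer (normalizer_le_WW V (R i) h.2) hx
  rw [m.p_act h x hx, m.p_mul _ h1 _ (inv_mem hx), m.p_inv hx, sub_eq_add_neg]

theorem comm_mem_W {h : NR R i} {x : G} (hx : x ∈ WW V (R i)) : h * x * (h : G)⁻¹ * x⁻¹ ∈ WW V (R i) := by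
  have _ := m
  have _ := b
  exact mul_mem (conj_mem_of_normalizer (normalizer_le_WW V (R i) h.2) hx) (inv_mem hx)

/-- `X ∩ N(R i)` is trivial on `D / V` -/
theorem X_D {h : NR R i} (hh : (h : G) ∈ XX V R) {a : M} (ha : a ∈ m.sb (DD V R)) : h • a - a ∈ m.sb V := by
  obtain ⟨x, hx, hx', rfl⟩ := ha
  rw [m.smul_sub_p b hx']
  exact m.p_mem (m.comm_mem_W b hx') (b.XD hh hx)

theorem A_D {j : ι} {h : NR R i} (hh : (h : G) ∈ UU V R j) {a : M} (ha : a ∈ m.sb (DD V R)) :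
    h • a - a ∈ m.sb V := m.X_D b (YY_le_XX (UU_le_YY j hh)) ha

/-- `[e^⊥, A] ≤ D / R` -/
theorem A_U {j : ι} {h : NR R i} (hh : (h : G) ∈ UU V R j) {a : M} (ha : a ∈ m.sb (UU V R i)) :
    h • a - a ∈ m.sb (DD V R) := by
  obtain ⟨x, hx, hx', rfl⟩ := ha
  rw [m.smul_sub_p b hx']
  exact m.p_mem (m.comm_mem_W b hx') (b.Y_comm (UU_le_YY j hh) (UU_le_YY i hx))

/-- `[M, A] ≤ e^⊥` -/
theorem A_M {j : ι} {h : NR R i} (hh : (h : G) ∈ UU V R j) (a : M) : h • a - a ∈ m.sb (UU V R i) := by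
  obtain ⟨x, hx, rfl⟩ := m.p_surj a
  rw [m.smul_sub_p b hx]
  refine m.p_mem (m.comm_mem_W b hx) ?_
  have e : h * x * (h : G)⁻¹ * x⁻¹ = (x * h * x⁻¹ * (h : G)⁻¹)⁻¹ := by group
  rw [e]
  exact inv_mem (b.WU' hx hh)

/-- `A` is semiregular outside `e^⊥`, modulo `D` -/
theorem A_inj {j : ι} (hij : i ≠ j) {h : NR R i} (hh : (h : G) ∈ UU V R j) {a : M}
    (ha : a ∉ m.sb (UU V R i)) (hD : h • a - a ∈ m.sb (DD V R)) : (h : G) ∈ DD V R := by
  obtain ⟨x, hx, rfl⟩ := m.p_surj a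
  rw [m.p_mem_iff hx (b.R_le_U i)] at ha
  rw [m.smul_sub_p b hx, m.p_mem_iff (m.comm_mem_W b hx) ((b.R_le i).trans (V_le_D V R))] at hD
  refine b.inj hij.symm hx ha hh ?_
  have e : x * h * x⁻¹ * (h : G)⁻¹ = (h * x * (h : G)⁻¹ * x⁻¹)⁻¹ := by group
  rw [e]
  exact inv_mem hD

/-- `[M, A] + D = e^⊥` -/
theorem A_surj [Finite G] {j : ι} (hij : i ≠ j) {a : M} (ha : a ∉ m.sb (UU V R i)) {c : M}
    (hc : c ∈ m.sb (UU V R i)) : ∃ h : NR R i, (h : G) ∈ UU V R j ∧ h • a - a - c ∈ m.sb (DD V R) := by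
  obtain ⟨x, hx, rfl⟩ := m.p_surj a
  rw [m.p_mem_iff hx (b.R_le_U i)] at ha
  obtain ⟨u, hu, huW, rfl⟩ := hc
  obtain ⟨y, hy, hyD⟩ := b.surj hij.symm hx ha (inv_mem hu)
  refine ⟨⟨y, b.cen_le_N i (UU_le_cen j hy)⟩, hy, ?_⟩
  have hW := m.comm_mem_W b (h := ⟨y, b.cen_le_N i (UU_le_cen j hy)⟩) hx
  rw [m.smul_sub_p b hx, sub_eq_add_neg, ← m.p_inv huW, ← m.p_mul _ hW _ (inv_mem huW)]
  refine m.p_mem (mul_mem hW (inv_mem huW)) ?_
  -- `[y, x] u⁻¹ ∈ D` from `[x, y]⁻¹ u⁻¹ ∈ D`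
  have e : (y * x * y⁻¹ * x⁻¹) * u⁻¹ = (x * y * x⁻¹ * y⁻¹)⁻¹ * u⁻¹ := by group
  change (y * x * y⁻¹ * x⁻¹) * u⁻¹ ∈ DD V R
  rw [e]
  exact hyD

/-- `C_M(A) ≤ e^⊥` -/
theorem C_A {j : ι} (hij : i ≠ j) (hA : ¬ UU V R j ≤ DD V R) {a : M}
    (ha : ∀ h : NR R i, (h : G) ∈ UU V R j → h • a = a) : a ∈ m.sb (UU V R i) := by
  by_contra hc
  apply hA
  intro y hy
  have h1 := ha ⟨y, b.cen_le_N i (UU_le_cen j hy)⟩ hy
  exact m.A_inj b hij (h := ⟨y, b.cen_le_N i (UU_le_cen j hy)⟩) hy hc (by rw [h1, sub_self]; exact zero_mem _)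

/-- `W i` and `C(V)` centralise `e` -/
theorem cen_e {h : NR R i} (hh : (h : G) ∈ centralizer (V : Set G)) {a : M} (ha : a ∈ m.sb V) : h • a = a := by
  have _ := b
  obtain ⟨x, hx, hx', rfl⟩ := ha
  rw [m.p_act h x hx', ← mem_centralizer_iff.1 hh x hx, mul_inv_cancel_right]

theorem W_act {h : NR R i} (hh : (h : G) ∈ WW V (R i)) (a : M) : h • a = a :=
  m.Q_act b (b.W_le_Q i hh) a

end facts

section factsC

variable (m : ModFr V R i M B p r f) (b : BTC V R)
include m b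

theorem mem_Q [Finite G] {h : NR R i} (hh : ∀ a : M, h • a = a) : (h : G) ∈ QQ (R i) := by
  rw [← b.K_eq i]
  exact m.mem_K b.toBT hh

/-- `C_M(A) ∩ D = e` -/
theorem C_A_D [Finite G] {j : ι} (hij : i ≠ j) {a : M} (ha : a ∈ m.sb (DD V R))
    (hA : ∀ h : NR R i, (h : G) ∈ UU V R j → h • a = a) : a ∈ m.sb V := by
  obtain ⟨x, hx, hx', rfl⟩ := ha
  refine m.p_mem hx' (b.cen_DU (i := j) hx fun u hu => ?_)
  have h1 := hA ⟨u, b.cen_le_N i (UU_le_cen j hu)⟩ hu
  have h2 : p (u * x * u⁻¹ * x⁻¹) = 0 := by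
    have h3 := m.smul_sub_p b.toBT (h := ⟨u, b.cen_le_N i (UU_le_cen j hu)⟩) hx'
    rw [h1, sub_self] at h3
    exact h3.symm
  have h4 : u * x * u⁻¹ * x⁻¹ ∈ R i :=
    (m.p_ker _ (m.comm_mem_W b.toBT (h := ⟨u, b.cen_le_N i (UU_le_cen j hu)⟩) hx')).1 h2
  have h5 : u * x * u⁻¹ * x⁻¹ ∈ R j := by
    have h6 := b.DU hx hu
    have e : u * x * u⁻¹ * x⁻¹ = (x * u * x⁻¹ * u⁻¹)⁻¹ := by group
    rw [e]
    exact inv_mem h6
  have h6 := b.eq_one hij h4 h5
  rw [mul_inv_eq_one, mul_inv_eq_iff_eq_mul] at h6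
  exact h6.symm

/-- `Rad f = 0` -/
theorem rad (hC : centralizer (WW V (R i) : Set G) ≤ R i) {a : M} (ha : ∀ c, f a c = 0) : a = 0 := by
  obtain ⟨x, hx, rfl⟩ := m.p_surj a
  rw [m.p_ker x hx]
  refine hC ?_
  rw [mem_centralizer_iff]
  intro w hw
  have h1 := ha (p w)
  rw [m.f_eq x hx w hw, m.r_ker _ (b.WW_comm i hx hw), mul_inv_eq_one, mul_inv_eq_iff_eq_mul] at h1
  exact h1.symm

end factsC

section factsK

variable (m : ModFr V R i M B p r f) (b : BT V R)
include m b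

/-- `Rad (ξ ∘ f) = Rad f` for every `ξ ≠ 0` (KEY (8.1) of #11043) -/
theorem rad_xi [Finite G] {E : Type*} [AddCommGroup E] (ξ : B →+ E) (hξ : ξ ≠ 0) {a : M}
    (ha : ∀ c, ξ (f a c) = 0) (c : M) : f a c = 0 := by
  obtain ⟨x, hx, rfl⟩ := m.p_surj a
  obtain ⟨y, hy, rfl⟩ := m.p_surj c
  let R0 : Subgroup G :=
    { carrier := {z | z ∈ R i ∧ ξ (r z) = 0}
      one_mem' := ⟨one_mem _, by rw [m.r_one, map_zero]⟩
      mul_mem' := by
        rintro z z' ⟨hz, hz'⟩ ⟨h1, h2⟩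
        exact ⟨mul_mem hz h1, by rw [m.r_mul z hz z' h1, map_add, hz', h2, add_zero]⟩
      inv_mem' := by
        rintro z ⟨hz, hz'⟩
        exact ⟨inv_mem hz, by rw [m.r_inv hz, map_neg, hz', neg_zero]⟩ }
  have hR0 : ¬ R i ≤ R0 := by
    intro h
    apply hξ
    apply AddMonoidHom.ext
    intro β
    obtain ⟨z, hz, rfl⟩ := m.r_surj β
    exact (h hz).2
  have h1 := b.rad hx hR0 (fun w hw => ⟨b.WW_comm i hx hw, by rw [← m.f_eq x hx w hw]; exact ha _⟩) y hy
  rw [m.f_eq x hx y hy, m.r_ker _ (b.WW_comm i hx hy), mul_inv_eq_one, mul_inv_eq_iff_eq_mul]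
  exact h1

end factsK

end ModFr

end Cfsg.Agent.Omega.BTwo
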