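import Cfsg.Agent.Omega.BTwo.ModT

/-!
# SQ3, `b = 2`, rad = 0: the module `M = W i / R i` is a vector space over `F` (setting of #14331)

`M`, `f : M × M → B = R i` as in `ModFr`, coordinates `Coord` on `V` with field `F`, `C(W i) ≤ R i`.

* `ModFr.semi_all` : every element of `N(R i)` acts semilinearly on `B ≅ F`;
* `ModFr.exists_module` : `M` is an `F`-space and `f` is `F`-bilinear;
* `FMod` : the output structure, `ModFr.exists_fMod`.
-/

set_option autoImplicit false
set_option linter.unusedSectionVars false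

namespace Cfsg.Agent.Omega.BTwo

open Subgroup

universe u v w

/-- A bijective additive map `σ` with `u(δ) γ = σ(w(γ) δ)`, `u ≠ 0`, is semilinear. -/
theorem semi_of_pair {F : Type*} [Field F] {σ : F → F} (h0 : σ 0 = 0) (hbij : Function.Bijective σ)
    {u w : F → F} (hw : ∀ a b, w (a + b) = w a + w b) (h : ∀ γ δ, u δ * γ = σ (w γ * δ))
    (hne : ∃ δ, u δ ≠ 0) : ∃ s : F ≃+* F, ∀ l β, σ (l * β) = s l * σ β := by
  set k := w 1 with hk
  have hu : ∀ δ, u δ = σ (k * δ) := fun δ => by rw [← h, mul_one]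
  have hk0 : k ≠ 0 := by
    intro hk0
    obtain ⟨δ, hδ⟩ := hne
    apply hδ
    rw [hu, hk0, zero_mul, h0]
  have hσ1 : σ 1 ≠ 0 := fun h1 => one_ne_zero (hbij.1 (h1.trans h0.symm))
  have key : ∀ γ δ, σ (w γ * k⁻¹ * δ) = γ * σ δ := by
    intro γ δ
    have h1 := h γ (k⁻¹ * δ)
    rw [hu, ← mul_assoc, mul_inv_cancel₀ hk0, one_mul, ← mul_assoc] at h1
    rw [← h1, mul_comm]
  have inj : Function.Injective fun γ => w γ * k⁻¹ := by
    intro γ γ' e
    have h1 := key γ 1
    have h2 := key γ' 1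
    simp only at e
    rw [e, h2] at h1
    exact (mul_right_cancel₀ hσ1 h1).symm
  let τ : F →+* F :=
    { toFun := fun γ => w γ * k⁻¹
      map_one' := mul_inv_cancel₀ hk0
      map_mul' := fun γ γ' => by
        apply hbij.1
        have h1 := key (γ * γ') 1
        have h2 := key γ (w γ' * k⁻¹)
        have h3 := key γ' 1
        rw [mul_one] at h1 h3
        rw [h1, h2, h3, mul_assoc]
      map_zero' := by
        have h1 := hw 0 0
        rw [add_zero] at h1
        rw [left_eq_add.1 h1, zero_mul]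
      map_add' := fun γ γ' => by rw [hw, add_mul] }
  have hτ : Function.Bijective τ := by
    refine ⟨inj, fun x => ⟨σ x * (σ 1)⁻¹, ?_⟩⟩
    change w _ * k⁻¹ = x
    apply hbij.1
    have h1 := key (σ x * (σ 1)⁻¹) 1
    rw [mul_one, mul_assoc, inv_mul_cancel₀ hσ1, mul_one] at h1
    exact h1
  let e : F ≃+* F := RingEquiv.ofBijective τ hτ
  refine ⟨e.symm, fun l β => ?_⟩
  have h1 := key (e.symm l) β
  have h2 : w (e.symm l) * k⁻¹ = l := e.apply_symm_apply l
  rw [h2] at h1
  exact h1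

variable {G : Type u} [Group G] {ι : Type w} {V : Subgroup G} {R : ι → Subgroup G} {i j : ι}

namespace ModFr

variable {F : Type v} [Field F] {v : F → F → G} {w1 w2 : F → G}
variable {M B : Type u} [AddCommGroup M] [AddCommGroup B]
  [DistribMulAction (NR R i) M] [DistribMulAction (NR R i) B] {p : G → M} {r : G → B} {f : M →+ M →+ B}
variable (m : ModFr V R i M B p r f) (c : Coord V R i j v w1 w2) (b : BT V R)

/-- `F ≃ B` -/
noncomputable def bE : F ≃+ B := AddEquiv.ofBijective (m.bF c b) (m.bF_bij c b)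

/-- the action of `N(R i)` on `B`, transported to `F` -/
noncomputable def sg (h : NR R i) (β : F) : F := (m.bE c b).symm (h • m.bE c b β)

include m c b

theorem bE_apply (β : F) : m.bE c b β = m.bF c b β := rfl

theorem bF_sg (h : NR R i) (β : F) : m.bF c b (m.sg c b h β) = h • m.bF c b β :=
  (m.bE c b).apply_symm_apply _

theorem sg_eq {h : NR R i} {β γ : F} (e : h • m.bF c b β = m.bF c b γ) : m.sg c b h β = γ := by
  apply (m.bF_bij c b).1
  rw [m.bF_sg, e]

theorem sg_zero (h : NR R i) : m.sg c b h 0 = 0 := m.sg_eq c b (by rw [map_zero, smul_zero])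

theorem sg_one (β : F) : m.sg c b 1 β = β := m.sg_eq c b (one_smul _ _)

theorem sg_mul (g h : NR R i) (β : F) : m.sg c b (g * h) β = m.sg c b g (m.sg c b h β) :=
  m.sg_eq c b (by rw [mul_smul, m.bF_sg, m.bF_sg])

theorem sg_bij (h : NR R i) : Function.Bijective (m.sg c b h) := by
  refine ⟨fun β γ e => ?_, fun β => ⟨m.sg c b h⁻¹ β, ?_⟩⟩
  · have h1 := m.sg_mul c b h⁻¹ h β
    have h2 := m.sg_mul c b h⁻¹ h γ
    rw [inv_mul_cancel, m.sg_one] at h1 h2
    rw [h1, h2, e]
  · rw [← m.sg_mul, mul_inv_cancel, m.sg_one]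

/-- `h` acts semilinearly on `B ≅ F` -/
def Sl (h : NR R i) : Prop := ∃ s : F ≃+* F, ∀ l β, m.sg c b h (l * β) = s l * m.sg c b h β

theorem Sl.mul {g h : NR R i} (hg : m.Sl c b g) (hh : m.Sl c b h) : m.Sl c b (g * h) := by
  obtain ⟨s, hs⟩ := hg
  obtain ⟨t, ht⟩ := hh
  refine ⟨t.trans s, fun l β => ?_⟩
  rw [m.sg_mul, m.sg_mul, ht, hs]
  rfl

theorem Sl.inv {g : NR R i} (hg : m.Sl c b g) : m.Sl c b g⁻¹ := by
  obtain ⟨s, hs⟩ := hg
  refine ⟨s.symm, fun l β => ?_⟩
  apply (m.sg_bij c b g).1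
  rw [hs, ← m.sg_mul, ← m.sg_mul, mul_inv_cancel, m.sg_one, m.sg_one, RingEquiv.apply_symm_apply]

theorem Sl.iff_of_mul {g h : NR R i} (hg : m.Sl c b g) : m.Sl c b (g * h) ↔ m.Sl c b h := by
  refine ⟨fun hh => ?_, fun hh => Sl.mul m c b hg hh⟩
  have := Sl.mul m c b (Sl.inv m c b hg) hh
  rwa [inv_mul_cancel_left] at this

theorem sl_cen {h : NR R i} (hh : (h : G) ∈ centralizer (R i : Set G)) : m.Sl c b h := by
  have h1 : ∀ β, m.sg c b h β = β := fun β => m.sg_eq c b (m.act_B b hh _)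
  exact ⟨RingEquiv.refl F, fun l β => by rw [h1, h1]; rfl⟩

theorem sl_one : m.Sl c b 1 := ⟨RingEquiv.refl F, fun l β => by rw [m.sg_one, m.sg_one]; rfl⟩

section char2

variable [CharP F 2]

theorem sg_tr (t : Fˣ) (β : F) : m.sg c b (tr c b t) β = (t : F) * β := m.sg_eq c b (m.T_B c b t β)

theorem sl_tr (t : Fˣ) : m.Sl c b (tr c b t) :=
  ⟨RingEquiv.refl F, fun l β => by
    rw [m.sg_tr, m.sg_tr]
    change (t : F) * (l * β) = l * ((t : F) * β)
    ring⟩

/-- two lines which do not commute have the same field -/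
theorem sl_of_ne {h : NR R i} {γ δ : F} (hne : f (m.eF c b γ) (h • m.eF c b δ) ≠ 0) : m.Sl c b h := by
  obtain ⟨ω, -, -, hω, -, -⟩ := m.exists_omega c b
  refine semi_of_pair (m.sg_zero c b h) (m.sg_bij c b h) (u := fun δ => ω (h • m.eF c b δ))
    (w := fun γ => ω (h⁻¹ • m.eF c b γ)) (fun a a' => ?_) (fun γ δ => ?_) ⟨δ, fun h0 => hne ?_⟩
  · rw [map_add, smul_add, map_add]
  · symm
    apply m.sg_eq
    rw [← hω, ← hω, ← m.f_act b, smul_inv_smul, m.f_symm b]
  · rw [m.f_symm b, hω]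
    change ω _ = 0 at h0
    rw [h0, zero_mul, map_zero]

end char2

end ModFr

section all

variable {F : Type v} [Field F] [CharP F 2] {v : F → F → G} {w1 w2 : F → G}
variable {M B : Type u} [AddCommGroup M] [AddCommGroup B]
  [DistribMulAction (NR R i) M] [DistribMulAction (NR R i) B] {p : G → M} {r : G → B} {f : M →+ M →+ B}

namespace ModFr

variable (m : ModFr V R i M B p r f) (c : Coord V R i j v w1 w2) (b : BTC V R)
include m c b

/-- **every element of `N(R i)` acts semilinearly on `B = R i`** -/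
theorem semi_all [Finite G] [Finite F] (hF : ∃ a : F, a ≠ 0 ∧ a ≠ 1)
    (hC : centralizer (WW V (R i) : Set G) ≤ R i) (h : NR R i) : m.Sl c b.toBT h := by
  classical
  have b' := b.toBT
  let M1 : AddSubgroup M := AddSubgroup.closure {a | ∃ (g : NR R i) (x : M), m.Sl c b' g ∧ x ∈ m.sb V ∧ g • x = a}
  let M2 : AddSubgroup M := AddSubgroup.closure {a | ∃ (g : NR R i) (x : M), ¬ m.Sl c b' g ∧ x ∈ m.sb V ∧ g • x = a}
  have mem1 : ∀ (g : NR R i) (x : M), m.Sl c b' g → x ∈ m.sb V → g • x ∈ M1 := fun g x hg hx =>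
    AddSubgroup.subset_closure ⟨g, x, hg, hx, rfl⟩
  have mem2 : ∀ (g : NR R i) (x : M), ¬ m.Sl c b' g → x ∈ m.sb V → g • x ∈ M2 := fun g x hg hx =>
    AddSubgroup.subset_closure ⟨g, x, hg, hx, rfl⟩
  have hV1 : m.sb V ≤ M1 := fun x hx => by
    have := mem1 1 x (m.sl_one c b') hx
    rwa [one_smul] at this
  -- invariance
  have inv1 : ∀ g : NR R i, m.Sl c b' g → ∀ a ∈ M1, g • a ∈ M1 := by
    intro g hg a ha
    induction ha using AddSubgroup.closure_induction with
    | mem a ha =>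
      obtain ⟨k, x, hk, hx, rfl⟩ := ha
      rw [← mul_smul]
      exact mem1 _ _ (Sl.mul m c b' hg hk) hx
    | zero => rw [smul_zero]; exact zero_mem _
    | add a a' _ _ h1 h2 => rw [smul_add]; exact add_mem h1 h2
    | neg a _ h1 => rw [smul_neg]; exact neg_mem h1
  have inv2 : ∀ g : NR R i, m.Sl c b' g → ∀ a ∈ M2, g • a ∈ M2 := by
    intro g hg a ha
    induction ha using AddSubgroup.closure_induction with
    | mem a ha =>
      obtain ⟨k, x, hk, hx, rfl⟩ := ha
      rw [← mul_smul]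
      exact mem2 _ _ (fun h1 => hk ((Sl.iff_of_mul m c b' hg).1 h1)) hx
    | zero => rw [smul_zero]; exact zero_mem _
    | add a a' _ _ h1 h2 => rw [smul_add]; exact add_mem h1 h2
    | neg a _ h1 => rw [smul_neg]; exact neg_mem h1
  -- orthogonality
  have perp0 : ∀ (g k : NR R i) (x y : M), m.Sl c b' g → ¬ m.Sl c b' k → x ∈ m.sb V → y ∈ m.sb V →
      f (g • x) (k • y) = 0 := by
    intro g k x y hg hk hx hy
    by_contra hne
    apply hk
    obtain ⟨γ, rfl⟩ := (m.mem_e c b').1 hx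
    obtain ⟨δ, rfl⟩ := (m.mem_e c b').1 hy
    have h1 : f (m.eF c b' γ) ((g⁻¹ * k) • m.eF c b' δ) ≠ 0 := by
      intro h0
      apply hne
      have h2 := m.f_act b' g (m.eF c b' γ) ((g⁻¹ * k) • m.eF c b' δ)
      rw [h0, smul_zero, ← mul_smul, mul_inv_cancel_left] at h2
      exact h2
    exact (Sl.iff_of_mul m c b' (Sl.inv m c b' hg)).1 (m.sl_of_ne c b' h1)
  have perp : ∀ a ∈ M1, ∀ a' ∈ M2, f a a' = 0 := by
    intro a ha
    induction ha using AddSubgroup.closure_induction with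
    | mem a ha =>
      obtain ⟨g, x, hg, hx, rfl⟩ := ha
      intro a' ha'
      induction ha' using AddSubgroup.closure_induction with
      | mem a' ha' =>
        obtain ⟨k, y, hk, hy, rfl⟩ := ha'
        exact perp0 g k x y hg hk hx hy
      | zero => rw [map_zero]
      | add a a' _ _ h1 h2 => rw [map_add, h1, h2, add_zero]
      | neg a _ h1 => rw [map_neg, h1, neg_zero]
    | zero => intro a' _; rw [map_zero, AddMonoidHom.zero_apply]
    | add a a' _ _ h1 h2 =>
      intro x hx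
      rw [map_add, AddMonoidHom.add_apply, h1 x hx, h2 x hx, add_zero]
    | neg a _ h1 =>
      intro x hx
      rw [map_neg, AddMonoidHom.neg_apply, h1 x hx, neg_zero]
  have hsum : M1 ⊔ M2 = ⊤ := by
    have h1 : AddSubgroup.closure {a | ∃ (g : NR R i) (x : M), x ∈ m.sb V ∧ g • x = a} = ⊤ := by
      apply m.gen
      · intro g a ha
        induction ha using AddSubgroup.closure_induction with
        | mem a ha =>
          obtain ⟨k, x, hx, rfl⟩ := ha
          rw [← mul_smul]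
          exact AddSubgroup.subset_closure ⟨g * k, x, hx, rfl⟩
        | zero => rw [smul_zero]; exact zero_mem _
        | add a a' _ _ h1 h2 => rw [smul_add]; exact add_mem h1 h2
        | neg a _ h1 => rw [smul_neg]; exact neg_mem h1
      · intro x hx
        exact AddSubgroup.subset_closure ⟨1, x, hx, one_smul _ _⟩
    rw [eq_top_iff, ← h1, AddSubgroup.closure_le]
    rintro a ⟨g, x, hx, rfl⟩
    by_cases hg : m.Sl c b' g
    · exact (le_sup_left : M1 ≤ M1 ⊔ M2) (mem1 g x hg hx)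
    · exact (le_sup_right : M2 ≤ M1 ⊔ M2) (mem2 g x hg hx)
  obtain ⟨ω, hωs, hωU, hω, hωt, -⟩ := m.exists_omega c b'
  -- `ω ≠ 0` on `M1`
  have hω2 : ∀ a ∈ M2, ω a = 0 := by
    intro a ha
    have h1 := perp _ (hV1 ((m.mem_e c b').2 ⟨1, rfl⟩)) a ha
    rw [m.f_symm b', hω, mul_one] at h1
    exact (m.bF_bij c b').1 (h1.trans (map_zero _).symm)
  obtain ⟨a0, ha0, hωa0⟩ : ∃ a ∈ M1, ω a ≠ 0 := by
    obtain ⟨a, ha⟩ := hωs 1
    have h0 : a ∈ M1 ⊔ M2 := hsum ▸ AddSubgroup.mem_top a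
    obtain ⟨a1, h1, a2, h2, rfl⟩ := AddSubgroup.mem_sup.1 h0
    refine ⟨a1, h1, ?_⟩
    rw [map_add, hω2 a2 h2, add_zero] at ha
    rw [ha]
    exact one_ne_zero
  -- `M = M1 + D`
  have hD0 : ∀ a ∈ m.sb (UU V R i), ∃ a1 ∈ M1, a - a1 ∈ m.sb (DD V R) := by
    intro a ha
    have h0 : a0 ∉ m.sb (UU V R i) := fun h => hωa0 ((hωU a0).2 h)
    obtain ⟨g, hg, hgD⟩ := m.A_surj b' c.ne h0 ha
    refine ⟨g • a0 - a0, sub_mem (inv1 g (m.sl_cen c b' ?_) a0 ha0) ha0, ?_⟩
    · exact (centralizer_le (b.R_le i)) (UU_le_cen j hg)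
    · have h1 := neg_mem hgD
      have e : -(g • a0 - a0 - a) = a - (g • a0 - a0) := by abel
      rwa [e] at h1
  have hD : ∀ a, ∃ a1 ∈ M1, a - a1 ∈ m.sb (DD V R) := by
    intro a
    by_cases hz : ω a = 0
    · exact hD0 a ((hωU a).1 hz)
    · obtain ⟨t, ht⟩ : ∃ t : F, t ^ 2 = ω a * (ω a0)⁻¹ := by
        have h1 : Function.Bijective (frobenius F 2) :=
          ((Finite.injective_iff_bijective (f := frobenius F 2)).1 (frobenius_inj F 2))
        obtain ⟨t, ht⟩ := h1.2 (ω a * (ω a0)⁻¹)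
        exact ⟨t, ht⟩
      have ht0 : t ≠ 0 := by
        rintro rfl
        have h1 : ω a * (ω a0)⁻¹ ≠ 0 := mul_ne_zero hz (inv_ne_zero hωa0)
        rw [← ht] at h1
        exact h1 (by ring)
      have h1 : a - tr c b' (Units.mk0 t ht0) • a0 ∈ m.sb (UU V R i) := by
        rw [← hωU, map_sub, hωt]
        change ω a - t ^ 2 * ω a0 = 0
        rw [ht, mul_assoc, inv_mul_cancel₀ hωa0, mul_one, sub_self]
      obtain ⟨a1, h2, h3⟩ := hD0 _ h1
      refine ⟨a1 + tr c b' (Units.mk0 t ht0) • a0, add_mem h2 (inv1 _ (m.sl_tr c b' _) _ ha0), ?_⟩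
      have e : a - (a1 + tr c b' (Units.mk0 t ht0) • a0) = a - tr c b' (Units.mk0 t ht0) • a0 - a1 := by abel
      rw [e]
      exact h3
  obtain ⟨t0, ht0, ht1⟩ := hF
  set t : NR R i := tr c b' (Units.mk0 t0 ht0) with htdef
  have hT : ∀ a, t • a - a ∈ M1 := by
    intro a
    obtain ⟨a1, h1, h2⟩ := hD a
    have h3 := hV1 (m.T_D c b' (Units.mk0 t0 ht0) h2)
    have h4 := inv1 t (m.sl_tr c b' _) a1 h1
    have e : t • a - a = (t • a1 - a1) + (t • (a - a1) - (a - a1)) := by rw [smul_sub]; abel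
    rw [e]
    exact add_mem (sub_mem h4 h1) h3
  have hzero : ∀ a ∈ M2, ∀ a' ∈ M2, f a a' = 0 := by
    intro a ha a' ha'
    have h1 : t • a - a ∈ M2 := sub_mem (inv2 t (m.sl_tr c b' _) a ha) ha
    have h2 : t • a' - a' ∈ M2 := sub_mem (inv2 t (m.sl_tr c b' _) a' ha') ha'
    have e1 : t • a = a + (t • a - a) := by abel
    have e2 : t • a' = a' + (t • a' - a') := by abel
    have h3 := m.f_act b' t a a'
    have e3 : f (a + (t • a - a)) (a' + (t • a' - a')) = f a a' := by
      rw [map_add f, AddMonoidHom.add_apply, map_add (f a), map_add (f (t • a - a)), perp _ (hT a) _ ha',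
        perp _ (hT a) _ h2, m.f_symm b' a (t • a' - a'), perp _ (hT a') _ ha, add_zero, add_zero, add_zero]
    rw [e1, e2, e3] at h3
    obtain ⟨β, hβ⟩ := (m.bF_bij c b').2 (f a a')
    rw [← hβ, htdef, m.T_B c b'] at h3
    have h4 := (m.bF_bij c b').1 h3
    change β = t0 * β at h4
    have h5 : (t0 - 1) * β = 0 := by rw [sub_mul, one_mul, ← h4, sub_self]
    rcases mul_eq_zero.1 h5 with h6 | h6
    · exact absurd (sub_eq_zero.1 h6) ht1
    · rw [← hβ, h6, map_zero]
  have hM2 : ∀ a ∈ M2, a = 0 := by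
    intro a ha
    apply m.rad b hC
    intro a'
    have h0 : a' ∈ M1 ⊔ M2 := hsum ▸ AddSubgroup.mem_top a'
    obtain ⟨a1, h1, a2, h2, rfl⟩ := AddSubgroup.mem_sup.1 h0
    rw [map_add, hzero a ha a2 h2, add_zero, m.f_symm b', perp a1 h1 a ha]
  by_contra hh
  have h1 := hM2 _ (mem2 h (m.eF c b' 1) hh ((m.mem_e c b').2 ⟨1, rfl⟩))
  have h2 : m.eF c b' 1 = 0 := by
    have h3 := congrArg (fun x => h⁻¹ • x) h1
    simpa using h3
  exact one_ne_zero (m.eF_inj c b' (h2.trans (map_zero _).symm))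

/-- the `F`-valued form -/
noncomputable def ph (a a' : M) : F := (m.bE c b.toBT).symm (f a a')

theorem f_ph (a a' : M) : f a a' = m.bF c b.toBT (m.ph c b a a') :=
  ((m.bE c b.toBT).apply_symm_apply _).symm

theorem ph_eq {a a' : M} {β : F} (h : f a a' = m.bF c b.toBT β) : m.ph c b a a' = β := by
  apply (m.bF_bij c b.toBT).1
  rw [← m.f_ph, h]

theorem ph_add (a a' x : M) : m.ph c b (a + a') x = m.ph c b a x + m.ph c b a' x :=
  m.ph_eq c b (by rw [map_add f, AddMonoidHom.add_apply, map_add, ← m.f_ph, ← m.f_ph])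

theorem ph_add' (a x x' : M) : m.ph c b a (x + x') = m.ph c b a x + m.ph c b a x' :=
  m.ph_eq c b (by rw [map_add (f a), map_add, ← m.f_ph, ← m.f_ph])

theorem ph_zero (x : M) : m.ph c b 0 x = 0 := m.ph_eq c b (by rw [map_zero, map_zero]; rfl)

theorem ph_symm (a x : M) : m.ph c b a x = m.ph c b x a := m.ph_eq c b (by rw [m.f_symm b.toBT, ← m.f_ph])

theorem ph_self (a : M) : m.ph c b a a = 0 := m.ph_eq c b (by rw [m.f_self b.toBT, map_zero])

theorem ph_act (h : NR R i) (a x : M) : m.ph c b (h • a) (h • x) = m.sg c b.toBT h (m.ph c b a x) :=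
  m.ph_eq c b (by rw [m.f_act b.toBT, m.bF_sg, ← m.f_ph])

theorem ph_ext (hC : centralizer (WW V (R i) : Set G) ≤ R i) {a a' : M}
    (h : ∀ x, m.ph c b a x = m.ph c b a' x) : a = a' := by
  rw [← sub_eq_zero]
  apply m.rad b hC
  intro x
  rw [map_sub, AddMonoidHom.sub_apply, m.f_ph c b, m.f_ph c b, h, sub_self]

/-- existence of `l a` -/
theorem exists_mul [Finite G] [Finite F] (hF : ∃ a : F, a ≠ 0 ∧ a ≠ 1)
    (hC : centralizer (WW V (R i) : Set G) ≤ R i) (a : M) (l : F) :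
    ∃ a', ∀ x, m.ph c b a' x = l * m.ph c b a x := by
  have b' := b.toBT
  obtain ⟨ω, -, -, hω, -, -⟩ := m.exists_omega c b'
  let S : AddSubgroup M :=
    { carrier := {a | ∀ l, ∃ a', ∀ x, m.ph c b a' x = l * m.ph c b a x}
      zero_mem' := fun l => ⟨0, fun x => by rw [m.ph_zero, mul_zero]⟩
      add_mem' := by
        intro a1 a2 h1 h2 l
        obtain ⟨x1, hx1⟩ := h1 l
        obtain ⟨x2, hx2⟩ := h2 l
        exact ⟨x1 + x2, fun x => by rw [m.ph_add, m.ph_add, hx1, hx2, mul_add]⟩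
      neg_mem' := by
        intro a h l
        have e : -a = a := neg_eq_of_add_eq_zero_left (m.two_M b' a)
        rw [e]
        exact h l }
  have hS : S = ⊤ := by
    apply m.gen
    · intro h a ha l
      obtain ⟨s, hs⟩ := m.semi_all c b hF hC h
      obtain ⟨a', ha'⟩ := ha (s.symm l)
      refine ⟨h • a', fun x => ?_⟩
      have e : x = h • h⁻¹ • x := (smul_inv_smul h x).symm
      rw [e, m.ph_act, m.ph_act, ha', hs, RingEquiv.apply_symm_apply]
    · intro a ha l
      obtain ⟨γ, rfl⟩ := (m.mem_e c b').1 ha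
      refine ⟨m.eF c b' (l * γ), fun x => ?_⟩
      have h1 : ∀ γ, m.ph c b (m.eF c b' γ) x = ω x * γ := fun γ =>
        m.ph_eq c b (by rw [m.f_symm b', hω])
      rw [h1, h1]
      ring
  have h1 : a ∈ S := hS ▸ AddSubgroup.mem_top a
  exact h1 l

/-- `M` is an `F`-space -/
theorem exists_module [Finite G] [Finite F] (hF : ∃ a : F, a ≠ 0 ∧ a ≠ 1)
    (hC : centralizer (WW V (R i) : Set G) ≤ R i) :
    ∃ _ : Module F M, ∀ (l : F) (a x : M), m.ph c b (l • a) x = l * m.ph c b a x := by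
  choose sm hsm using fun (a : M) (l : F) => m.exists_mul c b hF hC a l
  have ext := fun {a a' : M} => m.ph_ext (a := a) (a' := a') c b hC
  refine ⟨{ smul := fun l a => sm a l
            one_smul := fun a => ?_
            mul_smul := fun l l' a => ?_
            smul_zero := fun l => ?_
            smul_add := fun l a a' => ?_
            add_smul := fun l l' a => ?_
            zero_smul := fun a => ?_ }, fun l a x => ?_⟩
  · apply ext
    intro x
    change m.ph c b (sm a (l * l')) x = m.ph c b (sm (sm a l') l) x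
    rw [hsm, hsm, hsm, mul_assoc]
  · apply ext
    intro x
    change m.ph c b (sm a 1) x = _
    rw [hsm, one_mul]
  · apply ext
    intro x
    change m.ph c b (sm 0 l) x = _
    rw [hsm, m.ph_zero, mul_zero]
  · apply ext
    intro x
    change m.ph c b (sm (a + a') l) x = m.ph c b (sm a l + sm a' l) x
    rw [hsm, m.ph_add, m.ph_add, hsm, hsm, mul_add]
  · apply ext
    intro x
    change m.ph c b (sm a (l + l')) x = m.ph c b (sm a l + sm a l') x
    rw [hsm, m.ph_add, hsm, hsm, add_mul]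
  · apply ext
    intro x
    change m.ph c b (sm a 0) x = _
    rw [hsm, zero_mul, m.ph_zero]
  · change m.ph c b (sm a l) x = _
    rw [hsm]

end ModFr

/-- **The `F`-space `M = W i / R i`** with the commutator form `φ : M × M → F ≅ R i` -/
structure FMod (V : Subgroup G) (R : ι → Subgroup G) (i j : ι) (v : F → F → G) (w1 w2 : F → G)
    (M B : Type u) [AddCommGroup M] [AddCommGroup B] [DistribMulAction (NR R i) M]
    [DistribMulAction (NR R i) B] [Module F M] (p : G → M) (r : G → B) (f : M →+ M →+ B)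
    (φ : M →ₗ[F] M →ₗ[F] F) (s : NR R i → (F ≃+* F)) : Prop where
  fr : ModFr V R i M B p r f
  co : Coord V R i j v w1 w2
  btc : BTC V R
  four : ∃ a : F, a ≠ 0 ∧ a ≠ 1
  cenW : centralizer (WW V (R i) : Set G) ≤ R i
  f_phi : ∀ a x, f a x = fr.bF co btc.toBT (φ a x)
  semi : ∀ (h : NR R i) (l : F) (a : M), h • (l • a) = s h l • (h • a)
  semi_B : ∀ (h : NR R i) (l β : F), fr.sg co btc.toBT h (l * β) = s h l * fr.sg co btc.toBT h β

/-- **existence of `FMod`** -/
theorem BTC.exists_fMod [Finite G] [Finite F] (b : BTC V R) (c : Coord V R i j v w1 w2)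
    (hF : ∃ a : F, a ≠ 0 ∧ a ≠ 1) (hC : centralizer (WW V (R i) : Set G) ≤ R i) :
    ∃ (M B : Type u) (_ : AddCommGroup M) (_ : AddCommGroup B) (_ : DistribMulAction (NR R i) M)
      (_ : DistribMulAction (NR R i) B) (_ : Module F M) (p : G → M) (r : G → B) (f : M →+ M →+ B)
      (φ : M →ₗ[F] M →ₗ[F] F) (s : NR R i → (F ≃+* F)), FMod V R i j v w1 w2 M B p r f φ s := by
  obtain ⟨M, B, _, _, _, _, p, r, f, m⟩ := b.toBT.exists_mod i
  obtain ⟨I, hI⟩ := m.exists_module c b hF hC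
  have hI' : ∀ (l : F) (a x : M), m.ph c b a (l • x) = l * m.ph c b a x := fun l a x => by
    rw [m.ph_symm, hI, m.ph_symm]
  choose s hs using m.semi_all c b hF hC
  let φ : M →ₗ[F] M →ₗ[F] F := LinearMap.mk₂ F (m.ph c b) (m.ph_add c b) hI (m.ph_add' c b) hI'
  refine ⟨M, B, _, _, _, _, I, p, r, f, φ, s, ⟨m, c, b, hF, hC, fun a x => m.f_ph c b a x, fun h l a => ?_, hs⟩⟩
  apply m.ph_ext c b hC
  intro x
  have e : x = h • h⁻¹ • x := (smul_inv_smul h x).symm
  rw [e, m.ph_act, hI, hI, hs, ← m.ph_act]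

end all

end Cfsg.Agent.Omega.BTwo
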