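import Cfsg.Agent.Omega.BTwo.YPair
import Cfsg.Agent.Omega.BTwo.Cen
import Cfsg.Agent.Lib.SL2Mat

/-!
# SQ3, `b = 2`: `X / Y = SL₂(F)`

`YPair.exists_acts`: every `x ∈ X` acts on `V = N` and on `Y / D = N ⊗ M` by the same matrix; `YPair.rho : X → SL₂(F)` is
onto; `YPair.cen_X_V`: `C_X(V) = Y` (on `BTC`, all `q`); so `X / Y ≅ SL₂(F)`.
-/

set_option autoImplicit false
set_option linter.unusedSectionVars false

namespace Cfsg.Agent.Omega.BTwo

open Subgroup Cfsg.Agent.Lib.SL2Mat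
open scoped commutatorElement

universe u v w

section abs

/-- a central 2-subgroup which is a direct factor of a subgroup of odd index meets the commutator subgroup trivially -/
theorem central_eq_bot {Γ : Type u} [Group Γ] [Finite Γ] (Z P : Subgroup Γ) (hZ : Z ≤ center Γ)
    (hPZ : ∀ x ∈ P, x ∈ Z → x = 1) (hidx : Odd (P ⊔ Z).index) (h2 : IsPGroup 2 Z) (hc : Z ≤ commutator Γ) :
    Z = ⊥ := by
  set H := P ⊔ Z with hH
  have hPH : P ≤ H := le_sup_left
  have hZH : Z ≤ H := le_sup_right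
  have hdec : ∀ x ∈ H, ∃ p ∈ P, ∃ z ∈ Z, x = p * z := by
    intro x hx
    have hn : Z.Normal := ⟨fun n hn g => by
      have h1 := mem_center_iff.1 (hZ hn) g
      rw [h1, mul_inv_cancel_right]; exact hn⟩
    have h1 : x ∈ ((P ⊔ Z : Subgroup Γ) : Set Γ) := hx
    rw [mul_normal] at h1
    obtain ⟨p, hp, z, hz, e⟩ := h1
    exact ⟨p, hp, z, hz, e.symm⟩
  have hcen : ∀ z ∈ Z, ∀ g : Γ, g * z = z * g := fun z hz g => mem_center_iff.1 (hZ hz) g
  have hPn : (P.subgroupOf H).Normal := by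
    refine ⟨?_⟩
    rintro ⟨n, hn⟩ hn' ⟨g, hg⟩
    rw [mem_subgroupOf] at hn' ⊢
    have hn'' : n ∈ P := hn'
    show g * n * g⁻¹ ∈ P
    obtain ⟨p, hp, z, hz, rfl⟩ := hdec g hg
    have e : p * z * n * (p * z)⁻¹ = p * n * p⁻¹ := by
      rw [mul_inv_rev, mul_assoc p z n, ← hcen z hz n]; group
    rw [e]
    exact mul_mem (mul_mem hp hn'') (inv_mem hp)
  let A := H ⧸ P.subgroupOf H
  let _ : CommGroup A :=
    { (inferInstance : Group A) with
      mul_comm := by
        intro a b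
        induction a using QuotientGroup.induction_on with
        | H a =>
          induction b using QuotientGroup.induction_on with
          | H b =>
            rw [← QuotientGroup.mk_mul, ← QuotientGroup.mk_mul, QuotientGroup.eq, mem_subgroupOf]
            obtain ⟨p, hp, z, hz, ea⟩ := hdec a a.2
            obtain ⟨p', hp', z', hz', eb⟩ := hdec b b.2
            show ((a : Γ) * b)⁻¹ * ((b : Γ) * a) ∈ P
            rw [ea, eb]
            have e : (p * z * (p' * z'))⁻¹ * (p' * z' * (p * z)) = (p * p')⁻¹ * (p' * p) := by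
              have e1 : p * z * (p' * z') = p * p' * (z * z') := by
                rw [mul_assoc p z, ← mul_assoc z, ← hcen z hz p']; group
              have e2 : p' * z' * (p * z) = p' * p * (z * z') := by
                rw [mul_assoc p' z', ← mul_assoc z', ← hcen z' hz' p, mul_assoc p z' z, hcen z hz z']; group
              have e3 := hcen _ (inv_mem (mul_mem hz hz')) ((p * p')⁻¹ * (p' * p))
              calc (p * z * (p' * z'))⁻¹ * (p' * z' * (p * z))
                  = (z * z')⁻¹ * ((p * p')⁻¹ * (p' * p)) * (z * z') := by rw [e1, e2]; group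
                _ = (p * p')⁻¹ * (p' * p) := by rw [← e3, inv_mul_cancel_right]
            rw [e]
            exact mul_mem (inv_mem (mul_mem hp hp')) (mul_mem hp' hp) }
  let φ : H →* A := QuotientGroup.mk' (P.subgroupOf H)
  rw [eq_bot_iff]
  intro z hz
  rw [mem_bot]
  -- the transfer
  have h1 : MonoidHom.transfer φ z = 1 := by
    have h3 : commutator Γ ≤ (MonoidHom.transfer φ).ker := by
      rw [_root_.commutator_def, commutator_le]
      intro a _ b _
      rw [MonoidHom.mem_ker, map_commutatorElement, commutatorElement_eq_one_iff_mul_comm]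
      exact mul_comm _ _
    exact h3 (hc hz)
  have h3 := MonoidHom.transfer_eq_pow φ z (by
    intro k g _
    have := hcen _ (pow_mem hz k) g⁻¹
    rw [this]; group)
  rw [h1] at h3
  have h4 : z ^ H.index ∈ P := by
    have h5 := (QuotientGroup.eq_one_iff _).1 h3.symm
    exact h5
  have h5 := hPZ _ h4 (pow_mem hz _)
  obtain ⟨k, hk⟩ := h2 ⟨z, hz⟩
  have hk' : z ^ 2 ^ k = 1 := congrArg Subtype.val hk
  have h6 : orderOf z ∣ H.index := orderOf_dvd_of_pow_eq_one h5
  have h7 : orderOf z ∣ 2 ^ k := orderOf_dvd_of_pow_eq_one hk'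
  have h8 : Nat.Coprime H.index (2 ^ k) := (Nat.coprime_two_right.2 hidx).pow_right k
  have h9 := Nat.eq_one_of_dvd_coprimes h8 h6 h7
  exact orderOf_eq_one_iff.1 h9

end abs

variable {G : Type u} [Group G] {ι : Type w} {V : Subgroup G} {R : ι → Subgroup G} {i j : ι} {F : Type v} [Field F]
  {w1 w2 : F → G} {M : Type u} [AddCommGroup M] [Module F M] {P1 P2 : G → M} {v : F → F → G}

/-- `x` acts on `V = N` by the matrix `A` -/
def ActV (v : F → F → G) (x : G) (A : Matrix.SpecialLinearGroup (Fin 2) F) : Prop :=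
  ∀ b c, x * v b c * x⁻¹ = v (ent A 0 0 * b + ent A 0 1 * c) (ent A 1 0 * b + ent A 1 1 * c)

/-- `x` acts on `Y / D = N ⊗ M` by the matrix `A` -/
def ActY (V : Subgroup G) (R : ι → Subgroup G) (P1 P2 : G → M) (x : G)
    (A : Matrix.SpecialLinearGroup (Fin 2) F) : Prop :=
  ∀ z ∈ YY V R, P1 (x * z * x⁻¹) = ent A 0 0 • P1 z + ent A 0 1 • P2 z ∧
    P2 (x * z * x⁻¹) = ent A 1 0 • P1 z + ent A 1 1 • P2 z

theorem ActV.mul {x x' : G} {A A' : Matrix.SpecialLinearGroup (Fin 2) F} (h : ActV v x A) (h' : ActV v x' A') :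
    ActV v (x * x') (A * A') := by
  intro b c
  have e : x * x' * v b c * (x * x')⁻¹ = x * (x' * v b c * x'⁻¹) * x⁻¹ := by group
  rw [e, h', h, ent_mul, ent_mul, ent_mul, ent_mul]
  congr 1 <;> ring

theorem ActV.one : ActV v 1 (1 : Matrix.SpecialLinearGroup (Fin 2) F) := by
  intro b c
  rw [ent_one_00, ent_one_01, ent_one_10, ent_one_11]
  simp

theorem ActV.inv {x : G} {A : Matrix.SpecialLinearGroup (Fin 2) F} (h : ActV v x A) : ActV v x⁻¹ A⁻¹ := by
  intro b c
  have hd := det_eq A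
  rw [ent_inv A, mk_00, mk_01, mk_10, mk_11]
  have h1 := h (ent A 1 1 * b + -ent A 0 1 * c) (-ent A 1 0 * b + ent A 0 0 * c)
  have e1 : ent A 0 0 * (ent A 1 1 * b + -ent A 0 1 * c) + ent A 0 1 * (-ent A 1 0 * b + ent A 0 0 * c) = b := by
    linear_combination b * hd
  have e2 : ent A 1 0 * (ent A 1 1 * b + -ent A 0 1 * c) + ent A 1 1 * (-ent A 1 0 * b + ent A 0 0 * c) = c := by
    linear_combination c * hd
  rw [e1, e2] at h1
  rw [← h1]; group

theorem ActY.mul (b : BT V R) {x x' : G} {A A' : Matrix.SpecialLinearGroup (Fin 2) F}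
    (hx' : x' ∈ normalizer (V : Set G)) (h : ActY V R P1 P2 x A) (h' : ActY V R P1 P2 x' A') :
    ActY V R P1 P2 (x * x') (A * A') := by
  intro z hz
  have hz' : x' * z * x'⁻¹ ∈ YY V R := conj_mem_of_normalizer (b.NV_le_NY hx') hz
  have e : x * x' * z * (x * x')⁻¹ = x * (x' * z * x'⁻¹) * x⁻¹ := by group
  obtain ⟨h1, h2⟩ := h _ hz'
  obtain ⟨h3, h4⟩ := h' z hz
  rw [e, h1, h2, h3, h4, ent_mul, ent_mul, ent_mul, ent_mul]
  simp only [smul_add, add_smul, mul_smul]
  constructor <;> abel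

theorem ActY.one : ActY V R P1 P2 1 (1 : Matrix.SpecialLinearGroup (Fin 2) F) := by
  intro z hz
  rw [ent_one_00, ent_one_01, ent_one_10, ent_one_11]
  simp

theorem ActY.inv (b : BT V R) {x : G} {A : Matrix.SpecialLinearGroup (Fin 2) F}
    (hx : x ∈ normalizer (V : Set G)) (h : ActY V R P1 P2 x A) : ActY V R P1 P2 x⁻¹ A⁻¹ := by
  intro z hz
  have hd := det_eq A
  have hz' : x⁻¹ * z * x⁻¹⁻¹ ∈ YY V R := conj_mem_of_normalizer (b.NV_le_NY (inv_mem hx)) hz
  obtain ⟨h1, h2⟩ := h _ hz'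
  have e : x * (x⁻¹ * z * x⁻¹⁻¹) * x⁻¹ = z := by group
  rw [e] at h1 h2
  rw [ent_inv A, mk_00, mk_01, mk_10, mk_11, h1, h2]
  generalize P1 (x⁻¹ * z * x⁻¹⁻¹) = m
  generalize P2 (x⁻¹ * z * x⁻¹⁻¹) = n
  constructor
  · have e1 : ent A 1 1 • (ent A 0 0 • m + ent A 0 1 • n) + -ent A 0 1 • (ent A 1 0 • m + ent A 1 1 • n) =
        (ent A 0 0 * ent A 1 1 - ent A 0 1 * ent A 1 0) • m := by module
    rw [e1, hd, one_smul]
  · have e1 : -ent A 1 0 • (ent A 0 0 • m + ent A 0 1 • n) + ent A 0 0 • (ent A 1 0 • m + ent A 1 1 • n) =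
        (ent A 0 0 * ent A 1 1 - ent A 0 1 * ent A 1 0) • n := by module
    rw [e1, hd, one_smul]

namespace Coord

variable (c : Coord V R i j v w1 w2)
include c

theorem actV_unique {x : G} {A A' : Matrix.SpecialLinearGroup (Fin 2) F} (h : ActV v x A) (h' : ActV v x A') :
    A = A' := by
  have h1 := (h 1 0).symm.trans (h' 1 0)
  have h2 := (h 0 1).symm.trans (h' 0 1)
  simp only [mul_one, mul_zero, add_zero, zero_add] at h1 h2
  obtain ⟨k1, k2⟩ := c.v_inj h1
  obtain ⟨k3, k4⟩ := c.v_inj h2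
  exact ext_ent k1 k3 k2 k4

theorem actV_one_iff {x : G} : ActV v x (1 : Matrix.SpecialLinearGroup (Fin 2) F) ↔
    x ∈ centralizer (V : Set G) := by
  rw [mem_centralizer_iff]
  constructor
  · intro h z hz
    obtain ⟨b, d, rfl⟩ := (c.mem_V z).1 hz
    have h1 := h b d
    rw [ent_one_00, ent_one_01, ent_one_10, ent_one_11, one_mul, zero_mul, add_zero, zero_mul, one_mul, zero_add,
      mul_inv_eq_iff_eq_mul] at h1
    exact h1.symm
  · intro h b d
    rw [ent_one_00, ent_one_01, ent_one_10, ent_one_11, one_mul, zero_mul, add_zero, zero_mul, one_mul, zero_add,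
      mul_inv_eq_iff_eq_mul]
    exact (h _ (c.v_mem b d)).symm

theorem actV_w1 (a : F) : ActV v (w1 a) (up a) := by
  intro b d
  rw [c.w1_act, up_00, up_01, up_10, up_11, one_mul, one_mul, zero_mul, zero_add]

theorem actV_w2 (a : F) : ActV v (w2 a) (lo a) := by
  intro b d
  rw [c.w2_act, lo_00, lo_01, lo_10, lo_11, one_mul, one_mul, zero_mul, add_zero, add_comm d]

theorem exists_up {x : G} (hx : x ∈ WW V (R i)) : ∃ a, ActV v x (up a) := by
  obtain ⟨a, ha⟩ := c.W1_act x hx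
  refine ⟨a, fun b d => ?_⟩
  rw [ha, up_00, up_01, up_10, up_11, one_mul, one_mul, zero_mul, zero_add]

theorem exists_lo {x : G} (hx : x ∈ WW V (R j)) : ∃ a, ActV v x (lo a) := by
  obtain ⟨a, ha⟩ := c.W2_act x hx
  refine ⟨a, fun b d => ?_⟩
  rw [ha, lo_00, lo_01, lo_10, lo_11, one_mul, one_mul, zero_mul, add_zero, add_comm d]

/-- every element of `X` acts on `V` as an element of `SL₂(F)` -/
theorem exists_actV (b : BT V R) {x : G} (hx : x ∈ XX V R) : ∃ A, ActV v x A := by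
  let T : Subgroup G :=
    { carrier := {x | ∃ A, ActV v x A}
      one_mem' := ⟨1, ActV.one⟩
      mul_mem' := by
        rintro x y ⟨A, hA⟩ ⟨B, hB⟩
        exact ⟨A * B, hA.mul hB⟩
      inv_mem' := by
        rintro x ⟨A, hA⟩
        exact ⟨A⁻¹, hA.inv⟩ }
  have h : XX V R ≤ T := by
    rw [b.X_eq c.ne]
    refine sup_le (fun w hw => ?_) fun w hw => ?_
    · obtain ⟨a, ha⟩ := c.exists_up hw
      exact ⟨_, ha⟩
    · obtain ⟨a, ha⟩ := c.exists_lo hw
      exact ⟨_, ha⟩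
  exact h hx

/-- the homomorphism `X → SL₂(F)` -/
noncomputable def rho (b : BT V R) : XX V R →* Matrix.SpecialLinearGroup (Fin 2) F where
  toFun x := (c.exists_actV b x.2).choose
  map_one' := c.actV_unique (c.exists_actV b (1 : XX V R).2).choose_spec ActV.one
  map_mul' := fun x y => c.actV_unique (c.exists_actV b (x * y).2).choose_spec
    ((c.exists_actV b x.2).choose_spec.mul (c.exists_actV b y.2).choose_spec)

theorem rho_spec (b : BT V R) (x : XX V R) : ActV v (x : G) (c.rho b x) := (c.exists_actV b x.2).choose_spec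

theorem rho_eq (b : BT V R) {x : XX V R} {A : Matrix.SpecialLinearGroup (Fin 2) F} (h : ActV v (x : G) A) :
    c.rho b x = A := c.actV_unique (c.rho_spec b x) h

theorem rho_w1 (b : BT V R) (a : F) : c.rho b ⟨w1 a, W_le_X V R i (c.w1_mem a)⟩ = up a :=
  c.rho_eq b (c.actV_w1 a)

theorem rho_w2 (b : BT V R) (a : F) : c.rho b ⟨w2 a, W_le_X V R j (c.w2_mem a)⟩ = lo a :=
  c.rho_eq b (c.actV_w2 a)

theorem rho_surjective (b : BT V R) : Function.Surjective (c.rho b) := by
  intro A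
  obtain ⟨p, q, r, s, rfl⟩ := exists_up_lo A
  exact ⟨⟨w1 p, W_le_X V R i (c.w1_mem p)⟩ * ⟨w2 q, W_le_X V R j (c.w2_mem q)⟩ *
    ⟨w1 r, W_le_X V R i (c.w1_mem r)⟩ * ⟨w2 s, W_le_X V R j (c.w2_mem s)⟩, by
    rw [map_mul, map_mul, map_mul, c.rho_w1, c.rho_w1, c.rho_w2, c.rho_w2]⟩

theorem rho_eq_one (b : BT V R) {x : XX V R} : c.rho b x = 1 ↔ (x : G) ∈ centralizer (V : Set G) := by
  rw [← c.actV_one_iff]
  constructor
  · intro h
    rw [← h]
    exact c.rho_spec b x
  · exact fun h => c.rho_eq b h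

end Coord

/-- `[C(V), X] ≤ Y` -/
theorem BT.cen_comm_X (b : BT V R) {g x : G} (hg : g ∈ centralizer (V : Set G)) (hx : x ∈ XX V R) :
    g * x * g⁻¹ * x⁻¹ ∈ YY V R := by
  have h1 : XX V R ≤ cenMod (YY V R) (centralizer (V : Set G)) := by
    refine iSup_le fun k w hw => ⟨b.NV_le_NY (b.W_le_NV k hw), fun g hg => UU_le_YY k ?_⟩
    refine mem_inf.2 ⟨?_, mul_mem (conj_mem_of_normalizer
      (normalizer_le_normalizer_centralizer V (b.W_le_NV k hw)) hg) (inv_mem hg)⟩
    have e : w * g * w⁻¹ * g⁻¹ = w * (g * w⁻¹ * g⁻¹) := by group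
    rw [e]
    exact mul_mem hw (conj_mem_of_normalizer (b.cen_le_NW k hg) (inv_mem hw))
  have h2 := (h1 hx).2 g hg
  have e : g * x * g⁻¹ * x⁻¹ = (x * g * x⁻¹ * g⁻¹)⁻¹ := by group
  rw [e]
  exact inv_mem h2

namespace YPair

variable (y : YPair V R i j w1 w2 M P1 P2) (c : Coord V R i j v w1 w2)
include y c

/-- elements of `W i` with the same action on `V` act equally on `Y / D` -/
theorem P_same (b : BT V R) {k : ι} {x x' z : G} (hx : x ∈ WW V (R k)) (hx' : x' ∈ WW V (R k))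
    (h : ∀ v ∈ V, x * v * x⁻¹ = x' * v * x'⁻¹) (hz : z ∈ YY V R) :
    P1 (x * z * x⁻¹) = P1 (x' * z * x'⁻¹) ∧ P2 (x * z * x⁻¹) = P2 (x' * z * x'⁻¹) := by
  have m1 := y.X_Y b c (W_le_X V R k hx) hz
  have m2 := y.X_Y b c (W_le_X V R k hx') hz
  have h1 := b.same hx hx' h hz
  rw [← y.eq_iff m1 m2]
  have e : (x' * z * x'⁻¹)⁻¹ * (x * z * x⁻¹) =
      (x' * z * x'⁻¹)⁻¹ * (x * z * x⁻¹ * (x' * z * x'⁻¹)⁻¹) * (x' * z * x'⁻¹)⁻¹⁻¹ := by group
  rw [e]
  exact conj_mem_of_normalizer (b.Y_le_ND (inv_mem m2)) h1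

theorem actY_of_W1 (b : BT V R) {x : G} (hx : x ∈ WW V (R i)) {a : F} (ha : ActV v x (up a)) :
    ActY V R P1 P2 x (up a) := by
  intro z hz
  obtain ⟨h1, h2⟩ := y.P_same c b hx (c.w1_mem a) (fun q hq => by
    obtain ⟨b', d', rfl⟩ := (c.mem_V q).1 hq
    rw [ha, c.actV_w1 a]) hz
  rw [h1, h2, y.w11 a z hz, y.w12 a z hz, up_00, up_01, up_10, up_11, one_smul, one_smul, zero_smul, zero_add]
  exact ⟨rfl, rfl⟩

theorem actY_of_W2 (b : BT V R) {x : G} (hx : x ∈ WW V (R j)) {a : F} (ha : ActV v x (lo a)) :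
    ActY V R P1 P2 x (lo a) := by
  intro z hz
  obtain ⟨h1, h2⟩ := y.P_same c b hx (c.w2_mem a) (fun q hq => by
    obtain ⟨b', d', rfl⟩ := (c.mem_V q).1 hq
    rw [ha, c.actV_w2 a]) hz
  rw [h1, h2, y.w21 a z hz, y.w22 a z hz, lo_00, lo_01, lo_10, lo_11, one_smul, one_smul, zero_smul, add_zero]
  exact ⟨rfl, add_comm _ _⟩

/-- every element of `X` acts on `V` and on `Y / D` by the same matrix -/
theorem exists_act (b : BT V R) {x : G} (hx : x ∈ XX V R) : ∃ A, ActV v x A ∧ ActY V R P1 P2 x A := by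
  let T : Subgroup G :=
    { carrier := {x | x ∈ normalizer (V : Set G) ∧ ∃ A, ActV v x A ∧ ActY V R P1 P2 x A}
      one_mem' := ⟨one_mem _, 1, ActV.one, ActY.one⟩
      mul_mem' := by
        rintro x y ⟨hx, A, hA, hA'⟩ ⟨hy, B, hB, hB'⟩
        exact ⟨mul_mem hx hy, A * B, hA.mul hB, hA'.mul b hy hB'⟩
      inv_mem' := by
        rintro x ⟨hx, A, hA, hA'⟩
        exact ⟨inv_mem hx, A⁻¹, hA.inv, hA'.inv b hx⟩ }
  have h : XX V R ≤ T := by
    rw [b.X_eq c.ne]
    refine sup_le (fun w hw => ?_) fun w hw => ?_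
    · obtain ⟨a, ha⟩ := c.exists_up hw
      exact ⟨b.W_le_NV i hw, _, ha, y.actY_of_W1 c b hw ha⟩
    · obtain ⟨a, ha⟩ := c.exists_lo hw
      exact ⟨b.W_le_NV j hw, _, ha, y.actY_of_W2 c b hw ha⟩
  exact (h hx).2

theorem rho_Y (b : BT V R) (x : XX V R) : ActY V R P1 P2 (x : G) (c.rho b x) := by
  obtain ⟨A, hA, hA'⟩ := y.exists_act c b x.2
  rw [c.rho_eq b hA]
  exact hA'

/-- `C_X(V)` is trivial on `Y / D` -/
theorem cen_Y_D (b : BT V R) {x z : G} (hx : x ∈ XX V R) (hxV : x ∈ centralizer (V : Set G)) (hz : z ∈ YY V R) :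
    x * z * x⁻¹ * z⁻¹ ∈ DD V R := by
  obtain ⟨A, hA, hA'⟩ := y.exists_act c b hx
  have h1 : A = 1 := c.actV_unique hA (c.actV_one_iff.2 hxV)
  subst h1
  obtain ⟨h2, h3⟩ := hA' z hz
  rw [ent_one_00, ent_one_01, one_smul, zero_smul, add_zero] at h2
  rw [ent_one_10, ent_one_11, one_smul, zero_smul, zero_add] at h3
  have m1 := y.X_Y b c hx hz
  have h4 := (y.eq_iff m1 hz).2 ⟨h2, h3⟩
  have e : x * z * x⁻¹ * z⁻¹ = z * (z⁻¹ * (x * z * x⁻¹)) * z⁻¹ := by group
  rw [e]
  exact conj_mem_of_normalizer (b.Y_le_ND hz) h4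

/-- `C_X(V)` is a 2-group -/
theorem cen_X_V_isPGroup [Finite G] (b : BTC V R) : IsPGroup 2 (XX V R ⊓ centralizer (V : Set G) : Subgroup G) := by
  refine isPGroup_of_odd fun x hx ho => ?_
  obtain ⟨hxX, hxV⟩ := mem_inf.1 hx
  obtain ⟨k⟩ := b.nonempty
  have hV : IsPGroup 2 V := (b.W_isPGroup k).to_le (V_le_WW V (R k))
  have hD : IsPGroup 2 (DD V R) := (b.W_isPGroup k).to_le (D_le_W V R k)
  have h1 : ∀ d ∈ DD V R, x * d = d * x := fun d hd => by
    have h2 := b.XD hxX hd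
    exact comm_of_odd ho hV h2 (mem_centralizer_iff.1 hxV _ h2).symm
  have h2 : ∀ z ∈ YY V R, x * z = z * x := fun z hz => by
    have h3 := y.cen_Y_D c b.toBT hxX hxV hz
    exact comm_of_odd ho hD h3 (h1 _ h3)
  have h3 : x ∈ centralizer (XX V R : Set G) := by
    have h4 : XX V R ≤ centralizer {x} := iSup_le fun k w hw => by
      rw [mem_centralizer_iff]
      intro x' hx'
      rw [Set.mem_singleton_iff.1 hx']
      have h5 : x * w * x⁻¹ * w⁻¹ ∈ UU V R k := by
        refine mem_inf.2 ⟨mul_mem (conj_mem_of_normalizer (b.cen_le_NW k hxV) hw) (inv_mem hw), ?_⟩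
        have e : x * w * x⁻¹ * w⁻¹ = x * (w * x⁻¹ * w⁻¹) := by group
        rw [e]
        exact mul_mem hxV (conj_mem_of_normalizer (normalizer_le_normalizer_centralizer V (b.W_le_NV k hw))
          (inv_mem hxV))
      exact comm_of_odd ho (b.U_isPGroup k) h5 (h2 _ (UU_le_YY k h5))
    rw [mem_centralizer_iff]
    intro z hz
    exact (mem_centralizer_iff.1 (h4 hz) x rfl).symm
  rw [b.cen_X] at h3
  exact mem_bot.1 h3

end YPair

/-! ### `C_X(V) = Y` -/

section count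

/-- the stabiliser of the vector `(1, 0)` in `SL₂(F)` -/
def upG (F : Type v) [Field F] : Subgroup (Matrix.SpecialLinearGroup (Fin 2) F) where
  carrier := {A | ∃ a, A = up a}
  one_mem' := ⟨0, up_zero.symm⟩
  mul_mem' := by
    rintro _ _ ⟨a, rfl⟩ ⟨b, rfl⟩
    exact ⟨a + b, up_mul a b⟩
  inv_mem' := by
    rintro _ ⟨a, rfl⟩
    exact ⟨-a, up_inv a⟩

theorem mem_upG {A : Matrix.SpecialLinearGroup (Fin 2) F} : A ∈ upG F ↔ ent A 0 0 = 1 ∧ ent A 1 0 = 0 := by
  constructor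
  · rintro ⟨a, rfl⟩
    exact ⟨rfl, rfl⟩
  · rintro ⟨h1, h2⟩
    have h3 := det_eq A
    rw [h1, h2, one_mul, mul_zero, sub_zero] at h3
    exact ⟨ent A 0 1, ext_ent h1 rfl h2 h3⟩

theorem odd_index_upG [Finite F] [CharP F 2] : Odd (upG F).index := by
  classical
  let f : (Matrix.SpecialLinearGroup (Fin 2) F) ⧸ upG F → {p : F × F // p ≠ 0} :=
    Quotient.lift (s := QuotientGroup.leftRel (upG F)) (fun A => ⟨(ent A 0 0, ent A 1 0), by
      intro h
      have h1 : ent A 0 0 = 0 := congrArg Prod.fst h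
      have h2 : ent A 1 0 = 0 := congrArg Prod.snd h
      have h3 := det_eq A
      rw [h1, h2, zero_mul, mul_zero, sub_zero] at h3
      exact zero_ne_one h3⟩) (by
      intro A B hAB
      have hAB' : A⁻¹ * B ∈ upG F := QuotientGroup.leftRel_apply.1 hAB
      obtain ⟨a, ha⟩ := hAB'
      have hB : B = A * up a := by rw [← ha]; group
      apply Subtype.ext
      apply Prod.ext
      · show ent A 0 0 = ent B 0 0
        rw [hB, ent_mul, up_00, up_10, mul_one, mul_zero, add_zero]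
      · show ent A 1 0 = ent B 1 0
        rw [hB, ent_mul, up_00, up_10, mul_one, mul_zero, add_zero])
  have hf : Function.Bijective f := by
    constructor
    · intro A B h
      induction A using QuotientGroup.induction_on with
      | H A =>
        induction B using QuotientGroup.induction_on with
        | H B =>
          have h0 := congrArg Subtype.val h
          have h1 : ent A 0 0 = ent B 0 0 := congrArg Prod.fst h0
          have h2 : ent A 1 0 = ent B 1 0 := congrArg Prod.snd h0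
          rw [QuotientGroup.eq, mem_upG, ent_mul, ent_mul, ent_inv A, mk_00, mk_01, mk_10, mk_11, ← h1, ← h2]
          have h3 := det_eq A
          constructor
          · linear_combination h3
          · ring
    · rintro ⟨⟨p, r⟩, h⟩
      by_cases hp : p = 0
      · have hr : r ≠ 0 := fun hr => h (by rw [hp, hr]; rfl)
        refine ⟨QuotientGroup.mk (mk p (-r⁻¹) r 0 (by rw [neg_mul, inv_mul_cancel₀ hr]; ring)), ?_⟩
        rfl
      · refine ⟨QuotientGroup.mk (mk p 0 r p⁻¹ (by rw [mul_inv_cancel₀ hp]; ring)), ?_⟩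
        rfl
  have h1 : (upG F).index = Nat.card {p : F × F // p ≠ 0} := Nat.card_congr (Equiv.ofBijective f hf)
  rw [h1]
  have _ := Fintype.ofFinite F
  have h2 : Nat.card {p : F × F // p ≠ 0} = Nat.card (F × F) - 1 := by
    rw [Nat.card_eq_fintype_card, Nat.card_eq_fintype_card, Fintype.card_subtype_compl,
      Fintype.card_subtype_eq]
  rw [h2, Nat.card_prod]
  have h3 : 2 ∣ Nat.card F := by
    obtain ⟨n, -, hn⟩ := FiniteField.card F 2
    rw [Nat.card_eq_fintype_card, hn]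
    exact dvd_pow_self 2 n.pos.ne'
  have h4 : 0 < Nat.card F := Nat.card_pos
  have h5 : Even (Nat.card F * Nat.card F) := (even_iff_two_dvd.2 h3).mul_left _
  exact Nat.Even.sub_odd (Nat.mul_pos h4 h4) h5 odd_one

end count

namespace Coord

variable (c : Coord V R i j v w1 w2)
include c

/-- the image of `W i` in `X / Y` is perfect-like: `w ∈ [h, W i] U i` -/
theorem exists_comm_hh [CharP F 2] (b : BT V R) {a : F} (ha : a ≠ 0) (ha1 : a ≠ 1) {x : G} (hx : x ∈ WW V (R i)) :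
    ∃ t : F, (hh w1 w2 a * w1 t * (hh w1 w2 a)⁻¹ * (w1 t)⁻¹)⁻¹ * x ∈ UU V R i := by
  obtain ⟨s, hs⟩ := c.exists_up hx
  have h1 : a ^ 2 + 1 ≠ 0 := by
    intro h
    have h2 : (a + 1) ^ 2 = 0 := by rw [CharTwo.add_sq, one_pow]; exact h
    have h3 := pow_eq_zero_iff (two_ne_zero) |>.1 h2
    exact ha1 (CharTwo.add_eq_zero.1 h3)
  refine ⟨(a ^ 2 + 1)⁻¹ * s, ?_⟩
  set t := (a ^ 2 + 1)⁻¹ * s with ht
  have hm : hh w1 w2 a * w1 t * (hh w1 w2 a)⁻¹ ∈ WW V (R i) := by
    have := conj_mem_cj (g := hh w1 w2 a) (c.w1_mem t)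
    rwa [b.cj_WW (c.hh_R1 b ha)] at this
  refine mem_inf.2 ⟨mul_mem (inv_mem (mul_mem hm (inv_mem (c.w1_mem t)))) hx, ?_⟩
  have h2 : ActV v (hh w1 w2 a * w1 t * (hh w1 w2 a)⁻¹) (up (a ^ 2 * t)) := by
    intro p r
    rw [c.hh_w1_act b ha t (c.v_mem p r), c.actV_w1]
  have h3 := ((h2.mul (c.actV_w1 t).inv).inv).mul hs
  rw [up_inv, up_mul, up_inv, up_mul] at h3
  have e : -(a ^ 2 * t + -t) + s = 0 := by
    have h4 : (a ^ 2 + 1) * t = s := by rw [ht, ← mul_assoc, mul_inv_cancel₀ h1, one_mul]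
    have h5 : a ^ 2 * t + -t = s := by rw [CharTwo.neg_eq]; linear_combination h4
    rw [h5, neg_add_cancel]
  rw [e, up_zero] at h3
  exact c.actV_one_iff.1 h3

end Coord

namespace YPair

variable (y : YPair V R i j w1 w2 M P1 P2) (c : Coord V R i j v w1 w2)
include y c

/-- **`C_X(V) = Y`**, assuming that `C_X(V)` is in `Y X'` -/
theorem cen_X_V_aux [Finite G] [Finite F] [CharP F 2] (b : BTC V R)
    (hc : ∀ x ∈ XX V R, x ∈ centralizer (V : Set G) → ∃ z ∈ YY V R, x * z ∈ ⁅XX V R, XX V R⁆) :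
    XX V R ⊓ centralizer (V : Set G) = YY V R := by
  have hYX : YY V R ≤ XX V R := YY_le_XX
  have hn : ((YY V R).subgroupOf (XX V R)).Normal :=
    ⟨fun n hn g => conj_mem_of_normalizer (g := (g : G)) (x := (n : G)) (b.NV_le_NY (b.X_le_NV g.2)) hn⟩
  let Γ := XX V R ⧸ (YY V R).subgroupOf (XX V R)
  let π : XX V R →* Γ := QuotientGroup.mk' ((YY V R).subgroupOf (XX V R))
  have hπ : Function.Surjective π := QuotientGroup.mk'_surjective _
  have hπ1 : ∀ x : XX V R, π x = 1 ↔ (x : G) ∈ YY V R := fun x => QuotientGroup.eq_one_iff x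
  let C : Subgroup (XX V R) := (c.rho b.toBT).ker
  have hC : ∀ x : XX V R, x ∈ C ↔ (x : G) ∈ centralizer (V : Set G) := fun x => c.rho_eq_one b.toBT
  let W : Subgroup (XX V R) := (WW V (R i)).subgroupOf (XX V R)
  have hYC : (YY V R).subgroupOf (XX V R) ≤ C := fun x hx => (hC x).2 (YY_le_cen hx)
  have hZ : C.map π ≤ center Γ := by
    rintro _ ⟨x, hx, rfl⟩
    rw [mem_center_iff]
    intro g
    obtain ⟨g, rfl⟩ := hπ g
    rw [← map_mul, ← map_mul]
    have h1 := b.cen_comm_X ((hC x).1 hx) g.2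
    have h2 : π (x * g * x⁻¹ * g⁻¹) = 1 := (hπ1 _).2 h1
    rw [map_mul, map_mul, map_mul, map_inv, map_inv, mul_inv_eq_one, mul_inv_eq_iff_eq_mul] at h2
    rw [map_mul, map_mul]
    exact h2.symm
  have hPZ : ∀ x ∈ W.map π, x ∈ C.map π → x = 1 := by
    rintro _ ⟨w, hw, rfl⟩ ⟨x, hx, e⟩
    rw [hπ1]
    have h1 : π (w⁻¹ * x) = 1 := by rw [map_mul, map_inv, e, inv_mul_cancel]
    have h2 : (w⁻¹ * x : XX V R) ∈ C := hYC ((hπ1 _).1 h1)
    have h3 : w ∈ C := by
      have h4 := mul_mem hx (inv_mem h2)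
      have e2 : x * (w⁻¹ * x)⁻¹ = w := by group
      rwa [e2] at h4
    exact UU_le_YY i (mem_inf.2 ⟨hw, (hC w).1 h3⟩)
  have hidx : Odd (W.map π ⊔ C.map π).index := by
    rw [← Subgroup.map_sup]
    have h1 : W ⊔ C = (upG F).comap (c.rho b.toBT) := by
      apply le_antisymm
      · refine sup_le (fun w hw => ?_) fun x hx => ?_
        · obtain ⟨a, ha⟩ := c.exists_up (x := (w : G)) hw
          exact ⟨a, c.rho_eq b.toBT ha⟩
        · have h2 : c.rho b.toBT x = 1 := hx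
          rw [mem_comap, h2]
          exact one_mem _
      · rintro x ⟨a, ha⟩
        have h2 : (⟨w1 a, W_le_X V R i (c.w1_mem a)⟩ : XX V R)⁻¹ * x ∈ C := by
          show c.rho b.toBT _ = 1
          rw [map_mul, map_inv, c.rho_w1, ha, inv_mul_cancel]
        have h3 : (⟨w1 a, W_le_X V R i (c.w1_mem a)⟩ : XX V R) ∈ W := c.w1_mem a
        have h4 := mul_mem ((le_sup_left : W ≤ W ⊔ C) h3) ((le_sup_right : C ≤ W ⊔ C) h2)
        rwa [mul_inv_cancel_left] at h4
    have h2 : (W ⊔ C).index = (upG F).index := by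
      rw [h1]
      exact index_comap_of_surjective _ (c.rho_surjective b.toBT)
    have h3 : ((W ⊔ C).map π).index = (W ⊔ C).index := by
      rw [index_map, (MonoidHom.range_eq_top.2 hπ), index_top, mul_one]
      congr 1
      rw [sup_eq_left, QuotientGroup.ker_mk']
      exact hYC.trans le_sup_right
    rw [h3, h2]
    exact odd_index_upG
  have h2 : IsPGroup 2 (C.map π) := by
    refine IsPGroup.map ?_ π
    have h3 := y.cen_X_V_isPGroup c b
    have h4 : C.map (XX V R).subtype ≤ XX V R ⊓ centralizer (V : Set G) := by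
      rintro _ ⟨x, hx, rfl⟩
      exact mem_inf.2 ⟨x.2, (hC x).1 hx⟩
    have h5 := h3.to_le h4
    exact h5.of_injective (C.equivMapOfInjective _ (XX V R).subtype_injective).toMonoidHom
      (C.equivMapOfInjective _ (XX V R).subtype_injective).injective
  have hcm : C.map π ≤ _root_.commutator Γ := by
    rintro _ ⟨x, hx, rfl⟩
    obtain ⟨z, hz, hxz⟩ := hc x x.2 ((hC x).1 hx)
    have h3 : π x = π (x * ⟨z, hYX hz⟩) := by
      rw [map_mul, (hπ1 ⟨z, hYX hz⟩).2 hz, mul_one]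
    rw [h3]
    have h4 : (x * ⟨z, hYX hz⟩ : XX V R) ∈ _root_.commutator (XX V R) := by
      have h5 : (_root_.commutator (XX V R)).map (XX V R).subtype = ⁅XX V R, XX V R⁆ := by
        rw [_root_.commutator_def, Subgroup.map_commutator, ← MonoidHom.range_eq_map, range_subtype]
      rw [← h5] at hxz
      obtain ⟨q, hq, e⟩ := hxz
      have e2 : q = x * ⟨z, hYX hz⟩ := Subtype.ext e
      rwa [e2] at hq
    have h5 : (_root_.commutator (XX V R)).map π ≤ _root_.commutator Γ := by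
      rw [_root_.commutator_def, Subgroup.map_commutator, _root_.commutator_def]
      exact commutator_mono le_top le_top
    exact h5 ⟨_, h4, rfl⟩
  have key := central_eq_bot (C.map π) (W.map π) hZ hPZ hidx h2 hcm
  apply le_antisymm
  · rintro x hx
    obtain ⟨hxX, hxV⟩ := mem_inf.1 hx
    have h3 : π ⟨x, hxX⟩ ∈ C.map π := ⟨_, (hC ⟨x, hxX⟩).2 hxV, rfl⟩
    rw [key, mem_bot] at h3
    exact (hπ1 ⟨x, hxX⟩).1 h3
  · exact le_inf hYX YY_le_cen

/-- **`C_X(V) = Y`**, `q ≥ 4` -/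
theorem cen_X_V_four [Finite G] [Finite F] [CharP F 2] (b : BTC V R) {a : F} (ha : a ≠ 0) (ha1 : a ≠ 1) :
    XX V R ⊓ centralizer (V : Set G) = YY V R := by
  refine y.cen_X_V_aux c b fun x hx _ => ?_
  -- `X = X' Y`
  have hn : YY V R ≤ normalizer ((⁅XX V R, XX V R⁆ : Subgroup G) : Set G) := by
    refine le_normalizer_of fun k hk z hz => ?_
    have h1 : ⁅XX V R, XX V R⁆ ≤ XX V R := commutator_le.2 fun p hp r hr =>
      mul_mem (mul_mem (mul_mem hp hr) (inv_mem hp)) (inv_mem hr)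
    have h2 : ⁅k, z⁆ ∈ ⁅XX V R, XX V R⁆ := commutator_mem_commutator (YY_le_XX hk) (h1 hz)
    have e : k * z * k⁻¹ = ⁅k, z⁆ * z := by rw [commutatorElement_def]; group
    rw [e]
    exact mul_mem h2 hz
  have half : ∀ {i j : ι} {v : F → F → G} {w1 w2 : F → G}, Coord V R i j v w1 w2 →
      WW V (R i) ≤ ⁅XX V R, XX V R⁆ ⊔ YY V R := by
    intro i j v w1 w2 c w hw
    obtain ⟨t, ht⟩ := c.exists_comm_hh b.toBT ha ha1 hw
    have h1 : hh w1 w2 a * w1 t * (hh w1 w2 a)⁻¹ * (w1 t)⁻¹ ∈ ⁅XX V R, XX V R⁆ :=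
      commutator_mem_commutator (c.hh_mem_X b.toBT a) (W_le_X V R i (c.w1_mem t))
    have h2 := mul_mem ((le_sup_left : _ ≤ ⁅XX V R, XX V R⁆ ⊔ YY V R) h1)
      ((le_sup_right : _ ≤ ⁅XX V R, XX V R⁆ ⊔ YY V R) (UU_le_YY i ht))
    rwa [mul_inv_cancel_left] at h2
  have h1 : XX V R ≤ ⁅XX V R, XX V R⁆ ⊔ YY V R := by
    conv_lhs => rw [b.X_eq c.ne]
    exact sup_le (half c) (half c.symm)
  have h2 : x ∈ ((⁅XX V R, XX V R⁆ ⊔ YY V R : Subgroup G) : Set G) := h1 hx
  rw [coe_mul_of_right_le_normalizer_left _ _ hn] at h2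
  obtain ⟨q, hq, z, hz, e⟩ := h2
  refine ⟨z⁻¹, inv_mem hz, ?_⟩
  have e' : x = q * z := e.symm
  rw [e', mul_inv_cancel_right]
  exact hq

end YPair

/-! ### `q = 2` -/

section two

/-- the action of `SL₂(F)` on `F²` -/
def actEnd (F : Type v) [Field F] : Matrix.SpecialLinearGroup (Fin 2) F →* Function.End (F × F) where
  toFun A := fun p => (ent A 0 0 * p.1 + ent A 0 1 * p.2, ent A 1 0 * p.1 + ent A 1 1 * p.2)
  map_one' := by
    funext p
    simp only [ent_one_00, ent_one_01, ent_one_10, ent_one_11, one_mul, zero_mul, add_zero, zero_add]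
    rfl
  map_mul' := fun A B => by
    funext p
    show _ = (_ : Function.End (F × F)) (_ : F × F)
    simp only [ent_mul]
    refine Prod.ext ?_ ?_
    · show _ = ent A 0 0 * (ent B 0 0 * p.1 + ent B 0 1 * p.2) + ent A 0 1 * (ent B 1 0 * p.1 + ent B 1 1 * p.2)
      ring
    · show _ = ent A 1 0 * (ent B 0 0 * p.1 + ent B 0 1 * p.2) + ent A 1 1 * (ent B 1 0 * p.1 + ent B 1 1 * p.2)
      ring

theorem up_one_notMem [Finite F] [CharP F 2] (h2 : ∀ a : F, a = 0 ∨ a = 1) :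
    (up 1 : Matrix.SpecialLinearGroup (Fin 2) F) ∉ _root_.commutator (Matrix.SpecialLinearGroup (Fin 2) F) := by
  classical
  intro h
  have _ := Fintype.ofFinite F
  let f : Matrix.SpecialLinearGroup (Fin 2) F →* ℤˣ := Equiv.Perm.sign.comp (MonoidHom.toHomPerm (actEnd F))
  have h3 : _root_.commutator (Matrix.SpecialLinearGroup (Fin 2) F) ≤ f.ker := by
    rw [_root_.commutator_def, commutator_le]
    intro a _ b _
    rw [MonoidHom.mem_ker, map_commutatorElement, commutatorElement_eq_one_iff_mul_comm]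
    exact mul_comm _ _
  have h4 : f (up 1) = 1 := h3 h
  have h5 : MonoidHom.toHomPerm (actEnd F) (up 1) = Equiv.swap ((0, 1) : F × F) (1, 1) := by
    ext1 p
    show (ent (up (1 : F)) 0 0 * p.1 + ent (up (1 : F)) 0 1 * p.2,
      ent (up (1 : F)) 1 0 * p.1 + ent (up (1 : F)) 1 1 * p.2) = _
    rw [up_00, up_01, up_10, up_11]
    obtain ⟨p, r⟩ := p
    have h01 : (0 : F) ≠ 1 := zero_ne_one
    rcases h2 r with rfl | rfl
    · rw [Equiv.swap_apply_of_ne_of_ne (by simp) (by simp)]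
      simp
    · rcases h2 p with rfl | rfl
      · rw [Equiv.swap_apply_left]; simp
      · rw [Equiv.swap_apply_right]
        simp [CharTwo.add_self_eq_zero]
  have h6 : f (up 1) = -1 := by
    show Equiv.Perm.sign (MonoidHom.toHomPerm (actEnd F) (up 1)) = -1
    rw [h5]
    exact Equiv.Perm.sign_swap (by simp)
  rw [h4] at h6
  exact absurd h6 (by decide)

end two

namespace YPair

variable (y : YPair V R i j w1 w2 M P1 P2) (c : Coord V R i j v w1 w2)
include y c

/-- **`C_X(V) = Y`**, `q = 2` -/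
theorem cen_X_V_two [Finite G] [Finite F] [CharP F 2] (b : BTC V R) (hF : ∀ a : F, a = 0 ∨ a = 1) :
    XX V R ⊓ centralizer (V : Set G) = YY V R := by
  refine y.cen_X_V_aux c b fun x hx hxV => ?_
  have hXX : ⁅XX V R, XX V R⁆ ≤ XX V R := commutator_le.2 fun p hp r hr =>
      mul_mem (mul_mem (mul_mem hp hr) (inv_mem hp)) (inv_mem hr)
  have hnorm : ∀ K : Subgroup G, K ≤ XX V R → K ≤ normalizer ((⁅XX V R, XX V R⁆ : Subgroup G) : Set G) := by
    intro K hK
    refine le_normalizer_of fun k hk z hz => ?_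
    have h2 : ⁅k, z⁆ ∈ ⁅XX V R, XX V R⁆ := commutator_mem_commutator (hK hk) (hXX hz)
    have e : k * z * k⁻¹ = ⁅k, z⁆ * z := by rw [commutatorElement_def]; group
    rw [e]
    exact mul_mem h2 hz
  have hn := hnorm _ (YY_le_XX (V := V) (R := R))
  set B := ⁅XX V R, XX V R⁆ ⊔ YY V R with hB
  have hBX : B ≤ XX V R := sup_le hXX YY_le_XX
  have hcB : ∀ p ∈ XX V R, ∀ r ∈ XX V R, p * r * p⁻¹ * r⁻¹ ∈ B := fun p hp r hr =>
    (le_sup_left : _ ≤ B) (commutator_mem_commutator hp hr)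
  have hYB : YY V R ≤ B := le_sup_right
  have m1 : w1 1 ∈ XX V R := W_le_X V R i (c.w1_mem 1)
  have m2 : w2 1 ∈ XX V R := W_le_X V R j (c.w2_mem 1)
  -- `T = B ∪ w1(1) B`
  have hsq : w1 1 * w1 1 ∈ B := hYB (UU_le_YY i (b.R_le_U i (b.W_sq i (c.w1_mem 1))))
  let T : Subgroup G :=
    { carrier := {x | x ∈ XX V R ∧ (x ∈ B ∨ (w1 1)⁻¹ * x ∈ B)}
      one_mem' := ⟨one_mem _, Or.inl (one_mem _)⟩
      mul_mem' := by
        rintro p r ⟨hp, hp'⟩ ⟨hr, hr'⟩
        refine ⟨mul_mem hp hr, ?_⟩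
        rcases hp' with hp' | hp' <;> rcases hr' with hr' | hr'
        · exact Or.inl (mul_mem hp' hr')
        · right
          have h1 := hcB _ (inv_mem m1) _ hp
          have e : (w1 1)⁻¹ * (p * r) = ((w1 1)⁻¹ * p * (w1 1)⁻¹⁻¹ * p⁻¹) * p * ((w1 1)⁻¹ * r) := by group
          rw [e]
          exact mul_mem (mul_mem h1 hp') hr'
        · right
          rw [← mul_assoc]
          exact mul_mem hp' hr'
        · left
          have h1 := hcB _ (inv_mem m1) _ (hBX hp')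
          have e : p * r = (w1 1 * w1 1) * ((w1 1)⁻¹ * ((w1 1)⁻¹ * p) * (w1 1)⁻¹⁻¹ * ((w1 1)⁻¹ * p)⁻¹) *
            ((w1 1)⁻¹ * p) * ((w1 1)⁻¹ * r) := by group
          rw [e]
          exact mul_mem (mul_mem (mul_mem hsq h1) hp') hr'
      inv_mem' := by
        rintro p ⟨hp, hp'⟩
        refine ⟨inv_mem hp, ?_⟩
        rcases hp' with hp' | hp'
        · exact Or.inl (inv_mem hp')
        · right
          have h2 := hcB _ hp _ m1
          -- `w⁻¹ p⁻¹ = (p w)⁻¹`, `p w = [p, w] w p = [p, w] w² (w⁻¹ p)`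
          have e : (w1 1)⁻¹ * p⁻¹ = ((p * w1 1 * p⁻¹ * (w1 1)⁻¹) * (w1 1 * w1 1) * ((w1 1)⁻¹ * p))⁻¹ := by group
          rw [e]
          exact inv_mem (mul_mem (mul_mem h2 hsq) hp') }
  have hT : XX V R ≤ T := by
    conv_lhs => rw [b.X_eq c.ne]
    refine sup_le (fun w hw => ⟨W_le_X V R i hw, ?_⟩) fun w hw => ⟨W_le_X V R j hw, ?_⟩
    · obtain ⟨a, ha⟩ := c.exists_up hw
      rcases hF a with rfl | rfl
      · left
        rw [up_zero] at ha
        exact hYB (UU_le_YY i (mem_inf.2 ⟨hw, c.actV_one_iff.1 ha⟩))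
      · right
        refine hYB (UU_le_YY i (mem_inf.2 ⟨mul_mem (inv_mem (c.w1_mem 1)) hw, c.actV_one_iff.1 ?_⟩))
        have h1 := (c.actV_w1 1).inv.mul ha
        rwa [inv_mul_cancel] at h1
    · obtain ⟨a, ha⟩ := c.exists_lo hw
      rcases hF a with rfl | rfl
      · left
        rw [lo_zero] at ha
        exact hYB (UU_le_YY j (mem_inf.2 ⟨hw, c.actV_one_iff.1 ha⟩))
      · right
        -- `n w1(1) n⁻¹ ∈ W j` acts as `w2(1)`
        have hnX := c.nn_mem_X b.toBT 1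
        have h1 : nn w1 w2 1 * w1 1 * (nn w1 w2 1)⁻¹ ∈ WW V (R j) := by
          have := conj_mem_cj (g := nn w1 w2 1) (c.w1_mem 1)
          rwa [b.cj_WW (c.nn_R1 b.toBT one_ne_zero)] at this
        have h2 : ActV v (nn w1 w2 1 * w1 1 * (nn w1 w2 1)⁻¹) (lo 1) := by
          intro p r
          have h3 := c.nn_act one_ne_zero r p
          rw [inv_one, one_mul, one_mul] at h3
          have e : nn w1 w2 1 * w1 1 * (nn w1 w2 1)⁻¹ * v p r * (nn w1 w2 1 * w1 1 * (nn w1 w2 1)⁻¹)⁻¹ =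
              nn w1 w2 1 * (w1 1 * ((nn w1 w2 1)⁻¹ * v p r * nn w1 w2 1) * (w1 1)⁻¹) * (nn w1 w2 1)⁻¹ := by
            group
          have e2 : (nn w1 w2 1)⁻¹ * v p r * nn w1 w2 1 = v r p := by rw [← h3]; group
          rw [e, e2, c.w1_act, c.nn_act one_ne_zero, lo_00, lo_01, lo_10, lo_11, inv_one]
          congr 1 <;> ring
        have h3 : (nn w1 w2 1 * w1 1 * (nn w1 w2 1)⁻¹)⁻¹ * w ∈ YY V R := by
          refine UU_le_YY j (mem_inf.2 ⟨mul_mem (inv_mem h1) hw, c.actV_one_iff.1 ?_⟩)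
          have h4 := h2.inv.mul ha
          rwa [inv_mul_cancel] at h4
        have h4 := hcB _ (inv_mem m1) _ hnX
        have e : (w1 1)⁻¹ * w = ((w1 1)⁻¹ * nn w1 w2 1 * (w1 1)⁻¹⁻¹ * (nn w1 w2 1)⁻¹) *
            ((nn w1 w2 1 * w1 1 * (nn w1 w2 1)⁻¹)⁻¹ * w) := by group
        rw [e]
        exact mul_mem h4 (hYB h3)
  have hxB : x ∈ B := by
    rcases (hT hx).2 with h | h
    · exact h
    · exfalso
      -- `rho` maps `B` into the commutator subgroup
      have h1 : ∀ q (hq : q ∈ XX V R), q ∈ B → c.rho b.toBT ⟨q, hq⟩ ∈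
          _root_.commutator (Matrix.SpecialLinearGroup (Fin 2) F) := by
        have h2 : B ≤ (((_root_.commutator (Matrix.SpecialLinearGroup (Fin 2) F)).comap
            (c.rho b.toBT)).map (XX V R).subtype) := by
          refine sup_le ?_ fun z hz => ?_
          · have h3 : (_root_.commutator (XX V R)).map (XX V R).subtype = ⁅XX V R, XX V R⁆ := by
              rw [_root_.commutator_def, Subgroup.map_commutator, ← MonoidHom.range_eq_map, range_subtype]
            rw [← h3]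
            refine Subgroup.map_mono ?_
            rw [← Subgroup.map_le_iff_le_comap, _root_.commutator_def, Subgroup.map_commutator,
              _root_.commutator_def]
            exact commutator_mono le_top le_top
          · refine ⟨⟨z, YY_le_XX hz⟩, ?_, rfl⟩
            show c.rho b.toBT ⟨z, YY_le_XX hz⟩ ∈
              _root_.commutator (Matrix.SpecialLinearGroup (Fin 2) F)
            rw [(c.rho_eq_one b.toBT (x := ⟨z, YY_le_XX hz⟩)).2 (YY_le_cen hz)]
            exact one_mem _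
        intro q hq hqB
        obtain ⟨q', hq', e⟩ := h2 hqB
        have e2 : q' = ⟨q, hq⟩ := Subtype.ext e
        rw [← e2]
        exact hq'
      have h2 := h1 _ (hBX h) h
      have h3 : c.rho b.toBT ⟨(w1 1)⁻¹ * x, hBX h⟩ = (up 1)⁻¹ := by
        refine c.rho_eq b.toBT ?_
        have h4 := (c.actV_w1 1).inv.mul (c.actV_one_iff.2 hxV)
        rwa [mul_one] at h4
      rw [h3] at h2
      exact up_one_notMem hF ((inv_mem_iff).1 h2)
  have h2 : x ∈ ((⁅XX V R, XX V R⁆ ⊔ YY V R : Subgroup G) : Set G) := hxB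
  rw [coe_mul_of_right_le_normalizer_left _ _ hn] at h2
  obtain ⟨q, hq, z, hz, e⟩ := h2
  refine ⟨z⁻¹, inv_mem hz, ?_⟩
  have e' : x = q * z := e.symm
  rw [e', mul_inv_cancel_right]
  exact hq

/-- **`C_X(V) = Y`**, all `q` -/
theorem cen_X_V [Finite G] [Finite F] [CharP F 2] (b : BTC V R) :
    XX V R ⊓ centralizer (V : Set G) = YY V R := by
  by_cases h : ∃ a : F, a ≠ 0 ∧ a ≠ 1
  · obtain ⟨a, h0, h1⟩ := h
    exact y.cen_X_V_four c b h0 h1
  · push Not at h
    refine y.cen_X_V_two c b fun a => ?_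
    by_cases h0 : a = 0
    · exact Or.inl h0
    · exact Or.inr (h a h0)

/-- the kernel of `X → SL₂(F)` is `Y` -/
theorem ker_rho [Finite G] [Finite F] [CharP F 2] (b : BTC V R) :
    (c.rho b.toBT).ker = (YY V R).subgroupOf (XX V R) := by
  ext x
  rw [MonoidHom.mem_ker, c.rho_eq_one, mem_subgroupOf]
  constructor
  · intro h
    rw [← y.cen_X_V c b]
    exact mem_inf.2 ⟨x.2, h⟩
  · exact fun h => YY_le_cen h

/-- `|X : Y| = |SL₂(F)|` -/
theorem index_Y_X [Finite G] [Finite F] [CharP F 2] (b : BTC V R) :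
    (YY V R).relIndex (XX V R) = Nat.card (Matrix.SpecialLinearGroup (Fin 2) F) := by
  have h1 := index_ker (c.rho b.toBT)
  rw [y.ker_rho c b, MonoidHom.range_eq_top.2 (c.rho_surjective b.toBT), card_top] at h1
  exact h1

/-- **`X / Y ≅ SL₂(F)`** -/
noncomputable def xyEquiv [Finite G] [Finite F] [CharP F 2] (b : BTC V R) :
    (XX V R ⧸ (c.rho b.toBT).ker) ≃* Matrix.SpecialLinearGroup (Fin 2) F :=
  QuotientGroup.quotientKerEquivOfSurjective _ (c.rho_surjective b.toBT)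

end YPair

end Cfsg.Agent.Omega.BTwo
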