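import Cfsg.Agent.Omega.BTwo.ModF
import Cfsg.Agent.Omega.BTwo.XMod
import Cfsg.Agent.Omega.Lie.TorD

/-!
# SQ3, `b = 2`, rad = 0: the eigenspaces of the torus on `M = W i / R i` and the action of `A = U j` (#14331)

`h : FMod ..`, `τ : TorD ..` (torus), `y : YPair ..`; `e₁ = p (v 0 1)`.

* `FMod.M0`, `FMod.M1` : the eigenspaces `T = 1`, `T = t`;
* `FMod.exists_eig` : `Eig` = `D̄ = e ⊕ M₀`, `e^⊥ = e ⊕ M₀ ⊕ M₁`, `n : N ≃ M₁`,
  `a d = d + φ(d, n a) e₁`, `a (n g) = n g + s(g, a) + q(a, g) e₁`.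
-/

set_option autoImplicit false
set_option linter.unusedSectionVars false

namespace Cfsg.Agent.Omega.BTwo

open Subgroup

universe u v w

variable {G : Type u} [Group G] {ι : Type w} {V : Subgroup G} {R : ι → Subgroup G} {i j : ι}

/-- the torus element in `N(R i)` -/
def tT {F : Type v} [Field F] {v : F → F → G} {t : F → G} (τ : Lie.TorD V R i j v t) (a : Fˣ) : NR R i :=
  ⟨t a, τ.normR a.ne_zero⟩

section tor

variable {F : Type v} [Field F] {v : F → F → G} {w1 w2 : F → G} {t : F → G} (τ : Lie.TorD V R i j v t)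
include τ

theorem tT_mul (a b : Fˣ) : tT τ (a * b) = tT τ a * tT τ b := Subtype.ext (τ.mul _ _ a.ne_zero b.ne_zero)

theorem tT_comm (a b : Fˣ) : tT τ a * tT τ b = tT τ b * tT τ a := by rw [← tT_mul, mul_comm, tT_mul]

/-- the torus on `Y / D` -/
theorem YPair.tor {N : Type u} [AddCommGroup N] [Module F N] {P1 P2 : G → N} [Finite G] [Finite F] [CharP F 2]
    (y : YPair V R i j w1 w2 N P1 P2) (c : Coord V R i j v w1 w2) (b : BTC V R) {a : F} (ha : a ≠ 0) {x : G}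
    (hx : x ∈ YY V R) : P1 (t a * x * (t a)⁻¹) = a • P1 x ∧ P2 (t a * x * (t a)⁻¹) = a⁻¹ • P2 x := by
  have hX := mul_mem (inv_mem (c.hh_mem_X b.toBT a)) (τ.memX a ha)
  have hk : (hh w1 w2 a)⁻¹ * t a ∈ YY V R := by
    rw [← y.cen_X_V c b, mem_inf]
    refine ⟨hX, ?_⟩
    rw [mem_centralizer_iff]
    intro z hz
    obtain ⟨β, γ, rfl⟩ := (c.mem_V z).1 hz
    have h1 := τ.act a β γ ha
    have h2 := c.hh_act ha β γ
    have h3 : t a * v β γ * (t a)⁻¹ = hh w1 w2 a * v β γ * (hh w1 w2 a)⁻¹ := by rw [h1, h2]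
    calc v β γ * ((hh w1 w2 a)⁻¹ * t a)
        = (hh w1 w2 a)⁻¹ * (hh w1 w2 a * v β γ * (hh w1 w2 a)⁻¹) * t a := by group
      _ = (hh w1 w2 a)⁻¹ * (t a * v β γ * (t a)⁻¹) * t a := by rw [h3]
      _ = (hh w1 w2 a)⁻¹ * t a * v β γ := by group
  set k := (hh w1 w2 a)⁻¹ * t a with hkd
  have e : t a * x * (t a)⁻¹ = hh w1 w2 a * (k * x * k⁻¹) * (hh w1 w2 a)⁻¹ := by rw [hkd]; group
  have hkx : k * x * k⁻¹ ∈ YY V R := mul_mem (mul_mem hk hx) (inv_mem hk)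
  have h1 : P1 (k * x * k⁻¹) = P1 x := by
    rw [y.mul1 _ (mul_mem hk hx) _ (inv_mem hk), y.mul1 _ hk _ hx, y.inv1 hk]
    abel
  have h2 : P2 (k * x * k⁻¹) = P2 x := by
    rw [y.mul2 _ (mul_mem hk hx) _ (inv_mem hk), y.mul2 _ hk _ hx, y.inv2 hk]
    abel
  have h3 := y.hh1 b.toBT c ha hkx
  rw [e, h3.1, h3.2, h1, h2]
  exact ⟨rfl, rfl⟩

end tor

namespace FMod

variable {F : Type v} [Field F] [CharP F 2] {v : F → F → G} {w1 w2 : F → G}
variable {M B : Type u} [AddCommGroup M] [AddCommGroup B] [DistribMulAction (NR R i) M]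
  [DistribMulAction (NR R i) B] [Module F M] {p : G → M} {r : G → B} {f : M →+ M →+ B}
  {φ : M →ₗ[F] M →ₗ[F] F} {s : NR R i → (F ≃+* F)}
variable (h : FMod V R i j v w1 w2 M B p r f φ s)
include h

section basic

theorem bt : BT V R := h.btc.toBT

theorem phi_eq (a x : M) : φ a x = h.fr.ph h.co h.btc a x := (h.fr.ph_eq h.co h.btc (h.f_phi a x)).symm

theorem phi_of {a x : M} {β : F} (e : f a x = h.fr.bF h.co h.bt β) : φ a x = β := by
  rw [h.phi_eq]
  exact h.fr.ph_eq h.co h.btc e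

theorem phi_self (a : M) : φ a a = 0 := by rw [h.phi_eq, h.fr.ph_self h.co h.btc]

theorem phi_symm (a x : M) : φ a x = φ x a := by rw [h.phi_eq, h.phi_eq, h.fr.ph_symm h.co h.btc]

theorem ext {a a' : M} (e : ∀ x, φ a x = φ a' x) : a = a' :=
  h.fr.ph_ext h.co h.btc h.cenW fun x => by rw [← h.phi_eq, ← h.phi_eq, e]

theorem phi_act (g : NR R i) (a x : M) : φ (g • a) (g • x) = h.fr.sg h.co h.bt g (φ a x) := by
  rw [h.phi_eq, h.phi_eq, h.fr.ph_act h.co h.btc]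

theorem two (a : M) : a + a = 0 := h.fr.two_M h.bt a

/-- commutators in `W i` -/
theorem comm_eq {x z : G} (hx : x ∈ WW V (R i)) (hz : z ∈ WW V (R i)) :
    x * z * x⁻¹ * z⁻¹ = v (φ (p x) (p z)) 0 := by
  have h1 := h.f_phi (p x) (p z)
  rw [h.fr.f_eq x hx z hz, h.fr.bF_apply h.co h.bt] at h1
  exact h.fr.r_inj (h.bt.WW_comm i hx hz) (h.fr.v0_mem h.co h.bt _) h1

/-- an element acting on `R i` as the scalar `k` acts linearly -/
theorem s_eq {g : NR R i} {k : F} (hk : k ≠ 0) (hg : ∀ β, (g : G) * v β 0 * (g : G)⁻¹ = v (k * β) 0) (l : F) :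
    s g l = l ∧ h.fr.sg h.co h.bt g l = k * l := by
  have h1 : ∀ β, h.fr.sg h.co h.bt g β = k * β := fun β => h.fr.sg_eq h.co h.bt (by
    rw [h.fr.bF_apply h.co h.bt, h.fr.bF_apply h.co h.bt, h.fr.r_act g _ (h.fr.v0_mem h.co h.bt β), hg])
  refine ⟨?_, h1 l⟩
  have h2 := h.semi_B g l 1
  rw [h1, h1, mul_one, mul_one, mul_comm] at h2
  exact (mul_right_cancel₀ hk h2).symm

theorem lin {g : NR R i} {k : F} (hk : k ≠ 0) (hg : ∀ β, (g : G) * v β 0 * (g : G)⁻¹ = v (k * β) 0) (l : F) (a : M) :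
    g • (l • a) = l • (g • a) := by rw [h.semi, (h.s_eq hk hg l).1]

theorem phi_lin {g : NR R i} {k : F} (hk : k ≠ 0) (hg : ∀ β, (g : G) * v β 0 * (g : G)⁻¹ = v (k * β) 0) (a x : M) :
    φ (g • a) (g • x) = k * φ a x := by rw [h.phi_act, (h.s_eq hk hg _).2]

theorem cen_aux {g : NR R i} (hg : (g : G) ∈ centralizer (R i : Set G)) (β : F) :
    (g : G) * v β 0 * (g : G)⁻¹ = v (1 * β) 0 := by
  rw [one_mul, ← mem_centralizer_iff.1 hg _ ((h.co.mem_R1 _).2 ⟨β, rfl⟩), mul_inv_cancel_right]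

theorem lin_cen {g : NR R i} (hg : (g : G) ∈ centralizer (R i : Set G)) (l : F) (a : M) :
    g • (l • a) = l • (g • a) := h.lin one_ne_zero (h.cen_aux hg) l a

theorem phi_cen {g : NR R i} (hg : (g : G) ∈ centralizer (R i : Set G)) (a x : M) :
    φ (g • a) (g • x) = φ a x := by rw [h.phi_lin one_ne_zero (h.cen_aux hg), one_mul]

theorem eF_eq (γ : F) : h.fr.eF h.co h.bt γ = γ • p (v 0 1) := by
  obtain ⟨ω, -, -, hω, -, -⟩ := h.fr.exists_omega h.co h.bt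
  have h1 : ∀ γ x, φ (h.fr.eF h.co h.bt γ) x = ω x * γ := fun γ x => by
    rw [h.phi_symm]
    exact h.phi_of (hω x γ)
  apply h.ext
  intro x
  rw [h1, map_smul, LinearMap.smul_apply, smul_eq_mul, ← h.fr.eF_apply h.co h.bt, h1, mul_one, mul_comm]

theorem p_v (β γ : F) : p (v β γ) = γ • p (v 0 1) := by rw [h.fr.p_v h.co h.bt, h.eF_eq]

theorem mem_V {a : M} : a ∈ h.fr.sb V ↔ ∃ γ : F, γ • p (v 0 1) = a := by
  rw [h.fr.mem_e h.co h.bt]
  exact exists_congr fun γ => by rw [h.eF_eq]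

theorem e_smul_eq_zero {γ : F} (e : γ • p (v 0 1) = 0) : γ = 0 := by
  rw [← h.eF_eq] at e
  exact h.fr.eF_inj h.co h.bt (e.trans (map_zero _).symm)

theorem e_ne : p (v 0 1) ≠ 0 := fun e => one_ne_zero (h.e_smul_eq_zero (γ := (1 : F)) (by rw [e, smul_zero]))

theorem mem_U {a : M} : a ∈ h.fr.sb (UU V R i) ↔ φ a (p (v 0 1)) = 0 := by
  rw [← h.fr.perp_iff h.bt]
  constructor
  · intro e
    apply h.phi_of
    rw [e _ (h.mem_V.2 ⟨1, one_smul _ _⟩), map_zero]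
  · intro e x hx
    obtain ⟨γ, rfl⟩ := h.mem_V.1 hx
    rw [h.f_phi, map_smul, e, smul_zero, map_zero]

theorem phi_w1 (l : F) : φ (p (w1 l)) (p (v 0 1)) = l := by
  obtain ⟨ω, -, -, hω, -, hw⟩ := h.fr.exists_omega h.co h.bt
  apply h.phi_of
  have h1 := hω (p (w1 l)) 1
  rw [h.fr.eF_apply h.co h.bt, hw, mul_one] at h1
  exact h1

end basic

section tor

variable {t : F → G} (τ : Lie.TorD V R i j v t)
include τ

theorem T_aux (a : Fˣ) (β : F) : (tT τ a : G) * v β 0 * (tT τ a : G)⁻¹ = v (a * β) 0 := by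
  have h1 := τ.act a β 0 a.ne_zero
  rw [mul_zero] at h1
  exact h1

theorem T_lin (a : Fˣ) (l : F) (x : M) : tT τ a • (l • x) = l • (tT τ a • x) :=
  h.lin a.ne_zero (h.T_aux τ a) l x

theorem phi_T (a : Fˣ) (x z : M) : φ (tT τ a • x) (tT τ a • z) = a * φ x z :=
  h.phi_lin a.ne_zero (h.T_aux τ a) x z

theorem T_T (a b : Fˣ) (x : M) : tT τ a • tT τ b • x = tT τ b • tT τ a • x := by
  rw [← mul_smul, tT_comm, mul_smul]

theorem T_e (a : Fˣ) : tT τ a • p (v 0 1) = (a : F)⁻¹ • p (v 0 1) := by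
  rw [h.fr.p_act _ _ (h.fr.v_mem_W h.co h.bt 0 1)]
  change p (t a * v 0 1 * (t a)⁻¹) = _
  rw [τ.act a 0 1 a.ne_zero, h.p_v, mul_one]

theorem T_smul_e (a : Fˣ) (γ : F) : tT τ a • (γ • p (v 0 1)) = (γ * (a : F)⁻¹) • p (v 0 1) := by
  rw [h.T_lin τ, h.T_e τ, smul_smul]

theorem phi_T_e (a : Fˣ) (x : M) : φ (tT τ a • x) (p (v 0 1)) = (a : F) ^ 2 * φ x (p (v 0 1)) := by
  have h1 := h.phi_T τ a x (p (v 0 1))
  rw [h.T_e τ, map_smul, smul_eq_mul] at h1
  have h2 : (a : F) * ((a : F)⁻¹ * φ (tT τ a • x) (p (v 0 1))) = (a : F) * (a * φ x (p (v 0 1))) := by rw [h1]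
  rw [← mul_assoc, mul_inv_cancel₀ a.ne_zero, one_mul, ← mul_assoc, ← pow_two] at h2
  exact h2

theorem T_D (a : Fˣ) {x : M} (hx : x ∈ h.fr.sb (DD V R)) : ∃ γ : F, tT τ a • x = x + γ • p (v 0 1) := by
  obtain ⟨γ, hγ⟩ := h.mem_V.1 (h.fr.X_D h.bt (h := tT τ a) (τ.memX a a.ne_zero) hx)
  exact ⟨γ, by rw [hγ]; abel⟩

/-- `C_M(T)` -/
def M0 : Submodule F M where
  carrier := {x | ∀ a : Fˣ, tT τ a • x = x}
  zero_mem' := fun a => smul_zero _
  add_mem' := fun {x z} hx hz a => by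
    have h1 := hx a
    have h2 := hz a
    rw [smul_add, h1, h2]
  smul_mem' := fun l x hx a => by
    have h1 := hx a
    rw [h.T_lin τ, h1]

/-- the eigenspace of `T` for the weight 1 -/
def M1 : Submodule F M where
  carrier := {x | ∀ a : Fˣ, tT τ a • x = (a : F) • x}
  zero_mem' := fun a => by rw [smul_zero, smul_zero]
  add_mem' := fun {x z} hx hz a => by
    have h1 := hx a
    have h2 := hz a
    rw [smul_add, smul_add, h1, h2]
  smul_mem' := fun l x hx a => by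
    have h1 := hx a
    rw [h.T_lin τ, h1, smul_smul, smul_smul, mul_comm]

theorem mem_M0 {x : M} : x ∈ h.M0 τ ↔ ∀ a : Fˣ, tT τ a • x = x := Iff.rfl

theorem mem_M1 {x : M} : x ∈ h.M1 τ ↔ ∀ a : Fˣ, tT τ a • x = (a : F) • x := Iff.rfl

omit τ in
theorem exists_unit : ∃ a : Fˣ, (a : F) ≠ 1 := by
  obtain ⟨a, h0, h1⟩ := h.four
  exact ⟨Units.mk0 a h0, h1⟩

omit τ in
theorem sub_inv_ne {a : F} (h0 : a ≠ 0) (h1 : a ≠ 1) : a - a⁻¹ ≠ 0 := by
  intro e
  apply h1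
  have h2 : a * a = 1 := by
    rw [sub_eq_zero] at e
    nth_rewrite 2 [e]
    exact mul_inv_cancel₀ h0
  have h3 : (a + 1) * (a + 1) = 0 := by
    have h4 : (a + 1) * (a + 1) = a * a + (a + a) + 1 := by ring
    rw [h4, h2, CharTwo.add_self_eq_zero, add_zero, CharTwo.add_self_eq_zero]
  have h5 : a + 1 = 0 := mul_self_eq_zero.1 h3
  rw [← CharTwo.sub_eq_add] at h5
  exact sub_eq_zero.1 h5

/-- `D̄ = e ⊕ C_{D̄}(T)` -/
theorem exists_M0 {x : M} (hx : x ∈ h.fr.sb (DD V R)) : ∃ γ : F, x + γ • p (v 0 1) ∈ h.M0 τ := by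
  choose δ hδ using fun a => h.T_D τ a hx
  obtain ⟨b, hb⟩ := h.exists_unit
  have hb' : 1 - (b : F)⁻¹ ≠ 0 := by
    intro e
    apply hb
    rw [sub_eq_zero] at e
    rw [← inv_inv (b : F), ← e, inv_one]
  have key : ∀ a : Fˣ, δ a * (1 - (b : F)⁻¹) = δ b * (1 - (a : F)⁻¹) := by
    intro a
    have h1 := h.T_T τ a b x
    rw [hδ b, hδ a, smul_add, smul_add, hδ a, hδ b, h.T_smul_e τ, h.T_smul_e τ, add_assoc, add_assoc,
      add_right_inj, ← add_smul, ← add_smul] at h1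
    have h2 : (δ a + δ b * (a : F)⁻¹ - (δ b + δ a * (b : F)⁻¹)) • p (v 0 1) = 0 := by
      rw [sub_smul, h1, sub_self]
    have h3 := h.e_smul_eq_zero h2
    linear_combination h3
  refine ⟨δ b * (1 - (b : F)⁻¹)⁻¹, fun a => ?_⟩
  rw [smul_add, hδ a, h.T_smul_e τ, add_assoc, ← add_smul, add_right_inj]
  congr 1
  have h1 : δ a = δ b * (1 - (b : F)⁻¹)⁻¹ * (1 - (a : F)⁻¹) := by
    have h2 := key a
    field_simp at h2 ⊢
    linear_combination h2
  rw [h1]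
  ring

theorem e_mem_D : p (v 0 1) ∈ h.fr.sb (DD V R) :=
  h.fr.sb_mono (V_le_D V R) (h.mem_V.2 ⟨1, one_smul _ _⟩)

theorem D_smul_e (γ : F) : γ • p (v 0 1) ∈ h.fr.sb (DD V R) :=
  h.fr.sb_mono (V_le_D V R) (h.mem_V.2 ⟨γ, rfl⟩)

theorem e_M0 {γ : F} (e : γ • p (v 0 1) ∈ h.M0 τ) : γ = 0 := by
  obtain ⟨a, ha⟩ := h.exists_unit
  have h1 := e a
  rw [h.T_smul_e τ] at h1
  have h2 : (γ * (a : F)⁻¹ - γ) • p (v 0 1) = 0 := by rw [sub_smul, h1, sub_self]
  have h3 := h.e_smul_eq_zero h2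
  have h4 : γ * ((a : F)⁻¹ - 1) = 0 := by linear_combination h3
  rcases mul_eq_zero.1 h4 with h5 | h5
  · exact h5
  · exfalso
    apply ha
    rw [← inv_inv (a : F), sub_eq_zero.1 h5, inv_one]

end tor

section eig

variable [Finite G] [Finite F] {t : F → G} (τ : Lie.TorD V R i j v t) {N : Type u} [AddCommGroup N] [Module F N]
  {P1 P2 : G → N} (y : YPair V R i j w1 w2 N P1 P2)
include τ y

/-- `C_M(T) ≤ D̄` -/
theorem M0_le {x : M} (hx : x ∈ h.M0 τ) : x ∈ h.fr.sb (DD V R) := by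
  obtain ⟨a, ha⟩ := h.exists_unit
  have hxa := hx a
  have h1 := h.phi_T_e τ a x
  rw [hxa] at h1
  have h2 : φ x (p (v 0 1)) = 0 := by
    have h3 : ((a : F) ^ 2 - 1) * φ x (p (v 0 1)) = 0 := by linear_combination -h1
    rcases mul_eq_zero.1 h3 with h4 | h4
    · exfalso
      apply h.sub_inv_ne a.ne_zero ha
      have h5 : (a : F) * ((a : F) - (a : F)⁻¹) = 0 := by
        rw [mul_sub, mul_inv_cancel₀ a.ne_zero]
        linear_combination h4
      exact (mul_eq_zero.1 h5).resolve_left a.ne_zero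
    · exact h4
  obtain ⟨z, hz, hzW, rfl⟩ := h.mem_U.2 h2
  have hzY := UU_le_YY i hz
  have h3 := y.tor τ h.co h.btc a.ne_zero hzY
  have h4 : t a * z * (t a)⁻¹ ∈ UU V R i := by
    have h5 : cj (t a) (UU V R i) = UU V R i :=
      h.bt.cj_UU (h.bt.X_le_NV (τ.memX a a.ne_zero)) (cj_eq_self_iff.2 (τ.normR a.ne_zero))
    rw [← h5]
    exact conj_mem_cj hz
  rw [h.fr.p_act _ _ hzW] at hxa
  have h5 := (h.fr.p_eq_iff (UU_le_WW i h4) hzW).1 hxa
  have h6 := (y.mem_D _ (mul_mem (UU_le_YY i h4) (inv_mem hzY))).1 ((h.bt.R_le i).trans (V_le_D V R) h5)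
  rw [y.mul1 _ (UU_le_YY i h4) _ (inv_mem hzY), y.inv1 hzY, h3.1] at h6
  have h7 : ((a : F) - 1) • P1 z = 0 := by
    rw [sub_smul, one_smul, sub_eq_add_neg]
    exact h6.1
  have h8 : P1 z = 0 := (smul_eq_zero.1 h7).resolve_left (sub_ne_zero.2 ha)
  exact h.fr.p_mem hzW ((y.mem_D z hzY).2 ⟨h8, (y.mem_U1 z hzY).1 hz⟩)

theorem mem_D {x : M} : x ∈ h.fr.sb (DD V R) ↔ ∃ γ : F, ∃ d ∈ h.M0 τ, x = γ • p (v 0 1) + d := by
  constructor
  · intro hx
    obtain ⟨γ, hγ⟩ := h.exists_M0 τ hx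
    refine ⟨γ, _, hγ, ?_⟩
    have h1 := h.two (γ • p (v 0 1))
    rw [add_left_comm, h1, add_zero]
  · rintro ⟨γ, d, hd, rfl⟩
    exact add_mem (h.D_smul_e τ γ) (h.M0_le τ y hd)

theorem D_smul {x : M} (hx : x ∈ h.fr.sb (DD V R)) (l : F) : l • x ∈ h.fr.sb (DD V R) := by
  obtain ⟨γ, d, hd, rfl⟩ := (h.mem_D τ y).1 hx
  exact (h.mem_D τ y).2 ⟨l * γ, l • d, (h.M0 τ).smul_mem l hd, by rw [smul_add, smul_smul]⟩

theorem D_T {x : M} (hx : x ∈ h.fr.sb (DD V R)) (a : Fˣ) : tT τ a • x ∈ h.fr.sb (DD V R) := by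
  obtain ⟨γ, hγ⟩ := h.T_D τ a hx
  rw [hγ]
  exact add_mem hx (h.D_smul_e τ γ)

/-- no eigenvalue `a` on `D̄` -/
theorem eig_D {a : Fˣ} (ha : (a : F) ≠ 1) {x : M} (hx : x ∈ h.fr.sb (DD V R)) (e : tT τ a • x = (a : F) • x) :
    x = 0 := by
  obtain ⟨γ, d, hd, rfl⟩ := (h.mem_D τ y).1 hx
  rw [smul_add, h.T_smul_e τ, hd a, smul_add, smul_smul] at e
  have h1 : (γ * (a : F)⁻¹ - a * γ) • p (v 0 1) = ((a : F) - 1) • d := by
    rw [sub_smul, sub_smul, one_smul]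
    have h2 : (γ * (a : F)⁻¹) • p (v 0 1) = ((a : F) * γ) • p (v 0 1) + (a : F) • d - d := by rw [← e]; abel
    rw [h2]
    abel
  have h2 : γ * (a : F)⁻¹ - a * γ = 0 := by
    apply h.e_M0 τ
    rw [h1]
    exact (h.M0 τ).smul_mem _ hd
  rw [h2, zero_smul] at h1
  have h3 : d = 0 := (smul_eq_zero.1 h1.symm).resolve_left (sub_ne_zero.2 ha)
  have h4 : γ * ((a : F) - (a : F)⁻¹) = 0 := by linear_combination -h2
  have h5 : γ = 0 := (mul_eq_zero.1 h4).resolve_right (h.sub_inv_ne a.ne_zero ha)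
  rw [h3, h5, zero_smul, add_zero]

theorem M1_D {x : M} (hx : x ∈ h.M1 τ) (hD : x ∈ h.fr.sb (DD V R)) : x = 0 := by
  obtain ⟨a, ha⟩ := h.exists_unit
  exact h.eig_D τ y ha hD (hx a)

omit y in
theorem M1_U {x : M} (hx : x ∈ h.M1 τ) : φ x (p (v 0 1)) = 0 := by
  obtain ⟨a, ha⟩ := h.exists_unit
  have h1 := h.phi_T_e τ a x
  rw [hx a, map_smul, LinearMap.smul_apply, smul_eq_mul] at h1
  have h2 : (a : F) * (((a : F) - 1) * φ x (p (v 0 1))) = 0 := by linear_combination -h1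
  have h3 := (mul_eq_zero.1 h2).resolve_left a.ne_zero
  exact (mul_eq_zero.1 h3).resolve_left (sub_ne_zero.2 ha)

/-- the projection `e^⊥ → e^⊥ / D̄ = N` -/
theorem exists_pr : ∃ pr : M → N, (∀ z ∈ UU V R i, pr (p z) = P1 z) ∧
    (∀ x ∈ h.fr.sb (UU V R i), ∀ z ∈ h.fr.sb (UU V R i), pr (x + z) = pr x + pr z) ∧
    (∀ x ∈ h.fr.sb (UU V R i), (pr x = 0 ↔ x ∈ h.fr.sb (DD V R))) ∧
    (∀ (g : NR R i), (g : G) ∈ UU V R j → ∀ m, pr (g • m - m) = φ m (p (v 0 1)) • P2 (g : G)) ∧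
    (∀ x ∈ h.fr.sb (UU V R i), ∀ l : F, pr (l • x) = l • pr x) ∧
    (∀ x ∈ h.fr.sb (UU V R i), ∀ a : Fˣ, pr (tT τ a • x) = (a : F) • pr x) := by
  classical
  obtain ⟨π, -, hk, hP, -⟩ := h.fr.exists_pi h.co h.bt y
  obtain ⟨ω, -, -, hω, -, -⟩ := h.fr.exists_omega h.co h.bt
  have hωφ : ∀ m, ω m = φ m (p (v 0 1)) := fun m => by
    symm
    apply h.phi_of
    have h1 := hω m 1
    rw [mul_one, h.fr.eF_apply h.co h.bt] at h1
    exact h1
  let pr : M → N := fun x => if hx : x ∈ h.fr.sb (UU V R i) then π ⟨x, hx⟩ else 0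
  have hpr : ∀ x (hx : x ∈ h.fr.sb (UU V R i)), pr x = π ⟨x, hx⟩ := fun x hx => dif_pos hx
  have h1 : ∀ z ∈ UU V R i, pr (p z) = P1 z := fun z hz => by
    rw [hpr _ (h.fr.p_mem (UU_le_WW i hz) hz)]
    exact hP z hz
  have h2 : ∀ x ∈ h.fr.sb (UU V R i), ∀ z ∈ h.fr.sb (UU V R i), pr (x + z) = pr x + pr z := by
    intro x hx z hz
    rw [hpr x hx, hpr z hz, hpr _ (add_mem hx hz), ← map_add]
    rfl
  have h3 : ∀ x ∈ h.fr.sb (UU V R i), (pr x = 0 ↔ x ∈ h.fr.sb (DD V R)) := fun x hx => by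
    rw [hpr x hx]
    exact hk _
  have h4 : ∀ (g : NR R i), (g : G) ∈ UU V R j → ∀ m, pr (g • m - m) = φ m (p (v 0 1)) • P2 (g : G) := by
    intro g hg m
    rw [hpr _ (h.fr.A_M h.bt hg m), ← hωφ]
    exact h.fr.A_pi h.co h.bt y hω hP hg m
  refine ⟨pr, h1, h2, h3, h4, ?_, ?_⟩
  · intro x hx l
    obtain ⟨u, hu, hu1, hu2⟩ := y.surj 0 (pr x)
    have huj : u ∈ UU V R j := (y.mem_U2 u hu).2 hu1
    set g : NR R i := ⟨u, h.bt.cen_le_N i (UU_le_cen j huj)⟩ with hg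
    have hgc : (g : G) ∈ centralizer (R i : Set G) := centralizer_le (h.bt.R_le i) (UU_le_cen j huj)
    set m0 := p (w1 1) with hm0
    have hm : φ m0 (p (v 0 1)) = 1 := h.phi_w1 1
    have k1 := h4 g huj m0
    rw [hm, one_smul] at k1
    have k1' : P2 (g : G) = pr x := hu2
    rw [k1'] at k1
    have hU1 : g • m0 - m0 ∈ h.fr.sb (UU V R i) := h.fr.A_M h.bt huj m0
    have k2 : x - (g • m0 - m0) ∈ h.fr.sb (DD V R) := by
      rw [← h3 _ (sub_mem hx hU1)]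
      have k3 := h2 (x - (g • m0 - m0)) (sub_mem hx hU1) (g • m0 - m0) hU1
      rw [sub_add_cancel, k1] at k3
      exact (right_eq_add.1 k3)
    have hlU : ∀ x ∈ h.fr.sb (UU V R i), l • x ∈ h.fr.sb (UU V R i) := fun x hx => by
      rw [h.mem_U] at hx ⊢
      rw [map_smul, LinearMap.smul_apply, hx, smul_zero]
    have k4 := h4 g huj (l • m0)
    rw [h.lin_cen hgc, ← smul_sub, map_smul, LinearMap.smul_apply, hm, smul_eq_mul, mul_one, k1'] at k4
    have k5 := h.D_smul τ y k2 l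
    have k6 := h2 _ (hlU _ (sub_mem hx hU1)) _ (hlU _ hU1)
    rw [← smul_add, sub_add_cancel, k4, (h3 _ (hlU _ (sub_mem hx hU1))).2 k5, zero_add] at k6
    exact k6
  · rintro x ⟨z, hz, hzW, rfl⟩ a
    have k1 : t a * z * (t a)⁻¹ ∈ UU V R i := by
      have h5 : cj (t a) (UU V R i) = UU V R i :=
        h.bt.cj_UU (h.bt.X_le_NV (τ.memX a a.ne_zero)) (cj_eq_self_iff.2 (τ.normR a.ne_zero))
      rw [← h5]
      exact conj_mem_cj hz
    rw [h.fr.p_act _ _ hzW, h1 z hz]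
    change pr (p (t a * z * (t a)⁻¹)) = _
    rw [h1 _ k1, (y.tor τ h.co h.btc a.ne_zero (UU_le_YY i hz)).1]

/-- `n : N → M₁` with `n (P1 z) ≡ p z` modulo `D̄` -/
theorem exists_n : ∃ n : N →ₗ[F] M, (∀ g, n g ∈ h.M1 τ) ∧
    (∀ z ∈ UU V R i, p z - n (P1 z) ∈ h.fr.sb (DD V R)) ∧
    (∀ g, n g ∈ h.fr.sb (DD V R) → g = 0) ∧
    (∀ x ∈ h.M1 τ, ∃ g, n g = x) ∧
    ∀ (g : NR R i), (g : G) ∈ UU V R j → ∀ m, g • m - m - φ m (p (v 0 1)) • n (P2 (g : G)) ∈ h.fr.sb (DD V R) := by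
  obtain ⟨pr, hp, hadd, hD, hA, hsm, hT⟩ := h.exists_pr τ y
  obtain ⟨a, ha⟩ := h.exists_unit
  have hUD : h.fr.sb (DD V R) ≤ h.fr.sb (UU V R i) := h.fr.sb_mono (h.bt.D_le_U i)
  have hM1U : ∀ x ∈ h.M1 τ, x ∈ h.fr.sb (UU V R i) := fun x hx => h.mem_U.2 (h.M1_U τ hx)
  have hsub : ∀ x ∈ h.fr.sb (UU V R i), ∀ z ∈ h.fr.sb (UU V R i), pr x = pr z → x - z ∈ h.fr.sb (DD V R) := by
    intro x hx z hz e
    rw [← hD _ (sub_mem hx hz)]
    have h1 := hadd _ (sub_mem hx hz) z hz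
    rw [sub_add_cancel, e] at h1
    exact right_eq_add.1 h1
  have hTU : ∀ (b : Fˣ), ∀ x ∈ h.fr.sb (UU V R i), tT τ b • x ∈ h.fr.sb (UU V R i) := fun b x hx => by
    rw [h.mem_U] at hx ⊢
    rw [h.phi_T_e τ, hx, mul_zero]
  have hlU : ∀ (l : F), ∀ x ∈ h.fr.sb (UU V R i), l • x ∈ h.fr.sb (UU V R i) := fun l x hx => by
    rw [h.mem_U] at hx ⊢
    rw [map_smul, LinearMap.smul_apply, hx, smul_zero]
  have hTs : ∀ (b : Fˣ), ∀ x ∈ h.fr.sb (UU V R i), tT τ b • x - (b : F) • x ∈ h.fr.sb (DD V R) := fun b x hx =>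
    hsub _ (hTU b x hx) _ (hlU _ x hx) (by rw [hT x hx, hsm x hx])
  -- existence
  have hex : ∀ g : N, ∃ x ∈ h.M1 τ, pr x = g := by
    intro g
    obtain ⟨z, hz, hz1, hz2⟩ := y.surj g 0
    have hzU : z ∈ UU V R i := (y.mem_U1 z hz).2 hz2
    have hzs : p z ∈ h.fr.sb (UU V R i) := h.fr.p_mem (UU_le_WW i hzU) hzU
    obtain ⟨γ, d, hd, hγ⟩ := (h.mem_D τ y).1 (hTs a _ hzs)
    have hne := h.sub_inv_ne a.ne_zero ha
    have hne1 : (a : F) - 1 ≠ 0 := sub_ne_zero.2 ha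
    set α := γ * ((a : F) - (a : F)⁻¹)⁻¹ with hα
    set β := ((a : F) - 1)⁻¹ with hβ
    set x := p z + α • p (v 0 1) + β • d with hx
    have hxD : x - p z ∈ h.fr.sb (DD V R) := by
      have e : x - p z = α • p (v 0 1) + β • d := by rw [hx]; abel
      rw [e]
      exact add_mem (h.D_smul_e τ α) (h.D_smul τ y (h.M0_le τ y hd) β)
    have hxU : x ∈ h.fr.sb (UU V R i) := by
      have e : x = x - p z + p z := by abel
      rw [e]
      exact add_mem (hUD hxD) hzs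
    have k1 : tT τ a • p z = (a : F) • p z + (γ • p (v 0 1) + d) := by rw [← hγ]; abel
    have k2 : tT τ a • x = (a : F) • x := by
      rw [hx, smul_add, smul_add, k1, h.T_smul_e τ, h.T_lin τ, hd a, smul_add, smul_add, smul_smul, smul_smul]
      have e1 : (a : F) * α = γ + α * (a : F)⁻¹ := by
        have : α * ((a : F) - (a : F)⁻¹) = γ := by rw [hα, mul_assoc, inv_mul_cancel₀ hne, mul_one]
        linear_combination this
      have e2 : (a : F) * β = 1 + β := by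
        have : β * ((a : F) - 1) = 1 := by rw [hβ]; exact inv_mul_cancel₀ hne1
        linear_combination this
      rw [e1, e2, add_smul, add_smul, one_smul]
      abel
    refine ⟨x, fun b => ?_, ?_⟩
    · -- the eigenvalue for all `b`
      have k3 := hTs b x hxU
      have k4 : tT τ a • (tT τ b • x - (b : F) • x) = (a : F) • (tT τ b • x - (b : F) • x) := by
        rw [smul_sub, h.T_T τ, k2, h.T_lin τ, h.T_lin τ, k2, smul_sub, smul_smul, smul_smul, mul_comm (b : F)]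
      exact sub_eq_zero.1 (h.eig_D τ y ha k3 k4)
    · have k3 := hadd _ (hUD hxD) _ hzs
      rw [sub_add_cancel, (hD _ (hUD hxD)).2 hxD, zero_add, hp z hzU, hz1] at k3
      exact k3
  -- uniqueness
  have huniq : ∀ x ∈ h.M1 τ, ∀ z ∈ h.M1 τ, pr x = pr z → x = z := by
    intro x hx z hz e
    exact sub_eq_zero.1 (h.M1_D τ y ((h.M1 τ).sub_mem hx hz) (hsub x (hM1U x hx) z (hM1U z hz) e))
  choose nf hn hpn using hex
  let n : N →ₗ[F] M :=
    { toFun := nf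
      map_add' := fun g g' => huniq _ (hn _) _ ((h.M1 τ).add_mem (hn g) (hn g')) (by
        rw [hadd _ (hM1U _ (hn g)) _ (hM1U _ (hn g')), hpn, hpn, hpn])
      map_smul' := fun l g => huniq _ (hn _) _ ((h.M1 τ).smul_mem l (hn g)) (by
        rw [hsm _ (hM1U _ (hn g)), hpn, hpn]; rfl) }
  have hne : ∀ g, n g = nf g := fun g => rfl
  refine ⟨n, hn, fun z hz => ?_, fun g hg => ?_, fun x hx => ⟨pr x, ?_⟩, fun g hg m => ?_⟩
  · have hzs : p z ∈ h.fr.sb (UU V R i) := h.fr.p_mem (UU_le_WW i hz) hz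
    exact hsub _ hzs _ (hM1U _ (hn _)) (by rw [hp z hz, hne, hpn])
  · have h1 := (hD _ (hM1U _ (hn g))).2 hg
    rw [hpn] at h1
    exact h1
  · exact huniq _ (hn _) _ hx (by rw [hpn])
  · have hU1 := h.fr.A_M h.bt hg m
    refine hsub _ hU1 _ (hlU _ _ (hM1U _ (hn _))) ?_
    rw [hA g hg m, hne, hsm _ (hM1U _ (hn _)), hpn]

omit [Finite F] τ in
/-- the action of `u ∈ U j` on `M` depends only on `P2 u` -/
theorem act_congr {g g' : NR R i} (hg : (g : G) ∈ UU V R j) (hg' : (g' : G) ∈ UU V R j)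
    (e : P2 (g : G) = P2 (g' : G)) (x : M) : g • x = g' • x := by
  have h1 : (g : G) * (g' : G)⁻¹ ∈ DD V R := by
    have hY := UU_le_YY j hg
    have hY' := UU_le_YY j hg'
    rw [y.mem_D _ (mul_mem hY (inv_mem hY')), y.mul1 _ hY _ (inv_mem hY'), y.mul2 _ hY _ (inv_mem hY'), y.inv1 hY',
      y.inv2 hY', e, (y.mem_U2 _ hY).1 hg, (y.mem_U2 _ hY').1 hg', neg_zero, add_zero, add_neg_cancel]
    exact ⟨rfl, rfl⟩
  have h2 : (g * g'⁻¹) • (g' • x) = g' • x := h.fr.W_act h.bt (D_le_W V R i h1) _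
  rw [← mul_smul, inv_mul_cancel_right] at h2
  exact h2

omit [Finite G] [Finite F] τ in
/-- `[d, n]`: the form on `D × U i` -/
theorem phi_D_U {d z : G} (hd : d ∈ DD V R) (hz : z ∈ UU V R i) :
    φ (p d) (p z) = y.lam h.bt h.co d (P1 z) := by
  have h1 := h.comm_eq (D_le_W V R i hd) (UU_le_WW i hz)
  have h2 := y.lam_spec h.bt h.co hd (UU_le_YY i hz)
  rw [h1] at h2
  exact (h.co.v_inj h2).1

end eig

end FMod

section eigS

variable {F : Type v} [Field F] [CharP F 2] {v : F → F → G} {w1 w2 : F → G}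
variable {M B : Type u} [AddCommGroup M] [AddCommGroup B] [DistribMulAction (NR R i) M]
  [DistribMulAction (NR R i) B] [Module F M] {p : G → M} {r : G → B} {f : M →+ M →+ B}
  {φ : M →ₗ[F] M →ₗ[F] F} {s : NR R i → (F ≃+* F)}

/-- **The eigenspaces of the torus and the action of `A = U j`** (#14331, SETTING) -/
structure Eig (h : FMod V R i j v w1 w2 M B p r f φ s) {t : F → G} (τ : Lie.TorD V R i j v t) {N : Type u}
    [AddCommGroup N] [Module F N] {P1 P2 : G → N} (y : YPair V R i j w1 w2 N P1 P2) (n : N →ₗ[F] M)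
    (sf : N →ₗ[F] N →ₗ[F] M) (q : N → N →ₗ[F] F) : Prop where
  n_mem : ∀ g, n g ∈ h.M1 τ
  n_surj : ∀ x ∈ h.M1 τ, ∃ g, n g = x
  sf_mem : ∀ g g', sf g g' ∈ h.M0 τ
  mem_D : ∀ x, x ∈ h.fr.sb (DD V R) ↔ ∃ γ : F, ∃ d ∈ h.M0 τ, x = γ • p (v 0 1) + d
  mem_U : ∀ x, φ x (p (v 0 1)) = 0 ↔ ∃ γ : F, ∃ d ∈ h.M0 τ, ∃ g, x = γ • p (v 0 1) + d + n g
  indep : ∀ (γ : F) (d : M) (g : N), d ∈ h.M0 τ → γ • p (v 0 1) + d + n g = 0 → γ = 0 ∧ d = 0 ∧ g = 0
  p_n : ∀ z ∈ UU V R i, p z - n (P1 z) ∈ h.fr.sb (DD V R)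
  A_e : ∀ a : NR R i, (a : G) ∈ UU V R j → a • p (v 0 1) = p (v 0 1)
  A_0 : ∀ a : NR R i, (a : G) ∈ UU V R j → ∀ d ∈ h.M0 τ, a • d = d + φ d (n (P2 (a : G))) • p (v 0 1)
  A_1 : ∀ a : NR R i, (a : G) ∈ UU V R j → ∀ g, a • n g = n g + sf g (P2 (a : G)) + q (P2 (a : G)) g • p (v 0 1)
  A_top : ∀ a : NR R i, (a : G) ∈ UU V R j → ∀ m,
    a • m - m - φ m (p (v 0 1)) • n (P2 (a : G)) ∈ h.fr.sb (DD V R)
  phi_00 : ∀ d ∈ h.M0 τ, ∀ d' ∈ h.M0 τ, φ d d' = 0
  phi_11 : ∀ g g', φ (n g) (n g') = 0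
  phi_e0 : ∀ d ∈ h.M0 τ, φ d (p (v 0 1)) = 0
  phi_e1 : ∀ g, φ (n g) (p (v 0 1)) = 0
  inj : ∀ d ∈ h.M0 τ, (∀ g, φ d (n g) = 0) → d = 0
  sf_alt : ∀ g, sf g g = 0
  T_23 : ∀ g a b, φ (sf g a) (n b) = φ (sf g b) (n a)
  T_13 : ∀ g a b, φ (sf g a) (n b) = φ (sf b a) (n g)
  T_alt : ∀ g a, φ (sf g a) (n a) = 0
  q_add : ∀ a b g, q (a + b) g = q a g + q b g + φ (sf g b) (n a)
  q_smul : ∀ (l : F) a g, q (l • a) g = l ^ 2 * q a g

/-- **existence of `Eig`** -/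
theorem FMod.exists_eig [Finite G] [Finite F] (h : FMod V R i j v w1 w2 M B p r f φ s) {t : F → G}
    (τ : Lie.TorD V R i j v t) {N : Type u} [AddCommGroup N] [Module F N] {P1 P2 : G → N}
    (y : YPair V R i j w1 w2 N P1 P2) :
    ∃ (n : N →ₗ[F] M) (sf : N →ₗ[F] N →ₗ[F] M) (q : N → N →ₗ[F] F), Eig h τ y n sf q := by
  obtain ⟨n, hn, hpn, hnD, hns, htop⟩ := h.exists_n τ y
  obtain ⟨a, ha⟩ := h.exists_unit
  set e1 : M := p (v 0 1) with he1
  set m0 : M := p (w1 1) with hm0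
  have hm : φ m0 e1 = 1 := h.phi_w1 1
  have hai : (a : F)⁻¹ - 1 ≠ 0 := fun e => ha (by rw [← inv_inv (a : F), sub_eq_zero.1 e, inv_one])
  let Tl : M →ₗ[F] M :=
    { toFun := fun x => tT τ a • x
      map_add' := fun x z => smul_add _ _ _
      map_smul' := fun l x => h.T_lin τ a l x }
  let ce : M →ₗ[F] F := ((a : F)⁻¹ - 1)⁻¹ • ((φ m0).comp (Tl - LinearMap.id))
  have hce : ∀ x, ce x = ((a : F)⁻¹ - 1)⁻¹ * φ m0 (tT τ a • x - x) := fun x => rfl
  have hce1 : ce e1 = 1 := by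
    rw [hce, h.T_e τ]
    have e : (a : F)⁻¹ • p (v 0 1) - e1 = ((a : F)⁻¹ - 1) • e1 := by rw [sub_smul, one_smul]
    rw [e, map_smul, hm, smul_eq_mul, mul_one, inv_mul_cancel₀ hai]
  have hce0 : ∀ d ∈ h.M0 τ, ce d = 0 := fun d hd => by rw [hce, hd a, sub_self, map_zero, mul_zero]
  -- decomposition of `D̄`
  have hdec : ∀ x ∈ h.fr.sb (DD V R), x - ce x • e1 ∈ h.M0 τ := by
    intro x hx
    obtain ⟨γ, d, hd, rfl⟩ := (h.mem_D τ y).1 hx
    rw [map_add, map_smul, hce1, hce0 d hd, smul_eq_mul, mul_one, add_zero, add_sub_cancel_left]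
    exact hd
  -- the elements of `U j`
  have hex : ∀ b : N, ∃ g : NR R i, (g : G) ∈ UU V R j ∧ P2 (g : G) = b := by
    intro b
    obtain ⟨u, hu, hu1, hu2⟩ := y.surj 0 b
    have huj : u ∈ UU V R j := (y.mem_U2 u hu).2 hu1
    exact ⟨⟨u, h.bt.cen_le_N i (UU_le_cen j huj)⟩, huj, hu2⟩
  choose al hal hal2 using hex
  have hcen : ∀ g : NR R i, (g : G) ∈ UU V R j → (g : G) ∈ centralizer (R i : Set G) := fun g hg =>
    centralizer_le (h.bt.R_le i) (UU_le_cen j hg)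
  let Al : N → M →ₗ[F] M := fun b =>
    { toFun := fun x => al b • x - x
      map_add' := fun x z => by rw [smul_add]; abel
      map_smul' := fun l x => by rw [h.lin_cen (hcen _ (hal b))]; exact (smul_sub _ _ _).symm }
  have hAl : ∀ b x, Al b x = al b • x - x := fun b x => rfl
  have hAlg : ∀ (g : NR R i), (g : G) ∈ UU V R j → ∀ x, g • x - x = Al (P2 (g : G)) x := fun g hg x => by
    rw [hAl, h.act_congr y hg (hal _) (hal2 _).symm]
  have hAe : ∀ g : NR R i, (g : G) ∈ UU V R j → g • e1 = e1 := fun g hg =>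
    h.fr.cen_e h.bt (UU_le_cen j hg) (h.mem_V.2 ⟨1, one_smul _ _⟩)
  have hAle : ∀ b (γ : F), Al b (γ • e1) = 0 := fun b γ => by
    rw [map_smul, hAl, hAe _ (hal b), sub_self, smul_zero]
  -- the form on `M0 × N`
  have hφD : ∀ x ∈ h.fr.sb (DD V R), ∀ z ∈ h.fr.sb (DD V R), φ x z = 0 := fun x hx z hz =>
    h.phi_of (by rw [h.fr.f_DD h.bt hx hz, map_zero])
  have hM0D : ∀ d ∈ h.M0 τ, d ∈ h.fr.sb (DD V R) := fun d hd => h.M0_le τ y hd
  have hA0 : ∀ d ∈ h.fr.sb (DD V R), ∀ b, Al b d = φ d (n b) • e1 := by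
    rintro _ ⟨d, hd, hdW, rfl⟩ b
    obtain ⟨z, hz, hz1, hz2⟩ := y.surj b 0
    have hzU : z ∈ UU V R i := (y.mem_U1 z hz).2 hz2
    have h1 : φ (p d) (n b) = y.lam h.bt h.co d b := by
      have h2 := hφD (p d) (h.fr.p_mem hdW hd) _ (hpn z hzU)
      rw [map_sub, hz1, sub_eq_zero, h.phi_D_U y hd hzU, hz1] at h2
      exact h2.symm
    have h3 := h.fr.A_lam h.co h.bt y (hal b) hd
    rw [h1, hAl, h3, hal2, h.eF_eq]
  have hA1D : ∀ b g, Al b (n g) ∈ h.fr.sb (DD V R) := fun b g =>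
    h.fr.A_U h.bt (hal b) (h.mem_U.2 (h.M1_U τ (hn g)))
  -- additivity
  have hAadd : ∀ b b' x, Al (b + b') x = Al b x + Al b' x + Al b (Al b' x) := by
    intro b b' x
    have h1 : ((al b * al b' : NR R i) : G) ∈ UU V R j := mul_mem (hal b) (hal b')
    have h2 := hAlg (al b * al b') h1 x
    have h3 : P2 ((al b * al b' : NR R i) : G) = b + b' := by
      change P2 ((al b : G) * (al b' : G)) = _
      rw [y.mul2 _ (UU_le_YY j (hal b)) _ (UU_le_YY j (hal b')), hal2, hal2]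
    rw [h3] at h2
    rw [← h2, mul_smul, hAl, hAl, hAl, smul_sub]
    abel
  have hAT : ∀ (c : Fˣ) b x, tT τ c • Al b x = Al ((c : F)⁻¹ • b) (tT τ c • x) := by
    intro c b x
    have h1 : ((tT τ c * al b * (tT τ c)⁻¹ : NR R i) : G) ∈ UU V R j := by
      have h5 : cj (t c) (UU V R j) = UU V R j :=
        h.bt.cj_UU (h.bt.X_le_NV (τ.memX c c.ne_zero)) (cj_eq_self_iff.2 (τ.normR' c.ne_zero))
      rw [← h5]
      exact conj_mem_cj (hal b)
    have h2 := hAlg _ h1 (tT τ c • x)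
    have h3 : P2 ((tT τ c * al b * (tT τ c)⁻¹ : NR R i) : G) = (c : F)⁻¹ • b := by
      change P2 (t c * (al b : G) * (t c)⁻¹) = _
      rw [(y.tor τ h.co h.btc c.ne_zero (UU_le_YY j (hal b))).2, hal2]
    rw [h3] at h2
    rw [← h2, ← mul_smul, inv_mul_cancel_right, mul_smul, hAl, smul_sub]
  let sfn : N → N → M := fun g b => Al b (n g) - ce (Al b (n g)) • e1
  have hsf0 : ∀ g b, sfn g b ∈ h.M0 τ := fun g b => hdec _ (hA1D b g)
  have hdecA : ∀ b g, Al b (n g) = sfn g b + ce (Al b (n g)) • e1 := fun b g => (sub_add_cancel _ _).symm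
  have hAA : ∀ b b' g, Al b (Al b' (n g)) = φ (sfn g b') (n b) • e1 := by
    intro b b' g
    rw [hdecA b' g, map_add, hAle, add_zero, hA0 _ (hM0D _ (hsf0 g b'))]
  have hqadd : ∀ b b' g, ce (Al (b + b') (n g)) = ce (Al b (n g)) + ce (Al b' (n g)) + φ (sfn g b') (n b) := by
    intro b b' g
    rw [hAadd, map_add, map_add, hAA, map_smul, hce1, smul_eq_mul, mul_one]
  have hsadd : ∀ b b' g, sfn g (b + b') = sfn g b + sfn g b' := by
    intro b b' g
    change Al (b + b') (n g) - ce (Al (b + b') (n g)) • e1 = _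
    rw [hqadd, hAadd, hAA, add_smul, add_smul]
    change _ = Al b (n g) - ce (Al b (n g)) • e1 + (Al b' (n g) - ce (Al b' (n g)) • e1)
    abel
  have hTs : ∀ (c : Fˣ) b g, (c : F) • sfn g ((c : F)⁻¹ • b) = sfn g b ∧
      (c : F) ^ 2 * ce (Al ((c : F)⁻¹ • b) (n g)) = ce (Al b (n g)) := by
    intro c b g
    have h1 := hAT c b (n g)
    have k1 : tT τ c • Al b (n g) = sfn g b + (ce (Al b (n g)) * (c : F)⁻¹) • p (v 0 1) := by
      have k := congrArg (fun x => tT τ c • x) (hdecA b g)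
      rw [smul_add, hsf0 g b c, h.T_smul_e τ] at k
      exact k
    have k2 : (c : F) • Al ((c : F)⁻¹ • b) (n g) =
        (c : F) • sfn g ((c : F)⁻¹ • b) + (c * ce (Al ((c : F)⁻¹ • b) (n g))) • e1 := by
      have k := congrArg (fun x => (c : F) • x) (hdecA ((c : F)⁻¹ • b) g)
      rw [smul_add, smul_smul] at k
      exact k
    rw [hn g c, map_smul, k1, k2] at h1
    have h2 : (ce (Al b (n g)) * (c : F)⁻¹ - c * ce (Al ((c : F)⁻¹ • b) (n g))) • p (v 0 1) +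
        (sfn g b - (c : F) • sfn g ((c : F)⁻¹ • b)) + n 0 = 0 := by
      rw [map_zero, add_zero, sub_smul]
      have h3 : sfn g b = (c : F) • sfn g ((c : F)⁻¹ • b) + (c * ce (Al ((c : F)⁻¹ • b) (n g))) • e1 -
          (ce (Al b (n g)) * (c : F)⁻¹) • p (v 0 1) := by rw [← h1]; abel
      rw [h3]
      abel
    have h3 : sfn g b - (c : F) • sfn g ((c : F)⁻¹ • b) ∈ h.M0 τ :=
      (h.M0 τ).sub_mem (hsf0 _ _) ((h.M0 τ).smul_mem _ (hsf0 _ _))
    have h4 : ce (Al b (n g)) * (c : F)⁻¹ - c * ce (Al ((c : F)⁻¹ • b) (n g)) = 0 := by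
      apply h.e_M0 τ
      rw [map_zero, add_zero] at h2
      rw [eq_neg_of_add_eq_zero_left h2]
      exact (h.M0 τ).neg_mem h3
    refine ⟨?_, ?_⟩
    · rw [h4, zero_smul, zero_add, map_zero, add_zero] at h2
      exact (sub_eq_zero.1 h2).symm
    · have h5 := sub_eq_zero.1 h4
      rw [pow_two, mul_assoc, ← h5, mul_comm (c : F), mul_assoc, inv_mul_cancel₀ c.ne_zero, mul_one]
  have hssm : ∀ (l : F) g b, sfn g (l • b) = l • sfn g b := by
    intro l g b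
    by_cases hl : l = 0
    · rw [hl, zero_smul, zero_smul]
      have h1 := hsadd 0 0 g
      rw [add_zero] at h1
      exact left_eq_add.1 h1
    · have h1 := (hTs (Units.mk0 l hl) (l • b) g).1
      change l • sfn g (l⁻¹ • l • b) = _ at h1
      rw [smul_smul, inv_mul_cancel₀ hl, one_smul] at h1
      exact h1.symm
  have hqsm : ∀ (l : F) b g, ce (Al (l • b) (n g)) = l ^ 2 * ce (Al b (n g)) := by
    intro l b g
    by_cases hl : l = 0
    · have h1 := hqadd 0 0 g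
      have h2 : sfn g 0 = 0 := by
        have h3 := hssm 0 g 0
        rw [smul_zero, zero_smul] at h3
        exact h3
      rw [add_zero, h2, map_zero, LinearMap.zero_apply, add_zero] at h1
      rw [hl, zero_smul, left_eq_add.1 h1]
      ring
    · have h1 := (hTs (Units.mk0 l hl) (l • b) g).2
      change l ^ 2 * ce (Al (l⁻¹ • l • b) (n g)) = _ at h1
      rw [smul_smul, inv_mul_cancel₀ hl, one_smul] at h1
      exact h1.symm
  let sf : N →ₗ[F] N →ₗ[F] M := LinearMap.mk₂ F sfn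
    (fun g g' b => by
      change Al b (n (g + g')) - ce (Al b (n (g + g'))) • e1 =
        (Al b (n g) - ce (Al b (n g)) • e1) + (Al b (n g') - ce (Al b (n g')) • e1)
      rw [map_add, map_add, map_add, add_smul]
      abel)
    (fun l g b => by
      change Al b (n (l • g)) - ce (Al b (n (l • g))) • e1 = l • (Al b (n g) - ce (Al b (n g)) • e1)
      rw [map_smul, map_smul, map_smul, smul_sub, smul_assoc])
    (fun g b b' => hsadd b b' g) (fun l g b => hssm l g b)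
  have hsf : ∀ g b, sf g b = sfn g b := fun g b => rfl
  let q : N → N →ₗ[F] F := fun b => ce.comp ((Al b).comp n)
  have hq : ∀ b g, q b g = ce (Al b (n g)) := fun b g => rfl
  have hinj : ∀ d ∈ h.M0 τ, (∀ g, φ d (n g) = 0) → d = 0 := by
    intro d hd hd0
    have h1 : d ∈ h.fr.sb V := h.fr.C_A_D h.btc h.co.ne (hM0D d hd) fun g hg => by
      have h2 := hAlg g hg d
      rw [hA0 d (hM0D d hd), hd0, zero_smul] at h2
      exact sub_eq_zero.1 h2
    obtain ⟨γ, rfl⟩ := h.mem_V.1 h1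
    rw [h.e_M0 τ hd, zero_smul]
  have h11 : ∀ g g', φ (n g) (n g') = 0 := by
    intro g g'
    have h1 := h.phi_T τ a (n g) (n g')
    rw [hn g a, hn g' a, map_smul, map_smul, LinearMap.smul_apply, smul_eq_mul, smul_eq_mul] at h1
    have h2 := mul_left_cancel₀ a.ne_zero h1
    have h3 : ((a : F) - 1) * φ (n g) (n g') = 0 := by linear_combination h2
    exact (mul_eq_zero.1 h3).resolve_left (sub_ne_zero.2 ha)
  have he0 : ∀ d ∈ h.M0 τ, φ d e1 = 0 := fun d hd => hφD d (hM0D d hd) e1 (h.e_mem_D τ)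
  have he1' : ∀ g, φ (n g) e1 = 0 := fun g => h.M1_U τ (hn g)
  have hT23 : ∀ g b b', φ (sf g b) (n b') = φ (sf g b') (n b) := by
    intro g b b'
    have h1 := hqadd b' b g
    have h2 := hqadd b b' g
    rw [add_comm b' b, h2] at h1
    have h3 : φ (sfn g b) (n b') = φ (sfn g b') (n b) := by linear_combination -h1
    exact h3
  have hT13 : ∀ g b b', φ (sf g b) (n b') = φ (sf b' b) (n g) := by
    intro g b b'
    have h1 := h.phi_cen (hcen _ (hal b)) (n g) (n b')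
    have e1' : ∀ g, al b • n g = n g + sfn g b + ce (Al b (n g)) • e1 := fun g => by
      rw [add_assoc, ← hdecA, hAl]; abel
    rw [e1', e1', h11] at h1
    simp only [map_add, LinearMap.add_apply, map_smul, LinearMap.smul_apply, smul_eq_mul] at h1
    rw [h11, he1', hφD _ (hM0D _ (hsf0 g b)) _ (hM0D _ (hsf0 b' b)), he0 _ (hsf0 g b), h.phi_symm e1 (n b'), he1',
      h.phi_symm e1 (sfn b' b), he0 _ (hsf0 b' b), h.phi_self e1] at h1
    rw [hsf, hsf, h.phi_symm (sfn b' b) (n g)]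
    have h2 : φ (n g) (sfn b' b) + φ (sfn g b) (n b') = 0 := by linear_combination h1
    rw [← CharTwo.sub_eq_add] at h2
    exact (sub_eq_zero.1 h2).symm
  have hTalt : ∀ g b, φ (sf g b) (n b) = 0 := by
    intro g b
    have h1 := hqadd b b g
    have h2 : b + b = (0 : F) • b := by
      rw [zero_smul, ← two_smul F, CharTwo.two_eq_zero, zero_smul]
    rw [h2, hqsm, CharTwo.add_self_eq_zero, zero_add] at h1
    rw [hsf, ← h1]
    ring
  have hsalt : ∀ g, sf g g = 0 := by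
    intro g
    refine hinj _ (hsf0 g g) fun b => ?_
    rw [hT13]
    exact hTalt b g
  refine ⟨n, sf, q, ?_⟩
  exact
    { n_mem := hn
      n_surj := hns
      sf_mem := hsf0
      mem_D := fun x => h.mem_D τ y
      mem_U := fun x => by
        constructor
        · intro hx
          obtain ⟨z, hz, hzW, rfl⟩ := h.mem_U.2 hx
          obtain ⟨γ, d, hd, e⟩ := (h.mem_D τ y).1 (hpn z hz)
          exact ⟨γ, d, hd, P1 z, by rw [← e, sub_add_cancel]⟩
        · rintro ⟨γ, d, hd, g, rfl⟩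
          rw [map_add, map_add, LinearMap.add_apply, LinearMap.add_apply, map_smul, LinearMap.smul_apply, h.phi_self,
            smul_zero, he0 d hd, he1', add_zero, add_zero]
      indep := fun γ d g hd e => by
        have h1 : g = 0 := by
          apply hnD
          have h2 : n g = -(γ • p (v 0 1) + d) := by
            rw [eq_neg_iff_add_eq_zero, add_comm]; exact e
          rw [h2]
          exact neg_mem ((h.mem_D τ y).2 ⟨γ, d, hd, rfl⟩)
        rw [h1, map_zero, add_zero] at e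
        have h2 : γ = 0 := by
          apply h.e_M0 τ
          rw [eq_neg_of_add_eq_zero_left e]
          exact (h.M0 τ).neg_mem hd
        rw [h2, zero_smul, zero_add] at e
        exact ⟨h2, e, h1⟩
      p_n := hpn
      A_e := hAe
      A_0 := fun g hg d hd => by rw [← hA0 d (hM0D d hd), ← hAlg g hg]; abel
      A_1 := fun g hg b => by
        rw [hsf, hq, add_assoc, ← hdecA, ← hAlg g hg]; abel
      A_top := htop
      phi_00 := fun d hd d' hd' => hφD _ (hM0D d hd) _ (hM0D d' hd')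
      phi_11 := h11
      phi_e0 := he0
      phi_e1 := he1'
      inj := hinj
      sf_alt := hsalt
      T_23 := hT23
      T_13 := hT13
      T_alt := hTalt
      q_add := fun b b' g => hqadd b b' g
      q_smul := fun l b g => hqsm l b g }

end eigS

end Cfsg.Agent.Omega.BTwo
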