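import Cfsg.Agent.Omega.BTwo.Coord

/-!
# SQ3, `b = 2`: the coordinates `P1, P2 : Y → M` of `Y / D = N ⊗ M`, and `λ : D → M*`

`YPair`: `Y / D ≅ M × M` with the action of `W i`, `W j`, of `n(a)` and of the torus `h(a)`;
`YPair.lam`: `[d, y] = v (λ_d (P1 y)) (λ_d (P2 y))` for `d ∈ D`, `y ∈ Y`, with `λ_d : M → F` linear.
-/

set_option autoImplicit false
set_option linter.unusedSectionVars false

namespace Cfsg.Agent.Omega.BTwo

open Subgroup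
open scoped Pointwise

universe u v w

variable {G : Type u} [Group G] {ι : Type w}

/-- the coordinates of `Y / D` -/
structure YPair (V : Subgroup G) (R : ι → Subgroup G) (i j : ι) {F : Type v} [Field F] (w1 w2 : F → G)
    (M : Type u) [AddCommGroup M] [Module F M] (P1 P2 : G → M) : Prop where
  mul1 : ∀ x ∈ YY V R, ∀ y ∈ YY V R, P1 (x * y) = P1 x + P1 y
  mul2 : ∀ x ∈ YY V R, ∀ y ∈ YY V R, P2 (x * y) = P2 x + P2 y
  mem_D : ∀ x ∈ YY V R, (x ∈ DD V R ↔ P1 x = 0 ∧ P2 x = 0)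
  mem_U1 : ∀ x ∈ YY V R, (x ∈ UU V R i ↔ P2 x = 0)
  mem_U2 : ∀ x ∈ YY V R, (x ∈ UU V R j ↔ P1 x = 0)
  surj : ∀ m m', ∃ x ∈ YY V R, P1 x = m ∧ P2 x = m'
  w11 : ∀ a, ∀ x ∈ YY V R, P1 (w1 a * x * (w1 a)⁻¹) = P1 x + a • P2 x
  w12 : ∀ a, ∀ x ∈ YY V R, P2 (w1 a * x * (w1 a)⁻¹) = P2 x
  w21 : ∀ a, ∀ x ∈ YY V R, P1 (w2 a * x * (w2 a)⁻¹) = P1 x
  w22 : ∀ a, ∀ x ∈ YY V R, P2 (w2 a * x * (w2 a)⁻¹) = P2 x + a • P1 x

section exist

variable {V : Subgroup G} {R : ι → Subgroup G} {i j : ι} {F : Type v} [Field F]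

/-- `Y = U i U j` -/
theorem BT.exists_mul_Y (b : BT V R) (hij : i ≠ j) {y : G} (hy : y ∈ YY V R) :
    ∃ x1 ∈ UU V R i, ∃ x2 ∈ UU V R j, y = x1 * x2 := by
  rw [b.Y_eq hij] at hy
  have h1 : ((UU V R i ⊔ UU V R j : Subgroup G) : Set G) = (UU V R i : Set G) * (UU V R j : Set G) :=
    coe_mul_of_left_le_normalizer_right _ _ ((UU_le_cen i).trans (b.cen_le_NU j))
  have h2 : y ∈ ((UU V R i ⊔ UU V R j : Subgroup G) : Set G) := hy
  rw [h1] at h2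
  obtain ⟨x1, h1, x2, h2, e⟩ := h2
  exact ⟨x1, h1, x2, h2, e.symm⟩

theorem YMod.p_one1 {D U1 U2 : Subgroup G} {w1 w2 : F → G} {M : Type u} [AddCommGroup M] [Module F M]
    {p1 p2 : G → M} (y : YMod D U1 U2 w1 w2 M p1 p2) : p1 1 = 0 := by
  have := y.mul1 1 (one_mem _) 1 (one_mem _)
  rw [mul_one] at this
  exact left_eq_add.1 this

theorem YMod.p_one2 {D U1 U2 : Subgroup G} {w1 w2 : F → G} {M : Type u} [AddCommGroup M] [Module F M]
    {p1 p2 : G → M} (y : YMod D U1 U2 w1 w2 M p1 p2) : p2 1 = 0 := by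
  have := y.mul2 1 (one_mem _) 1 (one_mem _)
  rw [mul_one] at this
  exact left_eq_add.1 this

/-- the coordinates -/
theorem YMod.exists_yPair (b : BT V R) {v : F → F → G} {w1 w2 : F → G} (c : Coord V R i j v w1 w2)
    {M : Type u} [AddCommGroup M] [Module F M] {p1 p2 : G → M}
    (y : YMod (DD V R) (UU V R i) (UU V R j) w1 w2 M p1 p2) :
    ∃ P1 P2 : G → M, YPair V R i j w1 w2 M P1 P2 ∧ (∀ x ∈ UU V R i, P1 x = p1 x) ∧
      (∀ x ∈ UU V R j, P2 x = p2 x) := by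
  classical
  have hD1 : ∀ x ∈ DD V R, p1 x = 0 := fun x hx => (y.ker1 x (b.D_le_U i hx)).2 hx
  have hD2 : ∀ x ∈ DD V R, p2 x = 0 := fun x hx => (y.ker2 x (b.D_le_U j hx)).2 hx
  have hdec : ∀ x ∈ YY V R, ∃ z : G × G, z.1 ∈ UU V R i ∧ z.2 ∈ UU V R j ∧ x = z.1 * z.2 := by
    intro x hx
    obtain ⟨x1, h1, x2, h2, e⟩ := b.exists_mul_Y c.ne hx
    exact ⟨(x1, x2), h1, h2, e⟩
  have wd : ∀ x1 ∈ UU V R i, ∀ x1' ∈ UU V R i, ∀ x2 ∈ UU V R j, ∀ x2' ∈ UU V R j,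
      x1 * x2 = x1' * x2' → p1 x1 = p1 x1' ∧ p2 x2 = p2 x2' := by
    intro x1 h1 x1' h1' x2 h2 x2' h2' e
    have h3 : x1'⁻¹ * x1 ∈ DD V R := by
      rw [← b.UU_inf c.ne]
      refine mem_inf.2 ⟨mul_mem (inv_mem h1') h1, ?_⟩
      have e1 : x1'⁻¹ * x1 = x2' * x2⁻¹ := by
        calc x1'⁻¹ * x1 = x1'⁻¹ * (x1 * x2) * x2⁻¹ := by group
          _ = x1'⁻¹ * (x1' * x2') * x2⁻¹ := by rw [e]
          _ = x2' * x2⁻¹ := by group
      rw [e1]
      exact mul_mem h2' (inv_mem h2)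
    constructor
    · have e1 : x1 = x1' * (x1'⁻¹ * x1) := by group
      rw [e1, y.mul1 _ h1' _ (b.D_le_U i h3), hD1 _ h3, add_zero]
    · have e1 : x2' = x1'⁻¹ * x1 * x2 := by
        calc x2' = x1'⁻¹ * (x1' * x2') := by group
          _ = x1'⁻¹ * x1 * x2 := by rw [← e]; group
      rw [e1, y.mul2 _ (b.D_le_U j h3) _ h2, hD2 _ h3, zero_add]
  let P1 : G → M := fun x => if h : x ∈ YY V R then p1 (hdec x h).choose.1 else 0
  let P2 : G → M := fun x => if h : x ∈ YY V R then p2 (hdec x h).choose.2 else 0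
  have hP : ∀ x1 ∈ UU V R i, ∀ x2 ∈ UU V R j, P1 (x1 * x2) = p1 x1 ∧ P2 (x1 * x2) = p2 x2 := by
    intro x1 h1 x2 h2
    have hx : x1 * x2 ∈ YY V R := mul_mem (UU_le_YY i h1) (UU_le_YY j h2)
    obtain ⟨h3, h4, h5⟩ := (hdec _ hx).choose_spec
    have h6 := wd _ h3 _ h1 _ h4 _ h2 h5.symm
    constructor
    · show (if h : x1 * x2 ∈ YY V R then p1 (hdec _ h).choose.1 else 0) = p1 x1
      rw [dif_pos hx]
      exact h6.1
    · show (if h : x1 * x2 ∈ YY V R then p2 (hdec _ h).choose.2 else 0) = p2 x2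
      rw [dif_pos hx]
      exact h6.2
  have hU1 : ∀ x ∈ UU V R i, P1 x = p1 x ∧ P2 x = 0 := by
    intro x hx
    have h := hP x hx 1 (one_mem _)
    rwa [mul_one, y.p_one2] at h
  have hU2 : ∀ x ∈ UU V R j, P1 x = 0 ∧ P2 x = p2 x := by
    intro x hx
    have h := hP 1 (one_mem _) x hx
    rwa [one_mul, y.p_one1] at h
  have hmul : ∀ x ∈ YY V R, ∀ x' ∈ YY V R, P1 (x * x') = P1 x + P1 x' ∧ P2 (x * x') = P2 x + P2 x' := by
    intro x hx x' hx'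
    obtain ⟨x1, h1, x2, h2, rfl⟩ := b.exists_mul_Y c.ne hx
    obtain ⟨x1', h1', x2', h2', rfl⟩ := b.exists_mul_Y c.ne hx'
    have h3 : x1'⁻¹ * x2 * x1'⁻¹⁻¹ * x2⁻¹ ∈ DD V R := b.UU_comm c.ne (inv_mem h1') h2
    have h4 : x1'⁻¹ * x2 * x1'⁻¹⁻¹ * x2⁻¹ * x2 ∈ UU V R j := mul_mem (b.D_le_U j h3) h2
    have e : x1 * x2 * (x1' * x2') = (x1 * x1') * ((x1'⁻¹ * x2 * x1'⁻¹⁻¹ * x2⁻¹ * x2) * x2') := by group
    obtain ⟨k1, k2⟩ := hP _ (mul_mem h1 h1') _ (mul_mem h4 h2')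
    rw [e, k1, k2, (hP x1 h1 x2 h2).1, (hP x1 h1 x2 h2).2, (hP x1' h1' x2' h2').1, (hP x1' h1' x2' h2').2,
      y.mul1 _ h1 _ h1', y.mul2 _ h4 _ h2', y.mul2 _ (b.D_le_U j h3) _ h2, hD2 _ h3, zero_add]
    exact ⟨rfl, rfl⟩
  have hYV1 : ∀ a, ∀ x ∈ YY V R, w1 a * x * (w1 a)⁻¹ ∈ YY V R := fun a x hx =>
    conj_mem_of_normalizer (b.NV_le_NY (b.W_le_NV i (c.w1_mem a))) hx
  have hYV2 : ∀ a, ∀ x ∈ YY V R, w2 a * x * (w2 a)⁻¹ ∈ YY V R := fun a x hx =>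
    conj_mem_of_normalizer (b.NV_le_NY (b.W_le_NV j (c.w2_mem a))) hx
  have hw1 : ∀ a, ∀ x ∈ YY V R, P1 (w1 a * x * (w1 a)⁻¹) = P1 x + a • P2 x ∧
      P2 (w1 a * x * (w1 a)⁻¹) = P2 x := by
    intro a x hx
    obtain ⟨x1, h1, x2, h2, rfl⟩ := b.exists_mul_Y c.ne hx
    have h3 : w1 a * x1 * (w1 a)⁻¹ * x1⁻¹ ∈ DD V R := V_le_D V R (b.R_le i (b.WU (c.w1_mem a) h1))
    have h4 : w1 a * x2 * (w1 a)⁻¹ * x2⁻¹ ∈ UU V R i := b.WU' (c.w1_mem a) h2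
    have e : w1 a * (x1 * x2) * (w1 a)⁻¹ =
        (w1 a * x1 * (w1 a)⁻¹ * x1⁻¹) * x1 * (w1 a * x2 * (w1 a)⁻¹ * x2⁻¹) * x2 := by group
    have h5 := mul_mem (b.D_le_U i h3) h1
    obtain ⟨k1, k2⟩ := hP _ (mul_mem h5 h4) _ h2
    rw [e, k1, k2, (hP x1 h1 x2 h2).1, (hP x1 h1 x2 h2).2, y.mul1 _ h5 _ h4,
      y.mul1 _ (b.D_le_U i h3) _ h1, hD1 _ h3, zero_add, y.act12 a x2 h2]
    exact ⟨rfl, rfl⟩
  have hw2 : ∀ a, ∀ x ∈ YY V R, P1 (w2 a * x * (w2 a)⁻¹) = P1 x ∧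
      P2 (w2 a * x * (w2 a)⁻¹) = P2 x + a • P1 x := by
    intro a x hx
    obtain ⟨x1, h1, x2, h2, rfl⟩ := b.exists_mul_Y c.ne hx
    have h3 : w2 a * x2 * (w2 a)⁻¹ * x2⁻¹ ∈ DD V R := V_le_D V R (b.R_le j (b.WU (c.w2_mem a) h2))
    have h4 : w2 a * x1 * (w2 a)⁻¹ * x1⁻¹ ∈ UU V R j := b.WU' (c.w2_mem a) h1
    have e : w2 a * (x1 * x2) * (w2 a)⁻¹ =
        (w2 a * x1 * (w2 a)⁻¹ * x1⁻¹) * (x1 * ((w2 a * x2 * (w2 a)⁻¹ * x2⁻¹) * x2)) := by group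
    have h5 := mul_mem (b.D_le_U j h3) h2
    have h6 : x1 * ((w2 a * x2 * (w2 a)⁻¹ * x2⁻¹) * x2) ∈ YY V R := mul_mem (UU_le_YY i h1) (UU_le_YY j h5)
    obtain ⟨k1, k2⟩ := hmul _ (UU_le_YY j h4) _ h6
    rw [e, k1, k2, (hU2 _ h4).1, (hU2 _ h4).2, (hP x1 h1 x2 h2).1, (hP x1 h1 x2 h2).2, (hP _ h1 _ h5).1,
      (hP _ h1 _ h5).2, zero_add, y.act21 a x1 h1, y.mul2 _ (b.D_le_U j h3) _ h2, hD2 _ h3, zero_add]
    exact ⟨rfl, add_comm _ _⟩
  refine ⟨P1, P2, ?_, fun x hx => (hU1 x hx).1, fun x hx => (hU2 x hx).2⟩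
  refine
    { mul1 := fun x hx x' hx' => (hmul x hx x' hx').1
      mul2 := fun x hx x' hx' => (hmul x hx x' hx').2
      mem_D := fun x hx => ?_
      mem_U1 := fun x hx => ?_
      mem_U2 := fun x hx => ?_
      surj := fun m m' => ?_
      w11 := fun a x hx => (hw1 a x hx).1
      w12 := fun a x hx => (hw1 a x hx).2
      w21 := fun a x hx => (hw2 a x hx).1
      w22 := fun a x hx => (hw2 a x hx).2 }
  · constructor
    · intro h
      exact ⟨by rw [(hU1 x (b.D_le_U i h)).1, hD1 x h], (hU1 x (b.D_le_U i h)).2⟩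
    · rintro ⟨h1, h2⟩
      obtain ⟨x1, k1, x2, k2, rfl⟩ := b.exists_mul_Y c.ne hx
      rw [(hP x1 k1 x2 k2).1, y.ker1 _ k1] at h1
      rw [(hP x1 k1 x2 k2).2, y.ker2 _ k2] at h2
      exact mul_mem h1 h2
  · constructor
    · exact fun h => (hU1 x h).2
    · intro h
      obtain ⟨x1, k1, x2, k2, rfl⟩ := b.exists_mul_Y c.ne hx
      rw [(hP x1 k1 x2 k2).2, y.ker2 _ k2] at h
      exact mul_mem k1 (b.D_le_U i h)
  · constructor
    · exact fun h => (hU2 x h).1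
    · intro h
      obtain ⟨x1, k1, x2, k2, rfl⟩ := b.exists_mul_Y c.ne hx
      rw [(hP x1 k1 x2 k2).1, y.ker1 _ k1] at h
      exact mul_mem (b.D_le_U j h) k2
  · obtain ⟨x1, k1, e1⟩ := y.surj1 m
    obtain ⟨x2, k2, e2⟩ := y.surj2 m'
    refine ⟨x1 * x2, mul_mem (UU_le_YY i k1) (UU_le_YY j k2), ?_, ?_⟩
    · rw [(hP x1 k1 x2 k2).1, e1]
    · rw [(hP x1 k1 x2 k2).2, e2]

/-- **`Y / D = N ⊗ M`**, coordinates -/
theorem Coord.exists_yPair [Finite F] [CharP F 2] (b : BT V R) {v : F → F → G} {w1 w2 : F → G}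
    (c : Coord V R i j v w1 w2) :
    ∃ (M : Type u) (_ : AddCommGroup M) (_ : Module F M) (P1 P2 : G → M), YPair V R i j w1 w2 M P1 P2 := by
  obtain ⟨M, i1, i2, p1, p2, y⟩ := c.exists_yMod b
  obtain ⟨P1, P2, h, -⟩ := YMod.exists_yPair b c y
  exact ⟨M, i1, i2, P1, P2, h⟩

end exist

namespace YPair

variable {V : Subgroup G} {R : ι → Subgroup G} {i j : ι} {F : Type v} [Field F] {w1 w2 : F → G}
  {M : Type u} [AddCommGroup M] [Module F M] {P1 P2 : G → M}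

theorem M_two [CharP F 2] (M : Type u) [AddCommGroup M] [Module F M] (m : M) : m + m = 0 := by
  rw [← two_smul F, CharTwo.two_eq_zero, zero_smul]

section

variable (y : YPair V R i j w1 w2 M P1 P2)
include y

theorem one1 : P1 1 = 0 := by
  have := y.mul1 1 (one_mem _) 1 (one_mem _)
  rw [mul_one] at this
  exact left_eq_add.1 this

theorem one2 : P2 1 = 0 := by
  have := y.mul2 1 (one_mem _) 1 (one_mem _)
  rw [mul_one] at this
  exact left_eq_add.1 this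

theorem inv1 {x : G} (hx : x ∈ YY V R) : P1 x⁻¹ = - P1 x := by
  rw [eq_neg_iff_add_eq_zero, ← y.mul1 _ (inv_mem hx) _ hx, inv_mul_cancel, y.one1]

theorem inv2 {x : G} (hx : x ∈ YY V R) : P2 x⁻¹ = - P2 x := by
  rw [eq_neg_iff_add_eq_zero, ← y.mul2 _ (inv_mem hx) _ hx, inv_mul_cancel, y.one2]

theorem eq_iff {x x' : G} (hx : x ∈ YY V R) (hx' : x' ∈ YY V R) :
    x'⁻¹ * x ∈ DD V R ↔ P1 x = P1 x' ∧ P2 x = P2 x' := by
  rw [y.mem_D _ (mul_mem (inv_mem hx') hx), y.mul1 _ (inv_mem hx') _ hx, y.mul2 _ (inv_mem hx') _ hx,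
    y.inv1 hx', y.inv2 hx', neg_add_eq_zero, neg_add_eq_zero, eq_comm (a := P1 x'), eq_comm (a := P2 x')]

/-- `P : Y → M × M` -/
def hom : YY V R →* Multiplicative (M × M) where
  toFun x := Multiplicative.ofAdd (P1 x, P2 x)
  map_one' := by
    rw [← ofAdd_zero]
    congr 1
    exact Prod.ext y.one1 y.one2
  map_mul' := fun a b => by
    rw [← ofAdd_add]
    congr 1
    exact Prod.ext (y.mul1 _ a.2 _ b.2) (y.mul2 _ a.2 _ b.2)

theorem hom_apply (x : YY V R) : y.hom x = Multiplicative.ofAdd (P1 (x : G), P2 (x : G)) := rfl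

theorem ker_hom : y.hom.ker = (DD V R).subgroupOf (YY V R) := by
  ext x
  rw [MonoidHom.mem_ker, mem_subgroupOf, y.mem_D _ x.2, y.hom_apply, ofAdd_eq_one, Prod.mk_eq_zero]

theorem hom_surjective : Function.Surjective y.hom := by
  intro m
  obtain ⟨x, hx, h1, h2⟩ := y.surj (Multiplicative.toAdd m).1 (Multiplicative.toAdd m).2
  refine ⟨⟨x, hx⟩, ?_⟩
  rw [y.hom_apply, h1, h2]
  rfl

theorem finite_M [Finite G] : Finite M := by
  have h1 := Finite.of_surjective _ y.hom_surjective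
  have h2 : Finite (M × M) := h1
  exact Finite.of_surjective (Prod.fst : M × M → M) Prod.fst_surjective

theorem index_D_Y : (DD V R).relIndex (YY V R) = Nat.card M ^ 2 := by
  have h1 : y.hom.range = ⊤ := MonoidHom.range_eq_top.2 y.hom_surjective
  have h2 := index_ker y.hom
  rw [y.ker_hom, h1, card_top] at h2
  have h3 : Nat.card (Multiplicative (M × M)) = Nat.card M ^ 2 := by
    rw [Nat.card_congr Multiplicative.toAdd, Nat.card_prod, sq]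
  rw [h3] at h2
  exact h2

/-- `P1 : U i → M` -/
def hom1 : UU V R i →* Multiplicative M where
  toFun x := Multiplicative.ofAdd (P1 x)
  map_one' := by
    rw [← ofAdd_zero]
    congr 1
    exact y.one1
  map_mul' := fun a b => by
    rw [← ofAdd_add]
    congr 1
    exact y.mul1 _ (UU_le_YY i a.2) _ (UU_le_YY i b.2)

theorem index_D_U : (DD V R).relIndex (UU V R i) = Nat.card M := by
  have h1 : y.hom1.range = ⊤ := by
    rw [MonoidHom.range_eq_top]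
    intro m
    obtain ⟨x, hx, h1, h2⟩ := y.surj (Multiplicative.toAdd m) 0
    refine ⟨⟨x, (y.mem_U1 x hx).2 h2⟩, ?_⟩
    show Multiplicative.ofAdd (P1 x) = m
    rw [h1]; rfl
  have h2 : y.hom1.ker = (DD V R).subgroupOf (UU V R i) := by
    ext x
    rw [MonoidHom.mem_ker, mem_subgroupOf, y.mem_D _ (UU_le_YY i x.2)]
    have h3 := (y.mem_U1 _ (UU_le_YY i x.2)).1 x.2
    constructor
    · intro h
      exact ⟨ofAdd_eq_one.1 h, h3⟩
    · intro h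
      exact ofAdd_eq_one.2 h.1
  have h3 := index_ker y.hom1
  rw [h2, h1, card_top, Nat.card_congr Multiplicative.toAdd] at h3
  exact h3

/-- `|U i : D| = q ^ c` -/
theorem card_M [Finite G] : Nat.card M = Nat.card F ^ Module.finrank F M := by
  have := y.finite_M
  have : Module.Finite F M := inferInstance
  exact Module.natCard_eq_pow_finrank

end

section

variable (y : YPair V R i j w1 w2 M P1 P2) (b : BT V R) {v : F → F → G} (c : Coord V R i j v w1 w2)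
include y b c

theorem X_Y {x z : G} (hx : x ∈ XX V R) (hz : z ∈ YY V R) : x * z * x⁻¹ ∈ YY V R :=
  conj_mem_of_normalizer (b.NV_le_NY (b.X_le_NV hx)) hz

theorem nn1 [CharP F 2] {a : F} (ha : a ≠ 0) {x : G} (hx : x ∈ YY V R) :
    P1 (nn w1 w2 a * x * (nn w1 w2 a)⁻¹) = a • P2 x ∧ P2 (nn w1 w2 a * x * (nn w1 w2 a)⁻¹) = a⁻¹ • P1 x := by
  have e : nn w1 w2 a * x * (nn w1 w2 a)⁻¹ =
      w1 a * (w2 a⁻¹ * (w1 a * x * (w1 a)⁻¹) * (w2 a⁻¹)⁻¹) * (w1 a)⁻¹ := by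
    unfold nn; group
  have k1 := y.X_Y b c (W_le_X V R i (c.w1_mem a)) hx
  have k2 := y.X_Y b c (W_le_X V R j (c.w2_mem a⁻¹)) k1
  have h1 : P2 x + a⁻¹ • (P1 x + a • P2 x) = a⁻¹ • P1 x := by
    rw [smul_add, smul_smul, inv_mul_cancel₀ ha, one_smul, add_comm (a⁻¹ • P1 x), ← add_assoc,
      M_two (F := F) M, zero_add]
  rw [e, y.w11 _ _ k2, y.w12 _ _ k2, y.w21 _ _ k1, y.w22 _ _ k1, y.w11 _ _ hx, y.w12 _ _ hx, h1, smul_smul,
    mul_inv_cancel₀ ha, one_smul, add_comm (P1 x), add_assoc, M_two (F := F) M, add_zero]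
  exact ⟨rfl, rfl⟩

/-- the torus -/
theorem hh1 [CharP F 2] {a : F} (ha : a ≠ 0) {x : G} (hx : x ∈ YY V R) :
    P1 (hh w1 w2 a * x * (hh w1 w2 a)⁻¹) = a • P1 x ∧ P2 (hh w1 w2 a * x * (hh w1 w2 a)⁻¹) = a⁻¹ • P2 x := by
  have e : hh w1 w2 a * x * (hh w1 w2 a)⁻¹ =
      nn w1 w2 a * (nn w1 w2 1 * x * (nn w1 w2 1)⁻¹) * (nn w1 w2 a)⁻¹ := by
    unfold hh; group
  have k1 := y.X_Y b c (c.nn_mem_X b 1) hx
  obtain ⟨h1, h2⟩ := y.nn1 b c ha k1
  obtain ⟨h3, h4⟩ := y.nn1 b c one_ne_zero hx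
  rw [e, h1, h2, h3, h4, inv_one, one_smul, one_smul]
  exact ⟨rfl, rfl⟩

/-! ### `λ` -/

theorem br_congr {d x x' : G} (hd : d ∈ DD V R) (hx : x ∈ YY V R) (hx' : x' ∈ YY V R) (h1 : P1 x = P1 x')
    (h2 : P2 x = P2 x') : d * x * d⁻¹ * x⁻¹ = d * x' * d⁻¹ * x'⁻¹ := by
  have h3 := (y.eq_iff hx hx').2 ⟨h1, h2⟩
  have h4 := b.lam_mul hd hx' (b.D_le_Y h3)
  rw [b.lam_D hd h3, mul_one] at h4
  rw [← h4]; group

theorem exists_lam0 [CharP F 2] {d : G} (hd : d ∈ DD V R) : ∃ f : M → F,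
    ∀ x ∈ YY V R, d * x * d⁻¹ * x⁻¹ = v (f (P1 x)) (f (P2 x)) := by
  have h1 : ∀ m : M, ∃ μ : F, ∀ x ∈ YY V R, P1 x = m → P2 x = 0 → d * x * d⁻¹ * x⁻¹ = v μ 0 := by
    intro m
    obtain ⟨x, hx, e1, e2⟩ := y.surj m 0
    obtain ⟨μ, hμ⟩ := (c.mem_R1 _).1 (b.DU hd ((y.mem_U1 x hx).2 e2))
    refine ⟨μ, fun x' hx' e1' e2' => ?_⟩
    rw [hμ]
    exact y.br_congr b c hd hx' hx (e1'.trans e1.symm) (e2'.trans e2.symm)
  choose f hf using h1
  have h2 : ∀ x ∈ YY V R, P1 x = 0 → d * x * d⁻¹ * x⁻¹ = v 0 (f (P2 x)) := by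
    intro x hx e1
    obtain ⟨μ, hμ⟩ := (c.mem_R2 _).1 (b.DU hd ((y.mem_U2 x hx).2 e1))
    have hw := W_le_X V R i (c.w1_mem 1)
    have hx' := y.X_Y b c hw hx
    obtain ⟨z, hz, k1, k2⟩ := y.surj (P2 x) 0
    have h3 := b.lam_conj hw hd hx
    rw [← hμ, c.w1_act, one_mul, zero_add] at h3
    have h4 : d * (w1 1 * x * (w1 1)⁻¹) * d⁻¹ * (w1 1 * x * (w1 1)⁻¹)⁻¹ = d * (z * x) * d⁻¹ * (z * x)⁻¹ := by
      refine y.br_congr b c hd hx' (mul_mem hz hx) ?_ ?_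
      · rw [y.w11 _ _ hx, y.mul1 _ hz _ hx, k1, one_smul, add_comm]
      · rw [y.w12 _ _ hx, y.mul2 _ hz _ hx, k2, zero_add]
    rw [h4, b.lam_mul hd hz hx, hf _ z hz k1 k2, ← hμ, ← c.v_add, add_zero, zero_add] at h3
    rw [← hμ]
    congr 1
    exact (c.v_inj h3).1
  refine ⟨f, fun x hx => ?_⟩
  obtain ⟨x1, k1, x2, k2, rfl⟩ := b.exists_mul_Y c.ne hx
  have m1 := UU_le_YY i k1
  have m2 := UU_le_YY j k2
  have e1 := (y.mem_U1 x1 m1).1 k1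
  have e2 := (y.mem_U2 x2 m2).1 k2
  rw [b.lam_mul hd m1 m2, hf _ x1 m1 rfl e1, h2 x2 m2 e2, y.mul1 _ m1 _ m2, y.mul2 _ m1 _ m2, e1, e2,
    ← c.v_add, add_zero, zero_add, zero_add, add_zero]

theorem exists_lam1 [CharP F 2] {d : G} (hd : d ∈ DD V R) : ∃ f : M →ₗ[F] F,
    ∀ x ∈ YY V R, d * x * d⁻¹ * x⁻¹ = v (f (P1 x)) (f (P2 x)) := by
  obtain ⟨f, hf⟩ := y.exists_lam0 b c hd
  have f0 : f 0 = 0 := by
    have h1 := hf 1 (one_mem _)
    rw [y.one1, y.one2] at h1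
    have h2 : d * 1 * d⁻¹ * 1⁻¹ = 1 := by group
    rw [h2] at h1
    exact (c.v_one _ _ h1.symm).1
  refine ⟨{ toFun := f, map_add' := fun m m' => ?_, map_smul' := fun a m => ?_ }, hf⟩
  · obtain ⟨x, hx, e1, e2⟩ := y.surj m 0
    obtain ⟨x', hx', e1', e2'⟩ := y.surj m' 0
    have h1 := hf _ (mul_mem hx hx')
    rw [b.lam_mul hd hx hx', hf x hx, hf x' hx', ← c.v_add, y.mul1 _ hx _ hx', e1, e1'] at h1
    exact (c.v_inj h1).1.symm
  · rw [RingHom.id_apply, smul_eq_mul]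
    obtain ⟨x, hx, e1, e2⟩ := y.surj 0 m
    have hw := W_le_X V R i (c.w1_mem a)
    have h1 := b.lam_conj hw hd hx
    rw [hf x hx, hf _ (y.X_Y b c hw hx), c.w1_act, y.w11 _ _ hx, y.w12 _ _ hx, e1, e2, f0, zero_add,
      zero_add] at h1
    exact (c.v_inj h1).1.symm

open Classical in
/-- `λ` -/
noncomputable def lam [CharP F 2] (d : G) : M →ₗ[F] F :=
  if h : d ∈ DD V R then (y.exists_lam1 b c h).choose else 0

theorem lam_spec [CharP F 2] {d x : G} (hd : d ∈ DD V R) (hx : x ∈ YY V R) :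
    d * x * d⁻¹ * x⁻¹ = v (y.lam b c d (P1 x)) (y.lam b c d (P2 x)) := by
  unfold lam
  rw [dif_pos hd]
  exact (y.exists_lam1 b c hd).choose_spec x hx

theorem lam_unique [CharP F 2] {d : G} (hd : d ∈ DD V R) {f : M → F}
    (hf : ∀ x ∈ YY V R, P2 x = 0 → d * x * d⁻¹ * x⁻¹ = v (f (P1 x)) 0) (m : M) : y.lam b c d m = f m := by
  obtain ⟨x, hx, e1, e2⟩ := y.surj m 0
  have h1 := y.lam_spec b c hd hx
  rw [hf x hx e2, e1, e2, map_zero] at h1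
  exact (c.v_inj h1).1.symm

theorem lam_mul [CharP F 2] {d d' : G} (hd : d ∈ DD V R) (hd' : d' ∈ DD V R) :
    y.lam b c (d * d') = y.lam b c d + y.lam b c d' := by
  ext m
  refine y.lam_unique b c (mul_mem hd hd') (f := fun m => y.lam b c d m + y.lam b c d' m) (fun x hx e2 => ?_) m
  rw [b.lam_mul_left hd hd' hx, y.lam_spec b c hd hx, y.lam_spec b c hd' hx, ← c.v_add, e2, map_zero,
    map_zero, add_zero]

theorem lam_eq_zero [CharP F 2] {d : G} (hd : d ∈ DD V R) :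
    y.lam b c d = 0 ↔ d ∈ centralizer (YY V R : Set G) := by
  rw [mem_centralizer_iff]
  constructor
  · intro h x hx
    have h1 := y.lam_spec b c hd hx
    rw [h, LinearMap.zero_apply, LinearMap.zero_apply, c.v_zero, mul_inv_eq_one, mul_inv_eq_iff_eq_mul] at h1
    exact h1.symm
  · intro h
    ext m
    refine y.lam_unique b c hd (f := fun _ => 0) (fun x hx _ => ?_) m
    rw [c.v_zero, ← h x hx, mul_inv_cancel_right, mul_inv_cancel]

theorem lam_V [CharP F 2] {d : G} (hd : d ∈ V) : y.lam b c d = 0 := by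
  rw [y.lam_eq_zero b c (V_le_D V R hd), mem_centralizer_iff]
  intro x hx
  exact (mem_centralizer_iff.1 (YY_le_cen hx) d hd).symm

/-- `X` acts trivially on `D / V` -/
theorem lam_conj [CharP F 2] {d x : G} (hd : d ∈ DD V R) (hx : x ∈ XX V R) :
    y.lam b c (x * d * x⁻¹) = y.lam b c d := by
  have h1 := b.XD hx hd
  have e : x * d * x⁻¹ = x * d * x⁻¹ * d⁻¹ * d := by group
  rw [e, y.lam_mul b c (V_le_D V R h1) hd, y.lam_V b c h1, zero_add]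

/-- `D → M*` -/
noncomputable def lamHom [CharP F 2] : DD V R →* Multiplicative (M →ₗ[F] F) where
  toFun d := Multiplicative.ofAdd (y.lam b c d)
  map_one' := by
    rw [← ofAdd_zero]
    congr 1
    exact y.lam_V b c (one_mem _)
  map_mul' := fun d d' => by
    rw [← ofAdd_add]
    congr 1
    exact y.lam_mul b c d.2 d'.2

theorem ker_lamHom [CharP F 2] : (y.lamHom b c).ker = (centralizer (YY V R : Set G)).subgroupOf (DD V R) := by
  ext d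
  rw [MonoidHom.mem_ker, mem_subgroupOf, ← y.lam_eq_zero b c d.2]
  exact ofAdd_eq_one

/-- `|D : C_D(Y)| ≤ |M|` -/
theorem index_cen_le [CharP F 2] [Finite G] :
    (centralizer (YY V R : Set G)).relIndex (DD V R) ∣ Nat.card M := by
  have := y.finite_M
  have : Finite F := by
    refine Finite.of_injective (fun a => v a 0) fun a a' h => (c.v_inj h).1
  have h1 := index_ker (y.lamHom b c)
  rw [y.ker_lamHom b c] at h1
  have h2 : Nat.card (Multiplicative (M →ₗ[F] F)) = Nat.card M := by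
    rw [Nat.card_congr Multiplicative.toAdd]
    have : Module.Finite F M := inferInstance
    exact (Nat.card_congr (Module.finBasis F M).toDualEquiv.toEquiv).symm
  have : Finite (Multiplicative (M →ₗ[F] F)) := Nat.finite_of_card_ne_zero (by
    rw [h2]; exact Nat.card_pos.ne')
  have h3 := card_subgroup_dvd_card (y.lamHom b c).range
  rw [h2, ← h1] at h3
  exact h3

end

end YPair

end Cfsg.Agent.Omega.BTwo
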