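import Cfsg.Agent.Omega.BTwo.Mod
import Cfsg.Agent.Omega.BTwo.YPair
import Cfsg.Agent.Omega.BTwo.Count

/-!
# SQ3, `b = 2`: the module `M = W i / R i` with the torus (frame of TEXT 2 #12282)

orders; `eF : F ≅ e`, `bF : F ≅ B`, `ω : M / e^⊥ ≅ F`, `π : e^⊥ / D ≅ N`, and the weights of the torus.
-/

set_option autoImplicit false
set_option linter.unusedSectionVars false

namespace Cfsg.Agent.Omega.BTwo

open Subgroup

universe u v w

variable {G : Type u} [Group G] {ι : Type w}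

namespace ModFr

variable {V : Subgroup G} {R : ι → Subgroup G} {i : ι} {M B : Type u} [AddCommGroup M] [AddCommGroup B]
  [DistribMulAction (NR R i) M] [DistribMulAction (NR R i) B] {p : G → M} {r : G → B}
  {f : M →+ M →+ B}

section card

variable (m : ModFr V R i M B p r f)
include m

/-- `|X / R i|` -/
theorem card_sb {X : Subgroup G} (hXW : X ≤ WW V (R i)) :
    Nat.card (m.sb X) = (R i).relIndex X := by
  let g : X →* Multiplicative M :=
    { toFun := fun x => Multiplicative.ofAdd (p x)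
      map_one' := by
        change Multiplicative.ofAdd (p 1) = 1
        rw [m.p_one]; rfl
      map_mul' := fun x y => by
        change Multiplicative.ofAdd (p (x * y)) = _
        rw [m.p_mul x (hXW x.2) y (hXW y.2)]; rfl }
  have hker : g.ker = (R i).subgroupOf X := by
    ext x
    rw [MonoidHom.mem_ker, mem_subgroupOf, ← m.p_ker x (hXW x.2)]
    exact ofAdd_eq_one
  have h1 := index_ker g
  rw [hker] at h1
  have h2 : Nat.card g.range = Nat.card (m.sb X) := by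
    refine Nat.card_congr ⟨fun z => ⟨Multiplicative.toAdd z.1, ?_⟩, fun z => ⟨Multiplicative.ofAdd z.1, ?_⟩,
      fun z => rfl, fun z => rfl⟩
    · obtain ⟨x, hx⟩ := z.2
      exact ⟨x, x.2, hXW x.2, by rw [← hx]; rfl⟩
    · obtain ⟨x, hx, hx', e⟩ := z.2
      exact ⟨⟨x, hx⟩, congrArg Multiplicative.ofAdd e⟩
  rw [← h2, ← h1]
  rfl

theorem card_M : Nat.card M = (R i).relIndex (WW V (R i)) := by
  rw [← m.card_sb le_rfl, m.sb_W]
  exact (Nat.card_congr AddSubgroup.topEquiv.toEquiv).symm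

theorem card_B : Nat.card B = Nat.card (R i) := by
  refine (Nat.card_eq_of_bijective (fun x : R i => r x) ⟨?_, ?_⟩).symm
  · intro x y h
    exact Subtype.ext (m.r_inj x.2 y.2 h)
  · intro β
    obtain ⟨x, hx, rfl⟩ := m.r_surj β
    exact ⟨⟨x, hx⟩, rfl⟩

theorem finite_M [Finite G] : Finite M := by
  refine Finite.of_surjective (fun x : WW V (R i) => p x) fun a => ?_
  obtain ⟨x, hx, rfl⟩ := m.p_surj a
  exact ⟨⟨x, hx⟩, rfl⟩

theorem finite_B [Finite G] : Finite B := by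
  refine Finite.of_surjective (fun x : R i => r x) fun a => ?_
  obtain ⟨x, hx, rfl⟩ := m.r_surj a
  exact ⟨⟨x, hx⟩, rfl⟩

end card

section torus

variable {j : ι} {F : Type v} [Field F] {v : F → F → G} {w1 w2 : F → G}

/-- the torus element `h(a)` in `N(R i)` -/
def tr [CharP F 2] (c : Coord V R i j v w1 w2) (b : BT V R) (a : Fˣ) : NR R i :=
  ⟨hh w1 w2 (a : F), cj_eq_self_iff.1 (c.hh_R1 b a.ne_zero)⟩

variable (m : ModFr V R i M B p r f) (c : Coord V R i j v w1 w2) (b : BT V R)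
include m c b

theorem v_mem_W (β γ : F) : v β γ ∈ WW V (R i) := by
  have _ := b
  exact V_le_WW V (R i) (c.v_mem β γ)

theorem v0_mem (β : F) : v β 0 ∈ R i := by
  have _ := b
  have _ := m
  exact (c.mem_R1 _).2 ⟨β, rfl⟩

/-- `F ≅ e = V / R i` -/
def eF : F →+ M where
  toFun γ := p (v 0 γ)
  map_zero' := by rw [c.v_zero, m.p_one]
  map_add' γ γ' := by
    have h := c.v_add 0 γ 0 γ'
    rw [add_zero] at h
    rw [h, m.p_mul _ (m.v_mem_W c b 0 γ) _ (m.v_mem_W c b 0 γ')]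

theorem eF_apply (γ : F) : m.eF c b γ = p (v 0 γ) := rfl

/-- `F ≅ B = R i` -/
def bF : F →+ B where
  toFun β := r (v β 0)
  map_zero' := by rw [c.v_zero, m.r_one]
  map_add' β β' := by
    have h := c.v_add β 0 β' 0
    rw [add_zero] at h
    rw [h, m.r_mul _ (m.v0_mem c b β) _ (m.v0_mem c b β')]

theorem bF_apply (β : F) : m.bF c b β = r (v β 0) := rfl

theorem p_v (β γ : F) : p (v β γ) = m.eF c b γ := by
  have h := c.v_add β 0 0 γ
  rw [add_zero, zero_add] at h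
  rw [h, m.p_mul _ (m.v_mem_W c b β 0) _ (m.v_mem_W c b 0 γ), (m.p_ker _ (m.v_mem_W c b β 0)).2 (m.v0_mem c b β),
    zero_add]
  rfl

theorem eF_inj : Function.Injective (m.eF c b) := by
  rw [injective_iff_map_eq_zero]
  intro γ h
  rw [m.eF_apply c b, m.p_ker _ (m.v_mem_W c b 0 γ), c.mem_R1] at h
  obtain ⟨β, hβ⟩ := h
  exact (c.v_inj hβ).2.symm

theorem mem_e {a : M} : a ∈ m.sb V ↔ ∃ γ, m.eF c b γ = a := by
  constructor
  · rintro ⟨x, hx, hx', rfl⟩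
    obtain ⟨β, γ, rfl⟩ := (c.mem_V x).1 hx
    exact ⟨γ, (m.p_v c b β γ).symm⟩
  · rintro ⟨γ, rfl⟩
    exact ⟨_, c.v_mem 0 γ, m.v_mem_W c b 0 γ, rfl⟩

theorem bF_bij : Function.Bijective (m.bF c b) := by
  constructor
  · rw [injective_iff_map_eq_zero]
    intro β h
    rw [m.bF_apply c b, m.r_ker _ (m.v0_mem c b β)] at h
    exact (c.v_one β 0 h).1
  · intro z
    obtain ⟨x, hx, rfl⟩ := m.r_surj z
    obtain ⟨β, rfl⟩ := (c.mem_R1 x).1 hx
    exact ⟨β, rfl⟩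

section char2

variable [CharP F 2]

theorem T_e (a : Fˣ) (γ : F) : tr c b a • m.eF c b γ = m.eF c b ((a : F)⁻¹ * γ) := by
  rw [m.eF_apply c b, m.p_act _ _ (m.v_mem_W c b 0 γ)]
  change p (hh w1 w2 (a : F) * v 0 γ * (hh w1 w2 (a : F))⁻¹) = _
  rw [c.hh_act a.ne_zero, m.p_v c b]

theorem T_B (a : Fˣ) (β : F) : tr c b a • m.bF c b β = m.bF c b ((a : F) * β) := by
  rw [m.bF_apply c b, m.r_act _ _ (m.v0_mem c b β)]
  change r (hh w1 w2 (a : F) * v β 0 * (hh w1 w2 (a : F))⁻¹) = _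
  rw [c.hh_act a.ne_zero, mul_zero]
  rfl

theorem T_D (a : Fˣ) {z : M} (hz : z ∈ m.sb (DD V R)) : tr c b a • z - z ∈ m.sb V :=
  m.X_D b (h := tr c b a) (c.hh_mem_X b _) hz

/-- the coordinate on `M / e^⊥` -/
theorem exists_omega : ∃ ω : M →+ F, Function.Surjective ω ∧ (∀ a, ω a = 0 ↔ a ∈ m.sb (UU V R i)) ∧
    (∀ a γ, f a (m.eF c b γ) = m.bF c b (ω a * γ)) ∧ (∀ (t : Fˣ) a, ω (tr c b t • a) = (t : F) ^ 2 * ω a) ∧
    ∀ s, ω (p (w1 s)) = s := by
  -- for `x ∈ W i` the scalar by which it acts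
  have key : ∀ x ∈ WW V (R i), ∃ s : F, ∀ γ, f (p x) (m.eF c b γ) = m.bF c b (s * γ) := by
    intro x hx
    obtain ⟨s, hs⟩ := c.W1_act x hx
    refine ⟨s, fun γ => ?_⟩
    rw [m.eF_apply c b, m.bF_apply c b, m.f_eq x hx _ (m.v_mem_W c b 0 γ), hs 0 γ, zero_add]
    have h1 := c.v_add (s * γ) 0 0 γ
    rw [add_zero, zero_add] at h1
    rw [h1, mul_inv_cancel_right]
  have key2 : ∀ a : M, ∃ s : F, ∀ γ, f a (m.eF c b γ) = m.bF c b (s * γ) := by
    intro a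
    obtain ⟨x, hx, rfl⟩ := m.p_surj a
    exact key x hx
  choose ω hω using key2
  have huniq : ∀ a s, (∀ γ, f a (m.eF c b γ) = m.bF c b (s * γ)) → ω a = s := by
    intro a s h
    have h1 := hω a 1
    rw [h 1, mul_one, mul_one] at h1
    exact ((m.bF_bij c b).1 h1).symm
  have hadd : ∀ a a', ω (a + a') = ω a + ω a' := by
    intro a a'
    apply huniq
    intro γ
    rw [map_add, AddMonoidHom.add_apply, hω a, hω a', add_mul, map_add]
  have hw1 : ∀ s, ω (p (w1 s)) = s := by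
    intro s
    apply huniq
    intro γ
    rw [m.eF_apply c b, m.bF_apply c b, m.f_eq _ (c.w1_mem s) _ (m.v_mem_W c b 0 γ), c.w1_act s 0 γ, zero_add]
    have h1 := c.v_add (s * γ) 0 0 γ
    rw [add_zero, zero_add] at h1
    rw [h1, mul_inv_cancel_right]
  refine ⟨AddMonoidHom.mk' ω hadd, fun s => ⟨p (w1 s), hw1 s⟩, fun a => ?_, hω, fun t a => ?_, hw1⟩
  · rw [← m.perp_iff b]
    change ω a = 0 ↔ _
    constructor
    · intro h z hz
      obtain ⟨γ, rfl⟩ := (m.mem_e c b).1 hz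
      rw [hω, h, zero_mul, map_zero]
    · intro h
      apply huniq
      intro γ
      rw [zero_mul, map_zero]
      exact h _ ((m.mem_e c b).2 ⟨γ, rfl⟩)
  · change ω (tr c b t • a) = (t : F) ^ 2 * ω a
    apply huniq
    intro γ
    have h1 : m.eF c b γ = tr c b t • m.eF c b ((t : F) * γ) := by
      rw [m.T_e c b, ← mul_assoc, inv_mul_cancel₀ t.ne_zero, one_mul]
    rw [h1, m.f_act b, hω, m.T_B c b]
    congr 1
    ring

end char2

end torus

section pi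

variable {j : ι} {F : Type v} [Field F] {v : F → F → G} {w1 w2 : F → G} {N : Type u} [AddCommGroup N]
  [Module F N] {P1 P2 : G → N}
variable (m : ModFr V R i M B p r f) (c : Coord V R i j v w1 w2) (b : BT V R)
  (y : YPair V R i j w1 w2 N P1 P2)
include m c b y

/-- the coordinate on `e^⊥ / D` -/
theorem exists_pi [CharP F 2] : ∃ π : m.sb (UU V R i) →+ N, Function.Surjective π ∧
    (∀ a, π a = 0 ↔ (a : M) ∈ m.sb (DD V R)) ∧
    (∀ x (hx : x ∈ UU V R i), π ⟨p x, m.p_mem (UU_le_WW i hx) hx⟩ = P1 x) ∧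
    ∀ (t : Fˣ) (a : m.sb (UU V R i)) (h : tr c b t • (a : M) ∈ m.sb (UU V R i)),
      π ⟨tr c b t • (a : M), h⟩ = (t : F) • π a := by
  have hR : R i ≤ DD V R := (b.R_le i).trans (V_le_D V R)
  have hwd : ∀ x ∈ UU V R i, ∀ x' ∈ UU V R i, p x = p x' → P1 x = P1 x' := by
    intro x hx x' hx' h
    have h1 := (m.p_eq_iff (UU_le_WW i hx) (UU_le_WW i hx')).1 h
    have hxY := UU_le_YY i hx
    have hxY' := UU_le_YY i hx'
    have h2 := ((y.mem_D _ (mul_mem hxY (inv_mem hxY'))).1 (hR h1)).1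
    rw [y.mul1 _ hxY _ (inv_mem hxY'), y.inv1 hxY', ← sub_eq_add_neg, sub_eq_zero] at h2
    exact h2
  have key : ∀ a : m.sb (UU V R i), ∃ n : N, ∀ x ∈ UU V R i, p x = a → P1 x = n := by
    rintro ⟨_, x, hx, hx', rfl⟩
    exact ⟨P1 x, fun x' hx' h => hwd x' hx' x hx h⟩
  choose π hπ using key
  have hadd : ∀ a a', π (a + a') = π a + π a' := by
    rintro ⟨_, x, hx, hx', rfl⟩ ⟨_, x', h1, h1', rfl⟩
    have h2 := hπ ⟨p x, x, hx, hx', rfl⟩ x hx rfl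
    have h3 := hπ ⟨p x', x', h1, h1', rfl⟩ x' h1 rfl
    rw [← h2, ← h3, ← y.mul1 x (UU_le_YY i hx) x' (UU_le_YY i h1)]
    refine (hπ _ _ (mul_mem hx h1) ?_).symm
    exact m.p_mul x hx' x' h1'
  refine ⟨AddMonoidHom.mk' π hadd, fun n => ?_, fun a => ?_, fun x hx => ?_, fun t a h => ?_⟩
  · obtain ⟨x, hx, h1, h2⟩ := y.surj n 0
    have hxU := (y.mem_U1 x hx).2 h2
    refine ⟨⟨p x, x, hxU, UU_le_WW i hxU, rfl⟩, ?_⟩
    change π _ = n
    rw [← hπ _ x hxU rfl, h1]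
  · obtain ⟨_, x, hx, hx', rfl⟩ := a
    change π _ = 0 ↔ p x ∈ m.sb (DD V R)
    rw [← hπ _ x hx rfl, m.p_mem_iff hx' hR, y.mem_D x (UU_le_YY i hx), (y.mem_U1 x (UU_le_YY i hx)).1 hx]
    exact ⟨fun h => ⟨h, rfl⟩, fun h => h.1⟩
  · exact (hπ _ x hx rfl).symm
  · obtain ⟨_, x, hx, hx', rfl⟩ := a
    change π _ = (t : F) • π _
    rw [← hπ ⟨p x, x, hx, hx', rfl⟩ x hx rfl]
    have h1 : hh w1 w2 (t : F) * x * (hh w1 w2 (t : F))⁻¹ ∈ UU V R i := by
      rw [← b.cj_UU (b.X_le_NV (c.hh_mem_X b _)) (c.hh_R1 b t.ne_zero)]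
      exact conj_mem_cj hx
    rw [← hπ ⟨tr c b t • p x, h⟩ _ h1 (m.p_act (tr c b t) x hx').symm]
    exact (y.hh1 b c t.ne_zero (UU_le_YY i hx)).1

/-- the action of `A = U j`: `[a, u] = ω(a) P2(u)` modulo `D` -/
theorem A_pi [CharP F 2] {ω : M →+ F} (hω : ∀ a γ, f a (m.eF c b γ) = m.bF c b (ω a * γ))
    {π : m.sb (UU V R i) →+ N}
    (hπ : ∀ x (hx : x ∈ UU V R i), π ⟨p x, m.p_mem (UU_le_WW i hx) hx⟩ = P1 x)
    {h : NR R i} (hh : (h : G) ∈ UU V R j) (a : M) :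
    π ⟨h • a - a, m.A_M b hh a⟩ = ω a • P2 (h : G) := by
  obtain ⟨x, hx, rfl⟩ := m.p_surj a
  obtain ⟨s, hs⟩ := c.W1_act x hx
  have hωs : ω (p x) = s := by
    have h1 := hω (p x) 1
    rw [mul_one, m.eF_apply c b, m.bF_apply c b, m.f_eq x hx _ (m.v_mem_W c b 0 1), hs 0 1, zero_add] at h1
    have h2 := c.v_add (s * 1) 0 0 1
    rw [add_zero, zero_add] at h2
    rw [h2, mul_inv_cancel_right, mul_one] at h1
    exact ((m.bF_bij c b).1 h1).symm
  have hu := UU_le_YY j hh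
  have hcm : h * x * (h : G)⁻¹ * x⁻¹ ∈ UU V R i := by
    have e : h * x * (h : G)⁻¹ * x⁻¹ = (x * h * x⁻¹ * (h : G)⁻¹)⁻¹ := by group
    rw [e]
    exact inv_mem (b.WU' hx hh)
  have h1 : (⟨h • p x - p x, m.A_M b hh (p x)⟩ : m.sb (UU V R i)) =
      ⟨p (h * x * (h : G)⁻¹ * x⁻¹), m.p_mem (UU_le_WW i hcm) hcm⟩ := Subtype.ext (m.smul_sub_p b hx)
  rw [h1, hπ _ hcm, hωs]
  have hxu : x * (h : G)⁻¹ * x⁻¹ ∈ YY V R := y.X_Y b c (W_le_X V R i hx) (inv_mem hu)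
  have e : h * x * (h : G)⁻¹ * x⁻¹ = h * (x * (h : G)⁻¹ * x⁻¹) := by group
  have h3 : P1 (x * (h : G)⁻¹ * x⁻¹) = P1 (w1 s * (h : G)⁻¹ * (w1 s)⁻¹) := by
    have h4 := b.same hx (c.w1_mem s) (fun z hz => by
      obtain ⟨β, γ, rfl⟩ := (c.mem_V z).1 hz
      rw [hs, c.w1_act]) (inv_mem hu)
    have hwu : w1 s * (h : G)⁻¹ * (w1 s)⁻¹ ∈ YY V R := y.X_Y b c (W_le_X V R i (c.w1_mem s)) (inv_mem hu)
    have h5 := ((y.mem_D _ (mul_mem hxu (inv_mem hwu))).1 h4).1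
    rw [y.mul1 _ hxu _ (inv_mem hwu), y.inv1 hwu, ← sub_eq_add_neg, sub_eq_zero] at h5
    exact h5
  have hP1 : P1 (h : G) = 0 := (y.mem_U2 _ hu).1 hh
  rw [e, y.mul1 _ hu _ hxu, hP1, zero_add, h3, y.w11 s _ (inv_mem hu), y.inv1 hu, y.inv2 hu, hP1, neg_zero,
    zero_add, smul_neg]
  have h6 : s • P2 (h : G) + s • P2 (h : G) = 0 := by
    rw [← two_smul F, CharTwo.two_eq_zero, zero_smul]
  exact neg_eq_of_add_eq_zero_left h6

/-- the action of `A = U j` on `D / R`: `[d, u] = eF (λ_d(P2 u))` -/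
theorem A_lam [CharP F 2] {h : NR R i} (hh : (h : G) ∈ UU V R j) {d : G} (hd : d ∈ DD V R) :
    h • p d - p d = m.eF c b (y.lam b c d (P2 (h : G))) := by
  have hdW := D_le_W V R i hd
  have hu := UU_le_YY j hh
  rw [m.smul_sub_p b hdW]
  have hP1 : P1 (h : G) = 0 := (y.mem_U2 _ hu).1 hh
  have h1 := y.lam_spec b c hd hu
  rw [hP1, map_zero] at h1
  have e : h * d * (h : G)⁻¹ * d⁻¹ = (d * h * d⁻¹ * (h : G)⁻¹)⁻¹ := by group
  rw [e, h1, b.inv_eq (c.v_mem _ _)]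
  rfl

/-- `C_M(T) ≤ D / R` -/
theorem C_T [CharP F 2] (hF : ∃ a : F, a ≠ 0 ∧ a ≠ 1) {a : M} (ha : ∀ t : Fˣ, tr c b t • a = a) :
    a ∈ m.sb (DD V R) := by
  obtain ⟨a0, h0, h1⟩ := hF
  obtain ⟨ω, -, hω, -, hωt, -⟩ := m.exists_omega c b
  obtain ⟨π, -, hπ, -, hπt⟩ := m.exists_pi c b y
  have hta := ha (Units.mk0 a0 h0)
  have k1 := hωt (Units.mk0 a0 h0) a
  rw [hta] at k1
  have k2 : ω a = 0 := by
    by_contra hne
    have k3 : a0 ^ 2 = 1 := (mul_right_cancel₀ hne ((one_mul _).trans k1)).symm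
    have k4 : (a0 - 1) ^ 2 = 0 := by
      rw [CharTwo.sub_eq_add, CharTwo.add_sq, k3, one_pow, CharTwo.add_self_eq_zero]
    exact h1 (sub_eq_zero.1 (pow_eq_zero_iff two_ne_zero |>.1 k4))
  have k3 : a ∈ m.sb (UU V R i) := (hω a).1 k2
  have k4 := hπt (Units.mk0 a0 h0) ⟨a, k3⟩ (by rw [hta]; exact k3)
  have k5 : (⟨tr c b (Units.mk0 a0 h0) • a, by rw [hta]; exact k3⟩ : m.sb (UU V R i)) = ⟨a, k3⟩ :=
    Subtype.ext hta
  rw [k5] at k4
  refine (hπ ⟨a, k3⟩).1 ?_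
  have k6 : (a0 - 1) • π ⟨a, k3⟩ = 0 := by rw [sub_smul, one_smul, sub_eq_zero]; exact k4.symm
  rcases smul_eq_zero.1 k6 with k7 | k7
  · exact absurd (sub_eq_zero.1 k7) h1
  · exact k7

end pi

end ModFr

end Cfsg.Agent.Omega.BTwo
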