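import Mathlib

/-!
Quadratic pairs give vector spaces: abstract form of (4) end of bb OMEGA #10337.

`A1, A2` abelian groups, `w1 a` acts as `(u1,u2) ↦ (u1 + φ1 a u2, u2)`, `w2 a` as
`(u1,u2) ↦ (u1, u2 + φ2 a u1)`, additive in `a`; the words `n a = w1 a w2 a⁻¹ w1 a` are antidiagonal
and `n a n 1` normalises `w1`.  Then `A1` is a vector space over `F`.
-/

set_option autoImplicit false

namespace Cfsg.Agent.Omega.BTwo

/-- the purely additive core -/
structure QuadAdd (F : Type*) [Field F] (M1 M2 : Type*) [AddCommGroup M1] [AddCommGroup M2] where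
  φ1 : F → M2 →+ M1
  φ2 : F → M1 →+ M2
  add1 : ∀ a b, φ1 (a + b) = φ1 a + φ1 b
  zero2 : φ2 0 = 0
  two : ∀ x : M1, x + x = 0
  inv12 : ∀ a, a ≠ 0 → ∀ x, φ1 a (φ2 a⁻¹ x) = x
  inv21 : ∀ a, a ≠ 0 → ∀ x, φ2 a⁻¹ (φ1 a x) = x
  tor : ∀ a b, a ≠ 0 → ∀ x, φ1 a (φ2 1 (φ1 b (φ2 1 (φ1 a x)))) = φ1 (a ^ 2 * b) x

namespace QuadAdd

variable {F : Type*} [Field F] {M1 M2 : Type*} [AddCommGroup M1] [AddCommGroup M2]
  (q : QuadAdd F M1 M2)

/-- the scalar `a` -/
def f (a : F) : M1 →+ M1 := (q.φ1 a).comp (q.φ2 1)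

theorem f_apply (a : F) (x : M1) : q.f a x = q.φ1 a (q.φ2 1 x) := rfl

theorem φ1_zero : q.φ1 0 = 0 := by
  have := q.add1 0 0
  rw [add_zero] at this
  exact left_eq_add.1 this

theorem f_add (a b : F) (x : M1) : q.f (a + b) x = q.f a x + q.f b x := by
  rw [f_apply, f_apply, f_apply, q.add1]; rfl

theorem f_zero (x : M1) : q.f 0 x = 0 := by rw [f_apply, q.φ1_zero]; rfl

theorem f_one (x : M1) : q.f 1 x = x := by
  have := q.inv12 1 one_ne_zero x
  rwa [inv_one] at this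

theorem f_tri (a b : F) (x : M1) : q.f a (q.f b (q.f a x)) = q.f (a ^ 2 * b) x := by
  by_cases ha : a = 0
  · subst ha
    rw [q.f_zero, zero_pow two_ne_zero, zero_mul, q.f_zero]
  · exact q.tor a b ha (q.φ2 1 x)

theorem f_sq (a : F) (x : M1) : q.f a (q.f a x) = q.f (a ^ 2) x := by
  have := q.f_tri a 1 x
  rwa [q.f_one, mul_one] at this

theorem f_sym [CharP F 2] (a b c : F) (x : M1) :
    q.f a (q.f c (q.f b x)) = q.f b (q.f c (q.f a x)) := by
  have h := q.f_tri (a + b) c x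
  have e : (a + b) ^ 2 * c = a ^ 2 * c + b ^ 2 * c := by
    rw [add_sq, mul_comm 2 a, mul_assoc, CharTwo.two_eq_zero (R := F)]; ring
  rw [e, q.f_add, q.f_add, q.f_add, ← q.f_tri a c x, ← q.f_tri b c x, map_add, map_add, map_add] at h
  have h2 := q.two
  -- h : A + B + (C + D) = A + D
  have h3 : q.f a (q.f c (q.f b x)) + q.f b (q.f c (q.f a x)) = 0 := by
    have := h
    have e2 : q.f a (q.f c (q.f a x)) + q.f a (q.f c (q.f b x)) +
        (q.f b (q.f c (q.f a x)) + q.f b (q.f c (q.f b x))) =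
        (q.f a (q.f c (q.f a x)) + q.f b (q.f c (q.f b x))) +
        (q.f a (q.f c (q.f b x)) + q.f b (q.f c (q.f a x))) := by abel
    rw [e2] at this
    exact left_eq_add.1 this.symm
  have h4 := h2 (q.f b (q.f c (q.f a x)))
  calc q.f a (q.f c (q.f b x)) = q.f a (q.f c (q.f b x)) +
        (q.f b (q.f c (q.f a x)) + q.f b (q.f c (q.f a x))) := by rw [h4, add_zero]
    _ = (q.f a (q.f c (q.f b x)) + q.f b (q.f c (q.f a x))) + q.f b (q.f c (q.f a x)) := by abel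
    _ = q.f b (q.f c (q.f a x)) := by rw [h3, zero_add]

theorem f_comm [CharP F 2] (a b : F) (x : M1) : q.f a (q.f b x) = q.f b (q.f a x) := by
  have := q.f_sym a b 1 x
  rwa [q.f_one, q.f_one] at this

theorem f_mul [CharP F 2] (hperf : ∀ a : F, ∃ b, b ^ 2 = a) (a b : F) (x : M1) :
    q.f (a * b) x = q.f a (q.f b x) := by
  obtain ⟨c, rfl⟩ := hperf a
  rw [← q.f_tri c b x, ← q.f_sq c, q.f_comm b c x]

/-- the vector space structure on `M1` -/
@[reducible]
def module [CharP F 2] (hperf : ∀ a : F, ∃ b, b ^ 2 = a) : Module F M1 where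
  smul a x := q.f a x
  one_smul x := q.f_one x
  mul_smul a b x := q.f_mul hperf a b x
  smul_zero a := map_zero (q.f a)
  smul_add a x y := map_add (q.f a) x y
  add_smul a b x := q.f_add a b x
  zero_smul x := q.f_zero x

/-- the identification `M2 → M1` -/
def ι2 : M2 →+ M1 := q.φ1 1

theorem ι2_bij : Function.Bijective q.ι2 := by
  constructor
  · intro x y h
    have h1 := q.inv21 1 one_ne_zero x
    have h2 := q.inv21 1 one_ne_zero y
    rw [← h1, ← h2]
    exact congrArg _ h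
  · intro x
    exact ⟨q.φ2 1⁻¹ x, q.inv12 1 one_ne_zero x⟩

theorem φ1_eq (a : F) (x : M2) : q.φ1 a x = q.f a (q.ι2 x) := by
  rw [f_apply, ι2]
  have := q.inv21 1 one_ne_zero x
  rw [inv_one] at this
  rw [this]

theorem ι2_φ2 [CharP F 2] (hperf : ∀ a : F, ∃ b, b ^ 2 = a) (a : F) (x : M1) :
    q.ι2 (q.φ2 a x) = q.f a x := by
  by_cases ha : a = 0
  · subst ha
    rw [q.zero2, q.f_zero]; exact map_zero _
  -- φ2 a x = y with φ1 a⁻¹ y = x
  have h1 := q.inv12 a⁻¹ (inv_ne_zero ha) x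
  rw [inv_inv, q.φ1_eq] at h1
  -- f a⁻¹ (ι2 (φ2 a x)) = x
  have h2 : q.f a (q.f a⁻¹ (q.ι2 (q.φ2 a x))) = q.f a x := by rw [h1]
  rw [← q.f_mul hperf, mul_inv_cancel₀ ha, q.f_one] at h2
  exact h2

end QuadAdd

end Cfsg.Agent.Omega.BTwo
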