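import Cfsg.Agent.Omega.BTwo.Quad

/-!
Group form of `Quad.lean`: two abelian subgroups `A1, A2` of a group `Γ`, and elements `w1 a, w2 a`.
-/

set_option autoImplicit false

namespace Cfsg.Agent.Omega.BTwo

universe u v

/-- `w1 a * w2 a⁻¹ * w1 a` -/
def nn {Γ : Type u} [Group Γ] {F : Type v} [Field F] (w1 w2 : F → Γ) (a : F) : Γ :=
  w1 a * w2 a⁻¹ * w1 a

/-- `n(a) n(1)` -/
def hh {Γ : Type u} [Group Γ] {F : Type v} [Field F] (w1 w2 : F → Γ) (a : F) : Γ :=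
  nn w1 w2 a * nn w1 w2 1

/-- exact form of the quadratic situation -/
structure QuadEx {Γ : Type u} [Group Γ] {F : Type v} [Field F] (A1 A2 : Subgroup Γ)
    (w1 w2 : F → Γ) : Prop where
  comm1 : ∀ x ∈ A1, ∀ y ∈ A1, x * y = y * x
  comm2 : ∀ x ∈ A2, ∀ y ∈ A2, x * y = y * x
  comm12 : ∀ x ∈ A1, ∀ y ∈ A2, x * y = y * x
  inf : ∀ x ∈ A1, x ∈ A2 → x = 1
  sq1 : ∀ x ∈ A1, x * x = 1
  sq2 : ∀ x ∈ A2, x * x = 1
  c1 : ∀ a, ∀ x ∈ A1, w1 a * x = x * w1 a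
  c2 : ∀ a, ∀ x ∈ A2, w2 a * x = x * w2 a
  m1 : ∀ a, ∀ x ∈ A2, w1 a * x * (w1 a)⁻¹ * x⁻¹ ∈ A1
  m2 : ∀ a, ∀ x ∈ A1, w2 a * x * (w2 a)⁻¹ * x⁻¹ ∈ A2
  add1 : ∀ a b, ∀ x ∈ A2, w1 (a + b) * x * (w1 (a + b))⁻¹ = (w1 a * w1 b) * x * (w1 a * w1 b)⁻¹
  zero2 : ∀ x ∈ A1, w2 0 * x = x * w2 0
  n12 : ∀ a, a ≠ 0 → ∀ x ∈ A1, nn w1 w2 a * x * (nn w1 w2 a)⁻¹ ∈ A2
  n21 : ∀ a, a ≠ 0 → ∀ x ∈ A2, nn w1 w2 a * x * (nn w1 w2 a)⁻¹ ∈ A1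
  tor : ∀ a, a ≠ 0 → ∀ b, ∀ x ∈ A2,
    (hh w1 w2 a * w1 b * (hh w1 w2 a)⁻¹) * x * (hh w1 w2 a * w1 b * (hh w1 w2 a)⁻¹)⁻¹ =
      w1 (a ^ 2 * b) * x * (w1 (a ^ 2 * b))⁻¹

namespace QuadEx

variable {Γ : Type u} [Group Γ] {F : Type v} [Field F] {A1 A2 : Subgroup Γ} {w1 w2 : F → Γ}
  (q : QuadEx A1 A2 w1 w2)
include q

/-- `φ1 a` as an element of `Γ` -/
theorem conj1 (a : F) {x : Γ} : w1 a * x * (w1 a)⁻¹ = (w1 a * x * (w1 a)⁻¹ * x⁻¹) * x := by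
  have _ := q
  group

theorem inv1 {x : Γ} (hx : x ∈ A1) : x⁻¹ = x := inv_eq_of_mul_eq_one_left (q.sq1 x hx)
theorem inv2 {x : Γ} (hx : x ∈ A2) : x⁻¹ = x := inv_eq_of_mul_eq_one_left (q.sq2 x hx)

theorem mul1 (a : F) {x y : Γ} (hx : x ∈ A2) (hy : y ∈ A2) :
    w1 a * (x * y) * (w1 a)⁻¹ * (x * y)⁻¹ =
      (w1 a * x * (w1 a)⁻¹ * x⁻¹) * (w1 a * y * (w1 a)⁻¹ * y⁻¹) := by
  have h := q.comm12 _ (q.m1 a y hy) x hx
  calc w1 a * (x * y) * (w1 a)⁻¹ * (x * y)⁻¹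
      = (w1 a * x * (w1 a)⁻¹ * x⁻¹) * (x * (w1 a * y * (w1 a)⁻¹ * y⁻¹)) * x⁻¹ := by group
    _ = (w1 a * x * (w1 a)⁻¹ * x⁻¹) * ((w1 a * y * (w1 a)⁻¹ * y⁻¹) * x) * x⁻¹ := by rw [h]
    _ = (w1 a * x * (w1 a)⁻¹ * x⁻¹) * (w1 a * y * (w1 a)⁻¹ * y⁻¹) := by group

theorem mul2 (a : F) {x y : Γ} (hx : x ∈ A1) (hy : y ∈ A1) :
    w2 a * (x * y) * (w2 a)⁻¹ * (x * y)⁻¹ =
      (w2 a * x * (w2 a)⁻¹ * x⁻¹) * (w2 a * y * (w2 a)⁻¹ * y⁻¹) := by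
  have h := q.comm12 x hx _ (q.m2 a y hy)
  calc w2 a * (x * y) * (w2 a)⁻¹ * (x * y)⁻¹
      = (w2 a * x * (w2 a)⁻¹ * x⁻¹) * (x * (w2 a * y * (w2 a)⁻¹ * y⁻¹)) * x⁻¹ := by group
    _ = (w2 a * x * (w2 a)⁻¹ * x⁻¹) * ((w2 a * y * (w2 a)⁻¹ * y⁻¹) * x) * x⁻¹ := by rw [h]
    _ = (w2 a * x * (w2 a)⁻¹ * x⁻¹) * (w2 a * y * (w2 a)⁻¹ * y⁻¹) := by group

/-- `φ1 a : A2 → A1` -/
def phi1 (a : F) : ↥A2 →* ↥A1 where
  toFun x := ⟨w1 a * x * (w1 a)⁻¹ * (x : Γ)⁻¹, q.m1 a x x.2⟩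
  map_one' := by apply Subtype.ext; simp
  map_mul' x y := by apply Subtype.ext; exact q.mul1 a x.2 y.2

/-- `φ2 a : A1 → A2` -/
def phi2 (a : F) : ↥A1 →* ↥A2 where
  toFun x := ⟨w2 a * x * (w2 a)⁻¹ * (x : Γ)⁻¹, q.m2 a x x.2⟩
  map_one' := by apply Subtype.ext; simp
  map_mul' x y := by apply Subtype.ext; exact q.mul2 a x.2 y.2

theorem w1_conj (a : F) (x : ↥A2) : w1 a * x * (w1 a)⁻¹ = (q.phi1 a x : Γ) * x := by
  change _ = (w1 a * x * (w1 a)⁻¹ * (x : Γ)⁻¹) * x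
  group

theorem w2_conj (a : F) (x : ↥A1) : w2 a * x * (w2 a)⁻¹ = (q.phi2 a x : Γ) * x := by
  change _ = (w2 a * x * (w2 a)⁻¹ * (x : Γ)⁻¹) * x
  group

theorem w1_conj1 (a : F) (x : ↥A1) : w1 a * x * (w1 a)⁻¹ = x := by
  rw [q.c1 a x x.2]; group

theorem w2_conj2 (a : F) (x : ↥A2) : w2 a * x * (w2 a)⁻¹ = x := by
  rw [q.c2 a x x.2]; group

/-- the action of `n a` on `A1` before simplification -/
theorem nn_conj1 (a : F) (x : ↥A1) : nn w1 w2 a * x * (nn w1 w2 a)⁻¹ =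
    (q.phi1 a (q.phi2 a⁻¹ x) : Γ) * (q.phi2 a⁻¹ x : Γ) * x := by
  unfold nn
  calc w1 a * w2 a⁻¹ * w1 a * x * (w1 a * w2 a⁻¹ * w1 a)⁻¹
      = w1 a * (w2 a⁻¹ * (w1 a * x * (w1 a)⁻¹) * (w2 a⁻¹)⁻¹) * (w1 a)⁻¹ := by group
    _ = w1 a * ((q.phi2 a⁻¹ x : Γ) * x) * (w1 a)⁻¹ := by rw [q.w1_conj1, q.w2_conj]
    _ = (w1 a * (q.phi2 a⁻¹ x : Γ) * (w1 a)⁻¹) * (w1 a * x * (w1 a)⁻¹) := by group
    _ = _ := by rw [q.w1_conj1, q.w1_conj]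

theorem phi12 (a : F) (ha : a ≠ 0) (x : ↥A1) : q.phi1 a (q.phi2 a⁻¹ x) = x := by
  have h := q.n12 a ha x x.2
  rw [q.nn_conj1] at h
  -- (φ1 φ2 x) * x ∈ A2
  have h2 : (q.phi1 a (q.phi2 a⁻¹ x) : Γ) * x ∈ A2 := by
    have e : (q.phi1 a (q.phi2 a⁻¹ x) : Γ) * x =
        (q.phi1 a (q.phi2 a⁻¹ x) : Γ) * (q.phi2 a⁻¹ x : Γ) * x * (q.phi2 a⁻¹ x : Γ)⁻¹ := by
      have := q.comm12 x x.2 _ (q.phi2 a⁻¹ x).2
      calc (q.phi1 a (q.phi2 a⁻¹ x) : Γ) * x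
          = (q.phi1 a (q.phi2 a⁻¹ x) : Γ) * (x * (q.phi2 a⁻¹ x : Γ)) * (q.phi2 a⁻¹ x : Γ)⁻¹ := by
            group
        _ = (q.phi1 a (q.phi2 a⁻¹ x) : Γ) * ((q.phi2 a⁻¹ x : Γ) * x) * (q.phi2 a⁻¹ x : Γ)⁻¹ := by
            rw [this]
        _ = _ := by group
    rw [e]
    exact A2.mul_mem h (A2.inv_mem (q.phi2 a⁻¹ x).2)
  have h3 := q.inf _ (A1.mul_mem (q.phi1 a (q.phi2 a⁻¹ x)).2 x.2) h2
  apply Subtype.ext
  have h4 := q.sq1 x x.2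
  have : (q.phi1 a (q.phi2 a⁻¹ x) : Γ) * x * x = x := by rw [h3, one_mul]
  rwa [mul_assoc, h4, mul_one] at this

theorem nn_conj1' (a : F) (ha : a ≠ 0) (x : ↥A1) : nn w1 w2 a * x * (nn w1 w2 a)⁻¹ =
    (q.phi2 a⁻¹ x : Γ) := by
  rw [q.nn_conj1, q.phi12 a ha]
  have := q.comm12 x x.2 _ (q.phi2 a⁻¹ x).2
  rw [this, mul_assoc, q.sq1 x x.2, mul_one]

/-- the action of `n a` on `A2` before simplification -/
theorem nn_conj2 (a : F) (x : ↥A2) : nn w1 w2 a * x * (nn w1 w2 a)⁻¹ =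
    (q.phi1 a (q.phi2 a⁻¹ (q.phi1 a x)) : Γ) * (q.phi2 a⁻¹ (q.phi1 a x) : Γ) * (q.phi1 a x : Γ) *
      ((q.phi1 a x : Γ) * x) := by
  unfold nn
  calc w1 a * w2 a⁻¹ * w1 a * x * (w1 a * w2 a⁻¹ * w1 a)⁻¹
      = w1 a * (w2 a⁻¹ * (w1 a * x * (w1 a)⁻¹) * (w2 a⁻¹)⁻¹) * (w1 a)⁻¹ := by group
    _ = w1 a * (w2 a⁻¹ * ((q.phi1 a x : Γ) * x) * (w2 a⁻¹)⁻¹) * (w1 a)⁻¹ := by rw [q.w1_conj]
    _ = w1 a * ((w2 a⁻¹ * (q.phi1 a x : Γ) * (w2 a⁻¹)⁻¹) * (w2 a⁻¹ * x * (w2 a⁻¹)⁻¹)) *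
        (w1 a)⁻¹ := by group
    _ = w1 a * (((q.phi2 a⁻¹ (q.phi1 a x) : Γ) * (q.phi1 a x : Γ)) * x) * (w1 a)⁻¹ := by
        rw [q.w2_conj, q.w2_conj2]
    _ = (w1 a * (q.phi2 a⁻¹ (q.phi1 a x) : Γ) * (w1 a)⁻¹) *
        (w1 a * (q.phi1 a x : Γ) * (w1 a)⁻¹) * (w1 a * x * (w1 a)⁻¹) := by group
    _ = _ := by rw [q.w1_conj1, q.w1_conj, q.w1_conj]

theorem phi21 (a : F) (ha : a ≠ 0) (x : ↥A2) : q.phi2 a⁻¹ (q.phi1 a x) = x := by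
  have h := q.n21 a ha x x.2
  rw [q.nn_conj2, q.phi12 a ha] at h
  set y := q.phi1 a x with hy
  set z := q.phi2 a⁻¹ y with hz
  -- y z y (y x) ∈ A1
  have hzx : (z : Γ) * x ∈ A1 := by
    have e1 : (y : Γ) * z * y * (y * x) = y * (z * x) := by
      have := q.sq1 y y.2
      calc (y : Γ) * z * y * (y * x) = y * z * (y * y) * x := by group
        _ = y * (z * x) := by rw [this]; group
    rw [e1] at h
    have := A1.mul_mem (A1.inv_mem y.2) h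
    rwa [inv_mul_cancel_left] at this
  have h3 := q.inf _ hzx (A2.mul_mem z.2 x.2)
  apply Subtype.ext
  have h4 := q.sq2 x x.2
  have : (z : Γ) * x * x = x := by rw [h3, one_mul]
  rwa [mul_assoc, h4, mul_one] at this

theorem nn_conj2' (a : F) (ha : a ≠ 0) (x : ↥A2) : nn w1 w2 a * x * (nn w1 w2 a)⁻¹ =
    (q.phi1 a x : Γ) := by
  rw [q.nn_conj2, q.phi21 a ha]
  set y := q.phi1 a x
  have h1 := q.sq1 y y.2
  have h2 := q.sq2 x x.2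
  calc (y : Γ) * x * y * (y * x) = y * x * (y * y) * x := by group
    _ = y * (x * x) := by rw [h1]; group
    _ = y := by rw [h2, mul_one]

theorem phi_tor (a : F) (ha : a ≠ 0) (b : F) (x : ↥A2) :
    q.phi1 a (q.phi2 1 (q.phi1 b (q.phi2 1 (q.phi1 a x)))) = q.phi1 (a ^ 2 * b) x := by
  have ht := q.tor a ha b x x.2
  rw [q.w1_conj] at ht
  set z := q.phi2 1 (q.phi1 a x) with hz
  -- h z h⁻¹ = x
  have e1 : nn w1 w2 1 * z * (nn w1 w2 1)⁻¹ = (q.phi1 a x : Γ) := by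
    rw [q.nn_conj2' 1 one_ne_zero, hz]
    have := q.phi12 1 one_ne_zero (q.phi1 a x)
    rw [inv_one] at this
    rw [this]
  have e2 : nn w1 w2 a * (q.phi1 a x : Γ) * (nn w1 w2 a)⁻¹ = x := by
    rw [q.nn_conj1' a ha, q.phi21 a ha]
  have e3 : hh w1 w2 a * z * (hh w1 w2 a)⁻¹ = x := by
    unfold hh
    calc nn w1 w2 a * nn w1 w2 1 * z * (nn w1 w2 a * nn w1 w2 1)⁻¹
        = nn w1 w2 a * (nn w1 w2 1 * z * (nn w1 w2 1)⁻¹) * (nn w1 w2 a)⁻¹ := by group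
      _ = x := by rw [e1, e2]
  have e4 : ∀ y : ↥A1, hh w1 w2 a * y * (hh w1 w2 a)⁻¹ = (q.phi1 a (q.phi2 1 y) : Γ) := by
    intro y
    unfold hh
    calc nn w1 w2 a * nn w1 w2 1 * y * (nn w1 w2 a * nn w1 w2 1)⁻¹
        = nn w1 w2 a * (nn w1 w2 1 * y * (nn w1 w2 1)⁻¹) * (nn w1 w2 a)⁻¹ := by group
      _ = nn w1 w2 a * (q.phi2 1 y : Γ) * (nn w1 w2 a)⁻¹ := by
          rw [q.nn_conj1' 1 one_ne_zero, inv_one]
      _ = _ := by rw [q.nn_conj2' a ha]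
  have e5 : hh w1 w2 a * w1 b * (hh w1 w2 a)⁻¹ * x * (hh w1 w2 a * w1 b * (hh w1 w2 a)⁻¹)⁻¹ =
      (q.phi1 a (q.phi2 1 (q.phi1 b z)) : Γ) * x := by
    calc hh w1 w2 a * w1 b * (hh w1 w2 a)⁻¹ * x * (hh w1 w2 a * w1 b * (hh w1 w2 a)⁻¹)⁻¹
        = hh w1 w2 a * w1 b * (hh w1 w2 a)⁻¹ * (hh w1 w2 a * z * (hh w1 w2 a)⁻¹) *
          (hh w1 w2 a * w1 b * (hh w1 w2 a)⁻¹)⁻¹ := by rw [e3]
      _ = hh w1 w2 a * (w1 b * z * (w1 b)⁻¹) * (hh w1 w2 a)⁻¹ := by group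
      _ = hh w1 w2 a * ((q.phi1 b z : Γ) * z) * (hh w1 w2 a)⁻¹ := by rw [q.w1_conj]
      _ = (hh w1 w2 a * (q.phi1 b z : Γ) * (hh w1 w2 a)⁻¹) *
          (hh w1 w2 a * z * (hh w1 w2 a)⁻¹) := by group
      _ = _ := by rw [e3, e4]
  rw [e5] at ht
  apply Subtype.ext
  exact mul_right_cancel ht

theorem phi1_add (a b : F) (x : ↥A2) : q.phi1 (a + b) x = q.phi1 a x * q.phi1 b x := by
  apply Subtype.ext
  have h := q.add1 a b x x.2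
  rw [q.w1_conj] at h
  have e : (w1 a * w1 b) * x * (w1 a * w1 b)⁻¹ = (q.phi1 b x : Γ) * ((q.phi1 a x : Γ) * x) := by
    calc (w1 a * w1 b) * x * (w1 a * w1 b)⁻¹ = w1 a * (w1 b * x * (w1 b)⁻¹) * (w1 a)⁻¹ := by group
      _ = w1 a * ((q.phi1 b x : Γ) * x) * (w1 a)⁻¹ := by rw [q.w1_conj]
      _ = (w1 a * (q.phi1 b x : Γ) * (w1 a)⁻¹) * (w1 a * x * (w1 a)⁻¹) := by group
      _ = _ := by rw [q.w1_conj1, q.w1_conj]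
  rw [e, ← mul_assoc] at h
  have := mul_right_cancel h
  rw [this]
  exact q.comm1 _ (q.phi1 b x).2 _ (q.phi1 a x).2

theorem phi2_zero (x : ↥A1) : q.phi2 0 x = 1 := by
  apply Subtype.ext
  change w2 0 * x * (w2 0)⁻¹ * (x : Γ)⁻¹ = 1
  rw [q.zero2 x x.2]; group

/-- the main statement: `A1` and `A2` are identified with one vector space over `F` -/
theorem exists_module [CharP F 2] (hperf : ∀ a : F, ∃ b, b ^ 2 = a) :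
    ∃ (M : Type u) (_ : AddCommGroup M) (_ : Module F M) (p1 p2 : Γ → M),
      (∀ x ∈ A1, ∀ y ∈ A1, p1 (x * y) = p1 x + p1 y) ∧ (∀ x ∈ A1, p1 x = 0 → x = 1) ∧
      (∀ m, ∃ x ∈ A1, p1 x = m) ∧
      (∀ x ∈ A2, ∀ y ∈ A2, p2 (x * y) = p2 x + p2 y) ∧ (∀ x ∈ A2, p2 x = 0 → x = 1) ∧
      (∀ m, ∃ x ∈ A2, p2 x = m) ∧
      (∀ a, ∀ x ∈ A2, p1 (w1 a * x * (w1 a)⁻¹ * x⁻¹) = a • p2 x) ∧
      (∀ a, ∀ x ∈ A1, p2 (w2 a * x * (w2 a)⁻¹ * x⁻¹) = a • p1 x) := by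
  classical
  let g1 : CommGroup ↥A1 :=
    { (inferInstance : Group ↥A1) with
      mul_comm := fun x y => Subtype.ext (q.comm1 x x.2 y y.2) }
  let g2 : CommGroup ↥A2 :=
    { (inferInstance : Group ↥A2) with
      mul_comm := fun x y => Subtype.ext (q.comm2 x x.2 y y.2) }
  let Q : QuadAdd F (Additive ↥A1) (Additive ↥A2) :=
    { φ1 := fun a => MonoidHom.toAdditive (q.phi1 a)
      φ2 := fun a => MonoidHom.toAdditive (q.phi2 a)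
      add1 := fun a b => AddMonoidHom.ext fun x =>
        congrArg Additive.ofMul (q.phi1_add a b (Additive.toMul x))
      zero2 := AddMonoidHom.ext fun x =>
        congrArg Additive.ofMul (q.phi2_zero (Additive.toMul x))
      two := fun x => by
        apply Additive.toMul.injective
        exact Subtype.ext (q.sq1 _ (Additive.toMul x).2)
      inv12 := fun a ha x => congrArg Additive.ofMul (q.phi12 a ha (Additive.toMul x))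
      inv21 := fun a ha x => congrArg Additive.ofMul (q.phi21 a ha (Additive.toMul x))
      tor := fun a b ha x => congrArg Additive.ofMul (q.phi_tor a ha b (Additive.toMul x)) }
  let mod : Module F (Additive ↥A1) := Q.module hperf
  refine ⟨Additive ↥A1, inferInstance, mod,
    fun x => if h : x ∈ A1 then Additive.ofMul ⟨x, h⟩ else 0,
    fun x => if h : x ∈ A2 then Q.ι2 (Additive.ofMul ⟨x, h⟩) else 0, ?_, ?_, ?_, ?_, ?_, ?_, ?_, ?_⟩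
  · intro x hx y hy
    simp only [dif_pos hx, dif_pos hy, dif_pos (A1.mul_mem hx hy)]
    rfl
  · intro x hx h
    simp only [dif_pos hx] at h
    have : (⟨x, hx⟩ : ↥A1) = 1 := by
      have := congrArg Additive.toMul h
      exact this
    exact congrArg Subtype.val this
  · intro m
    refine ⟨(Additive.toMul m : ↥A1), (Additive.toMul m).2, ?_⟩
    simp only [dif_pos (Additive.toMul m).2]
    rfl
  · intro x hx y hy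
    simp only [dif_pos hx, dif_pos hy, dif_pos (A2.mul_mem hx hy)]
    rw [← map_add]
    rfl
  · intro x hx h
    simp only [dif_pos hx] at h
    have h1 : Additive.ofMul (⟨x, hx⟩ : ↥A2) = 0 := by
      apply Q.ι2_bij.1
      rw [h]; exact (map_zero Q.ι2).symm
    have : (⟨x, hx⟩ : ↥A2) = 1 := congrArg Additive.toMul h1
    exact congrArg Subtype.val this
  · intro m
    obtain ⟨y, hy⟩ := Q.ι2_bij.2 m
    refine ⟨(Additive.toMul y : ↥A2), (Additive.toMul y).2, ?_⟩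
    simp only [dif_pos (Additive.toMul y).2]
    exact hy
  · intro a x hx
    simp only [dif_pos hx, dif_pos (q.m1 a x hx)]
    exact Q.φ1_eq a (Additive.ofMul ⟨x, hx⟩)
  · intro a x hx
    simp only [dif_pos hx, dif_pos (q.m2 a x hx)]
    exact Q.ι2_φ2 hperf a (Additive.ofMul ⟨x, hx⟩)

end QuadEx

end Cfsg.Agent.Omega.BTwo
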