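import Cfsg.Agent.Omega.BTwo.QuadThree

/-!
# Groups of automorphisms of an elementary abelian 2-group leaving invariant a subgroup of order at most four
and all its images

`H` a group of automorphisms of `W` without normal 2-subgroups, `Θ` normal in `H`, `l` a `Θ`-invariant subgroup of
order at most 4 whose images under `H` generate `W`.  Then the squares of `Θ` generate an abelian group `T` of
exponent 3, and involutions of `Θ` act faithfully on `T`.
-/

set_option autoImplicit false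

namespace Cfsg.Agent.Omega.BTwo.QuadThree

open Subgroup Equiv

/-! ### permutations of at most three points -/

theorem perm_three : ∀ n : ℕ, n ≤ 3 → ∀ σ τ : Perm (Fin n), (σ * σ) * (τ * τ) = (τ * τ) * (σ * σ) ∧
    (σ * σ) * (σ * σ) * (σ * σ) = 1 ∧ (σ * σ = 1 → σ * (τ * τ) = (τ * τ) * σ → τ * τ ≠ 1 → σ = 1) := by
  intro n hn
  interval_cases n <;> decide

theorem perm_le {K : Type*} [Finite K] (hK : Nat.card K ≤ 3) (σ τ : Perm K) :
    (σ * σ) * (τ * τ) = (τ * τ) * (σ * σ) ∧ (σ * σ) * (σ * σ) * (σ * σ) = 1 ∧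
      (σ * σ = 1 → σ * (τ * τ) = (τ * τ) * σ → τ * τ ≠ 1 → σ = 1) := by
  obtain ⟨e⟩ : Nonempty (K ≃ Fin (Nat.card K)) := ⟨Finite.equivFin K⟩
  obtain ⟨f, hf⟩ : ∃ f : Perm K ≃* Perm (Fin (Nat.card K)), f = e.permCongrHom := ⟨_, rfl⟩
  obtain ⟨h1, h2, h3⟩ := perm_three _ hK (f σ) (f τ)
  refine ⟨?_, ?_, ?_⟩
  · apply f.injective
    simpa only [map_mul] using h1
  · apply f.injective
    simpa only [map_mul, map_one] using h2
  · intro h4 h5 h6
    apply f.injective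
    rw [map_one]
    apply h3
    · rw [← map_mul, h4, map_one]
    · rw [← map_mul, ← map_mul, h5, map_mul]
    · rw [← map_mul]
      intro h7
      apply h6
      apply f.injective
      rw [h7, map_one]

variable {W : Type*} [CommGroup W]

/-- the nontrivial elements of a subgroup -/
abbrev Pt (L : Subgroup W) : Type _ := {u : W // u ∈ L ∧ u ≠ 1}

theorem card_pt [Finite W] {L : Subgroup W} (hL : Nat.card L ≤ 4) : Nat.card (Pt L) ≤ 3 := by
  have h1 : Nat.card (Option (Pt L)) ≤ Nat.card L := by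
    apply Nat.card_le_card_of_injective (fun o => match o with
      | none => (1 : L)
      | some u => ⟨u.1, u.2.1⟩)
    rintro (_ | ⟨u, hu, hu1⟩) (_ | ⟨v, hv, hv1⟩) h
    · rfl
    · exact absurd (congrArg Subtype.val h).symm hv1
    · exact absurd (congrArg Subtype.val h) hu1
    · have := congrArg Subtype.val h
      simp only at this
      subst this
      rfl
  have h2 : Nat.card (Option (Pt L)) = Nat.card (Pt L) + 1 := Finite.card_option
  omega

section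

variable {L : Subgroup W}

/-- the permutation of the nontrivial elements -/
def rs (L : Subgroup W) (θ : MulAut W) (h : ∀ u, θ u ∈ L ↔ u ∈ L) : Perm (Pt L) :=
  Equiv.Perm.subtypePerm θ.toEquiv (fun u => by
    change (θ u ∈ L ∧ θ u ≠ 1) ↔ _
    rw [h]
    constructor
    · rintro ⟨h1, h2⟩
      exact ⟨h1, fun e => h2 (by rw [e, map_one])⟩
    · rintro ⟨h1, h2⟩
      exact ⟨h1, fun e => h2 (θ.injective (by rw [e, map_one]))⟩)

theorem rs_apply {θ : MulAut W} {h : ∀ u, θ u ∈ L ↔ u ∈ L} (u : Pt L) : (rs L θ h u : W) = θ u := rfl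

theorem iff_of [Finite W] {θ : MulAut W} (h : ∀ u ∈ L, θ u ∈ L) (u : W) : θ u ∈ L ↔ u ∈ L := by
  refine ⟨fun hu => ?_, h u⟩
  -- `θ` maps `L` onto `L`
  have h1 : Function.Surjective (fun x : L => (⟨θ x, h x x.2⟩ : L)) := by
    apply Finite.surjective_of_injective
    intro x y hxy
    exact Subtype.ext (θ.injective (congrArg Subtype.val hxy))
  obtain ⟨x, hx⟩ := h1 ⟨θ u, hu⟩
  have h2 : θ x = θ u := congrArg Subtype.val hx
  rw [← θ.injective h2]
  exact x.2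

theorem rs_mul {θ θ' : MulAut W} {h : ∀ u, θ u ∈ L ↔ u ∈ L} {h' : ∀ u, θ' u ∈ L ↔ u ∈ L}
    {h'' : ∀ u, (θ * θ') u ∈ L ↔ u ∈ L} : rs L (θ * θ') h'' = rs L θ h * rs L θ' h' := by
  ext u
  rfl

theorem rs_eq_one {θ : MulAut W} {h : ∀ u, θ u ∈ L ↔ u ∈ L} : rs L θ h = 1 ↔ ∀ u ∈ L, θ u = u := by
  constructor
  · intro e u hu
    by_cases h1 : u = 1
    · rw [h1, map_one]
    · have := congrArg (fun f : Perm (Pt L) => ((f ⟨u, hu, h1⟩ : Pt L) : W)) e
      exact this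
  · intro e
    ext u
    exact e u u.2.1

variable [Finite W]

theorem loc (hL : Nat.card L ≤ 4) {σ τ : MulAut W} (hσ : ∀ u ∈ L, σ u ∈ L) (hτ : ∀ u ∈ L, τ u ∈ L) :
    (∀ u ∈ L, (σ * σ * (τ * τ)) u = (τ * τ * (σ * σ)) u) ∧
    (∀ u ∈ L, (σ * σ * (σ * σ) * (σ * σ)) u = u) ∧
    ((∀ u ∈ L, (σ * σ) u = u) → (∀ u ∈ L, (σ * (τ * τ)) u = (τ * τ * σ) u) →
      (∃ u ∈ L, (τ * τ) u ≠ u) → ∀ u ∈ L, σ u = u) := by
  have hmul : ∀ {a b : MulAut W}, (∀ u, a u ∈ L ↔ u ∈ L) → (∀ u, b u ∈ L ↔ u ∈ L) →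
      ∀ u, (a * b) u ∈ L ↔ u ∈ L := by
    intro a b ha hb u
    rw [MulAut.mul_apply, ha, hb]
  have hs := iff_of hσ
  have ht := iff_of hτ
  have hss := hmul hs hs
  have htt := hmul ht ht
  obtain ⟨h1, h2, h3⟩ := perm_le (card_pt hL) (rs L σ hs) (rs L τ ht)
  rw [← rs_mul (h'' := hss), ← rs_mul (h'' := htt)] at h1
  rw [← rs_mul (h'' := hss), ← rs_mul (h'' := hmul hss hss), ← rs_mul (h'' := hmul (hmul hss hss) hss)] at h2
  rw [← rs_mul (h'' := hss), ← rs_mul (h'' := htt)] at h3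
  refine ⟨?_, rs_eq_one.1 h2, ?_⟩
  · rw [← rs_mul (h'' := hmul hss htt), ← rs_mul (h'' := hmul htt hss)] at h1
    intro u hu
    by_cases h4 : u = 1
    · rw [h4, map_one, map_one]
    · exact congrArg (fun f : Perm (Pt L) => ((f ⟨u, hu, h4⟩ : Pt L) : W)) h1
  · intro h4 h5 ⟨v, hv, h6⟩
    refine (rs_eq_one (h := hs)).1 (h3 (rs_eq_one.2 h4) ?_ ?_)
    · rw [← rs_mul (h'' := hmul hs htt), ← rs_mul (h'' := hmul htt hs)]
      ext u
      exact h5 u u.2.1
    · intro h7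
      exact h6 (rs_eq_one.1 h7 v hv)

end

/-- **the subgroup `T`** -/
theorem exists_T [Finite W] {H Θ X : Subgroup (MulAut W)} (hΘH : Θ ≤ H)
    (hn : ∀ h ∈ H, ∀ θ ∈ Θ, h * θ * h⁻¹ ∈ Θ)
    (hO : ∀ N : Subgroup (MulAut W), N ≤ H → (∀ h ∈ H, ∀ x ∈ N, h * x * h⁻¹ ∈ N) →
      (∀ x ∈ N, x * x = 1) → N = ⊥)
    {l : Subgroup W} (hl : Nat.card l ≤ 4) (hΘl : ∀ θ ∈ Θ, ∀ u ∈ l, θ u ∈ l)
    (hgen : ∀ N : Subgroup W, (∀ h ∈ H, ∀ u ∈ l, h u ∈ N) → N = ⊤) (hXΘ : X ≤ Θ)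
    (hX : ∀ x ∈ X, x * x = 1) :
    ∃ T ≤ Θ, (∀ h ∈ H, ∀ t ∈ T, h * t * h⁻¹ ∈ T) ∧ (∀ s ∈ T, ∀ t ∈ T, s * t = t * s) ∧
      (∀ t ∈ T, t * t * t = 1) ∧ ∀ x ∈ X, (∀ t ∈ T, x * t = t * x) → x = 1 := by
  -- equality of automorphisms can be checked on the images of `l`
  have hext : ∀ a b : MulAut W, (∀ h ∈ H, ∀ u ∈ l, a (h u) = b (h u)) → a = b := by
    intro a b hab
    have h1 := hgen (a.toMonoidHom.eqLocus b.toMonoidHom) (fun h hh u hu => hab h hh u hu)
    ext w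
    have h2 : w ∈ a.toMonoidHom.eqLocus b.toMonoidHom := by rw [h1]; exact mem_top w
    exact h2
  -- `θ` on `h l` is `h⁻¹ θ h` on `l`
  have hconj : ∀ (θ h : MulAut W) (u : W), θ (h u) = h ((h⁻¹ * θ * h) u) := by
    intro θ h u
    simp [MulAut.mul_apply]
  have hmem : ∀ θ ∈ Θ, ∀ h ∈ H, h⁻¹ * θ * h ∈ Θ := by
    intro θ hθ h hh
    have := hn h⁻¹ (inv_mem hh) θ hθ
    rwa [inv_inv] at this
  have hsplit : ∀ a b h : MulAut W, h⁻¹ * (a * b) * h = (h⁻¹ * a * h) * (h⁻¹ * b * h) := by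
    intro a b h; group
  have hcomm : ∀ a ∈ Θ, ∀ b ∈ Θ, (a * a) * (b * b) = (b * b) * (a * a) := by
    intro a ha b hb
    apply hext
    intro h hh u hu
    rw [hconj, hconj (b * b * (a * a))]
    congr 1
    have := (loc hl (hΘl _ (hmem a ha h hh)) (hΘl _ (hmem b hb h hh))).1 u hu
    rw [← hsplit, ← hsplit, ← hsplit, ← hsplit] at this
    exact this
  have hcube : ∀ a ∈ Θ, (a * a) * (a * a) * (a * a) = 1 := by
    intro a ha
    apply hext
    intro h hh u hu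
    rw [hconj]
    have := (loc hl (hΘl _ (hmem a ha h hh)) (hΘl _ (hmem a ha h hh))).2.1 u hu
    rw [← hsplit, ← hsplit, ← hsplit] at this
    rw [this]
    rfl
  obtain ⟨T, hT⟩ : ∃ T, T = closure {x : MulAut W | ∃ θ ∈ Θ, x = θ * θ} := ⟨_, rfl⟩
  have hTΘ : T ≤ Θ := by
    rw [hT, closure_le]
    rintro _ ⟨θ, hθ, rfl⟩
    exact mul_mem hθ hθ
  have hsqT : ∀ θ ∈ Θ, θ * θ ∈ T := by
    intro θ hθ
    rw [hT]
    exact subset_closure ⟨θ, hθ, rfl⟩
  have hTc : ∀ s ∈ T, ∀ t ∈ T, s * t = t * s := by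
    have h1 : ∀ a ∈ Θ, ∀ t ∈ T, (a * a) * t = t * (a * a) := by
      intro a ha t ht
      have h2 : T ≤ centralizer {a * a} := by
        rw [hT, closure_le]
        rintro _ ⟨b, hb, rfl⟩
        rw [SetLike.mem_coe, mem_centralizer_singleton_iff]
        exact hcomm b hb a ha
      exact (mem_centralizer_singleton_iff.1 (h2 ht)).symm
    intro s hs t ht
    have h2 : T ≤ centralizer {t} := by
      nth_rewrite 1 [hT]
      rw [closure_le]
      rintro _ ⟨b, hb, rfl⟩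
      rw [SetLike.mem_coe, mem_centralizer_singleton_iff]
      exact h1 b hb t ht
    exact mem_centralizer_singleton_iff.1 (h2 hs)
  refine ⟨T, hTΘ, ?_, hTc, ?_, ?_⟩
  · intro h hh t ht
    have h1 : T ≤ T.comap (MulAut.conj h).toMonoidHom := by
      nth_rewrite 1 [hT]
      rw [closure_le]
      rintro _ ⟨b, hb, rfl⟩
      change h * (b * b) * h⁻¹ ∈ T
      rw [show h * (b * b) * h⁻¹ = (h * b * h⁻¹) * (h * b * h⁻¹) by group]
      exact hsqT _ (hn h hh b hb)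
    exact h1 ht
  · intro t ht
    have ht' := ht
    rw [hT] at ht
    induction ht using closure_induction with
    | mem x hx =>
      obtain ⟨θ, hθ, rfl⟩ := hx
      exact hcube θ hθ
    | one => simp
    | mul x y hx hy ihx ihy =>
      rw [← hT] at hx hy
      have h1 := hTc x hx y hy
      have e1 := ihx hx
      have e2 := ihy hy
      calc x * y * (x * y) * (x * y) = x * (y * x) * (y * x) * y := by group
        _ = x * (x * y) * (x * y) * y := by rw [h1]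
        _ = x * x * (y * x) * y * y := by group
        _ = (x * x * x) * (y * y * y) := by rw [← h1]; group
        _ = 1 := by rw [e1, e2, mul_one]
    | inv x hx ih =>
      rw [← hT] at hx
      have e1 := ih hx
      calc x⁻¹ * x⁻¹ * x⁻¹ = (x * x * x)⁻¹ := by group
        _ = 1 := by rw [e1, inv_one]
  · intro x hx hxT
    -- some square is nontrivial on every image of `l`
    by_cases hall : ∀ h ∈ H, ∃ θ ∈ Θ, ∃ u ∈ l, (θ * θ) (h u) ≠ h u
    · apply hext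
      intro h hh u hu
      obtain ⟨θ, hθ, v, hv, hne⟩ := hall h hh
      rw [hconj]
      have h1 := (loc hl (hΘl _ (hmem x (hXΘ hx) h hh)) (hΘl _ (hmem θ hθ h hh))).2.2
      rw [← hsplit, ← hsplit, ← hsplit, ← hsplit] at h1
      have h2 := h1 (by
          intro w _
          rw [hX x hx]
          simp)
        (by
          intro w _
          rw [hxT _ (hsqT θ hθ)])
        ⟨v, hv, fun e => hne (by rw [hconj, e])⟩ u hu
      rw [h2]
      rfl
    · push Not at hall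
      obtain ⟨h, hh, hall⟩ := hall
      have h1 : ∀ θ ∈ Θ, θ * θ = 1 := by
        intro θ hθ
        apply hext
        intro k hk u hu
        -- conjugate `k l` to `h l`
        have h2 := hall ((h * k⁻¹) * θ * (h * k⁻¹)⁻¹) (hn _ (mul_mem hh (inv_mem hk)) θ hθ) u hu
        have h3 : (h * k⁻¹) * θ * (h * k⁻¹)⁻¹ * ((h * k⁻¹) * θ * (h * k⁻¹)⁻¹) =
            h * (k⁻¹ * (θ * θ) * k) * h⁻¹ := by group
        rw [h3] at h2
        simp only [MulAut.mul_apply, MulAut.inv_apply_self] at h2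
        have h4 := h.injective h2
        calc (θ * θ) (k u) = k (k⁻¹ (θ (θ (k u)))) := by simp [MulAut.mul_apply]
          _ = k u := by rw [h4]
          _ = (1 : MulAut W) (k u) := rfl
      have h2 := hO Θ hΘH hn h1
      have h3 : x ∈ Θ := hXΘ hx
      rw [h2, mem_bot] at h3
      exact h3

/-- **the kill**: an automorphism commuting with `Θ` is trivial -/
theorem eq_one_of_theta [Finite W] {H Θ X : Subgroup (MulAut W)} (hsq : ∀ w : W, w * w = 1)
    (hΘH : Θ ≤ H) (hn : ∀ h ∈ H, ∀ θ ∈ Θ, h * θ * h⁻¹ ∈ Θ)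
    (hO : ∀ N : Subgroup (MulAut W), N ≤ H → (∀ h ∈ H, ∀ x ∈ N, h * x * h⁻¹ ∈ N) →
      (∀ x ∈ N, x * x = 1) → N = ⊥)
    {l : Subgroup W} (hl : Nat.card l ≤ 4) (hΘl : ∀ θ ∈ Θ, ∀ u ∈ l, θ u ∈ l)
    (hgen : ∀ N : Subgroup W, (∀ h ∈ H, ∀ u ∈ l, h u ∈ N) → N = ⊤) (hXΘ : X ≤ Θ)
    (hX : ∀ x ∈ X, x * x = 1) (hq : ∀ x ∈ X, ∀ y ∈ X, ∀ w : W, y (w * x w) = w * x w)
    (hc : Nat.card W ≤ Nat.card X ^ 2) {k : MulAut W} (hk : ∀ θ ∈ Θ, k * θ = θ * k) : k = 1 := by
  obtain ⟨T, hTΘ, hTn, hTc, hT3, hf⟩ := exists_T hΘH hn hO hl hΘl hgen hXΘ hX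
  exact eq_one (X := X) (T := T) ⟨hsq, hX, hq, hTc, hT3, fun x hx t ht => hTn x (hΘH (hXΘ hx)) t ht⟩ hf hc
    (fun x hx => hk x (hXΘ hx)) (fun t ht => hk t (hTΘ ht))

end Cfsg.Agent.Omega.BTwo.QuadThree
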