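import Mathlib

/-!
# Quadratic 2-groups acting faithfully on an elementary abelian 3-group

`W` an elementary abelian 2-group, `X`, `T` groups of automorphisms of `W`, `X` elementary abelian of exponent 2,
quadratic on `W`, `T` abelian of exponent 3, normalised by `X`, `X` faithful on `T`.  Then `|X|² ≤ |W|`, and in the
case of equality an automorphism commuting with `X` and `T` is trivial.
-/

set_option autoImplicit false

namespace Cfsg.Agent.Omega.BTwo.QuadThree

open Subgroup

variable {W : Type*} [CommGroup W]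

/-- the hypotheses on `X` and `T` -/
structure Hyp (X T : Subgroup (MulAut W)) : Prop where
  sq : ∀ w : W, w * w = 1
  X_sq : ∀ x ∈ X, x * x = 1
  quad : ∀ x ∈ X, ∀ y ∈ X, ∀ w : W, y (w * x w) = w * x w
  T_comm : ∀ s ∈ T, ∀ t ∈ T, s * t = t * s
  T_cube : ∀ t ∈ T, t * t * t = 1
  norm : ∀ x ∈ X, ∀ t ∈ T, x * t * x⁻¹ ∈ T

variable {X T : Subgroup (MulAut W)}

namespace Hyp

variable (H : Hyp X T)
include H

theorem X_inv {x : MulAut W} (hx : x ∈ X) : x⁻¹ = x := inv_eq_of_mul_eq_one_left (H.X_sq x hx)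

theorem X_comm {x y : MulAut W} (hx : x ∈ X) (hy : y ∈ X) : x * y = y * x := by
  have h := H.X_sq _ (mul_mem hx hy)
  calc x * y = (x * y)⁻¹ := (inv_eq_of_mul_eq_one_left h).symm
    _ = y⁻¹ * x⁻¹ := mul_inv_rev _ _
    _ = y * x := by rw [H.X_inv hx, H.X_inv hy]

theorem T_inv {t : MulAut W} (ht : t ∈ T) : t⁻¹ = t * t := by
  rw [inv_eq_iff_mul_eq_one, ← mul_assoc]
  exact H.T_cube t ht

/-- an eigenvector -/
theorem exists_eigen {U : Subgroup W} (l : List (MulAut W)) (hl : ∀ y ∈ l, y ∈ X) {q : MulAut W}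
    (hq : q ∈ X) {s : MulAut W} (hs : s ∈ T) (hsq : q * s * q⁻¹ = s⁻¹) (hsU : ∃ u ∈ U, s u ≠ u) :
    ∃ t ∈ T, q * t * q⁻¹ = t⁻¹ ∧ (∃ u ∈ U, t u ≠ u) ∧
      ∀ y ∈ l, y * t * y⁻¹ = t ∨ y * t * y⁻¹ = t⁻¹ := by
  induction l with
  | nil => exact ⟨s, hs, hsq, hsU, by simp⟩
  | cons a l ih =>
    obtain ⟨t, ht, htq, ⟨u, hu, htu⟩, hl'⟩ := ih (fun y hy => hl y (List.mem_cons_of_mem _ hy))
    have ha : a ∈ X := hl a List.mem_cons_self
    have hat : a * t * a⁻¹ ∈ T := H.norm a ha t ht
    obtain ⟨t', ht'⟩ : ∃ t', t' = a * t * a⁻¹ := ⟨_, rfl⟩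
    rw [← ht'] at hat
    have hat' : a * t' * a⁻¹ = t := by
      rw [ht']
      calc a * (a * t * a⁻¹) * a⁻¹ = (a * a) * t * (a * a)⁻¹ := by group
        _ = t := by rw [H.X_sq a ha]; group
    have hc : t * t' = t' * t := H.T_comm t ht t' hat
    have hq' : q * t' * q⁻¹ = t'⁻¹ := by
      rw [ht']
      calc q * (a * t * a⁻¹) * q⁻¹ = (q * a) * t * (q * a)⁻¹ := by group
        _ = (a * q) * t * (a * q)⁻¹ := by rw [H.X_comm hq ha]
        _ = a * (q * t * q⁻¹) * a⁻¹ := by group
        _ = (a * t * a⁻¹)⁻¹ := by rw [htq]; group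
    have hey : ∀ y ∈ l, (y * t' * y⁻¹ = t' ∧ y * t * y⁻¹ = t) ∨
        (y * t' * y⁻¹ = t'⁻¹ ∧ y * t * y⁻¹ = t⁻¹) := by
      intro y hy
      have hyX := hl y (List.mem_cons_of_mem _ hy)
      have h1 : y * t' * y⁻¹ = a * (y * t * y⁻¹) * a⁻¹ := by
        rw [ht']
        calc y * (a * t * a⁻¹) * y⁻¹ = (y * a) * t * (y * a)⁻¹ := by group
          _ = (a * y) * t * (a * y)⁻¹ := by rw [H.X_comm hyX ha]
          _ = a * (y * t * y⁻¹) * a⁻¹ := by group
      rcases hl' y hy with h2 | h2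
      · left; refine ⟨?_, h2⟩; rw [h1, h2, ← ht']
      · right; refine ⟨?_, h2⟩; rw [h1, h2, ht']; group
    by_cases h3 : ∃ u ∈ U, (t * t') u ≠ u
    · refine ⟨t * t', mul_mem ht hat, ?_, h3, ?_⟩
      · calc q * (t * t') * q⁻¹ = (q * t * q⁻¹) * (q * t' * q⁻¹) := by group
          _ = (t' * t)⁻¹ := by rw [htq, hq', mul_inv_rev]
          _ = (t * t')⁻¹ := by rw [hc]
      · intro y hy
        rcases List.mem_cons.1 hy with rfl | hy
        · left
          calc y * (t * t') * y⁻¹ = (y * t * y⁻¹) * (y * t' * y⁻¹) := by group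
            _ = t * t' := by rw [← ht', hat', hc]
        · rcases hey y hy with ⟨h4, h5⟩ | ⟨h4, h5⟩
          · left
            calc y * (t * t') * y⁻¹ = (y * t * y⁻¹) * (y * t' * y⁻¹) := by group
              _ = t * t' := by rw [h4, h5]
          · right
            calc y * (t * t') * y⁻¹ = (y * t * y⁻¹) * (y * t' * y⁻¹) := by group
              _ = (t' * t)⁻¹ := by rw [h4, h5, mul_inv_rev]
              _ = (t * t')⁻¹ := by rw [hc]
    · refine ⟨t * t'⁻¹, mul_mem ht (inv_mem hat), ?_, ?_, ?_⟩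
      · calc q * (t * t'⁻¹) * q⁻¹ = (q * t * q⁻¹) * (q * t' * q⁻¹)⁻¹ := by group
          _ = t⁻¹ * t' := by rw [htq, hq', inv_inv]
          _ = (t'⁻¹ * t)⁻¹ := by group
          _ = (t * t'⁻¹)⁻¹ := by rw [show t'⁻¹ * t = t * t'⁻¹ from
              ((show Commute t t' from hc).inv_right).eq.symm]
      · -- if both `t t'` and `t t'⁻¹` were trivial on `U`, so would be `t² = t⁻¹`
        by_contra h4
        push Not at h3 h4
        apply htu
        have h5 := h3 u hu
        have h6 := h4 u hu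
        -- `t u = t'⁻¹ u`, `t u = ...`
        have h7 : t * t = (t * t'⁻¹) * (t * t') := by
          calc t * t = t * (t'⁻¹ * t') * t := by group
            _ = t * t'⁻¹ * (t' * t) := by group
            _ = t * t'⁻¹ * (t * t') := by rw [hc]
        have h8 : (t * t) u = u := by
          rw [h7, MulAut.mul_apply, h5, h6]
        have h9 : t⁻¹ u = u := by rw [H.T_inv ht]; exact h8
        calc t u = t (t⁻¹ u) := by rw [h9]
          _ = u := by rw [MulAut.apply_inv_self]
      · intro y hy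
        have hcomm : t'⁻¹ * t = t * t'⁻¹ := ((show Commute t t' from hc).inv_right).eq.symm
        rcases List.mem_cons.1 hy with rfl | hy
        · right
          calc y * (t * t'⁻¹) * y⁻¹ = (y * t * y⁻¹) * (y * t' * y⁻¹)⁻¹ := by group
            _ = t' * t⁻¹ := by rw [← ht', hat']
            _ = (t * t'⁻¹)⁻¹ := by group
        · rcases hey y hy with ⟨h4, h5⟩ | ⟨h4, h5⟩
          · left
            calc y * (t * t'⁻¹) * y⁻¹ = (y * t * y⁻¹) * (y * t' * y⁻¹)⁻¹ := by group
              _ = t * t'⁻¹ := by rw [h4, h5]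
          · right
            calc y * (t * t'⁻¹) * y⁻¹ = (y * t * y⁻¹) * (y * t' * y⁻¹)⁻¹ := by group
              _ = t⁻¹ * t' := by rw [h4, h5, inv_inv]
              _ = (t'⁻¹ * t)⁻¹ := by group
              _ = (t * t'⁻¹)⁻¹ := by rw [hcomm]

end Hyp

/-- fixed points of `t` in `U` -/
def U₁ (U : Subgroup W) (t : MulAut W) : Subgroup W where
  carrier := {u | u ∈ U ∧ t u = u}
  mul_mem' := by
    rintro a b ⟨ha, ha'⟩ ⟨hb, hb'⟩
    exact ⟨mul_mem ha hb, by rw [map_mul, ha', hb']⟩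
  one_mem' := ⟨one_mem _, map_one t⟩
  inv_mem' := by
    rintro a ⟨ha, ha'⟩
    exact ⟨inv_mem ha, by rw [map_inv, ha']⟩

/-- the kernel of the norm of `t` in `U` -/
def U₂ (U : Subgroup W) (t : MulAut W) : Subgroup W where
  carrier := {u | u ∈ U ∧ u * t u * t (t u) = 1}
  mul_mem' := by
    rintro a b ⟨ha, ha'⟩ ⟨hb, hb'⟩
    refine ⟨mul_mem ha hb, ?_⟩
    calc a * b * t (a * b) * t (t (a * b)) = (a * t a * t (t a)) * (b * t b * t (t b)) := by
          simp only [map_mul]
          ac_rfl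
      _ = 1 := by rw [ha', hb', mul_one]
  one_mem' := ⟨one_mem _, by simp⟩
  inv_mem' := by
    rintro a ⟨ha, ha'⟩
    refine ⟨inv_mem ha, ?_⟩
    calc a⁻¹ * t a⁻¹ * t (t a⁻¹) = (a * t a * t (t a))⁻¹ := by
          simp only [map_inv, mul_inv]
      _ = 1 := by rw [ha', inv_one]

theorem mem_U₁ {U : Subgroup W} {t : MulAut W} {u : W} : u ∈ U₁ U t ↔ u ∈ U ∧ t u = u := Iff.rfl

theorem mem_U₂ {U : Subgroup W} {t : MulAut W} {u : W} :
    u ∈ U₂ U t ↔ u ∈ U ∧ u * t u * t (t u) = 1 := Iff.rfl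

section

variable {U : Subgroup W} {t : MulAut W}

theorem cube_apply (ht : t * t * t = 1) (u : W) : t (t (t u)) = u := by
  have := congrArg (fun f : MulAut W => f u) ht
  simpa [MulAut.mul_apply, mul_assoc] using this

theorem inf_eq (hsq : ∀ w : W, w * w = 1) {u : W} (h1 : u ∈ U₁ U t) (h2 : u ∈ U₂ U t) : u = 1 := by
  have h3 := h2.2
  rw [h1.2, h1.2, hsq, one_mul] at h3
  exact h3

theorem decomp (hsq : ∀ w : W, w * w = 1) (ht : t * t * t = 1) (hU : ∀ u ∈ U, t u ∈ U) {u : W}
    (hu : u ∈ U) : ∃ a ∈ U₁ U t, ∃ b ∈ U₂ U t, u = a * b := by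
  have h1 := hU u hu
  have h2 := hU _ h1
  have h3 := cube_apply ht u
  refine ⟨u * t u * t (t u), ⟨mul_mem (mul_mem hu h1) h2, ?_⟩, t u * t (t u), ⟨mul_mem h1 h2, ?_⟩, ?_⟩
  · simp only [map_mul, h3]
    ac_rfl
  · simp only [map_mul, h3]
    calc t u * t (t u) * (t (t u) * u) * (u * t u)
        = (t u * t u) * (t (t u) * t (t u)) * (u * u) := by ac_rfl
      _ = 1 := by simp only [hsq]
  · calc u = u * ((t u * t u) * (t (t u) * t (t u))) := by simp only [hsq, mul_one]
      _ = u * t u * t (t u) * (t u * t (t u)) := by ac_rfl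

theorem card_mul [Finite W] (hsq : ∀ w : W, w * w = 1) (ht : t * t * t = 1) (hU : ∀ u ∈ U, t u ∈ U) :
    Nat.card U = Nat.card (U₁ U t) * Nat.card (U₂ U t) := by
  rw [← Nat.card_prod]
  symm
  apply Nat.card_congr
  refine Equiv.ofBijective (fun p => (⟨(p.1 : W) * p.2, mul_mem p.1.2.1 p.2.2.1⟩ : U)) ⟨?_, ?_⟩
  · rintro ⟨⟨a, ha⟩, ⟨b, hb⟩⟩ ⟨⟨a', ha'⟩, ⟨b', hb'⟩⟩ h
    have h1 : a * b = a' * b' := congrArg Subtype.val h
    have h2 : a'⁻¹ * a = b' * b⁻¹ := by
      rw [eq_mul_inv_iff_mul_eq, mul_assoc, h1, inv_mul_cancel_left]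
    have h3 : a'⁻¹ * a = 1 := inf_eq hsq (mul_mem (inv_mem ha') ha) (by
      rw [h2]; exact mul_mem hb' (inv_mem hb))
    have h4 : a = a' := by
      rw [inv_mul_eq_one] at h3
      exact h3.symm
    subst h4
    have h5 : b = b' := mul_left_cancel h1
    subst h5
    rfl
  · rintro ⟨u, hu⟩
    obtain ⟨a, ha, b, hb, e⟩ := decomp hsq ht hU hu
    exact ⟨(⟨a, ha⟩, ⟨b, hb⟩), Subtype.ext e.symm⟩

/-- `u = t c(u) c(t² u)`, `c(u) = u q(u)` -/
theorem gen_U₂ {q : MulAut W} (hsq : ∀ w : W, w * w = 1) (hqt : q * t = t * t * q)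
    (ht : t * t * t = 1) {u : W} (hu : u ∈ U₂ U t) :
    u = t (u * q u) * (t (t u) * q (t (t u))) := by
  have h1 : ∀ w, q (t w) = t (t (q w)) := fun w => by
    have := congrArg (fun f : MulAut W => f w) hqt
    simpa [MulAut.mul_apply] using this
  have h2 : q (t (t u)) = t (q u) := by
    rw [h1, h1, cube_apply ht]
  have h3 := hu.2
  rw [h2, map_mul]
  calc u = u * (u * t u * t (t u)) := by rw [h3, mul_one]
    _ = (u * u) * (t u * t (t u)) * (t (q u) * t (q u)) := by
        rw [hsq (t (q u)), mul_one]; ac_rfl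
    _ = (t u * t (t u)) * (t (q u) * t (q u)) := by rw [hsq u, one_mul]
    _ = t u * t (q u) * (t (t u) * t (q u)) := by ac_rfl

end

theorem four_le [Finite W] (hsq : ∀ w : W, w * w = 1) (K : Subgroup W) {a b : W} (ha : a ∈ K)
    (hb : b ∈ K) (ha1 : a ≠ 1) (hb1 : b ≠ 1) (hab : a ≠ b) : 4 ≤ Nat.card K := by
  have h1 : Nat.card (Bool × Bool) ≤ Nat.card K := by
    apply Nat.card_le_card_of_injective (fun p : Bool × Bool =>
      (⟨(if p.1 then a else 1) * (if p.2 then b else 1), mul_mem (by split_ifs; exacts [ha, one_mem _])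
        (by split_ifs; exacts [hb, one_mem _])⟩ : K))
    have h2 : a * b ≠ 1 := by
      intro e
      apply hab
      calc a = a * (b * b) := by rw [hsq, mul_one]
        _ = (a * b) * b := by rw [mul_assoc]
        _ = b := by rw [e, one_mul]
    rintro ⟨x, y⟩ ⟨x', y'⟩ h
    have h3 := congrArg Subtype.val h
    cases x <;> cases y <;> cases x' <;> cases y' <;> simp at h3 <;>
      first
      | rfl
      | exact absurd h3 ha1
      | exact absurd h3.symm ha1
      | exact absurd h3 hb1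
      | exact absurd h3.symm hb1
      | exact absurd h3 hab
      | exact absurd h3.symm hab
      | exact absurd h3 h2
      | exact absurd h3.symm h2
  simpa [Nat.card_eq_fintype_card] using h1

/-- **the inductive statement** -/
theorem main_aux [Finite W] (H : Hyp X T) : ∀ (n : ℕ) (Y : Subgroup (MulAut W)) (U : Subgroup W),
    Nat.card Y = n → Y ≤ X → (∀ y ∈ Y, ∀ u ∈ U, y u ∈ U) → (∀ t ∈ T, ∀ u ∈ U, t u ∈ U) →
    (∀ y ∈ Y, (∀ t ∈ T, ∀ u ∈ U, (y * t * y⁻¹ * t⁻¹) u = u) → y = 1) →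
    Nat.card Y ^ 2 ≤ Nat.card U ∧ (Nat.card U = Nat.card Y ^ 2 → ∀ h : MulAut W,
      (∀ u ∈ U, h u ∈ U) → (∀ x ∈ X, h * x = x * h) → (∀ t ∈ T, h * t = t * h) → ∀ u ∈ U, h u = u) := by
  intro n
  induction n using Nat.strong_induction_on with
  | _ n ih =>
    intro Y U hn hYX hYU hTU hf
    by_cases hY : Y = ⊥
    · subst hY
      rw [card_bot]
      refine ⟨by rw [one_pow]; exact Nat.card_pos, fun h1 h _ _ _ u hu => ?_⟩
      have h2 : U = ⊥ := by
        rw [one_pow] at h1
        exact (card_eq_one).1 h1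
      subst h2
      rw [mem_bot] at hu
      rw [hu, map_one]
    · -- an element `q ≠ 1`
      obtain ⟨q, hqY, hq1⟩ := (Y.ne_bot_iff_exists_ne_one).1 hY |>.elim fun ⟨q, hq⟩ h1 =>
        (⟨q, hq, fun e => h1 (Subtype.ext e)⟩ : ∃ q ∈ Y, q ≠ 1)
      have hqX := hYX hqY
      obtain ⟨t', ht', u', hu', htu'⟩ : ∃ t ∈ T, ∃ u ∈ U, (q * t * q⁻¹ * t⁻¹) u ≠ u := by
        by_contra hcon
        push Not at hcon
        exact hq1 (hf q hqY hcon)
      have hs : q * t' * q⁻¹ * t'⁻¹ ∈ T := mul_mem (H.norm q hqX t' ht') (inv_mem ht')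
      have hsq : q * (q * t' * q⁻¹ * t'⁻¹) * q⁻¹ = (q * t' * q⁻¹ * t'⁻¹)⁻¹ := by
        calc q * (q * t' * q⁻¹ * t'⁻¹) * q⁻¹ = (q * q) * t' * (q * q)⁻¹ * (q * t'⁻¹ * q⁻¹) := by group
          _ = t' * (q * t'⁻¹ * q⁻¹) := by rw [H.X_sq q hqX]; group
          _ = (q * t' * q⁻¹ * t'⁻¹)⁻¹ := by group
      obtain ⟨t, ht, htq, ⟨v, hv, htv⟩, heig⟩ := H.exists_eigen (U := U)
        ((Set.toFinite (Y : Set (MulAut W))).toFinset.toList)
        (by intro y hy; simp at hy; exact hYX hy) hqX hs hsq ⟨u', hu', htu'⟩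
      have heig' : ∀ y ∈ Y, y * t * y⁻¹ = t ∨ y * t * y⁻¹ = t⁻¹ := by
        intro y hy
        exact heig y (by simpa using hy)
      have ht3 := H.T_cube t ht
      have htU := hTU t ht
      -- the kernel of the character
      obtain ⟨Y₀, hY₀⟩ : ∃ Y₀ : Subgroup (MulAut W), ∀ y, y ∈ Y₀ ↔ y ∈ Y ∧ y * t = t * y := by
        refine ⟨Y ⊓ centralizer {t}, fun y => ?_⟩
        rw [mem_inf, mem_centralizer_singleton_iff]
      have htt : t * t ≠ t := by
        intro e
        have e1 : t = 1 := by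
          have := congrArg (fun f => t⁻¹ * f) e
          simpa using this
        rw [e1] at htv
        exact htv rfl
      have hq0 : q ∉ Y₀ := by
        intro h1
        have h2 := ((hY₀ q).1 h1).2
        apply htt
        rw [← H.T_inv ht, ← htq, h2, mul_inv_cancel_right]
      have hlt : Nat.card Y₀ < n := by
        rw [← hn]
        apply lt_of_le_of_ne
        · exact card_le_of_le (fun y hy => ((hY₀ y).1 hy).1)
        · intro e
          have : Y₀ = Y := by
            apply eq_of_le_of_card_ge (fun y hy => ((hY₀ y).1 hy).1)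
            exact e.ge
          exact hq0 (this ▸ hqY)
      -- `|Y| ≤ 2 |Y₀|`
      have hcardY : Nat.card Y ≤ 2 * Nat.card Y₀ := by
        have h1 : ∀ y ∈ Y, y ∉ Y₀ → q⁻¹ * y ∈ Y₀ := by
          intro y hy hy0
          have h2 : y * t * y⁻¹ = t⁻¹ := by
            rcases heig' y hy with h2 | h2
            · exact absurd ((hY₀ y).2 ⟨hy, by rw [← mul_inv_eq_iff_eq_mul]; exact h2⟩) hy0
            · exact h2
          refine (hY₀ _).2 ⟨mul_mem (inv_mem hqY) hy, ?_⟩
          have h3 : q⁻¹ * t⁻¹ * q = t := by rw [← htq]; group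
          calc q⁻¹ * y * t = q⁻¹ * (y * t * y⁻¹) * y := by group
            _ = (q⁻¹ * t⁻¹ * q) * (q⁻¹ * y) := by rw [h2]; group
            _ = t * (q⁻¹ * y) := by rw [h3]
        have h4 : Nat.card Y ≤ Nat.card (Bool × Y₀) := by
          classical
          apply Nat.card_le_card_of_injective (fun y : Y =>
            if h : (y : MulAut W) ∈ Y₀ then ((false, ⟨y, h⟩) : Bool × Y₀)
            else (true, ⟨q⁻¹ * y, h1 y y.2 h⟩))
          intro a b hab
          by_cases ha : (a : MulAut W) ∈ Y₀ <;> by_cases hb : (b : MulAut W) ∈ Y₀ <;>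
            simp [ha, hb] at hab
          · exact hab
          · exact hab
        rwa [Nat.card_prod, Nat.card_eq_fintype_card (α := Bool), Fintype.card_bool] at h4
      -- `q t = t² q`
      have hqt : q * t = t * t * q := by
        rw [← H.T_inv ht, ← htq, inv_mul_cancel_right]
      have hqt' : ∀ w, q (t w) = t (t (q w)) := fun w => by
        have := congrArg (fun f : MulAut W => f w) hqt
        simpa [MulAut.mul_apply] using this
      -- `Y₀` centralises `U₂`
      have hcen : ∀ y ∈ Y₀, ∀ u ∈ U₂ U t, y u = u := by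
        intro y hy u hu
        obtain ⟨hyY, hyt⟩ := (hY₀ y).1 hy
        have hyX := hYX hyY
        have h1 : ∀ w, y (t w) = t (y w) := fun w => by
          have := congrArg (fun f : MulAut W => f w) hyt
          simpa [MulAut.mul_apply] using this
        have h2 := gen_U₂ H.sq hqt ht3 hu
        have h3 : y (t (u * q u)) = t (u * q u) := by
          rw [h1, H.quad q hqX y hyX u]
        have h4 : y (t (t u) * q (t (t u))) = t (t u) * q (t (t u)) := H.quad q hqX y hyX _
        calc y u = y (t (u * q u) * (t (t u) * q (t (t u)))) := by rw [← h2]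
          _ = t (u * q u) * (t (t u) * q (t (t u))) := by rw [map_mul, h3, h4]
          _ = u := h2.symm
      -- elements commuting with `t` and normalising `U`
      have hU₁ : ∀ h : MulAut W, (∀ u ∈ U, h u ∈ U) → h * t = t * h → ∀ u ∈ U₁ U t, h u ∈ U₁ U t := by
        rintro h hhU hht u ⟨hu, htu⟩
        refine ⟨hhU u hu, ?_⟩
        have := congrArg (fun f : MulAut W => f u) hht
        simp only [MulAut.mul_apply] at this
        rw [← this, htu]
      have hU₂ : ∀ h : MulAut W, (∀ u ∈ U, h u ∈ U) → h * t = t * h → ∀ u ∈ U₂ U t, h u ∈ U₂ U t := by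
        rintro h hhU hht u ⟨hu, htu⟩
        refine ⟨hhU u hu, ?_⟩
        have h4 : ∀ w, t (h w) = h (t w) := fun w => by
          have := congrArg (fun f : MulAut W => f w) hht
          simpa [MulAut.mul_apply] using this.symm
        rw [h4, h4, ← map_mul, ← map_mul, htu, map_one]
      -- induction hypothesis
      obtain ⟨ih1, ih2⟩ := ih _ hlt Y₀ (U₁ U t) rfl (fun y hy => hYX ((hY₀ y).1 hy).1)
        (fun y hy => hU₁ y (hYU y ((hY₀ y).1 hy).1) ((hY₀ y).1 hy).2)
        (fun s hs => hU₁ s (hTU s hs) (H.T_comm s hs t ht))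
        (by
          intro y hy h1
          obtain ⟨hyY, hyt⟩ := (hY₀ y).1 hy
          apply hf y hyY
          intro s hs u hu
          obtain ⟨a, ha, b, hb, rfl⟩ := decomp H.sq ht3 htU hu
          have h2 : (y * s * y⁻¹ * s⁻¹) b = b := by
            have h3 : s⁻¹ b ∈ U₂ U t :=
              hU₂ _ (hTU _ (inv_mem hs)) (H.T_comm _ (inv_mem hs) t ht) b hb
            have h4 : ∀ w ∈ U₂ U t, y⁻¹ w = w := fun w hw => by
              rw [H.X_inv (hYX hyY)]; exact hcen y hy w hw
            simp only [MulAut.mul_apply]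
            rw [h4 _ h3, MulAut.apply_inv_self, hcen y hy b hb]
          rw [map_mul, h1 s hs a ha, h2])
      -- `|U₂| ≥ 4`
      have hw2 : v * t v ∈ U₂ U t := by
        refine ⟨mul_mem hv (htU v hv), ?_⟩
        simp only [map_mul, cube_apply ht3]
        calc v * t v * (t v * t (t v)) * (t (t v) * v)
            = (v * v) * (t v * t v) * (t (t v) * t (t v)) := by ac_rfl
          _ = 1 := by simp only [H.sq]
      have hw1 : v * t v ≠ 1 := by
        intro e
        apply htv
        calc t v = (v * v) * t v := by rw [H.sq, one_mul]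
          _ = v * (v * t v) := by rw [mul_assoc]
          _ = v := by rw [e, mul_one]
      have htw2 := hU₂ t htU rfl _ hw2
      have hne : v * t v ≠ t (v * t v) := fun e => hw1 (inf_eq H.sq ⟨hw2.1, e.symm⟩ hw2)
      have hd := four_le H.sq (U₂ U t) hw2 htw2 hw1
        (fun e => hw1 (t.injective (by rw [e, map_one]))) hne
      have hUc := card_mul H.sq ht3 htU
      have hc1 : 0 < Nat.card (U₁ U t) := Nat.card_pos
      have hfirst : Nat.card Y ^ 2 ≤ Nat.card U := by
        rw [hUc]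
        calc Nat.card Y ^ 2 ≤ (2 * Nat.card Y₀) ^ 2 := Nat.pow_le_pow_left hcardY 2
          _ = Nat.card Y₀ ^ 2 * 4 := by ring
          _ ≤ Nat.card (U₁ U t) * Nat.card (U₂ U t) := Nat.mul_le_mul ih1 hd
      refine ⟨hfirst, fun hUY h hhU hhX hhT u hu => ?_⟩
      -- equality
      have h4a : Nat.card Y ^ 2 ≤ 4 * Nat.card Y₀ ^ 2 := by
        calc Nat.card Y ^ 2 ≤ (2 * Nat.card Y₀) ^ 2 := Nat.pow_le_pow_left hcardY 2
          _ = 4 * Nat.card Y₀ ^ 2 := by ring
      rw [hUc] at hUY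
      have hd4 : Nat.card (U₂ U t) = 4 := by
        apply le_antisymm _ hd
        by_contra hcon
        push Not at hcon
        have h5 : Nat.card (U₁ U t) * 5 ≤ Nat.card (U₁ U t) * Nat.card (U₂ U t) :=
          Nat.mul_le_mul_left _ hcon
        omega
      have hc4 : Nat.card (U₁ U t) = Nat.card Y₀ ^ 2 := by
        rw [hd4] at hUY
        omega
      have hht := hhT t ht
      have hht' : ∀ w, h (t w) = t (h w) := fun w => by
        have := congrArg (fun f : MulAut W => f w) hht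
        simpa [MulAut.mul_apply] using this
      have hhq' : ∀ w, h (q w) = q (h w) := fun w => by
        have := congrArg (fun f : MulAut W => f w) (hhX q hqX)
        simpa [MulAut.mul_apply] using this
      have hfix₁ := ih2 hc4 h (hU₁ h hhU hht) hhX hhT
      -- `C_{U₂}(q)`
      obtain ⟨C, hC⟩ : ∃ C : Subgroup W, ∀ w, w ∈ C ↔ w ∈ U₂ U t ∧ q w = w := by
        refine ⟨U₂ U t ⊓ U₁ ⊤ q, fun w => ?_⟩
        rw [mem_inf, mem_U₁]
        simp
      have hqU₂ : ∀ w ∈ U₂ U t, q w ∈ U₂ U t := by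
        rintro w ⟨hw, hw'⟩
        refine ⟨hYU q hqY w hw, ?_⟩
        have h1 : q (t (t w)) = t (q w) := by rw [hqt', hqt', cube_apply ht3]
        calc q w * t (q w) * t (t (q w)) = q w * q (t w) * q (t (t w)) := by
              rw [h1, hqt']; ac_rfl
          _ = 1 := by rw [← map_mul, ← map_mul, hw', map_one]
      have hcC : ∀ w ∈ U₂ U t, w * q w ∈ C := by
        intro w hw
        exact (hC _).2 ⟨mul_mem hw (hqU₂ w hw), H.quad q hqX q hqX w⟩
      have hClt : ¬ 4 ≤ Nat.card C := by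
        intro h1
        have h2 : C = U₂ U t := by
          apply eq_of_le_of_card_ge (fun w hw => ((hC w).1 hw).1)
          rw [hd4]; exact h1
        apply hw1
        have h3 : ∀ w ∈ U₂ U t, w * q w = 1 := by
          intro w hw
          rw [((hC w).1 (h2 ▸ hw)).2, H.sq]
        have h5 := gen_U₂ H.sq hqt ht3 hw2
        rw [h3 _ hw2, h3 _ (hU₂ t htU rfl _ htw2), map_one, one_mul] at h5
        exact h5
      have hfixC : ∀ w ∈ C, h w = w := by
        intro w hw
        by_contra hne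
        obtain ⟨hw2', hqw⟩ := (hC w).1 hw
        have hw1' : w ≠ 1 := by
          rintro rfl
          exact hne (map_one h)
        have hhw : h w ∈ C := (hC _).2 ⟨hU₂ h hhU hht w hw2', by rw [← hhq', hqw]⟩
        exact hClt (four_le H.sq C hw hhw hw1' (fun e => hw1' (h.injective (by rw [e, map_one])))
          (Ne.symm hne))
      have hfix₂ : ∀ w ∈ U₂ U t, h w = w := by
        intro w hw
        have h5 := gen_U₂ H.sq hqt ht3 hw
        have h6 := hfixC _ (hcC w hw)
        have h7 := hfixC _ (hcC _ (hU₂ t htU rfl _ (hU₂ t htU rfl _ hw)))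
        calc h w = h (t (w * q w) * (t (t w) * q (t (t w)))) := by rw [← h5]
          _ = t (w * q w) * (t (t w) * q (t (t w))) := by rw [map_mul, hht', h6, h7]
          _ = w := h5.symm
      obtain ⟨a, ha, b, hb, rfl⟩ := decomp H.sq ht3 htU hu
      rw [map_mul, hfix₁ a ha, hfix₂ b hb]

/-- **`|X|² ≤ |W|`** -/
theorem card_le [Finite W] (H : Hyp X T) (hf : ∀ x ∈ X, (∀ t ∈ T, x * t = t * x) → x = 1) :
    Nat.card X ^ 2 ≤ Nat.card W := by
  have h1 := (main_aux H _ X ⊤ rfl le_rfl (by simp) (by simp) (by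
    intro x hx h1
    apply hf x hx
    intro t ht
    have h2 : x * t * x⁻¹ * t⁻¹ = 1 := by
      ext w
      exact h1 t ht w (mem_top w)
    calc x * t = (x * t * x⁻¹ * t⁻¹) * (t * x) := by group
      _ = t * x := by rw [h2, one_mul])).1
  rwa [card_top] at h1

/-- **an automorphism commuting with `X` and `T` is trivial if `|W| ≤ |X|²`** -/
theorem eq_one [Finite W] (H : Hyp X T) (hf : ∀ x ∈ X, (∀ t ∈ T, x * t = t * x) → x = 1)
    (hc : Nat.card W ≤ Nat.card X ^ 2) {h : MulAut W} (hX : ∀ x ∈ X, h * x = x * h)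
    (hT : ∀ t ∈ T, h * t = t * h) : h = 1 := by
  have h0 := card_le H hf
  have h1 := (main_aux H _ X ⊤ rfl le_rfl (by simp) (by simp) (by
    intro x hx h1
    apply hf x hx
    intro t ht
    have h2 : x * t * x⁻¹ * t⁻¹ = 1 := by
      ext w
      exact h1 t ht w (mem_top w)
    calc x * t = (x * t * x⁻¹ * t⁻¹) * (t * x) := by group
      _ = t * x := by rw [h2, one_mul])).2 (by rw [card_top]; exact le_antisymm hc h0)
    h (by simp) hX hT
  ext w
  exact h1 w (mem_top w)

end Cfsg.Agent.Omega.BTwo.QuadThree
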