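import Cfsg.Agent.Transfer.FusionBasic

/-!
# #11043 (8.4), the end of the case `q ≥ 4`, abstract form
-/

set_option autoImplicit false
set_option linter.style.haveILetI false

namespace Cfsg.Agent.Omega.BTwo.RadAbs

open Subgroup

variable {G : Type*} [Group G] {ι : Type*}

/-- Two `p`-elements in the same coset of a 2-subgroup normalised by them are conjugate under it (`p` odd). -/
theorem conj_of_same_coset [Finite G] {p : ℕ} (hp : p.Prime) (hp2 : p ≠ 2) {M : Subgroup G} (hM : IsPGroup 2 M)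
    {x y : G} {k : ℕ} (hx : x ^ p ^ k = 1) (hxM : ∀ m ∈ M, x * m * x⁻¹ ∈ M) (hy : y ^ p ^ k = 1)
    (hxy : y * x⁻¹ ∈ M) : ∃ m ∈ M, m * x * m⁻¹ = y := by
  haveI : Fact p.Prime := ⟨hp⟩
  haveI : Fact (Nat.Prime 2) := ⟨Nat.prime_two⟩
  have hxN : x ∈ normalizer (M : Set G) := by
    rw [mem_normalizer_iff]
    have hmap : (M.map (MulAut.conj x).toMonoidHom) = M := by
      refine eq_of_le_of_card_ge ?_
        (Nat.card_congr (M.equivMapOfInjective _ (MulAut.conj x).injective).toEquiv.symm).ge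
      rintro _ ⟨m, hm, rfl⟩
      exact hxM m hm
    intro m
    refine ⟨hxM m, fun hm => ?_⟩
    rw [← hmap] at hm
    obtain ⟨m', hm', e⟩ := hm
    have e' : x * m' * x⁻¹ = x * m * x⁻¹ := e
    have e2 : m' = m := by
      have := congrArg (fun w => x⁻¹ * w * x) e'
      simpa [mul_assoc] using this
    rw [← e2]; exact hm'
  have h3 : ∀ w : G, w ^ p ^ k = 1 → IsPGroup p (zpowers w) := by
    intro w hw
    obtain ⟨j, -, hj⟩ := (Nat.dvd_prime_pow hp).1 (orderOf_dvd_of_pow_eq_one hw)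
    exact IsPGroup.of_card (by rw [Nat.card_zpowers, hj])
  have h2p : Nat.Coprime 2 p := (Nat.coprime_primes Nat.prime_two hp).2 (Ne.symm hp2)
  have hMc : (Nat.card M).Coprime p := by
    obtain ⟨j, hj⟩ := IsPGroup.iff_card.1 hM
    rw [hj]
    exact Nat.Coprime.pow_left _ h2p
  have hsup : zpowers y ≤ zpowers x ⊔ M := by
    rw [zpowers_le]
    have h1 : y = (y * x⁻¹) * x := by group
    rw [h1]
    exact mul_mem (mem_sup_right hxy) (mem_sup_left (mem_zpowers x))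
  obtain ⟨m, hm, hmy⟩ := Transfer.FusionBasic.exists_conj_of_coprime (h3 x hx) (h3 y hy) hMc
    (by rw [zpowers_le]; exact hxN) hsup
  obtain ⟨i, hi⟩ := mem_zpowers_iff.1 (hmy y (mem_zpowers y))
  have h4 : m * y * m⁻¹ * x⁻¹ ∈ M := by
    have h5 : m * y * m⁻¹ * x⁻¹ = m * (y * x⁻¹) * (x * m⁻¹ * x⁻¹) := by group
    rw [h5]
    exact mul_mem (mul_mem hm hxy) (hxM _ (inv_mem hm))
  have h6 : m * y * m⁻¹ * x⁻¹ = 1 := by
    obtain ⟨j, hj⟩ := hM ⟨_, h4⟩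
    have hj' : (m * y * m⁻¹ * x⁻¹) ^ 2 ^ j = 1 := by simpa using congrArg Subtype.val hj
    have h7 : (m * y * m⁻¹ * x⁻¹) ^ p ^ k = 1 := by
      rw [← hi]
      have h7 : x ^ i * x⁻¹ = x ^ (i - 1) := by rw [zpow_sub, zpow_one]
      rw [h7, ← zpow_natCast, ← zpow_mul, mul_comm, zpow_mul, zpow_natCast, hx, one_zpow]
    have h8 : orderOf (m * y * m⁻¹ * x⁻¹) ∣ Nat.gcd (2 ^ j) (p ^ k) :=
      Nat.dvd_gcd (orderOf_dvd_of_pow_eq_one hj') (orderOf_dvd_of_pow_eq_one h7)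
    have h9 : Nat.gcd (2 ^ j) (p ^ k) = 1 := Nat.Coprime.pow _ _ h2p
    rw [h9, Nat.dvd_one, orderOf_eq_one_iff] at h8
    exact h8
  refine ⟨m⁻¹, inv_mem hm, ?_⟩
  have h8 : m * y * m⁻¹ = x := by
    rw [mul_inv_eq_one] at h6
    exact h6
  rw [← h8]; group

/-- **(8.4), the case `q ≥ 4`** : if a `p`-element `τ` (`p` odd) normalises `W` and is fixed-point-free on
`U / D`, then `C(W) ≤ W`. Here `C = C(W)` is a 2-group, `U = W ∩ C(V)`, `E = Q_i ∩ Q_j`, and every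
`c ∈ C` is `ε y⁻¹` with `ε ∈ E`, `y ∈ U`. -/
theorem cent_le [Finite G] {p : ℕ} (hp : p.Prime) (hp2 : p ≠ 2) {W U V D E C : Subgroup G} {τ : G} {k : ℕ}
    (hC : ∀ c, c ∈ C ↔ ∀ w ∈ W, c * w = w * c) (hC2 : IsPGroup 2 C)
    (hUW : U ≤ W) (hVD : V ≤ D) (hDW : D ≤ W) (hDE : D ≤ E)
    (hEV : ∀ e ∈ E, ∀ v ∈ V, e * v = v * e) (hEW : ∀ e ∈ E, ∀ w ∈ W, e * w * e⁻¹ ∈ W)
    (hEC : ∀ e ∈ E, e ∈ C → e ∈ W)
    (hτ : τ ^ p ^ k = 1) (hτW : ∀ w ∈ W, τ * w * τ⁻¹ ∈ W)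
    (hτE : ∀ e ∈ E, τ * e * τ⁻¹ * e⁻¹ ∈ V) (hfpf : ∀ u ∈ U, τ * u * τ⁻¹ * u⁻¹ ∈ D → u ∈ D)
    (hy : ∀ c ∈ C, ∃ y ∈ U, c * y ∈ E) : C ≤ W := by
  -- `τ⁻¹` also normalises `W`
  have hτC : ∀ c ∈ C, τ * c * τ⁻¹ ∈ C := by
    intro c hc
    rw [hC] at hc ⊢
    -- `W` is `τ`-invariant, so every `w` is `τ w' τ⁻¹`
    intro w hw
    have hmap : (W.map (MulAut.conj τ).toMonoidHom) = W := by
      refine eq_of_le_of_card_ge ?_
        (Nat.card_congr (W.equivMapOfInjective _ (MulAut.conj τ).injective).toEquiv.symm).ge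
      rintro _ ⟨m, hm, rfl⟩
      exact hτW m hm
    rw [← hmap] at hw
    obtain ⟨w', hw', rfl⟩ := hw
    change τ * c * τ⁻¹ * (τ * w' * τ⁻¹) = τ * w' * τ⁻¹ * (τ * c * τ⁻¹)
    calc τ * c * τ⁻¹ * (τ * w' * τ⁻¹) = τ * (c * w') * τ⁻¹ := by group
      _ = τ * (w' * c) * τ⁻¹ := by rw [hc w' hw']
      _ = _ := by group
  have hcomp : ∀ c ∈ C, ∀ y ∈ U, c * y ∈ E →
      ∃ v ∈ V, τ * c * τ⁻¹ * c⁻¹ = v * ((c * y) * (τ * y⁻¹ * τ⁻¹ * y⁻¹⁻¹) * (c * y)⁻¹) := by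
    intro c hc y hy hE
    refine ⟨_, hτE _ hE, ?_⟩
    group
  have h1 : ∀ c ∈ C, τ * c * τ⁻¹ * c⁻¹ ∈ C ⊓ W := by
    intro c hc
    obtain ⟨y, hyU, hyE⟩ := hy c hc
    obtain ⟨v, hv, e⟩ := hcomp c hc y hyU hyE
    refine ⟨C.mul_mem (hτC c hc) (C.inv_mem hc), ?_⟩
    rw [e]
    refine mul_mem (hDW (hVD hv)) (hEW _ hyE _ ?_)
    exact W.mul_mem (hτW _ (W.inv_mem (hUW hyU))) (W.inv_mem (W.inv_mem (hUW hyU)))
  intro c hc
  -- `c⁻¹ τ c ∈ (C ∩ W) τ`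
  have h2 : c⁻¹ * τ * c * τ⁻¹ ∈ C ⊓ W := by
    -- direct: `c⁻¹ τ c τ⁻¹ = c⁻¹ (τ c τ⁻¹ c⁻¹) c`
    have e2 : c⁻¹ * τ * c * τ⁻¹ = c⁻¹ * (τ * c * τ⁻¹ * c⁻¹) * c := by group
    rw [e2]
    have h4 := h1 c hc
    refine ⟨C.mul_mem (C.mul_mem (C.inv_mem hc) h4.1) hc, ?_⟩
    have h5 := (hC c).1 hc _ h4.2
    have e3 : c⁻¹ * (τ * c * τ⁻¹ * c⁻¹) * c = τ * c * τ⁻¹ * c⁻¹ := by
      rw [mul_assoc, ← h5]; group
    rw [e3]; exact h4.2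
  have hτM : ∀ m ∈ C ⊓ W, τ * m * τ⁻¹ ∈ C ⊓ W := fun m hm => ⟨hτC m hm.1, hτW m hm.2⟩
  have hy' : (c⁻¹ * τ * c) ^ p ^ k = 1 := by
    have e : c⁻¹ * τ * c = c⁻¹ * τ * c⁻¹⁻¹ := by rw [inv_inv]
    rw [e, conj_pow, hτ]; group
  obtain ⟨m, hm, hmτ⟩ := conj_of_same_coset hp hp2 (hC2.to_le inf_le_left) hτ hτM hy' h2
  -- `c m` commutes with `τ`
  have hcm : τ * (c * m) * τ⁻¹ * (c * m)⁻¹ = 1 := by
    have e1 : m * τ = c⁻¹ * τ * c * m := by rw [← hmτ]; group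
    have e2 : (c * m) * τ = τ * (c * m) := by
      calc (c * m) * τ = c * (m * τ) := by group
        _ = c * (c⁻¹ * τ * c * m) := by rw [e1]
        _ = _ := by group
    rw [← e2]; group
  have hcmC : c * m ∈ C := mul_mem hc hm.1
  obtain ⟨y, hyU, hyE⟩ := hy _ hcmC
  obtain ⟨v, hv, e⟩ := hcomp _ hcmC y hyU hyE
  rw [hcm] at e
  -- `τ y⁻¹ τ⁻¹ y ∈ V`
  have h6 : τ * y⁻¹ * τ⁻¹ * y⁻¹⁻¹ ∈ D := by
    have h7 : τ * y⁻¹ * τ⁻¹ * y⁻¹⁻¹ = (c * m * y)⁻¹ * v⁻¹ * (c * m * y) := by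
      have h8 : (c * m * y) * (τ * y⁻¹ * τ⁻¹ * y⁻¹⁻¹) * (c * m * y)⁻¹ = v⁻¹ := by
        rw [eq_inv_iff_mul_eq_one]
        have := congrArg (fun w => v⁻¹ * w * v) e
        simp only [mul_one, inv_mul_cancel] at this
        rw [this]; group
      rw [← h8]; group
    have h9 := hEV _ hyE _ (inv_mem hv)
    rw [h7, mul_assoc, ← h9]
    have e4 : (c * m * y)⁻¹ * (c * m * y * v⁻¹) = v⁻¹ := by group
    rw [e4]
    exact hVD (inv_mem hv)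
  have hyD : y ∈ D := by
    have := hfpf y⁻¹ (inv_mem hyU) h6
    simpa using inv_mem this
  have hcmE : c * m ∈ E := by
    have e5 : c * m = (c * m * y) * y⁻¹ := by group
    rw [e5]
    exact mul_mem hyE (inv_mem (hDE hyD))
  have hcmW : c * m ∈ W := hEC _ hcmE hcmC
  have e6 : c = (c * m) * m⁻¹ := by group
  rw [e6]
  exact mul_mem hcmW (inv_mem hm.2)

end Cfsg.Agent.Omega.BTwo.RadAbs
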