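import Cfsg.Agent.Omega.BTwo.Cen
import Cfsg.Agent.Omega.BTwo.RadAbs

/-!
# #11043 (8.4): `Q i ∩ C(V) = (Q_1 ∩ Q_2) U i`, and the end of the case `q ≥ 4`: `C(W i) ≤ W i`
-/

set_option autoImplicit false

namespace Cfsg.Agent.Omega.BTwo

open Subgroup

variable {G : Type*} [Group G] {ι : Type*} {V : Subgroup G} {R : ι → Subgroup G}

section

variable (b : BT V R)
include b

/-- `[Q i ∩ C(V), U j] ≤ D` -/
theorem BT.QcU {i j : ι} {c u : G} (hc : c ∈ QQ (R i)) (hcV : c ∈ centralizer (V : Set G))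
    (hu : u ∈ UU V R j) : c * u * c⁻¹ * u⁻¹ ∈ DD V R := by
  by_cases hij : i = j
  · subst hij
    exact V_le_D V R (b.R_le i (b.WQ i hc (UU_le_WW i hu)))
  rw [← b.UK hij]
  refine mem_inf.2 ⟨mul_mem (conj_mem_of_normalizer (b.cen_le_NU j hcV) hu) (inv_mem hu), ?_⟩
  have e : c * u * c⁻¹ * u⁻¹ = c * (u * c⁻¹ * u⁻¹) := by group
  rw [e]
  exact mul_mem (b.Q_le_K i hc) (conj_mem_of_normalizer (b.N_le_NK i (b.cen_le_N i (UU_le_cen j hu)))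
    (inv_mem (b.Q_le_K i hc)))

/-- `[Q i ∩ C(V), W j] ≤ U j` -/
theorem BT.QcW {j : ι} {c w : G} (hcV : c ∈ centralizer (V : Set G))
    (hw : w ∈ WW V (R j)) : w * c * w⁻¹ * c⁻¹ ∈ UU V R j := by
  refine mem_inf.2 ⟨?_, ?_⟩
  · have e : w * c * w⁻¹ * c⁻¹ = w * (c * w⁻¹ * c⁻¹) := by group
    rw [e]
    exact mul_mem hw (conj_mem_of_normalizer (b.cen_le_NW j hcV) (inv_mem hw))
  · exact mul_mem (conj_mem_of_normalizer
      (normalizer_le_normalizer_centralizer V (b.W_le_NV j hw)) hcV) (inv_mem hcV)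

/-- an element of `W j` moving `R i` -/
theorem BT.exists_mover {i j : ι} (hij : i ≠ j) : ∃ v ∈ WW V (R j), v ∉ UU V R j := by
  obtain ⟨k, hkj, hki⟩ := b.third j i
  obtain ⟨v0, hv0, e0⟩ := b.trans j hij hkj
  refine ⟨v0, hv0, fun h => ?_⟩
  have h2 := b.cen_le_N i (UU_le_cen j h)
  rw [← cj_eq_self_iff, e0] at h2
  exact hki (b.R_index h2)

/-- **(8.4)**: `Q i ∩ C(V) = (Q_1 ∩ Q_2) U i` -/
theorem BT.exists_eps [Finite G] {i : ι} {c : G} (hc : c ∈ QQ (R i))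
    (hcV : c ∈ centralizer (V : Set G)) : ∃ y ∈ UU V R i, c * y ∈ CC R := by
  obtain ⟨j, hj, -⟩ := b.third i i
  have hij : i ≠ j := Ne.symm hj
  obtain ⟨v, hv, hv'⟩ := b.exists_mover hij
  have hcND := b.NV_le_ND (cen_le_NV V hcV)
  have hu : c⁻¹ * (v * c * v⁻¹ * c⁻¹)⁻¹ * c ∈ UU V R j := by
    have h1 := conj_mem_of_normalizer (inv_mem (b.cen_le_NU j hcV)) (inv_mem (b.QcW hcV hv))
    rwa [inv_inv] at h1
  obtain ⟨y, hy, hyD⟩ := b.surj hij hv hv' hu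
  refine ⟨y, hy, ?_⟩
  rw [b.C_eq hij]
  have hcy : c * y ∈ QQ (R i) := mul_mem hc (b.W_le_Q i (UU_le_WW i hy))
  refine mem_inf.2 ⟨hcy, ?_⟩
  -- `[v, c y] ∈ D`
  have h1 : v * (c * y) * v⁻¹ * (c * y)⁻¹ ∈ DD V R := by
    have e : v * (c * y) * v⁻¹ * (c * y)⁻¹ = c *
        ((v * y * v⁻¹ * y⁻¹)⁻¹ * (c⁻¹ * (v * c * v⁻¹ * c⁻¹)⁻¹ * c))⁻¹ * c⁻¹ := by
      group
    rw [e]
    exact conj_mem_of_normalizer hcND (inv_mem hyD)
  -- an element of `W i` moving the new point to `R j`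
  obtain ⟨k, hki, hkj, hk⟩ := b.moves hij hv hv'
  obtain ⟨v', hv', e'⟩ := b.trans i hki hj
  have hn : cj (v' * v) (R i) = R j := by rw [cj_mul, hk, e']
  have h2 : v' * v * (c * y) * (v' * v)⁻¹ ∈ QQ (R j) := by
    rw [← b.cj_QQ hn]
    exact conj_mem_cj hcy
  have h3 : v' * (c * y) * v'⁻¹ * (c * y)⁻¹ ∈ R i := by
    have h4 := b.WQ i hcy hv'
    have e : v' * (c * y) * v'⁻¹ * (c * y)⁻¹ = ((c * y) * v' * (c * y)⁻¹ * v'⁻¹)⁻¹ := by group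
    rw [e]
    exact inv_mem h4
  have h4 : c * y = ((v' * (v * (c * y) * v⁻¹ * (c * y)⁻¹) * v'⁻¹) *
      (v' * (c * y) * v'⁻¹ * (c * y)⁻¹))⁻¹ * (v' * v * (c * y) * (v' * v)⁻¹) := by group
  rw [h4]
  have hDQ : ∀ d ∈ DD V R, d ∈ QQ (R j) := fun d hd => b.W_le_Q j (D_le_W V R j hd)
  refine mul_mem (inv_mem (mul_mem (hDQ _ ?_) (b.V_Q j (b.R_le i h3)))) h2
  exact conj_mem_of_normalizer (b.NV_le_ND (b.W_le_NV i hv')) h1

/-- `Q i = (Q_1 ∩ Q_2) W i` -/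
theorem BT.exists_eps_W [Finite G] {i : ι} {x : G} (hx : x ∈ QQ (R i)) :
    ∃ w ∈ WW V (R i), x * w ∈ CC R := by
  obtain ⟨h, hh, H⟩ := b.mt i
  obtain ⟨v, hv, hc⟩ := b.Q_fact (fun j k hj hk => (H j k hj hk).1) hh hx
  have hw0 : h * v * h⁻¹ ∈ WW V (R i) := cj_le_WW hh (conj_mem_cj hv)
  set w0 := h * v * h⁻¹
  obtain ⟨y, hy, he⟩ := b.exists_eps (mul_mem (inv_mem (b.W_le_Q i hw0)) hx) hc
  set e := w0⁻¹ * x * y with hedef
  have heN : e ∈ normalizer (WW V (R i) : Set G) :=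
    normalizer_le_WW V (R i) (b.Q_le i (mem_iInf.1 he i))
  have h1 := conj_inv_mem_of_normalizer heN hw0
  refine ⟨((e⁻¹ * w0 * e) * y⁻¹)⁻¹, inv_mem (mul_mem h1 (inv_mem (UU_le_WW i hy))), ?_⟩
  have e2 : x * ((e⁻¹ * w0 * e) * y⁻¹)⁻¹ = e := by rw [hedef]; group
  rw [e2]
  exact he

/-- `X ∩ N(R i)` is trivial on `Q i / W i` -/
theorem BT.XQ [Finite G] {i : ι} {t x : G} (ht : t ∈ XX V R) (htR : t ∈ normalizer (R i : Set G))
    (hx : x ∈ QQ (R i)) : t * x * t⁻¹ * x⁻¹ ∈ WW V (R i) := by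
  obtain ⟨w, hw, he⟩ := b.exists_eps_W hx
  have h1 := V_le_WW V (R i) (b.CX ht he)
  have htW := normalizer_le_WW V (R i) htR
  have hxW := normalizer_le_WW V (R i) (b.Q_le i hx)
  have h2 : x * (w * (t * w⁻¹ * t⁻¹)) * x⁻¹ ∈ WW V (R i) :=
    conj_mem_of_normalizer hxW (mul_mem hw (conj_mem_of_normalizer htW (inv_mem hw)))
  have e : t * x * t⁻¹ * x⁻¹ = (t * (x * w) * t⁻¹ * (x * w)⁻¹) * (x * (w * (t * w⁻¹ * t⁻¹)) * x⁻¹) := by
    group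
  rw [e]
  exact mul_mem h1 h2

/-- `Q_1 ∩ Q_2` centralises `V` -/
theorem BT.C_le_cen : CC R ≤ centralizer (V : Set G) := by
  intro e he
  obtain ⟨i, j, hij⟩ := b.exists_pair
  have hi := mem_iInf.1 he i
  have hj := mem_iInf.1 he j
  rw [← b.R_sup i j hij]
  exact mem_cen_sup (mem_centralizer_iff.2 fun a ha => (b.QR i e hi a ha).symm)
    (mem_centralizer_iff.2 fun a ha => (b.QR j e hj a ha).symm)

end

section

variable (b : BTC V R)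
include b

/-- **(8.4), the case `q ≥ 4`** : an element of `X ∩ N(R i)` of order a power of an odd prime,
fixed-point-free on `U i / D`, forces `C(W i) ≤ W i`. -/
theorem BTC.cen_W_le_W [Finite G] {p : ℕ} (hp : p.Prime) (hp2 : p ≠ 2) {i : ι} {τ : G} {k : ℕ}
    (hτX : τ ∈ XX V R) (hτR : τ ∈ normalizer (R i : Set G)) (hτ : τ ^ p ^ k = 1)
    (hfpf : ∀ u ∈ UU V R i, τ * u * τ⁻¹ * u⁻¹ ∈ DD V R → u ∈ DD V R) :
    centralizer (WW V (R i) : Set G) ≤ WW V (R i) := by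
  refine RadAbs.cent_le (U := UU V R i) (V := V) (D := DD V R) (E := CC R) hp hp2 (fun c => ?_)
    (b.cen_W_isPGroup i) (UU_le_WW i) (V_le_D V R) (D_le_W V R i) b.D_le_C ?_ ?_ ?_ hτ ?_
    (fun e he => b.CX hτX he) hfpf ?_
  · rw [mem_centralizer_iff]
    exact ⟨fun h w hw => (h w hw).symm, fun h w hw => (h w hw).symm⟩
  · exact fun e he v hv => (mem_centralizer_iff.1 (b.C_le_cen he) v hv).symm
  · exact fun e he w hw =>
      conj_mem_of_normalizer (normalizer_le_WW V (R i) (b.Q_le i (mem_iInf.1 he i))) hw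
  · exact fun e he hec => V_le_WW V (R i) (b.R_le i (b.cen_CW he hec))
  · exact fun w hw => conj_mem_of_normalizer (normalizer_le_WW V (R i) hτR) hw
  · exact fun c hc => b.exists_eps (b.cen_W_le_Q i hc) (cen_W_le V (R i) hc)

end

end Cfsg.Agent.Omega.BTwo
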