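import Cfsg.Agent.Omega.BTwo.Rad
import Cfsg.Agent.Omega.BTwo.Coord

/-!
# #11043 (8.4), `q ≥ 4`: `C(W i) ≤ W i`
-/

set_option autoImplicit false

namespace Cfsg.Agent.Omega.BTwo

open Subgroup

universe u v w

variable {G : Type u} [Group G] {ι : Type w}

namespace YMod

variable {F : Type v} [Field F] {D U1 U2 : Subgroup G} {w1 w2 : F → G} {M : Type u} [AddCommGroup M]
  [Module F M] {p1 p2 : G → M}

theorem p1_one (y : YMod D U1 U2 w1 w2 M p1 p2) : p1 1 = 0 := by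
  have := y.mul1 1 (one_mem _) 1 (one_mem _)
  rw [mul_one] at this
  exact left_eq_add.1 this

theorem p1_inv (y : YMod D U1 U2 w1 w2 M p1 p2) {x : G} (hx : x ∈ U1) : p1 x⁻¹ = - p1 x := by
  have := y.mul1 x hx x⁻¹ (inv_mem hx)
  rw [mul_inv_cancel, y.p1_one] at this
  exact (neg_eq_of_add_eq_zero_right this.symm).symm

theorem symm (y : YMod D U1 U2 w1 w2 M p1 p2) : YMod D U2 U1 w2 w1 M p2 p1 where
  mul1 := y.mul2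
  mul2 := y.mul1
  ker1 := y.ker2
  ker2 := y.ker1
  surj1 := y.surj2
  surj2 := y.surj1
  act12 := y.act21
  act21 := y.act12

end YMod

namespace Coord

variable {V : Subgroup G} {R : ι → Subgroup G} {i j : ι} {F : Type v} [Field F]
  {v : F → F → G} {w1 w2 : F → G} {M : Type u} [AddCommGroup M] [Module F M] {p1 p2 : G → M}

theorem aux_ker (b : BT V R) (y : YMod (DD V R) (UU V R i) (UU V R j) w1 w2 M p1 p2) {x x' : G}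
    (hx : x ∈ UU V R i) (hx' : x' ∈ UU V R i) (h : x * x'⁻¹ ∈ DD V R) : p1 x = p1 x' := by
  have h1 := (y.ker1 _ (b.D_le_U i h)).2 h
  rw [y.mul1 x hx _ (inv_mem hx'), y.p1_inv hx', ← sub_eq_add_neg, sub_eq_zero] at h1
  exact h1

/-- the action of `n(a)` on `U j / D`, `p1 (n(a) x n(a)⁻¹) = a • p2 x` -/
theorem nn_p1 [CharP F 2] (c : Coord V R i j v w1 w2) (b : BT V R)
    (y : YMod (DD V R) (UU V R i) (UU V R j) w1 w2 M p1 p2) {a : F} (ha : a ≠ 0) {x : G}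
    (hx : x ∈ UU V R j) : p1 (nn w1 w2 a * x * (nn w1 w2 a)⁻¹) = a • p2 x := by
  have hD : ∀ g ∈ normalizer (V : Set G), ∀ d ∈ DD V R, g * d * g⁻¹ ∈ DD V R :=
    fun g hg d hd => conj_mem_of_normalizer (b.NV_le_ND hg) hd
  have hUD : ∀ k, ∀ u ∈ UU V R k, ∀ d ∈ DD V R, u * d * u⁻¹ ∈ DD V R :=
    fun k u hu d hd => hD u (cen_le_NV V (UU_le_cen k hu)) d hd
  -- `z = [w1 a, x]`
  set z := w1 a * x * (w1 a)⁻¹ * x⁻¹ with hz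
  have hzU : z ∈ UU V R i := b.WU' (c.w1_mem a) hx
  have hzp : p1 z = a • p2 x := y.act12 a x hx
  set z2 := w2 a⁻¹ * z * (w2 a⁻¹)⁻¹ * z⁻¹ with hz2
  have hz2U : z2 ∈ UU V R j := b.WU' (c.w2_mem _) hzU
  have hz2p : p2 z2 = p2 x := by
    have h1 : p2 z2 = a⁻¹ • p1 z := y.act21 a⁻¹ z hzU
    rw [h1, hzp, smul_smul, inv_mul_cancel₀ ha, one_smul]
  have hd1 : w2 a⁻¹ * x * (w2 a⁻¹)⁻¹ * x⁻¹ ∈ DD V R :=
    V_le_D V R (b.R_le j (b.WU (c.w2_mem a⁻¹) hx))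
  set d1 := w2 a⁻¹ * x * (w2 a⁻¹)⁻¹ * x⁻¹ with hd1'
  -- `z2 x ∈ D`
  have h2 : z2 * x ∈ DD V R := by
    rw [← y.ker2 _ (mul_mem hz2U hx), y.mul2 _ hz2U _ hx, hz2p, ← two_smul F, CharTwo.two_eq_zero,
      zero_smul]
  have hw1N := b.W_le_NV i (c.w1_mem a)
  have hd2 : w1 a * z * (w1 a)⁻¹ * z⁻¹ ∈ DD V R :=
    V_le_D V R (b.R_le i (b.WU (c.w1_mem a) hzU))
  have e1 : w1 a * x * (w1 a)⁻¹ = z * x := by rw [hz]; group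
  have e2 : w2 a⁻¹ * z * (w2 a⁻¹)⁻¹ = z2 * z := by rw [hz2]; group
  have e3 : w2 a⁻¹ * x * (w2 a⁻¹)⁻¹ = d1 * x := by rw [hd1']; group
  have e : nn w1 w2 a * x * (nn w1 w2 a)⁻¹ * z⁻¹ =
      (w1 a * (z2 * (z * d1 * z⁻¹) * z2⁻¹ * ((z2 * z * z2⁻¹ * z⁻¹) * (z * (z2 * x) * z⁻¹))) * (w1 a)⁻¹) *
        (w1 a * z * (w1 a)⁻¹ * z⁻¹) := by
    calc nn w1 w2 a * x * (nn w1 w2 a)⁻¹ * z⁻¹
        = w1 a * (w2 a⁻¹ * (w1 a * x * (w1 a)⁻¹) * (w2 a⁻¹)⁻¹) * (w1 a)⁻¹ * z⁻¹ := by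
          unfold nn; group
      _ = w1 a * ((w2 a⁻¹ * z * (w2 a⁻¹)⁻¹) * (w2 a⁻¹ * x * (w2 a⁻¹)⁻¹)) * (w1 a)⁻¹ * z⁻¹ := by
          rw [e1]; group
      _ = w1 a * ((z2 * z) * (d1 * x)) * (w1 a)⁻¹ * z⁻¹ := by rw [e2, e3]
      _ = _ := by group
  have h3 : nn w1 w2 a * x * (nn w1 w2 a)⁻¹ * z⁻¹ ∈ DD V R := by
    rw [e]
    refine mul_mem (hD _ hw1N _ (mul_mem (hUD j _ hz2U _ (hUD i _ hzU _ hd1)) (mul_mem ?_ ?_))) hd2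
    · exact b.UU_comm c.ne.symm hz2U hzU
    · exact hUD i _ hzU _ h2
  have h4 : nn w1 w2 a * x * (nn w1 w2 a)⁻¹ ∈ UU V R i := by
    have h5 := mul_mem (b.D_le_U i h3) hzU
    have e4 : nn w1 w2 a * x * (nn w1 w2 a)⁻¹ * z⁻¹ * z = nn w1 w2 a * x * (nn w1 w2 a)⁻¹ := by group
    rwa [e4] at h5
  rw [aux_ker b y h4 hzU h3, hzp]

/-- the action of `n(a)` on `U i / D`, `p2 (n(a) x n(a)⁻¹) = a⁻¹ • p1 x` -/
theorem nn_p2 [CharP F 2] (c : Coord V R i j v w1 w2) (b : BT V R)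
    (y : YMod (DD V R) (UU V R i) (UU V R j) w1 w2 M p1 p2) {a : F} (ha : a ≠ 0) {x : G}
    (hx : x ∈ UU V R i) : p2 (nn w1 w2 a * x * (nn w1 w2 a)⁻¹) = a⁻¹ • p1 x := by
  have hD : ∀ g ∈ normalizer (V : Set G), ∀ d ∈ DD V R, g * d * g⁻¹ ∈ DD V R :=
    fun g hg d hd => conj_mem_of_normalizer (b.NV_le_ND hg) hd
  have hUD : ∀ k, ∀ u ∈ UU V R k, ∀ d ∈ DD V R, u * d * u⁻¹ ∈ DD V R :=
    fun k u hu d hd => hD u (cen_le_NV V (UU_le_cen k hu)) d hd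
  have hw1N := b.W_le_NV i (c.w1_mem a)
  have hw2N := b.W_le_NV j (c.w2_mem a⁻¹)
  have hd0 : w1 a * x * (w1 a)⁻¹ * x⁻¹ ∈ DD V R := V_le_D V R (b.R_le i (b.WU (c.w1_mem a) hx))
  set d0 := w1 a * x * (w1 a)⁻¹ * x⁻¹ with hd0'
  set z := w2 a⁻¹ * x * (w2 a⁻¹)⁻¹ * x⁻¹ with hz
  have hzU : z ∈ UU V R j := b.WU' (c.w2_mem a⁻¹) hx
  have hzp : p2 z = a⁻¹ • p1 x := y.act21 a⁻¹ x hx
  set z2 := w1 a * z * (w1 a)⁻¹ * z⁻¹ with hz2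
  have hz2U : z2 ∈ UU V R i := b.WU' (c.w1_mem _) hzU
  have hz2p : p1 z2 = p1 x := by
    have h1 : p1 z2 = a • p2 z := y.act12 a z hzU
    rw [h1, hzp, smul_smul, mul_inv_cancel₀ ha, one_smul]
  -- `z2 x ∈ D`
  have h2 : z2 * x ∈ DD V R := by
    rw [← y.ker1 _ (mul_mem hz2U hx), y.mul1 _ hz2U _ hx, hz2p, ← two_smul F, CharTwo.two_eq_zero,
      zero_smul]
  have e1 : w1 a * x * (w1 a)⁻¹ = d0 * x := by rw [hd0']; group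
  have e2 : w2 a⁻¹ * x * (w2 a⁻¹)⁻¹ = z * x := by rw [hz]; group
  have e3 : w1 a * z * (w1 a)⁻¹ = z2 * z := by rw [hz2]; group
  have e : nn w1 w2 a * x * (nn w1 w2 a)⁻¹ * z⁻¹ =
      (w1 a * (w2 a⁻¹ * d0 * (w2 a⁻¹)⁻¹) * (w1 a)⁻¹) * ((z2 * (z * d0 * z⁻¹) * z2⁻¹) * ((z2 * x) *
        (x⁻¹ * z * x⁻¹⁻¹ * z⁻¹))) := by
    calc nn w1 w2 a * x * (nn w1 w2 a)⁻¹ * z⁻¹
        = w1 a * (w2 a⁻¹ * (w1 a * x * (w1 a)⁻¹) * (w2 a⁻¹)⁻¹) * (w1 a)⁻¹ * z⁻¹ := by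
          unfold nn; group
      _ = w1 a * ((w2 a⁻¹ * d0 * (w2 a⁻¹)⁻¹) * (w2 a⁻¹ * x * (w2 a⁻¹)⁻¹)) * (w1 a)⁻¹ * z⁻¹ := by
          rw [e1]; group
      _ = (w1 a * (w2 a⁻¹ * d0 * (w2 a⁻¹)⁻¹) * (w1 a)⁻¹) * ((w1 a * z * (w1 a)⁻¹) *
            (w1 a * x * (w1 a)⁻¹)) * z⁻¹ := by rw [e2]; group
      _ = (w1 a * (w2 a⁻¹ * d0 * (w2 a⁻¹)⁻¹) * (w1 a)⁻¹) * ((z2 * z) * (d0 * x)) * z⁻¹ := by
          rw [e3, e1]
      _ = _ := by group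
  have h3 : nn w1 w2 a * x * (nn w1 w2 a)⁻¹ * z⁻¹ ∈ DD V R := by
    rw [e]
    refine mul_mem (hD _ hw1N _ (hD _ hw2N _ hd0)) (mul_mem (hUD i _ hz2U _ (hUD j _ hzU _ hd0))
      (mul_mem h2 ?_))
    exact b.UU_comm c.ne (inv_mem hx) hzU
  have h4 : nn w1 w2 a * x * (nn w1 w2 a)⁻¹ ∈ UU V R j := by
    have h5 := mul_mem (b.D_le_U j h3) hzU
    have e4 : nn w1 w2 a * x * (nn w1 w2 a)⁻¹ * z⁻¹ * z = nn w1 w2 a * x * (nn w1 w2 a)⁻¹ := by group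
    rwa [e4] at h5
  have h6 := aux_ker b y.symm h4 hzU h3
  rw [h6, hzp]

/-- **the torus** `h(a)` acts on `U i / D` as the scalar `a` -/
theorem hh_p1 [CharP F 2] (c : Coord V R i j v w1 w2) (b : BT V R)
    (y : YMod (DD V R) (UU V R i) (UU V R j) w1 w2 M p1 p2) {a : F} (ha : a ≠ 0) {x : G}
    (hx : x ∈ UU V R i) : hh w1 w2 a * x * (hh w1 w2 a)⁻¹ ∈ UU V R i ∧
      p1 (hh w1 w2 a * x * (hh w1 w2 a)⁻¹) = a • p1 x := by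
  have h1 : nn w1 w2 1 * x * (nn w1 w2 1)⁻¹ ∈ UU V R j := by
    rw [← b.cj_UU (b.X_le_NV (c.nn_mem_X b 1)) (c.nn_R1 b one_ne_zero)]
    exact conj_mem_cj hx
  have h2 : nn w1 w2 a * (nn w1 w2 1 * x * (nn w1 w2 1)⁻¹) * (nn w1 w2 a)⁻¹ ∈ UU V R i := by
    rw [← b.cj_UU (b.X_le_NV (c.nn_mem_X b a)) (c.nn_R2 b ha)]
    exact conj_mem_cj h1
  have e : hh w1 w2 a * x * (hh w1 w2 a)⁻¹ =
      nn w1 w2 a * (nn w1 w2 1 * x * (nn w1 w2 1)⁻¹) * (nn w1 w2 a)⁻¹ := by unfold hh; group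
  rw [e]
  refine ⟨h2, ?_⟩
  rw [c.nn_p1 b y ha h1, c.nn_p2 b y one_ne_zero hx, inv_one, one_smul]

theorem hh_pow_p1 [CharP F 2] (c : Coord V R i j v w1 w2) (b : BT V R)
    (y : YMod (DD V R) (UU V R i) (UU V R j) w1 w2 M p1 p2) {a : F} (ha : a ≠ 0) {x : G}
    (hx : x ∈ UU V R i) (n : ℕ) : hh w1 w2 a ^ n * x * (hh w1 w2 a ^ n)⁻¹ ∈ UU V R i ∧
      p1 (hh w1 w2 a ^ n * x * (hh w1 w2 a ^ n)⁻¹) = a ^ n • p1 x := by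
  induction n with
  | zero =>
    have e : hh w1 w2 a ^ 0 * x * (hh w1 w2 a ^ 0)⁻¹ = x := by simp
    rw [e, pow_zero, one_smul]
    exact ⟨hx, rfl⟩
  | succ n ih =>
    obtain ⟨h1, h2⟩ := ih
    obtain ⟨h3, h4⟩ := c.hh_p1 b y ha h1
    have e : hh w1 w2 a ^ (n + 1) * x * (hh w1 w2 a ^ (n + 1))⁻¹ =
        hh w1 w2 a * (hh w1 w2 a ^ n * x * (hh w1 w2 a ^ n)⁻¹) * (hh w1 w2 a)⁻¹ := by
      rw [pow_succ']; group
    rw [e]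
    refine ⟨h3, ?_⟩
    rw [h4, h2, smul_smul, pow_succ']

/-- a torus element of odd prime power order, fixed-point-free on `U i / D` -/
theorem exists_tau [Finite G] [Finite F] [CharP F 2] (c : Coord V R i j v w1 w2) (b : BT V R)
    (hF : ∃ a : F, a ≠ 0 ∧ a ≠ 1) : ∃ (p : ℕ) (τ : G) (k : ℕ), p.Prime ∧ p ≠ 2 ∧ τ ^ p ^ k = 1 ∧
      τ ∈ XX V R ∧ τ ∈ normalizer (R i : Set G) ∧ τ ∈ normalizer (R j : Set G) ∧
      ∀ u ∈ UU V R i, τ * u * τ⁻¹ * u⁻¹ ∈ DD V R → u ∈ DD V R := by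
  obtain ⟨M, _, _, p1, p2, y⟩ := c.exists_yMod b
  obtain ⟨a0, ha0, ha1⟩ := hF
  set u0 : Fˣ := Units.mk0 a0 ha0 with hu0
  have hu1 : u0 ≠ 1 := fun h => ha1 (congrArg Units.val h)
  obtain ⟨p, hp, hpd⟩ := Nat.exists_prime_and_dvd (n := Nat.card Fˣ) (by
    intro h
    rw [Nat.card_eq_one_iff_unique] at h
    exact hu1 (h.1.elim _ _))
  haveI : Fact p.Prime := ⟨hp⟩
  haveI := Fintype.ofFinite F
  classical
  have hodd : ¬ 2 ∣ Nat.card Fˣ := by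
    intro h2
    haveI : Fact (Nat.Prime 2) := ⟨Nat.prime_two⟩
    obtain ⟨t, ht⟩ := exists_prime_orderOf_dvd_card' (G := Fˣ) 2 h2
    have h3 : t ^ 2 = 1 := by rw [← ht]; exact pow_orderOf_eq_one t
    have h4 : ((t : F) - 1) ^ 2 = 0 := by
      have h5 : (t : F) ^ 2 = 1 := by
        rw [← Units.val_pow_eq_pow_val, h3, Units.val_one]
      rw [CharTwo.sub_eq_add, CharTwo.add_sq, h5, one_pow, CharTwo.add_self_eq_zero]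
    have h6 : t = 1 := Units.ext (sub_eq_zero.1 (pow_eq_zero_iff two_ne_zero |>.1 h4))
    rw [h6, orderOf_one] at ht
    omega
  have hp2 : p ≠ 2 := by
    rintro rfl
    exact hodd hpd
  obtain ⟨a, ha⟩ := exists_prime_orderOf_dvd_card' (G := Fˣ) p hpd
  set h := hh w1 w2 (a : F) with hh'
  obtain ⟨k, s, hs, hks⟩ := Nat.exists_eq_pow_mul_and_not_dvd (orderOf_pos h).ne' p hp.ne_one
  refine ⟨p, h ^ s, k, hp, hp2, ?_, ?_, ?_, ?_, ?_⟩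
  · rw [← pow_mul, mul_comm, ← hks, pow_orderOf_eq_one]
  · exact pow_mem (c.hh_mem_X b _) _
  · exact pow_mem (cj_eq_self_iff.1 (c.hh_R1 b a.ne_zero)) _
  · exact pow_mem (cj_eq_self_iff.1 (c.hh_R2 b a.ne_zero)) _
  · intro u hu hD
    obtain ⟨h1, h2⟩ := c.hh_pow_p1 b y a.ne_zero hu s
    rw [← hh'] at h1 h2
    have h3 := aux_ker b y h1 hu hD
    rw [h2] at h3
    have h4 : ((a : F) ^ s - 1) • p1 u = 0 := by rw [sub_smul, one_smul, h3, sub_self]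
    rcases smul_eq_zero.1 h4 with h5 | h5
    · exfalso
      apply hs
      rw [← ha]
      apply orderOf_dvd_of_pow_eq_one
      apply Units.ext
      rw [Units.val_pow_eq_pow_val, Units.val_one]
      exact sub_eq_zero.1 h5
    · exact (y.ker1 u hu).1 h5

end Coord

/-- **(8.4), `q ≥ 4`**: `C(W i) ≤ W i` -/
theorem BTC.cen_W_le_W_of_coord {V : Subgroup G} {R : ι → Subgroup G} {i j : ι} {F : Type v} [Field F]
    {v : F → F → G} {w1 w2 : F → G} [Finite G] [Finite F] [CharP F 2] (b : BTC V R)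
    (c : Coord V R i j v w1 w2) (hF : ∃ a : F, a ≠ 0 ∧ a ≠ 1) :
    centralizer (WW V (R i) : Set G) ≤ WW V (R i) := by
  obtain ⟨p, τ, k, hp, hp2, hτ, hX, hR, -, hf⟩ := c.exists_tau b.toBT hF
  exact b.cen_W_le_W hp hp2 hX hR hτ hf

end Cfsg.Agent.Omega.BTwo
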