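import Cfsg.Agent.Omega.BTwo.Coord

/-!
# SQ3, `b = 2`: the action of `w1 a`, `w2 a`, `nn a`, `hh a` on `Y / D = N ⊗ M`

`Rep y m n` : `y = x1 x2`, `x1 ∈ U i`, `x2 ∈ U j`, `p1 x1 = m`, `p2 x2 = n`.
`hh_p1 : p1 (h(a) x h(a)⁻¹) = a • p1 x`, `hh_p2 : p2 (h(a) x h(a)⁻¹) = a⁻¹ • p2 x`,
`nn_p1 : p2 (n(a) x n(a)⁻¹) = a⁻¹ • p1 x`, `nn_p2 : p1 (n(a) x n(a)⁻¹) = a • p2 x`.
-/

set_option autoImplicit false
set_option linter.unusedSectionVars false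

namespace Cfsg.Agent.Omega.BTwo

open Subgroup

universe u v w

variable {G : Type u} [Group G] {ι : Type w} {V : Subgroup G} {R : ι → Subgroup G} {i j : ι} {F : Type v}
  [Field F] {v : F → F → G} {w1 w2 : F → G} {M : Type u} [AddCommGroup M] [Module F M] {p1 p2 : G → M}

/-- `y = x1 x2` with coordinates `m, n` -/
def Rep (V : Subgroup G) (R : ι → Subgroup G) (i j : ι) (p1 p2 : G → M) (y : G) (m n : M) : Prop :=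
  ∃ x1 ∈ UU V R i, ∃ x2 ∈ UU V R j, y = x1 * x2 ∧ p1 x1 = m ∧ p2 x2 = n

namespace YMod

variable (y : YMod (DD V R) (UU V R i) (UU V R j) w1 w2 M p1 p2)
include y

theorem p1_one' : p1 1 = 0 := (y.ker1 1 (one_mem _)).2 (one_mem _)

theorem p2_one : p2 1 = 0 := (y.ker2 1 (one_mem _)).2 (one_mem _)

theorem p1_inv' {x : G} (hx : x ∈ UU V R i) : p1 x⁻¹ = - p1 x := by
  have h := y.mul1 x hx x⁻¹ (inv_mem hx)
  rw [mul_inv_cancel, y.p1_one'] at h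
  exact (neg_eq_of_add_eq_zero_right h.symm).symm

theorem p2_inv {x : G} (hx : x ∈ UU V R j) : p2 x⁻¹ = - p2 x := by
  have h := y.mul2 x hx x⁻¹ (inv_mem hx)
  rw [mul_inv_cancel, y.p2_one] at h
  exact (neg_eq_of_add_eq_zero_right h.symm).symm

theorem p1_D_mul {d x : G} (hd : d ∈ DD V R) (hD : d ∈ UU V R i) (hx : x ∈ UU V R i) :
    p1 (d * x) = p1 x := by
  rw [y.mul1 d hD x hx, (y.ker1 d hD).2 hd, zero_add]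

theorem p2_D_mul {d x : G} (hd : d ∈ DD V R) (hD : d ∈ UU V R j) (hx : x ∈ UU V R j) :
    p2 (d * x) = p2 x := by
  rw [y.mul2 d hD x hx, (y.ker2 d hD).2 hd, zero_add]

theorem p1_eq_iff {x x' : G} (hx : x ∈ UU V R i) (hx' : x' ∈ UU V R i) :
    p1 x = p1 x' ↔ x'⁻¹ * x ∈ DD V R := by
  rw [← y.ker1 _ (mul_mem (inv_mem hx') hx), y.mul1 _ (inv_mem hx') _ hx, y.p1_inv' hx', neg_add_eq_zero]
  exact eq_comm

theorem p2_eq_iff {x x' : G} (hx : x ∈ UU V R j) (hx' : x' ∈ UU V R j) :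
    p2 x = p2 x' ↔ x'⁻¹ * x ∈ DD V R := by
  rw [← y.ker2 _ (mul_mem (inv_mem hx') hx), y.mul2 _ (inv_mem hx') _ hx, y.p2_inv hx', neg_add_eq_zero]
  exact eq_comm

variable (b : BT V R) (c : Coord V R i j v w1 w2)
include b c

theorem rep_unique {g : G} {m n m' n' : M} (h : Rep V R i j p1 p2 g m n) (h' : Rep V R i j p1 p2 g m' n') :
    m = m' ∧ n = n' := by
  obtain ⟨x1, hx1, x2, hx2, e, rfl, rfl⟩ := h
  obtain ⟨z1, hz1, z2, hz2, e', rfl, rfl⟩ := h'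
  have h1 : z1⁻¹ * x1 = z2 * x2⁻¹ := by
    have : x1 * x2 = z1 * z2 := e.symm.trans e'
    calc z1⁻¹ * x1 = z1⁻¹ * (x1 * x2) * x2⁻¹ := by group
      _ = z2 * x2⁻¹ := by rw [this]; group
  have hD : z1⁻¹ * x1 ∈ DD V R := by
    have k1 : z1⁻¹ * x1 ∈ UU V R i := mul_mem (inv_mem hz1) hx1
    have k2 : z1⁻¹ * x1 ∈ UU V R j := by rw [h1]; exact mul_mem hz2 (inv_mem hx2)
    rw [← b.UU_inf c.ne]
    exact mem_inf.2 ⟨k1, k2⟩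
  refine ⟨(y.p1_eq_iff hx1 hz1).2 hD, ?_⟩
  rw [eq_comm, y.p2_eq_iff hz2 hx2]
  have h2 : x2⁻¹ * z2 = x2⁻¹ * (z2 * x2⁻¹) * x2⁻¹⁻¹ := by group
  rw [h2, ← h1]
  exact conj_mem_of_normalizer (b.NV_le_ND (cen_le_NV V (UU_le_cen j (inv_mem hx2)))) hD

theorem rep_of_mem1 {x : G} (hx : x ∈ UU V R i) : Rep V R i j p1 p2 x (p1 x) 0 :=
  ⟨x, hx, 1, one_mem _, by group, rfl, y.p2_one⟩

theorem rep_of_mem2 {x : G} (hx : x ∈ UU V R j) : Rep V R i j p1 p2 x 0 (p2 x) :=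
  ⟨1, one_mem _, x, hx, by group, y.p1_one', rfl⟩

theorem rep_w1 (a : F) {g : G} {m n : M} (h : Rep V R i j p1 p2 g m n) :
    Rep V R i j p1 p2 (w1 a * g * (w1 a)⁻¹) (m + a • n) n := by
  obtain ⟨x1, hx1, x2, hx2, rfl, rfl, rfl⟩ := h
  have hd : w1 a * x1 * (w1 a)⁻¹ * x1⁻¹ ∈ R i := b.WU (c.w1_mem a) hx1
  have hdD := V_le_D V R (b.R_le i hd)
  have hc : w1 a * x2 * (w1 a)⁻¹ * x2⁻¹ ∈ UU V R i := b.WU' (c.w1_mem a) hx2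
  refine ⟨(w1 a * x1 * (w1 a)⁻¹ * x1⁻¹) * (x1 * (w1 a * x2 * (w1 a)⁻¹ * x2⁻¹)),
    mul_mem (b.D_le_U i hdD) (mul_mem hx1 hc), x2, hx2, by group, ?_, rfl⟩
  rw [y.p1_D_mul hdD (b.D_le_U i hdD) (mul_mem hx1 hc), y.mul1 _ hx1 _ hc, y.act12 a _ hx2]

theorem rep_w2 (a : F) {g : G} {m n : M} (h : Rep V R i j p1 p2 g m n) :
    Rep V R i j p1 p2 (w2 a * g * (w2 a)⁻¹) m (n + a • m) := by
  obtain ⟨x1, hx1, x2, hx2, rfl, rfl, rfl⟩ := h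
  have hd : w2 a * x2 * (w2 a)⁻¹ * x2⁻¹ ∈ R j := b.WU (c.w2_mem a) hx2
  have hdD := V_le_D V R (b.R_le j hd)
  have hc : w2 a * x1 * (w2 a)⁻¹ * x1⁻¹ ∈ UU V R j := b.WU' (c.w2_mem a) hx1
  have hk : (w2 a * x1 * (w2 a)⁻¹ * x1⁻¹) * x1 * (w2 a * x1 * (w2 a)⁻¹ * x1⁻¹)⁻¹ * x1⁻¹ ∈ DD V R :=
    b.Y_comm (UU_le_YY j hc) (UU_le_YY i hx1)
  refine ⟨((w2 a * x1 * (w2 a)⁻¹ * x1⁻¹) * x1 * (w2 a * x1 * (w2 a)⁻¹ * x1⁻¹)⁻¹ * x1⁻¹) * x1,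
    mul_mem (b.D_le_U i hk) hx1, (w2 a * x1 * (w2 a)⁻¹ * x1⁻¹) * ((w2 a * x2 * (w2 a)⁻¹ * x2⁻¹) * x2),
    mul_mem hc (mul_mem (b.D_le_U j hdD) hx2), by group, y.p1_D_mul hk (b.D_le_U i hk) hx1, ?_⟩
  rw [y.mul2 _ hc _ (mul_mem (b.D_le_U j hdD) hx2), y.p2_D_mul hdD (b.D_le_U j hdD) hx2, y.act21 a _ hx1,
    add_comm]

variable [CharP F 2]

omit b c in
theorem two (m : M) : m + m = 0 := by
  have _ := y
  rw [← two_smul F, CharTwo.two_eq_zero, zero_smul]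

theorem rep_nn {a : F} (ha : a ≠ 0) {g : G} {m n : M} (h : Rep V R i j p1 p2 g m n) :
    Rep V R i j p1 p2 (nn w1 w2 a * g * (nn w1 w2 a)⁻¹) (a • n) (a⁻¹ • m) := by
  have h1 := y.rep_w1 b c a (y.rep_w2 b c a⁻¹ (y.rep_w1 b c a h))
  have e1 : w1 a * (w2 a⁻¹ * (w1 a * g * (w1 a)⁻¹) * (w2 a⁻¹)⁻¹) * (w1 a)⁻¹ =
      nn w1 w2 a * g * (nn w1 w2 a)⁻¹ := by unfold nn; group
  have e2 : n + a⁻¹ • (m + a • n) = a⁻¹ • m := by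
    rw [smul_add, smul_smul, inv_mul_cancel₀ ha, one_smul, add_comm (a⁻¹ • m), ← add_assoc, y.two, zero_add]
  have e3 : m + a • n + a • (a⁻¹ • m) = a • n := by
    rw [smul_smul, mul_inv_cancel₀ ha, one_smul, add_comm m, add_assoc, y.two, add_zero]
  rw [e1, e2, e3] at h1
  exact h1

theorem rep_hh {a : F} (ha : a ≠ 0) {g : G} {m n : M} (h : Rep V R i j p1 p2 g m n) :
    Rep V R i j p1 p2 (hh w1 w2 a * g * (hh w1 w2 a)⁻¹) (a • m) (a⁻¹ • n) := by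
  have h1 := y.rep_nn b c ha (y.rep_nn b c one_ne_zero h)
  have e1 : nn w1 w2 a * (nn w1 w2 1 * g * (nn w1 w2 1)⁻¹) * (nn w1 w2 a)⁻¹ =
      hh w1 w2 a * g * (hh w1 w2 a)⁻¹ := by unfold hh; group
  rw [e1, inv_one, one_smul, one_smul] at h1
  exact h1

omit y in
theorem hh_mem1 {a : F} (ha : a ≠ 0) {x : G} (hx : x ∈ UU V R i) :
    hh w1 w2 a * x * (hh w1 w2 a)⁻¹ ∈ UU V R i := by
  have := conj_mem_cj (g := hh w1 w2 a) hx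
  rwa [b.cj_UU (b.X_le_NV (c.hh_mem_X b a)) (c.hh_R1 b ha)] at this

omit y in
theorem hh_mem2 {a : F} (ha : a ≠ 0) {x : G} (hx : x ∈ UU V R j) :
    hh w1 w2 a * x * (hh w1 w2 a)⁻¹ ∈ UU V R j := by
  have := conj_mem_cj (g := hh w1 w2 a) hx
  rwa [b.cj_UU (b.X_le_NV (c.hh_mem_X b a)) (c.hh_R2 b ha)] at this

/-- the torus on `U i / D` : scalars `a` -/
theorem hh_p1 {a : F} (ha : a ≠ 0) {x : G} (hx : x ∈ UU V R i) :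
    p1 (hh w1 w2 a * x * (hh w1 w2 a)⁻¹) = a • p1 x :=
  (y.rep_unique b c (y.rep_of_mem1 b c (hh_mem1 b c ha hx)) (y.rep_hh b c ha (y.rep_of_mem1 b c hx))).1

/-- the torus on `U j / D` : scalars `a⁻¹` -/
theorem hh_p2 {a : F} (ha : a ≠ 0) {x : G} (hx : x ∈ UU V R j) :
    p2 (hh w1 w2 a * x * (hh w1 w2 a)⁻¹) = a⁻¹ • p2 x :=
  (y.rep_unique b c (y.rep_of_mem2 b c (hh_mem2 b c ha hx)) (y.rep_hh b c ha (y.rep_of_mem2 b c hx))).2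

theorem nn_p1 {a : F} (ha : a ≠ 0) {x : G} (hx : x ∈ UU V R i) :
    nn w1 w2 a * x * (nn w1 w2 a)⁻¹ ∈ UU V R j ∧ p2 (nn w1 w2 a * x * (nn w1 w2 a)⁻¹) = a⁻¹ • p1 x := by
  have h := conj_mem_cj (g := nn w1 w2 a) hx
  rw [b.cj_UU (b.X_le_NV (c.nn_mem_X b a)) (c.nn_R1 b ha)] at h
  exact ⟨h, (y.rep_unique b c (y.rep_of_mem2 b c h) (y.rep_nn b c ha (y.rep_of_mem1 b c hx))).2⟩

theorem nn_p2 {a : F} (ha : a ≠ 0) {x : G} (hx : x ∈ UU V R j) :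
    nn w1 w2 a * x * (nn w1 w2 a)⁻¹ ∈ UU V R i ∧ p1 (nn w1 w2 a * x * (nn w1 w2 a)⁻¹) = a • p2 x := by
  have h := conj_mem_cj (g := nn w1 w2 a) hx
  rw [b.cj_UU (b.X_le_NV (c.nn_mem_X b a)) (c.nn_R2 b ha)] at h
  exact ⟨h, (y.rep_unique b c (y.rep_of_mem1 b c h) (y.rep_nn b c ha (y.rep_of_mem2 b c hx))).1⟩

/-- the torus is fixed-point-free on `U i / D` (`hfpf` of `BTC.cen_W_le_W`) -/
theorem hfpf1 {a : F} (ha : a ≠ 0) (ha1 : a ≠ 1) {x : G} (hx : x ∈ UU V R i)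
    (h : hh w1 w2 a * x * (hh w1 w2 a)⁻¹ * x⁻¹ ∈ DD V R) : x ∈ DD V R := by
  have h1 : p1 (hh w1 w2 a * x * (hh w1 w2 a)⁻¹) = p1 x := by
    rw [← y.p1_D_mul h (b.D_le_U i h) hx]
    congr 1
    group
  rw [y.hh_p1 b c ha hx] at h1
  rw [← y.ker1 x hx]
  have h2 : (a - 1) • p1 x = 0 := by rw [sub_smul, one_smul, h1, sub_self]
  exact (smul_eq_zero.1 h2).resolve_left (sub_ne_zero.2 ha1)

theorem hfpf2 {a : F} (ha : a ≠ 0) (ha1 : a ≠ 1) {x : G} (hx : x ∈ UU V R j)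
    (h : hh w1 w2 a * x * (hh w1 w2 a)⁻¹ * x⁻¹ ∈ DD V R) : x ∈ DD V R := by
  have h1 : p2 (hh w1 w2 a * x * (hh w1 w2 a)⁻¹) = p2 x := by
    rw [← y.p2_D_mul h (b.D_le_U j h) hx]
    congr 1
    group
  rw [y.hh_p2 b c ha hx] at h1
  rw [← y.ker2 x hx]
  have h2 : (a⁻¹ - 1) • p2 x = 0 := by rw [sub_smul, one_smul, h1, sub_self]
  refine (smul_eq_zero.1 h2).resolve_left (sub_ne_zero.2 ?_)
  intro h3
  exact ha1 (by rw [← inv_inv a, h3, inv_one])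

end YMod

end Cfsg.Agent.Omega.BTwo
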