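import Cfsg.Agent.Omega.BTwo.SemiBasic
import Cfsg.Agent.Omega.BTwo.RadQ
import Cfsg.Agent.Omega.BTwo.YTor

/-!
# SQ3, `b = 2`, `q ≥ 4`: #11043 (8.5), (8.6) and the conclusion `O₂(N(R)) = W_R` is semi-extraspecial
-/

set_option autoImplicit false
set_option linter.unusedSectionVars false

namespace Cfsg.Agent.Omega.BTwo

open Subgroup
open scoped commutatorElement

universe u v w

variable {G : Type u} [Group G] {ι : Type w}

namespace Coord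

variable {V : Subgroup G} {R : ι → Subgroup G} {i j : ι} {F : Type v} [Field F]
  {v : F → F → G} {w1 w2 : F → G} {M : Type u} [AddCommGroup M] [Module F M] {p1 p2 : G → M}

section

variable (c : Coord V R i j v w1 w2) (b : BT V R) (y : YMod (DD V R) (UU V R i) (UU V R j) w1 w2 M p1 p2)
include c b

/-- `U j = [U j, h(a)] D` -/
theorem exists_hh [Finite F] [CharP F 2] {a : F} (ha : a ≠ 0) (ha1 : a ≠ 1) {x : G} (hx : x ∈ UU V R j) :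
    ∃ x' ∈ UU V R j, ∃ d ∈ DD V R, x = x' * (hh w1 w2 a * x'⁻¹ * (hh w1 w2 a)⁻¹) * d := by
  obtain ⟨M, i1, i2, p1, p2, y⟩ := c.exists_yMod b
  have hne : (1 : F) - a⁻¹ ≠ 0 := by
    intro h
    apply ha1
    have h1 : a⁻¹ = 1 := (sub_eq_zero.1 h).symm
    rw [← inv_inv a, h1, inv_one]
  obtain ⟨x', hx', e⟩ := y.surj2 ((1 - a⁻¹)⁻¹ • p2 x)
  have hx'' := inv_mem hx'
  have h1 := YMod.hh_mem2 b c ha hx''
  have h2 : p2 (x' * (hh w1 w2 a * x'⁻¹ * (hh w1 w2 a)⁻¹)) = p2 x := by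
    rw [y.mul2 _ hx' _ h1, y.hh_p2 b c ha hx'', y.p2_inv hx', smul_neg, ← sub_eq_add_neg]
    have h3 : p2 x' - a⁻¹ • p2 x' = (1 - a⁻¹) • p2 x' := by rw [sub_smul, one_smul]
    rw [h3, e, smul_smul, mul_inv_cancel₀ hne, one_smul]
  refine ⟨x', hx', (x' * (hh w1 w2 a * x'⁻¹ * (hh w1 w2 a)⁻¹))⁻¹ * x, ?_, by group⟩
  refine (y.ker2 _ (mul_mem (inv_mem (mul_mem hx' h1)) hx)).1 ?_
  rw [y.mul2 _ (inv_mem (mul_mem hx' h1)) _ hx, y.p2_inv (mul_mem hx' h1), h2, neg_add_cancel]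

end

/-! ### (8.5) -/

omit [Field F] in
theorem _root_.Cfsg.Agent.Omega.BTwo.comm_central {p q x y : G} (h1 : p * x = x * p) (h2 : p * y = y * p)
    (h3 : q * x = x * q) (h4 : q * y = y * q) (h5 : p * q = q * p) :
    (p * x) * (q * y) * (p * x)⁻¹ * (q * y)⁻¹ = x * y * x⁻¹ * y⁻¹ := by
  have k1 : Commute (p * q) x := (show Commute p x from h1).mul_left h3
  have k2 : Commute (p * q) y := (show Commute p y from h2).mul_left h4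
  have e1 : (p * x) * (q * y) = (p * q) * (x * y) := by
    calc (p * x) * (q * y) = p * (x * q) * y := by group
      _ = (p * q) * (x * y) := by rw [← h3]; group
  have e2 : (q * y) * (p * x) = (p * q) * (y * x) := by
    calc (q * y) * (p * x) = q * (y * p) * x := by group
      _ = (q * p) * (y * x) := by rw [← h2]; group
      _ = _ := by rw [h5]
  have k3 : Commute (p * q) (x * y * (y * x)⁻¹) := (k1.mul_right k2).mul_right (k2.mul_right k1).inv_right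
  calc (p * x) * (q * y) * (p * x)⁻¹ * (q * y)⁻¹ = ((p * x) * (q * y)) * ((q * y) * (p * x))⁻¹ := by group
    _ = (p * q) * (x * y * (y * x)⁻¹) * (p * q)⁻¹ := by rw [e1, e2]; group
    _ = x * y * (y * x)⁻¹ := by rw [k3.eq]; group
    _ = x * y * x⁻¹ * y⁻¹ := by group

omit [Field F] in
theorem _root_.Cfsg.Agent.Omega.BTwo.comm_two {x x0 w w0 r1 r2 k : G} (e1 : w0 * x * w0⁻¹ * x⁻¹ = r1)
    (e2 : w * x0 * w⁻¹ * x0⁻¹ = r2) (e3 : w0 * w * w0⁻¹ * w⁻¹ = k) (hx : x0 * x = x * x0)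
    (h1 : x0 * r1 = r1 * x0) (h2 : x * r2 = r2 * x) (h3 : x0 * k = k * x0) (h4 : x * k = k * x)
    (h5 : k * r2 = r2 * k) (h : (x0 * w0) * (x * w) * (x0 * w0)⁻¹ * (x * w)⁻¹ = k) : r1 = r2 := by
  have f1 : w0 * x = r1 * x * w0 := by rw [← e1]; group
  have f2 : w * x0 = r2 * x0 * w := by rw [← e2]; group
  have g1 : (x0 * w0) * (x * w) = r1 * (x0 * x) * (w0 * w) := by
    calc (x0 * w0) * (x * w) = x0 * (w0 * x) * w := by group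
      _ = (x0 * r1) * x * w0 * w := by rw [f1]; group
      _ = r1 * (x0 * x) * (w0 * w) := by rw [h1]; group
  have g2 : (x * w) * (x0 * w0) = r2 * (x0 * x) * (w * w0) := by
    calc (x * w) * (x0 * w0) = x * (w * x0) * w0 := by group
      _ = (x * r2) * x0 * w * w0 := by rw [f2]; group
      _ = r2 * (x * x0) * (w * w0) := by rw [h2]; group
      _ = _ := by rw [hx]
  have g3 : (x0 * w0) * (x * w) * (x0 * w0)⁻¹ * (x * w)⁻¹ = r1 * k * r2⁻¹ := by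
    have k1 : (x0 * x) * k = k * (x0 * x) := by rw [mul_assoc, h4, ← mul_assoc, h3, mul_assoc]
    calc (x0 * w0) * (x * w) * (x0 * w0)⁻¹ * (x * w)⁻¹
        = ((x0 * w0) * (x * w)) * ((x * w) * (x0 * w0))⁻¹ := by group
      _ = r1 * ((x0 * x) * (w0 * w * w0⁻¹ * w⁻¹)) * (x0 * x)⁻¹ * r2⁻¹ := by rw [g1, g2]; group
      _ = r1 * k * r2⁻¹ := by rw [e3, k1]; group
  rw [h] at g3
  calc r1 = (r1 * k * r2⁻¹) * (k * r2⁻¹)⁻¹ := by group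
    _ = k * (k * r2⁻¹)⁻¹ := by rw [← g3]
    _ = (k * r2) * k⁻¹ := by group
    _ = r2 := by rw [h5]; group

section beta

variable (c : Coord V R i j v w1 w2) (b : BTC V R)

/-- `z` acts on `W i / (V Z i)...` with parameter `β` -/
def Bt (V : Subgroup G) (R : ι → Subgroup G) (i : ι) (v : F → F → G) (z : G) (β : F) : Prop :=
  ∀ w ∈ WW V (R i), ∀ a : F, (∀ b c, w * v b c * w⁻¹ = v (b + a * c) c) →
    ∃ b, (v b (a * β))⁻¹ * (z * w * z⁻¹ * w⁻¹) ∈ ZW V R i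

include b in
/-- `[z, w] ∈ V Z i` -/
theorem _root_.Cfsg.Agent.Omega.BTwo.BTC.exists_V {z w : G} (hz : z ∈ centralizer (V : Set G))
    (hU : ∀ u ∈ UU V R i, z * u = u * z) (hw : w ∈ WW V (R i)) :
    ∃ x ∈ V, x⁻¹ * (z * w * z⁻¹ * w⁻¹) ∈ ZW V R i := by
  have hzw : z * w * z⁻¹ ∈ WW V (R i) := conj_mem_of_normalizer (b.cen_le_NW i hz) hw
  have hm : z * w * z⁻¹ * w⁻¹ ∈ WW V (R i) := mul_mem hzw (inv_mem hw)
  obtain ⟨x, hx, h1⟩ := b.cen_U (b.W_le_Q i hm) (fun u hu => by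
    -- `[z w z⁻¹, u] = [w, u]`
    have hr := b.WU hw hu
    set r := w * u * w⁻¹ * u⁻¹ with hrdef
    have h1 : z * r * z⁻¹ = r := by
      rw [← mem_centralizer_iff.1 hz r (b.R_le i hr)]; group
    have h2 : (z * w * z⁻¹) * u * (z * w * z⁻¹)⁻¹ = r * u := by
      calc (z * w * z⁻¹) * u * (z * w * z⁻¹)⁻¹ = z * w * (z⁻¹ * (u * z)) * w⁻¹ * z⁻¹ := by group
        _ = z * (w * u * w⁻¹) * z⁻¹ := by rw [← hU u hu]; group
        _ = (z * r * z⁻¹) * (z * u * z⁻¹) := by rw [hrdef]; group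
        _ = r * u := by rw [h1, hU u hu]; group
    have h3 : w⁻¹ * u * w = r⁻¹ * u := by
      have h4 := b.QR i w (b.W_le_Q i hw) _ hr
      have h5 : w⁻¹ * r * w = r := by
        calc w⁻¹ * r * w = w⁻¹ * (r * w) := by group
          _ = r := by rw [← h4]; group
      have h6 : w * u * w⁻¹ = r * u := by rw [hrdef]; group
      calc w⁻¹ * u * w = (w⁻¹ * r * w)⁻¹ * (w⁻¹ * (r * u) * w) := by group
        _ = r⁻¹ * u := by rw [h5, ← h6]; group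
    have h7 : (z * w * z⁻¹) * r⁻¹ = r⁻¹ * (z * w * z⁻¹) := b.QR i _ (b.W_le_Q i hzw) _ (inv_mem hr)
    have h8 : (z * w * z⁻¹ * w⁻¹) * u * (z * w * z⁻¹ * w⁻¹)⁻¹ = u := by
      calc (z * w * z⁻¹ * w⁻¹) * u * (z * w * z⁻¹ * w⁻¹)⁻¹
          = (z * w * z⁻¹) * (w⁻¹ * u * w) * (z * w * z⁻¹)⁻¹ := by group
        _ = ((z * w * z⁻¹) * r⁻¹) * u * (z * w * z⁻¹)⁻¹ := by rw [h3]; group
        _ = r⁻¹ * ((z * w * z⁻¹) * u * (z * w * z⁻¹)⁻¹) := by rw [h7]; group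
        _ = u := by rw [h2]; group
    rwa [mul_inv_eq_iff_eq_mul] at h8)
  have h2 : x⁻¹ * (z * w * z⁻¹ * w⁻¹) ∈ WW V (R i) := mul_mem (inv_mem (V_le_WW V (R i) hx)) hm
  exact ⟨x, hx, h2, h1⟩

include c b

/-- existence of the parameter -/
theorem exists_Bt {z : G} (hz : z ∈ centralizer (V : Set G)) (hU : ∀ u ∈ UU V R i, z * u = u * z) :
    ∃ β : F, Bt V R i v z β := by
  obtain ⟨x0, hx0, h0⟩ := b.exists_V hz hU (c.w1_mem 1)
  obtain ⟨b0, c0, rfl⟩ := (c.mem_V x0).1 hx0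
  refine ⟨c0, fun w hw a ha => ?_⟩
  obtain ⟨x, hx, h1⟩ := b.exists_V hz hU hw
  obtain ⟨b1, c1, rfl⟩ := (c.mem_V x).1 hx
  refine ⟨b1, ?_⟩
  suffices h : c1 = a * c0 by rwa [← h]
  -- `z [w0, w] z⁻¹ = [w0, w]`
  set w0 := w1 1 with hw0
  have hw0m : w0 ∈ WW V (R i) := c.w1_mem 1
  set ζ0 := (v b0 c0)⁻¹ * (z * w0 * z⁻¹ * w0⁻¹) with hζ0
  set ζ := (v b1 c1)⁻¹ * (z * w * z⁻¹ * w⁻¹) with hζ
  have e0 : z * w0 * z⁻¹ = ζ0 * (v b0 c0 * w0) := by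
    have h2 := comm_ZW h0 (V_le_WW V (R i) hx0)
    rw [← mul_assoc, h2, hζ0]; group
  have e1 : z * w * z⁻¹ = ζ * (v b1 c1 * w) := by
    have h2 := comm_ZW h1 (V_le_WW V (R i) hx)
    rw [← mul_assoc, h2, hζ]; group
  have hX0 : v b0 c0 * w0 ∈ WW V (R i) := mul_mem (V_le_WW V (R i) hx0) hw0m
  have hX1 : v b1 c1 * w ∈ WW V (R i) := mul_mem (V_le_WW V (R i) hx) hw
  have hr := b.WW_comm i hw0m hw
  have e2 : (v b0 c0 * w0) * (v b1 c1 * w) * (v b0 c0 * w0)⁻¹ * (v b1 c1 * w)⁻¹ = w0 * w * w0⁻¹ * w⁻¹ := by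
    have h3 : z * (w0 * w * w0⁻¹ * w⁻¹) * z⁻¹ = w0 * w * w0⁻¹ * w⁻¹ := by
      rw [← mem_centralizer_iff.1 hz _ (b.R_le i hr)]; group
    have h4 := comm_ZW h0 hX0
    have h6 := comm_ZW h0 (ZW_le_W i h1)
    rw [← h3]
    calc (v b0 c0 * w0) * (v b1 c1 * w) * (v b0 c0 * w0)⁻¹ * (v b1 c1 * w)⁻¹
        = (ζ0 * (v b0 c0 * w0)) * (ζ * (v b1 c1 * w)) * (ζ0 * (v b0 c0 * w0))⁻¹ * (ζ * (v b1 c1 * w))⁻¹ :=
          (comm_central h4 (comm_ZW h0 hX1) (comm_ZW h1 hX0) (comm_ZW h1 hX1) h6).symm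
      _ = (z * w0 * z⁻¹) * (z * w * z⁻¹) * (z * w0 * z⁻¹)⁻¹ * (z * w * z⁻¹)⁻¹ := by rw [e0, e1]
      _ = z * (w0 * w * w0⁻¹ * w⁻¹) * z⁻¹ := by group
  have hR : ∀ a : F, v a 0 ∈ R i := fun a => (c.mem_R1 _).2 ⟨a, rfl⟩
  have f1 : w0 * v b1 c1 * w0⁻¹ * (v b1 c1)⁻¹ = v c1 0 := by
    have h3 := c.w1_act 1 b1 c1
    have h4 := c.v_add c1 0 b1 c1
    rw [← hw0, one_mul] at h3
    rw [zero_add, add_comm c1 b1] at h4
    rw [h3, h4]; group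
  have f2 : w * v b0 c0 * w⁻¹ * (v b0 c0)⁻¹ = v (a * c0) 0 := by
    have h3 := ha b0 c0
    have h4 := c.v_add (a * c0) 0 b0 c0
    rw [zero_add, add_comm (a * c0) b0] at h4
    rw [h3, h4]; group
  have h3 := comm_two f1 f2 rfl (b.V_comm _ hx0 _ hx) (b.V_comm _ hx0 _ (b.R_le i (hR _)))
    (b.V_comm _ hx _ (b.R_le i (hR _))) (b.V_comm _ hx0 _ (b.R_le i hr)) (b.V_comm _ hx _ (b.R_le i hr))
    (b.V_comm _ (b.R_le i hr) _ (b.R_le i (hR _))) e2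
  exact (c.v_inj h3).1

/-- the parameter is additive -/
theorem Bt.mul [Finite G] {z z' : G} {β β' : F} (hz : z ∈ ZW V R j) (hz' : z' ∈ ZW V R j) (h : Bt V R i v z β)
    (h' : Bt V R i v z' β') : Bt V R i v (z * z') (β + β') := by
  intro w hw a ha
  obtain ⟨b1, h1⟩ := h w hw a ha
  obtain ⟨b2, h2⟩ := h' w hw a ha
  refine ⟨b2 + b1, ?_⟩
  set ζ := (v b1 (a * β))⁻¹ * (z * w * z⁻¹ * w⁻¹) with hζ
  set ζ' := (v b2 (a * β'))⁻¹ * (z' * w * z'⁻¹ * w⁻¹) with hζ'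
  have hzV := C_le_cen j hz.2
  have k1 : z * v b2 (a * β') = v b2 (a * β') * z := (mem_centralizer_iff.1 hzV _ (c.v_mem _ _)).symm
  have k2 : z * ζ' = ζ' * z := b.cen_comm (Ne.symm c.ne) hz.2 h2.2
  have k3 := comm_ZW h2 (V_le_WW V (R i) (c.v_mem b1 (a * β)))
  have e1 : v (b2 + b1) (a * (β + β')) = v b2 (a * β') * v b1 (a * β) := by
    rw [← c.v_add, mul_add, add_comm (a * β)]
  have e2 : z * z' * w * (z * z')⁻¹ * w⁻¹ = v b2 (a * β') * v b1 (a * β) * (ζ' * ζ) := by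
    calc z * z' * w * (z * z')⁻¹ * w⁻¹
        = z * (v b2 (a * β') * ζ') * z⁻¹ * (v b1 (a * β) * ζ) := by rw [hζ, hζ']; group
      _ = (z * v b2 (a * β')) * ζ' * z⁻¹ * (v b1 (a * β) * ζ) := by group
      _ = v b2 (a * β') * (z * ζ') * z⁻¹ * (v b1 (a * β) * ζ) := by rw [k1]; group
      _ = v b2 (a * β') * (ζ' * v b1 (a * β)) * ζ := by rw [k2]; group
      _ = _ := by rw [k3]; group
  rw [e1, e2]
  have e3 : (v b2 (a * β') * v b1 (a * β))⁻¹ * (v b2 (a * β') * v b1 (a * β) * (ζ' * ζ)) = ζ' * ζ := by group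
  rw [e3]
  exact mul_mem h2 h1

/-- the parameter is unique -/
theorem Bt.unique {z : G} {β β' : F} (h : Bt V R i v z β) (h' : Bt V R i v z β') : β = β' := by
  obtain ⟨b1, h1⟩ := h (w1 1) (c.w1_mem 1) 1 (c.w1_act 1)
  obtain ⟨b2, h2⟩ := h' (w1 1) (c.w1_mem 1) 1 (c.w1_act 1)
  rw [one_mul] at h1 h2
  have h3 : (v b1 β)⁻¹ * v b2 β' ∈ ZW V R i := by
    have e : (v b1 β)⁻¹ * v b2 β' = ((v b1 β)⁻¹ * (z * w1 1 * z⁻¹ * (w1 1)⁻¹)) *
      ((v b2 β')⁻¹ * (z * w1 1 * z⁻¹ * (w1 1)⁻¹))⁻¹ := by group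
    rw [e]
    exact mul_mem h1 (inv_mem h2)
  have h4 := comm_ZW h3 (c.w1_mem 1)
  have h5 : v b1 β * v (b2 - b1) (β' - β) = v b2 β' := by
    rw [← c.v_add, add_sub_cancel, add_sub_cancel]
  have h6 : (v b1 β)⁻¹ * v b2 β' = v (b2 - b1) (β' - β) := by rw [← h5]; group
  rw [h6] at h4
  have h7 := c.w1_act 1 (b2 - b1) (β' - β)
  rw [← h4, mul_inv_cancel_right, one_mul] at h7
  have h8 := (c.v_inj h7).1
  exact (sub_eq_zero.1 (left_eq_add.1 h8)).symm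

/-- the torus -/
theorem Bt.conj [CharP F 2] {z : G} {β : F} (h : Bt V R i v z β) {s : F} (hs : s ≠ 0) :
    Bt V R i v (hh w1 w2 s * z * (hh w1 w2 s)⁻¹) (s⁻¹ ^ 3 * β) := by
  intro w hw a ha
  set t := hh w1 w2 s with ht
  have htN : t ∈ normalizer (R i : Set G) := cj_eq_self_iff.1 (c.hh_R1 b.toBT hs)
  have hwt : t⁻¹ * w * t ∈ WW V (R i) := conj_inv_mem_of_normalizer (normalizer_le_WW V (R i) htN) hw
  obtain ⟨b1, h1⟩ := h _ hwt (s⁻¹ ^ 2 * a) (by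
    intro d e
    have e1 : t⁻¹ * w * t * v d e * (t⁻¹ * w * t)⁻¹ = t⁻¹ * (w * (t * v d e * t⁻¹) * w⁻¹) * t := by group
    rw [e1, c.hh_act hs, ha, c.hh_act_inv hs]
    congr 1
    · field_simp
    · field_simp)
  refine ⟨s * b1, ?_⟩
  have h2 := conj_ZW htN h1
  have e2 : t * ((v b1 (s⁻¹ ^ 2 * a * β))⁻¹ * (z * (t⁻¹ * w * t) * z⁻¹ * (t⁻¹ * w * t)⁻¹)) * t⁻¹ =
      (t * v b1 (s⁻¹ ^ 2 * a * β) * t⁻¹)⁻¹ * ((t * z * t⁻¹) * w * (t * z * t⁻¹)⁻¹ * w⁻¹) := by group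
  rw [e2, c.hh_act hs] at h2
  have e3 : s⁻¹ * (s⁻¹ ^ 2 * a * β) = a * (s⁻¹ ^ 3 * β) := by ring
  rwa [e3] at h2

/-- elements of `R j` -/
theorem Bt.of_mem {z : G} (hz : z ∈ R j) : Bt V R i v z 0 := by
  intro w hw a ha
  obtain ⟨e, rfl⟩ := (c.mem_R2 z).1 hz
  refine ⟨-(a * e), ?_⟩
  have h1 := ha 0 e
  rw [zero_add] at h1
  have h2 : v 0 e * w * (v 0 e)⁻¹ * w⁻¹ = v (-(a * e)) 0 := by
    have h3 := c.v_add (-(a * e)) 0 (a * e) e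
    rw [neg_add_cancel, zero_add] at h3
    calc v 0 e * w * (v 0 e)⁻¹ * w⁻¹ = v 0 e * (w * v 0 e * w⁻¹)⁻¹ := by group
      _ = v (-(a * e)) 0 := by rw [h1, h3]; group
  rw [h2, mul_zero, inv_mul_cancel]
  exact one_mem _

/-- **(8.5)** `β = 0` -/
theorem Bt.eq_zero [Finite G] [Finite F] [CharP F 2] (hF : ∃ a : F, a ≠ 0 ∧ a ≠ 1) {z : G} {β : F}
    (hz : z ∈ ZW V R j) (h : Bt V R i v z β) : β = 0 := by
  obtain ⟨x, hx0, hx1⟩ := hF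
  obtain ⟨M, i1, i2, p1, p2, y⟩ := c.exists_yMod b.toBT
  have hx2 : x + 1 ≠ 0 := by
    intro h1
    apply hx1
    rw [CharTwo.add_eq_zero] at h1
    exact h1
  have hzU := ZW_le_U (V := V) (R := R) j hz
  have hN : ∀ s : F, s ≠ 0 → hh w1 w2 s ∈ normalizer (R j : Set G) :=
    fun s hs => cj_eq_self_iff.1 (c.hh_R2 b.toBT hs)
  -- `z₁ = z^{h(x⁻¹)}`, `z₂ = z^{h((x+1)⁻¹)}`
  set z1 := hh w1 w2 x⁻¹ * z * (hh w1 w2 x⁻¹)⁻¹ with hz1
  set z2 := hh w1 w2 (x + 1)⁻¹ * z * (hh w1 w2 (x + 1)⁻¹)⁻¹ with hz2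
  have hz1m : z1 ∈ ZW V R j := conj_ZW (hN _ (inv_ne_zero hx0)) hz
  have hz2m : z2 ∈ ZW V R j := conj_ZW (hN _ (inv_ne_zero hx2)) hz
  have hb1 := Bt.conj c b h (inv_ne_zero hx0)
  have hb2 := Bt.conj c b h (inv_ne_zero hx2)
  rw [← hz1, inv_inv] at hb1
  rw [← hz2, inv_inv] at hb2
  have hp1 : p2 z1 = x • p2 z := by
    rw [hz1, y.hh_p2 b.toBT c (inv_ne_zero hx0) hzU, inv_inv]
  have hp2 : p2 z2 = (x + 1) • p2 z := by
    rw [hz2, y.hh_p2 b.toBT c (inv_ne_zero hx2) hzU, inv_inv]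
  have hd : z1 * z * z2⁻¹ ∈ R j := by
    have hm : z1 * z * z2⁻¹ ∈ ZW V R j := mul_mem (mul_mem hz1m hz) (inv_mem hz2m)
    refine b.cen_DW ((y.ker2 _ (ZW_le_U j hm)).1 ?_) hm.2
    rw [y.mul2 _ (ZW_le_U j (mul_mem hz1m hz)) _ (ZW_le_U j (inv_mem hz2m)), y.mul2 _ (ZW_le_U j hz1m) _ hzU,
      y.p2_inv (ZW_le_U j hz2m), hp1, hp2, add_smul, one_smul, add_neg_cancel]
  have h1 := Bt.mul c b hz1m hz hb1 h
  have h2 := Bt.mul c b (b.R_le_ZW j hd) hz2m (Bt.of_mem c b hd) hb2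
  have e : z1 * z * z2⁻¹ * z2 = z1 * z := by group
  rw [e] at h2
  have h3 := Bt.unique c b h1 h2
  have h4 : (x * (x + 1)) * β = 0 := by
    have h5 : (3 : F) = 1 := by
      have : (2 : F) = 0 := CharTwo.two_eq_zero
      linear_combination this
    have h6 : (3 * x ^ 2 + 3 * x) * β = 0 := by linear_combination -h3
    rw [h5, one_mul, one_mul] at h6
    linear_combination h6
  rcases mul_eq_zero.1 h4 with h5 | h5
  · rcases mul_eq_zero.1 h5 with h6 | h6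
    · exact absurd h6 hx0
    · exact absurd h6 hx2
  · exact h5

/-- **(8.5)** `[Z j, U i] = 1 ⟹ Z j = R j` -/
theorem ZW_eq [Finite G] [Finite F] [CharP F 2] (hF : ∃ a : F, a ≠ 0 ∧ a ≠ 1)
    (hU : ∀ z ∈ ZW V R j, ∀ u ∈ UU V R i, z * u = u * z) : ZW V R j = R j := by
  refine b.ZW_eq c.ne fun z hz w hw => ?_
  obtain ⟨β, hβ⟩ := c.exists_Bt b (C_le_cen j hz.2) (hU z hz)
  have h0 := Bt.eq_zero c b hF hz hβ
  obtain ⟨a, ha⟩ := c.W1_act w hw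
  obtain ⟨b1, h1⟩ := hβ w hw a ha
  rw [h0, mul_zero] at h1
  have h2 : v b1 0 ∈ ZW V R i := b.R_le_ZW i ((c.mem_R1 _).2 ⟨b1, rfl⟩)
  have e : z * w * z⁻¹ * w⁻¹ = v b1 0 * ((v b1 0)⁻¹ * (z * w * z⁻¹ * w⁻¹)) := by group
  rw [e]
  exact mul_mem h2 h1

/-! ### the conclusion -/

/-- **(8.6)** -/
theorem comm_ZU [Finite G] [Finite F] [CharP F 2] (hF : ∃ a : F, a ≠ 0 ∧ a ≠ 1)
    (perf : UU V R j ≤ ⁅(⨆ h : normalizer (R i : Set G), Omega.BTwo.cj (h : G) (UU V R j)),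
      (⨆ h : normalizer (R i : Set G), Omega.BTwo.cj (h : G) (UU V R j))⁆ ⊔ QQ (R i)) {z u : G}
    (hz : z ∈ ZW V R i) (hu : u ∈ UU V R j) : z * u = u * z := by
  obtain ⟨a, ha, ha1⟩ := hF
  refine b.comm_ZU c.ne (t := hh w1 w2 a) (c.hh_mem_X b.toBT a) (cj_eq_self_iff.1 (c.hh_R1 b.toBT ha))
    (fun u hu => c.exists_hh b.toBT ha ha1 hu) (fun x hx => ?_) perf hz hu
  obtain ⟨w, hw, he⟩ := b.exists_eps_W hx
  refine ⟨w, hw, fun t ht => ?_⟩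
  have h1 := inv_mem (b.CX ht he)
  have e : (t * (x * w) * t⁻¹ * (x * w)⁻¹)⁻¹ = (x * w) * t * (x * w)⁻¹ * t⁻¹ := by group
  rwa [e] at h1

/-- `Z(W j) = R j` -/
theorem ZW_eq_R [Finite G] [Finite F] [CharP F 2] (hF : ∃ a : F, a ≠ 0 ∧ a ≠ 1)
    (perf : UU V R j ≤ ⁅(⨆ h : normalizer (R i : Set G), Omega.BTwo.cj (h : G) (UU V R j)),
      (⨆ h : normalizer (R i : Set G), Omega.BTwo.cj (h : G) (UU V R j))⁆ ⊔ QQ (R i)) : ZW V R j = R j := by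
  refine c.ZW_eq b hF fun z hz u hu => ?_
  set n := nn w1 w2 1 with hn
  have h2 : Omega.BTwo.cj n (R j) = R i := c.nn_R2 b.toBT one_ne_zero
  have hnV : n ∈ normalizer (V : Set G) := b.X_le_NV (c.nn_mem_X b.toBT 1)
  have h3 : n * u * n⁻¹ ∈ UU V R j := by
    rw [← b.cj_UU hnV (c.nn_R1 b.toBT one_ne_zero)]
    exact conj_mem_cj hu
  have h4 : n * z * n⁻¹ ∈ ZW V R i := by
    have e := b.cj_WW h2
    refine ⟨?_, ?_⟩
    · rw [← e]; exact conj_mem_cj hz.1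
    · have h5 : n * z * n⁻¹ ∈ Omega.BTwo.cj n (centralizer (WW V (R j) : Set G)) := conj_mem_cj hz.2
      rwa [← centralizer_cj, e] at h5
  have h5 := c.comm_ZU b hF perf h4 h3
  calc z * u = n⁻¹ * ((n * z * n⁻¹) * (n * u * n⁻¹)) * n := by group
    _ = u * z := by rw [h5]; group

/-- **#11043, `q ≥ 4`, the end**: `C(W k) = R k` and `O₂(N(R k)) = W k` -/
theorem semi [Finite G] [Finite F] [CharP F 2] (hF : ∃ a : F, a ≠ 0 ∧ a ≠ 1)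
    (perf : UU V R j ≤ ⁅(⨆ h : normalizer (R i : Set G), Omega.BTwo.cj (h : G) (UU V R j)),
      (⨆ h : normalizer (R i : Set G), Omega.BTwo.cj (h : G) (UU V R j))⁆ ⊔ QQ (R i)) (k : ι) :
    centralizer (WW V (R k) : Set G) = R k ∧ QQ (R k) = WW V (R k) := by
  have h1 : centralizer (WW V (R j) : Set G) = R j := by
    refine le_antisymm (fun x hx => ?_) (b.R_cen_W j)
    rw [← c.ZW_eq_R b hF perf]
    exact ⟨b.cen_W_le_W_of_coord c.symm hF hx, hx⟩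
  have h2 : centralizer (WW V (R k) : Set G) = R k := by
    obtain ⟨x, -, hx⟩ := b.trans_one j k
    rw [← b.cj_WW hx, centralizer_cj, h1, hx]
  exact ⟨h2, b.Q_eq_W k h2.le⟩

end beta

end Coord

end Cfsg.Agent.Omega.BTwo
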