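import Cfsg.Agent.Omega.BTwo.LemL
import Cfsg.Agent.Omega.BTwo.Key

/-!
# SQ3, `b = 2`: field-free part of #11043 (8.5), (8.6) and the end

`ZW i = Z(W i)`.  `BTC.ZW_eq`: `[Z j, W i] ≤ Z i ⟹ Z j = R j`; `BTC.comm_ZU` = (8.6); `BTC.Q_eq_W`: the end.
-/

set_option autoImplicit false

namespace Cfsg.Agent.Omega.BTwo

open Subgroup
open scoped commutatorElement

variable {G : Type*} [Group G] {ι : Type*}

section

variable {V : Subgroup G} {R : ι → Subgroup G}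

theorem ZW_le_W (i : ι) : ZW V R i ≤ WW V (R i) := inf_le_left

theorem ZW_le_C (i : ι) : ZW V R i ≤ centralizer (WW V (R i) : Set G) := inf_le_right

theorem comm_ZW {i : ι} {z w : G} (hz : z ∈ ZW V R i) (hw : w ∈ WW V (R i)) : z * w = w * z :=
  (mem_centralizer_iff.1 hz.2 w hw).symm

theorem C_le_cen (i : ι) : centralizer (WW V (R i) : Set G) ≤ centralizer (V : Set G) :=
  centralizer_le (V_le_WW V (R i))

theorem N_le_NC (i : ι) : normalizer (R i : Set G) ≤ normalizer (centralizer (WW V (R i) : Set G) : Set G) :=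
  (normalizer_le_WW V (R i)).trans (normalizer_le_normalizer_centralizer _)

theorem conj_ZW {i : ι} {g z : G} (hg : g ∈ normalizer (R i : Set G)) (hz : z ∈ ZW V R i) :
    g * z * g⁻¹ ∈ ZW V R i :=
  ⟨conj_mem_of_normalizer (normalizer_le_WW V (R i) hg) hz.1, conj_mem_of_normalizer (N_le_NC i hg) hz.2⟩

variable (b : BT V R)
include b

omit b in
theorem ZW_le_U (i : ι) : ZW V R i ≤ UU V R i := fun _ hz => ⟨hz.1, C_le_cen i hz.2⟩

omit b in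
theorem isPGroup_of_sq {L Q : Subgroup G} (hQ : IsPGroup 2 Q) (h : ∀ g ∈ L, g * g ∈ Q) : IsPGroup 2 L := by
  intro g
  obtain ⟨k, hk⟩ := hQ ⟨(g : G) * g, h g g.2⟩
  refine ⟨k + 1, ?_⟩
  have h1 : ((g : G) * g) ^ 2 ^ k = 1 := congrArg Subtype.val hk
  apply Subtype.ext
  change (g : G) ^ 2 ^ (k + 1) = 1
  rw [pow_succ', pow_mul, pow_two, h1]

omit b in
theorem exists_mul_of_mem_sup {A B : Subgroup G} (hn : A ≤ normalizer (B : Set G)) {x : G} (hx : x ∈ A ⊔ B) :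
    ∃ a ∈ A, ∃ c ∈ B, x = a * c := by
  let T : Subgroup G :=
    { carrier := {x | ∃ a ∈ A, ∃ c ∈ B, x = a * c}
      one_mem' := ⟨1, one_mem _, 1, one_mem _, by group⟩
      mul_mem' := by
        rintro _ _ ⟨a, ha, c, hc, rfl⟩ ⟨a', ha', c', hc', rfl⟩
        exact ⟨a * a', mul_mem ha ha', a'⁻¹ * c * a' * c',
          mul_mem (conj_inv_mem_of_normalizer (hn ha') hc) hc', by group⟩
      inv_mem' := by
        rintro _ ⟨a, ha, c, hc, rfl⟩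
        exact ⟨a⁻¹, inv_mem ha, a * c⁻¹ * a⁻¹, conj_mem_of_normalizer (hn ha) (inv_mem hc), by group⟩ }
  have hT : A ⊔ B ≤ T := sup_le (fun a ha => ⟨a, ha, 1, one_mem _, by group⟩)
    (fun c hc => ⟨1, one_mem _, c, hc, by group⟩)
  exact hT hx

/-- the elements of `N(R i)` trivial on `W i / Z i` and on `Z i / R i` are in `Q i` -/
theorem BT.LL_le (KQ : ∀ i, KK V R i ≤ QQ (R i)) (i : ι) :
    normalizer (R i : Set G) ⊓ cenMod (ZW V R i) (WW V (R i)) ⊓ cenMod (R i) (ZW V R i) ≤ QQ (R i) := by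
  refine le_O2_of_normal (inf_le_left.trans inf_le_left) (isPGroup_of_sq (O2_isPGroup (normalizer (R i : Set G))) ?_) ?_
  · rintro g ⟨⟨hg, hg1⟩, hg2⟩
    refine KQ i ⟨mul_mem hg hg, fun w hw => ?_⟩
    have h1 := hg1.2 w hw
    have h2 := hg2.2 _ h1
    set z := g * w * g⁻¹ * w⁻¹ with hz
    have e : g * g * w * (g * g)⁻¹ * w⁻¹ = (g * z * g⁻¹ * z⁻¹) * (z * z) := by rw [hz]; group
    rw [e]
    exact mul_mem h2 (b.W_sq i (ZW_le_W i h1))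
  · rintro g hg x ⟨⟨hx, hx1⟩, hx2⟩
    have hn : g * x * g⁻¹ ∈ normalizer (R i : Set G) := mul_mem (mul_mem hg hx) (inv_mem hg)
    exact ⟨⟨hn, conj_cenMod (N_le_NZW i hg) (normalizer_le_WW V (R i) hg) hx1⟩,
      conj_cenMod hg (N_le_NZW i hg) hx2⟩

omit b in
/-- **(8.5), end**: if `[Z j, W i] ≤ Z i`, then `Z j = R j` -/
theorem BTC.ZW_eq [Finite G] {V : Subgroup G} {R : ι → Subgroup G} (b : BTC V R) {i j : ι} (hij : i ≠ j)
    (h : ∀ z ∈ ZW V R j, ∀ w ∈ WW V (R i), z * w * z⁻¹ * w⁻¹ ∈ ZW V R i) : ZW V R j = R j := by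
  apply le_antisymm _ (b.R_le_ZW j)
  intro z hz
  have hzV := C_le_cen j hz.2
  have hzN := b.cen_le_N i hzV
  have h1 : z ∈ QQ (R i) := by
    refine b.LL_le (fun i => (b.K_eq i).le) i ⟨⟨hzN, N_le_NZW i hzN, h z hz⟩, hzN, fun ζ hζ => ?_⟩
    rw [b.cen_comm (Ne.symm hij) hz.2 hζ.2, mul_inv_cancel_right, mul_inv_cancel]
    exact one_mem _
  refine b.cen_DW (i := j) ?_ hz.2
  rw [b.D_eq (Ne.symm hij)]
  exact ⟨hz.1, h1⟩

omit b in
/-- **(8.6)**: `[Z i, U j] = 1` if `⟨U_j^{H_i}⟩ Q_i / Q_i` is perfect -/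
theorem BTC.comm_ZU {V : Subgroup G} {R : ι → Subgroup G} (b : BTC V R) {i j : ι} (hij : i ≠ j)
    {t : G} (ht : t ∈ XX V R) (hti : t ∈ normalizer (R i : Set G))
    (hU : ∀ u ∈ UU V R j, ∃ u' ∈ UU V R j, ∃ d ∈ DD V R, u = u' * (t * u'⁻¹ * t⁻¹) * d)
    (hF : ∀ x ∈ QQ (R i), ∃ w ∈ WW V (R i), ∀ t ∈ XX V R, (x * w) * t * (x * w)⁻¹ * t⁻¹ ∈ V)
    (perf : UU V R j ≤ ⁅(⨆ h : normalizer (R i : Set G), cj (h : G) (UU V R j)),
      (⨆ h : normalizer (R i : Set G), cj (h : G) (UU V R j))⁆ ⊔ QQ (R i))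
    {z u : G} (hz : z ∈ ZW V R i) (hu : u ∈ UU V R j) : z * u = u * z := by
  set P : Subgroup G := ⨆ h : normalizer (R i : Set G), cj (h : G) (UU V R j) with hP
  -- the elements of `N(R i)` trivial on `Z i / R i` and on `R i`
  let S : Subgroup G := cenMod (R i) (ZW V R i) ⊓ centralizer (R i : Set G)
  have hUS : UU V R j ≤ S := by
    intro u hu
    refine ⟨⟨b.cen_le_N i (UU_le_cen j hu), fun ζ hζ => ?_⟩, ?_⟩
    · have h1 := b.cen_W_U hij hζ.2 hu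
      have e : u * ζ * u⁻¹ * ζ⁻¹ = (ζ * u * ζ⁻¹ * u⁻¹)⁻¹ := by group
      rw [e]; exact inv_mem h1
    · exact centralizer_le (b.R_le i) (UU_le_cen j hu)
  have hPS : P ≤ S := by
    refine iSup_le fun k => ?_
    rintro _ ⟨x, hx, rfl⟩
    change (k : G) * x * (k : G)⁻¹ ∈ S
    have h1 := hUS hx
    exact ⟨conj_cenMod k.2 (N_le_NZW i k.2) h1.1,
      conj_mem_of_normalizer (normalizer_le_normalizer_centralizer _ k.2) h1.2⟩
  -- `[P, P]` centralises `Z i`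
  have hPC : ∀ ζ ∈ ZW V R i, ∀ p ∈ ⁅P, P⁆, p * ζ = ζ * p := by
    intro ζ hζ
    let ρ : S →* R i :=
      { toFun := fun g => ⟨g * ζ * (g : G)⁻¹ * ζ⁻¹, g.2.1.2 ζ hζ⟩
        map_one' := by apply Subtype.ext; change 1 * ζ * (1 : G)⁻¹ * ζ⁻¹ = 1; group
        map_mul' := by
          intro g h
          apply Subtype.ext
          change g * h * ζ * (g * h : G)⁻¹ * ζ⁻¹ = (g * ζ * (g : G)⁻¹ * ζ⁻¹) * (h * ζ * (h : G)⁻¹ * ζ⁻¹)
          have h1 : h * ζ * (h : G)⁻¹ * ζ⁻¹ ∈ R i := h.2.1.2 ζ hζ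
          have h2 := mem_centralizer_iff.1 g.2.2 _ h1
          have h3 : g * ζ * (g : G)⁻¹ * ζ⁻¹ ∈ R i := g.2.1.2 ζ hζ
          have h4 := b.V_comm _ (b.R_le i h1) _ (b.R_le i h3)
          calc g * h * ζ * (g * h : G)⁻¹ * ζ⁻¹ = (g * (h * ζ * (h : G)⁻¹ * ζ⁻¹)) * (ζ * (g : G)⁻¹ * ζ⁻¹) := by group
            _ = (h * ζ * (h : G)⁻¹ * ζ⁻¹) * (g * ζ * (g : G)⁻¹ * ζ⁻¹) := by rw [← h2]; group
            _ = _ := h4 }
    have hker : ⁅P, P⁆ ≤ ρ.ker.map S.subtype := by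
      rw [commutator_le]
      intro g hg h hh
      refine ⟨⁅(⟨g, hPS hg⟩ : S), (⟨h, hPS hh⟩ : S)⁆, ?_, rfl⟩
      rw [SetLike.mem_coe, MonoidHom.mem_ker, map_commutatorElement, commutatorElement_eq_one_iff_mul_comm]
      exact Subtype.ext (b.V_comm _ (b.R_le i (ρ _).2) _ (b.R_le i (ρ _).2))
    intro p hp
    obtain ⟨q, hq, rfl⟩ := hker hp
    have h1 : (q : G) * ζ * (q : G)⁻¹ * ζ⁻¹ = 1 := congrArg Subtype.val (MonoidHom.mem_ker.1 hq)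
    rwa [mul_inv_eq_one, mul_inv_eq_iff_eq_mul] at h1
  -- `[U j, t]` centralises `Z i`
  have hcomm : ∀ u ∈ UU V R j, ∀ ζ ∈ ZW V R i, u * (t * u⁻¹ * t⁻¹) * ζ = ζ * (u * (t * u⁻¹ * t⁻¹)) := by
    intro u hu ζ hζ
    have hPP : (⁅P, P⁆ : Subgroup G) ≤ normalizer (R i : Set G) := by
      rw [commutator_le]
      intro g hg h hh
      rw [commutatorElement_def]
      exact mul_mem (mul_mem (mul_mem (hPS hg).1.1 (hPS hh).1.1) (inv_mem (hPS hg).1.1)) (inv_mem (hPS hh).1.1)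
    obtain ⟨p, hp, x, hx, e⟩ := exists_mul_of_mem_sup (hPP.trans (le_normalizer_O2 _)) (perf hu)
    obtain ⟨w, hw, hwt⟩ := hF x hx
    have hεN : x * w ∈ normalizer (R i : Set G) := mul_mem (b.Q_le i hx) (b.W_le_N i hw)
    have huN : u ∈ normalizer (R i : Set G) := b.cen_le_N i (UU_le_cen j hu)
    -- `u` acts on `Z i` as `x w`
    have hact : ∀ ζ ∈ ZW V R i, u * ζ * u⁻¹ = (x * w) * ζ * (x * w)⁻¹ := by
      intro ζ hζ
      have h1 := comm_ZW hζ hw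
      have h2 := hPC _ (conj_ZW hεN hζ) p hp
      have h3 : x * ζ * x⁻¹ = (x * w) * ζ * (x * w)⁻¹ := by
        calc x * ζ * x⁻¹ = x * (ζ * w) * w⁻¹ * x⁻¹ := by group
          _ = (x * w) * ζ * (x * w)⁻¹ := by rw [h1]; group
      calc u * ζ * u⁻¹ = p * (x * ζ * x⁻¹) * p⁻¹ := by rw [e]; group
        _ = (x * w) * ζ * (x * w)⁻¹ := by rw [h3, h2, mul_inv_cancel_right]
    have hact' : ∀ ζ ∈ ZW V R i, u⁻¹ * ζ * u = (x * w)⁻¹ * ζ * (x * w) := by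
      intro ζ hζ
      have h1 := conj_ZW (inv_mem huN) hζ
      rw [inv_inv] at h1
      have h2 := hact _ h1
      have h3 : u * (u⁻¹ * ζ * u) * u⁻¹ = ζ := by group
      rw [h3] at h2
      calc u⁻¹ * ζ * u = (x * w)⁻¹ * ((x * w) * (u⁻¹ * ζ * u) * (x * w)⁻¹) * (x * w) := by group
        _ = (x * w)⁻¹ * ζ * (x * w) := by rw [← h2]
    have hζ1 : t⁻¹ * ζ * t ∈ ZW V R i := by
      have := conj_ZW (inv_mem hti) hζ
      rwa [inv_inv] at this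
    have hζ2 : t * ((x * w)⁻¹ * (t⁻¹ * ζ * t) * (x * w)) * t⁻¹ ∈ ZW V R i := by
      have := conj_ZW (inv_mem hεN) hζ1
      rw [inv_inv] at this
      exact conj_ZW hti this
    have hv := mem_centralizer_iff.1 (ZW_le_C i hζ) _ (V_le_WW V (R i) (hwt t ht))
    have h4 : (u * (t * u⁻¹ * t⁻¹)) * ζ * (u * (t * u⁻¹ * t⁻¹))⁻¹ = ζ := by
      calc (u * (t * u⁻¹ * t⁻¹)) * ζ * (u * (t * u⁻¹ * t⁻¹))⁻¹
          = u * (t * (u⁻¹ * (t⁻¹ * ζ * t) * u) * t⁻¹) * u⁻¹ := by group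
        _ = u * (t * ((x * w)⁻¹ * (t⁻¹ * ζ * t) * (x * w)) * t⁻¹) * u⁻¹ := by rw [hact' _ hζ1]
        _ = (x * w) * (t * ((x * w)⁻¹ * (t⁻¹ * ζ * t) * (x * w)) * t⁻¹) * (x * w)⁻¹ := hact _ hζ2
        _ = ((x * w) * t * (x * w)⁻¹ * t⁻¹ * ζ) * ((x * w) * t * (x * w)⁻¹ * t⁻¹)⁻¹ := by group
        _ = ζ := by rw [hv]; group
    rwa [mul_inv_eq_iff_eq_mul] at h4
  obtain ⟨u', hu', d, hd, e⟩ := hU u hu
  have h1 := hcomm u' hu' z hz
  have h2 : z * d = d * z := mem_centralizer_iff.1 (ZW_le_C i hz) d (D_le_W V R i hd) |>.symm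
  calc z * u = (z * (u' * (t * u'⁻¹ * t⁻¹))) * d := by rw [e]; group
    _ = (u' * (t * u'⁻¹ * t⁻¹)) * (z * d) := by rw [← h1]; group
    _ = u * z := by rw [h2, e]; group

/-- **end of #11043**: if `C(W i) ≤ R i`, then `Q i = W i` -/
theorem BT.Q_eq_W [Finite G] (i : ι) (hC : centralizer (WW V (R i) : Set G) ≤ R i) : QQ (R i) = WW V (R i) := by
  refine le_antisymm (fun g hg => ?_) (b.W_le_Q i)
  obtain ⟨w, hw, h⟩ := b.Q_eq i (fun w _ h => hC (mem_centralizer_iff.2 fun w' hw' => (h w' hw').symm)) g hg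
  have h1 : w⁻¹ * g ∈ R i := hC (mem_centralizer_iff.2 fun w' hw' => (h w' hw').symm)
  have e : g = w * (w⁻¹ * g) := by group
  rw [e]
  exact mul_mem hw (V_le_WW V (R i) (b.R_le i h1))

end

end Cfsg.Agent.Omega.BTwo
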