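import Cfsg.Agent.Omega.BTwo.Rad

/-!
# II.0h1, split case: #11929 (1), (2), (3), (5), `C_D(X) ≠ 1` allowed, field-free

`V` is the natural part `[V_P, E]`, `R i` its points.  `BTS` is `BTC` without the field `meet`.
`C_X = C(X)`, `Z i = Z(W i)`.
-/

set_option autoImplicit false

namespace Cfsg.Agent.Omega.BTwo

open Subgroup

variable {G : Type*} [Group G] {ι : Type*}

/-- `b = 2`; no 2-subgroup `≠ 1` is normalised by `N(V)` and `N(R i)`; `C(Q i) ≤ Q i`.  Here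
`C_D(X) ≠ 1` is allowed. -/
structure BTS (V : Subgroup G) (R : ι → Subgroup G) : Prop extends BT V R where
  nonloc : ∀ i, ∀ T : Subgroup G, IsPGroup 2 T → T ≤ normalizer (V : Set G) → T ≤ normalizer (R i : Set G) →
    normalizer (V : Set G) ≤ normalizer (T : Set G) →
    normalizer (R i : Set G) ≤ normalizer (T : Set G) → T = ⊥
  cenQ : ∀ i, normalizer (R i : Set G) ⊓ centralizer (QQ (R i) : Set G) ≤ QQ (R i)

/-- `Z i = Z(W i)` -/
def ZZ (V : Subgroup G) (R : ι → Subgroup G) (i : ι) : Subgroup G :=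
  WW V (R i) ⊓ centralizer (WW V (R i) : Set G)

/-- `C_X = C(X)` -/
abbrev CenX (V : Subgroup G) (R : ι → Subgroup G) : Subgroup G := centralizer (XX V R : Set G)

variable {V : Subgroup G} {R : ι → Subgroup G}

theorem BTC.toBTS (b : BTC V R) : BTS V R where
  toBT := b.toBT
  nonloc := b.nonloc
  cenQ := b.cenQ

theorem mem_ZZ {i : ι} {z : G} : z ∈ ZZ V R i ↔
    z ∈ WW V (R i) ∧ z ∈ centralizer (WW V (R i) : Set G) := mem_inf

section

variable (b : BT V R)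
include b

/-- the swap argument, general form -/
theorem BT.swap_exists {i j : ι} (hij : i ≠ j) {c : G} (hc : c ∈ centralizer (WW V (R i) : Set G))
    (hX : ∀ x ∈ XX V R, x * c * x⁻¹ * c⁻¹ ∈ V) : ∃ a ∈ R i, a * c ∈ CenX V R := by
  obtain ⟨n, hn, e1, -⟩ := b.trans_X hij (Ne.symm hij)
  obtain ⟨a, ha, a', ha', e⟩ := b.exists_mul hij (hX n hn)
  have h1 : n * c * n⁻¹ ∈ centralizer (WW V (R j) : Set G) := by
    rw [← b.cj_WW e1, centralizer_cj]
    exact conj_mem_cj hc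
  have h2 : a * c ∈ centralizer (WW V (R i) : Set G) := mul_mem (b.R_cen_W i ha) hc
  have h3 : a * c ∈ centralizer (WW V (R j) : Set G) := by
    have h4 : a * c = a'⁻¹ * (n * c * n⁻¹) := by
      have h5 := b.V_comm a (b.R_le i ha) a' (b.R_le j ha')
      calc a * c = a'⁻¹ * (a' * a) * c := by group
        _ = a'⁻¹ * (n * c * n⁻¹ * c⁻¹) * c := by rw [← h5, ← e]
        _ = a'⁻¹ * (n * c * n⁻¹) := by group
    rw [h4]
    exact mul_mem (inv_mem (b.R_cen_W j ha')) h1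
  exact ⟨a, ha, b.mem_cen_X hij h2 h3⟩

/-- `N(V)` normalises `C_X` -/
theorem BT.NV_le_NCenX : normalizer (V : Set G) ≤ normalizer (CenX V R : Set G) :=
  b.NV_le_NX.trans (normalizer_le_normalizer_centralizer _)

theorem BT.CenX_le_cen : CenX V R ≤ centralizer (V : Set G) := by
  obtain ⟨i⟩ := b.nonempty
  exact (cen_X_le i).trans (cen_W_le V (R i))

theorem BT.CenX_inf_V : CenX V R ⊓ V = ⊥ := by
  rw [eq_bot_iff_forall]
  rintro x ⟨h1, h2⟩
  exact b.cen_VX h2 h1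

/-- `Z i ∩ Z j = C_D(X)` -/
theorem BT.ZZ_inf {i j : ι} (hij : i ≠ j) : ZZ V R i ⊓ ZZ V R j = DD V R ⊓ CenX V R := by
  apply le_antisymm
  · rintro z ⟨⟨h1, h2⟩, h3, h4⟩
    refine ⟨?_, b.mem_cen_X hij h2 h4⟩
    rw [b.D_eq' hij]
    exact ⟨h1, h3⟩
  · rintro z ⟨h1, h2⟩
    exact ⟨⟨D_le_W V R i h1, cen_X_le i h2⟩, D_le_W V R j h1, cen_X_le j h2⟩

theorem BT.R_le_Z (i : ι) : R i ≤ ZZ V R i :=
  le_inf ((b.R_le i).trans (V_le_WW V (R i))) (b.R_cen_W i)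

end

section BTS

variable (b : BTS V R)
include b

/-- **(1)** `C_D(W i) ≤ R i · C_D(X)` -/
theorem BTS.cen_DW {i : ι} {d : G} (hd : d ∈ DD V R) (h : d ∈ centralizer (WW V (R i) : Set G)) :
    ∃ a ∈ R i, a * d ∈ DD V R ⊓ CenX V R := by
  obtain ⟨j, hj, -⟩ := b.third i i
  obtain ⟨a, ha, hX⟩ := b.swap_exists (Ne.symm hj) h (fun x hx => b.XD hx hd)
  exact ⟨a, ha, mul_mem (V_le_D V R (b.R_le i ha)) hd, hX⟩

/-- `C_D(U i) ≤ V · C_D(X)` -/
theorem BTS.cen_DU {i : ι} {d : G} (hd : d ∈ DD V R) (hU : ∀ u ∈ UU V R i, d * u = u * d) :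
    ∃ v ∈ V, v * d ∈ DD V R ⊓ CenX V R := by
  obtain ⟨v, hv, hc⟩ := b.cen_U (b.W_le_Q i (D_le_W V R i hd)) hU
  obtain ⟨a, ha, h1⟩ := b.cen_DW (mul_mem (inv_mem (V_le_D V R hv)) hd) hc
  refine ⟨a * v⁻¹, mul_mem (b.R_le i ha) (inv_mem hv), ?_⟩
  rwa [mul_assoc]

/-- `λ` is injective on `D / V C_D(X)` -/
theorem BTS.lam_inj {d : G} (hd : d ∈ DD V R) (h : ∀ y ∈ YY V R, d * y * d⁻¹ * y⁻¹ = 1) :
    ∃ v ∈ V, v * d ∈ DD V R ⊓ CenX V R := by
  obtain ⟨i⟩ := b.nonempty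
  refine b.cen_DU (i := i) hd fun u hu => ?_
  have := h u (UU_le_YY i hu)
  rwa [mul_inv_eq_one, mul_inv_eq_iff_eq_mul] at this

/-- `[C(W i), U j] ≤ D ∩ C(W i)` -/
theorem BTS.cen_W_U {i j : ι} (hij : i ≠ j) {c u : G} (hc : c ∈ centralizer (WW V (R i) : Set G))
    (hu : u ∈ UU V R j) : c * u * c⁻¹ * u⁻¹ ∈ DD V R ⊓ centralizer (WW V (R i) : Set G) := by
  have hcV := cen_W_le V (R i) hc
  have huV := UU_le_cen j hu
  have hc2 := conj_mem_of_normalizer (normalizer_le_normalizer_centralizer _ (b.cen_le_NW i huV)) (inv_mem hc)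
  have e : c * u * c⁻¹ * u⁻¹ = c * (u * c⁻¹ * u⁻¹) := by group
  have h1 : c * u * c⁻¹ * u⁻¹ ∈ centralizer (WW V (R i) : Set G) := by
    rw [e]
    exact mul_mem hc hc2
  have h2 : c * u * c⁻¹ * u⁻¹ ∈ UU V R j :=
    mul_mem (conj_mem_of_normalizer (b.cen_le_NU j hcV) hu) (inv_mem hu)
  refine ⟨?_, h1⟩
  rw [← b.UK hij]
  exact mem_inf.2 ⟨h2, b.cen_W_le_K i h1⟩

/-- odd order elements of `C(W i)` centralise `W j` -/
theorem BTS.odd_cen {i j : ι} (hij : i ≠ j) {c : G} (hc : c ∈ centralizer (WW V (R i) : Set G))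
    (ho : Odd (orderOf c)) : c ∈ centralizer (WW V (R j) : Set G) := by
  have h1 : ∀ u ∈ UU V R j, c * u = u * c := by
    intro u hu
    have h := (b.cen_W_U hij hc hu).1
    refine comm_of_odd ho ((b.W_isPGroup i).to_le (D_le_W V R i)) h ?_
    exact (mem_centralizer_iff.1 hc _ (D_le_W V R i h)).symm
  rw [mem_centralizer_iff]
  intro w hw
  have h := b.cen_W_W hc hw
  exact (comm_of_odd ho (b.U_isPGroup j) h (h1 _ h)).symm

theorem BTS.LL_eq (i j : ι) : LL V R i = LL V R j := by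
  have key : ∀ i j : ι, i ≠ j → LL V R i ≤ LL V R j := fun i j hij =>
    closure_mono fun c hc => ⟨b.odd_cen hij hc.1 hc.2, hc.2⟩
  by_cases h : i = j
  · rw [h]
  · exact le_antisymm (key i j h) (key j i (Ne.symm h))

theorem BTS.cj_LL {g : G} {i j : ι} (h : cj g (R i) = R j) : cj g (LL V R i) = LL V R j := by
  have key : ∀ (g : G) (i j : ι), cj g (R i) = R j → cj g (LL V R i) ≤ LL V R j := by
    intro g i j h
    rw [cj, map_le_iff_le_comap, LL, closure_le]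
    rintro c ⟨hc, ho⟩
    refine subset_closure ⟨?_, ?_⟩
    · rw [← b.cj_WW h, centralizer_cj]
      exact conj_mem_cj hc
    · exact ((orderOf_injective (MulAut.conj g).toMonoidHom (MulAut.conj g).injective c).symm ▸ ho :)
  apply le_antisymm (key g i j h)
  have h' : cj g⁻¹ (R j) = R i := by rw [← h, cj_inv_cj]
  have h3 := cj_mono (g := g) (key g⁻¹ j i h')
  rwa [cj_cj_inv] at h3

/-- **(2)** `C(W i)` is a 2-group -/
theorem BTS.cen_W_isPGroup [Finite G] (i : ι) : IsPGroup 2 (centralizer (WW V (R i) : Set G)) := by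
  have hLV : LL V R i ≤ centralizer (V : Set G) := (LL_le i).trans (cen_W_le V (R i))
  have hLN : LL V R i ≤ normalizer (R i : Set G) := hLV.trans (b.cen_le_N i)
  have h1 : normalizer (V : Set G) ≤ normalizer (LL V R i : Set G) := by
    intro g hg
    obtain ⟨j, hj⟩ := b.perm g hg i
    rw [← cj_eq_self_iff, b.cj_LL hj, b.LL_eq]
  have h2 : normalizer (R i : Set G) ≤ normalizer (LL V R i : Set G) := by
    intro g hg
    rw [← cj_eq_self_iff, b.cj_LL (cj_eq_self_iff.2 hg)]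
  have h3 : normalizer (LL V R i : Set G) ≤ normalizer (O2 (LL V R i) : Set G) := by
    intro g hg
    rw [← cj_eq_self_iff] at hg ⊢
    rw [cj_O2, hg]
  have h4 : O2 (LL V R i) = ⊥ := b.nonloc i _ (O2_isPGroup _) ((O2_le _).trans (hLV.trans (cen_le_NV V)))
    ((O2_le _).trans hLN) (h1.trans h3) (h2.trans h3)
  have hQ := le_normalizer_O2 (normalizer (R i : Set G))
  have h5 : LL V R i ≤ centralizer (QQ (R i) : Set G) := by
    intro l hl
    rw [mem_centralizer_iff]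
    intro q hq
    have k1 : q * l * q⁻¹ * l⁻¹ ∈ LL V R i :=
      mul_mem (conj_mem_of_normalizer (h2 (b.Q_le i hq)) hl) (inv_mem hl)
    have k2 : q * l * q⁻¹ * l⁻¹ ∈ QQ (R i) := by
      have e : q * l * q⁻¹ * l⁻¹ = q * (l * q⁻¹ * l⁻¹) := by group
      rw [e]
      exact mul_mem hq (conj_mem_of_normalizer (hQ (hLN hl)) (inv_mem hq))
    have k3 : LL V R i ⊓ QQ (R i) ≤ O2 (LL V R i) := by
      refine le_O2_of_normal inf_le_left ((O2_isPGroup _).to_le inf_le_right) ?_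
      intro g hg a ha
      exact mem_inf.2 ⟨mul_mem (mul_mem hg ha.1) (inv_mem hg), conj_mem_of_normalizer (hQ (hLN hg)) ha.2⟩
    have k4 : q * l * q⁻¹ * l⁻¹ ∈ O2 (LL V R i) := k3 (mem_inf.2 ⟨k1, k2⟩)
    rw [h4, mem_bot, mul_inv_eq_one, mul_inv_eq_iff_eq_mul] at k4
    exact k4
  have h6 : LL V R i ≤ QQ (R i) := fun l hl => b.cenQ i (mem_inf.2 ⟨hLN hl, h5 hl⟩)
  refine isPGroup_of_odd fun c hc ho => ?_
  have h7 : c ∈ QQ (R i) := h6 (subset_closure ⟨hc, ho⟩)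
  obtain ⟨n, hn⟩ := O2_isPGroup _ (⟨c, h7⟩ : QQ (R i))
  have hn' : c ^ 2 ^ n = 1 := congrArg Subtype.val hn
  have hd := Nat.dvd_gcd (dvd_refl (orderOf c)) (orderOf_dvd_of_pow_eq_one hn')
  have hco : Nat.gcd (orderOf c) (2 ^ n) = 1 := (Nat.coprime_two_right.2 ho).pow_right n
  rw [hco, Nat.dvd_one, orderOf_eq_one_iff] at hd
  exact hd

/-- **(2)** `K i` is a 2-group, `= Q i` -/
theorem BTS.K_eq [Finite G] (i : ι) : KK V R i = QQ (R i) := by
  apply le_antisymm _ (b.Q_le_K i)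
  refine le_O2_of_normal (KK_le_N i) ?_ fun g hg c hc => conj_mem_of_normalizer (b.N_le_NK i hg) hc
  refine isPGroup_of_odd fun c hc ho => ?_
  have h1 : c ∈ centralizer (WW V (R i) : Set G) := by
    rw [mem_centralizer_iff]
    intro w hw
    have h := hc.2 w hw
    have h2 := b.KR i hc h
    rw [mul_inv_eq_iff_eq_mul] at h2
    exact (comm_of_odd ho ((b.W_isPGroup i).to_le ((b.R_le i).trans (V_le_WW V (R i)))) h h2).symm
  obtain ⟨n, hn⟩ := b.cen_W_isPGroup i ⟨c, h1⟩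
  have hn' : c ^ 2 ^ n = 1 := congrArg Subtype.val hn
  have hd := Nat.dvd_gcd (dvd_refl (orderOf c)) (orderOf_dvd_of_pow_eq_one hn')
  have hco : Nat.gcd (orderOf c) (2 ^ n) = 1 := (Nat.coprime_two_right.2 ho).pow_right n
  rw [hco, Nat.dvd_one, orderOf_eq_one_iff] at hd
  exact hd

theorem BTS.cen_W_le_Q [Finite G] (i : ι) : centralizer (WW V (R i) : Set G) ≤ QQ (R i) := by
  rw [← b.K_eq i]
  exact b.cen_W_le_K i

/-- `C_X` is a 2-group -/
theorem BTS.CenX_isPGroup [Finite G] : IsPGroup 2 (CenX V R) := by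
  obtain ⟨i⟩ := b.nonempty
  exact (b.cen_W_isPGroup i).to_le (cen_X_le i)

/-- `C_X ≤ Q_1 ∩ Q_2` -/
theorem BTS.CenX_le_C [Finite G] : CenX V R ≤ CC R := le_iInf fun i => (cen_X_le i).trans (b.cen_W_le_Q i)

/-! ### (3) -/

/-- `C(W i) ∩ Q j ≤ R i · C_X` -/
theorem BTS.cen_W_Q [Finite G] {i j : ι} (hij : i ≠ j) {c : G}
    (hc : c ∈ centralizer (WW V (R i) : Set G)) (hj : c ∈ QQ (R j)) : ∃ a ∈ R i, a * c ∈ CenX V R := by
  refine b.swap_exists hij hc fun x hx => b.CX hx ?_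
  rw [b.C_eq hij]
  exact mem_inf.2 ⟨b.cen_W_le_Q i hc, hj⟩

/-- **(3)** `C_{Q_1 ∩ Q_2}(W i) ≤ R i · C_X` -/
theorem BTS.cen_CW [Finite G] {i : ι} {x : G} (hx : x ∈ CC R)
    (h : x ∈ centralizer (WW V (R i) : Set G)) : ∃ a ∈ R i, a * x ∈ CenX V R := by
  obtain ⟨j, hj, -⟩ := b.third i i
  exact b.cen_W_Q (Ne.symm hj) h (mem_iInf.1 hx j)

/-- **(3)** `C_{Q_1 ∩ Q_2}(U i) ≤ V · C_X` -/
theorem BTS.cen_CU [Finite G] {i : ι} {x : G} (hx : x ∈ CC R) (hU : ∀ u ∈ UU V R i, x * u = u * x) :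
    ∃ v ∈ V, v * x ∈ CenX V R := by
  obtain ⟨v, hv, hc⟩ := b.cen_U (mem_iInf.1 hx i) hU
  obtain ⟨a, ha, h1⟩ := b.cen_CW (mul_mem (inv_mem (b.V_le_C hv)) hx) hc
  refine ⟨a * v⁻¹, mul_mem (b.R_le i ha) (inv_mem hv), ?_⟩
  rwa [mul_assoc]

/-- **(3)** squares of elements of `Q_1 ∩ Q_2` are in `C_X` -/
theorem BTS.C_sq [Finite G] {x : G} (hx : x ∈ CC R) : x * x ∈ CenX V R := by
  obtain ⟨i, j, hij⟩ := b.exists_pair
  have key : ∀ k, x * x ∈ centralizer (WW V (R k) : Set G) := by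
    intro k
    rw [mem_centralizer_iff]
    intro w hw
    have hxk : x ∈ QQ (R k) := (mem_iInf.1 hx) k
    have h1 := b.WQ k hxk hw
    have h2 := b.conj_R hxk h1
    have e : x * x * w * (x * x)⁻¹ * w⁻¹ =
        x * (x * w * x⁻¹ * w⁻¹) * x⁻¹ * (x * w * x⁻¹ * w⁻¹) := by group
    rw [h2, b.V_sq _ (b.R_le k h1), mul_inv_eq_one, mul_inv_eq_iff_eq_mul] at e
    exact e.symm
  exact b.mem_cen_X hij (key i) (key j)

/-- commutators of elements of `Q_1 ∩ Q_2` are in `C_X` -/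
theorem BTS.C_comm [Finite G] {x y : G} (hx : x ∈ CC R) (hy : y ∈ CC R) :
    x * y * x⁻¹ * y⁻¹ ∈ CenX V R := by
  have hN := b.NV_le_NCenX (cen_le_NV V (b.C_le_cen hy))
  have h1 := b.C_sq (mul_mem hx hy)
  have h2 := inv_mem (b.C_sq hx)
  have h3 := inv_mem (b.C_sq hy)
  have h4 := conj_inv_mem_of_normalizer hN h2
  have e : x * y * x⁻¹ * y⁻¹ = (x * y * (x * y)) * (y⁻¹ * (x * x)⁻¹ * y) * (y * y)⁻¹ := by group
  rw [e]
  exact mul_mem (mul_mem h1 h4) h3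

/-- `[Q_1 ∩ Q_2, D] = 1` -/
theorem BTS.C_D [Finite G] {x d : G} (hx : x ∈ CC R) (hd : d ∈ DD V R) : x * d = d * x := by
  have h : x * d * x⁻¹ * d⁻¹ = 1 :=
    b.eq_one_of_forall fun i => b.WQ i (mem_iInf.1 hx i) (D_le_W V R i hd)
  rwa [mul_inv_eq_one, mul_inv_eq_iff_eq_mul] at h

omit b in
/-- `Z i` is normalised by `N(R i)` -/
theorem N_le_NZ (i : ι) : normalizer (R i : Set G) ≤ normalizer (ZZ V R i : Set G) := by
  intro g hg
  have h := normalizer_le_WW V (R i) hg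
  rw [← cj_eq_self_iff, ZZ, cj_inf, ← centralizer_cj, cj_eq_self_iff.2 h]

theorem BTS.cj_ZZ {g : G} {i j : ι} (h : cj g (R i) = R j) : cj g (ZZ V R i) = ZZ V R j := by
  rw [ZZ, cj_inf, ← centralizer_cj, b.cj_WW h]
  rfl

end BTS

end Cfsg.Agent.Omega.BTwo
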