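import Cfsg.Agent.Omega.BTwo.SplitFour
import Cfsg.Agent.Omega.BTwo.RadQ
import Cfsg.Agent.Omega.BTwo.YPair

/-!
# II.0h1, split case: the `F_q` part of #11929 (4), (6)

* `Coord.splits` : `q ≥ 4` implies `C(W i) = Z(W i) C(X)`.
* `YPair.M0` : `Z(W i) / (R i · D₁)` is an `F`-subspace `M0` of `M = U i / D`; the same subspace for `j`.
* `YPair.exists_beta` : for `z ∈ Z(W i)`, `u ∈ U j` : `[z, u] = v (β (P1 z) (P2 u)) 0 * δ (P1 z) (P2 u)`,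
  `β (s m) (t m') = s² t β m m'`, `δ` has values in `D₁ = D ∩ C(X)` and is balanced.
-/

set_option autoImplicit false
set_option linter.unusedSectionVars false

namespace Cfsg.Agent.Omega.BTwo

open Subgroup

universe u v w

variable {G : Type u} [Group G] {ι : Type w} {V : Subgroup G} {R : ι → Subgroup G} {i j : ι}
  {F : Type v} [Field F] {v : F → F → G} {w1 w2 : F → G}

/-- **(4), `q ≥ 4`** : `C(W i) = Z(W i) C(X)` -/
theorem Coord.splits [Finite G] [Finite F] [CharP F 2] (c : Coord V R i j v w1 w2) (b : BTS V R)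
    (hF : ∃ a : F, a ≠ 0 ∧ a ≠ 1) : Splits V R i := by
  obtain ⟨p, τ, k, hp, hp2, hτ, hX, hR, -, hf⟩ := c.exists_tau b.toBT hF
  exact b.cen_W_split hp hp2 hX hR hτ hf

/-- (4) for all points -/
theorem Coord.splits_all [Finite G] [Finite F] [CharP F 2] (c : Coord V R i j v w1 w2) (b : BTS V R)
    (hF : ∃ a : F, a ≠ 0 ∧ a ≠ 1) (k : ι) : Splits V R k := by
  obtain ⟨x, hx, e⟩ := b.trans_X_one i k
  intro d hd
  have h1 : x⁻¹ * d * x ∈ centralizer (WW V (R i) : Set G) := by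
    rw [← mem_cj, ← centralizer_cj, b.cj_WW e]
    exact hd
  obtain ⟨z, hz, y, hy, e1⟩ := c.splits b hF _ h1
  refine ⟨x * z * x⁻¹, ?_, x * y * x⁻¹, ?_, ?_⟩
  · rw [← b.cj_ZZ e]
    exact conj_mem_cj hz
  · exact conj_mem_of_normalizer (b.NV_le_NCenX (b.X_le_NV hx)) hy
  · have e2 : x * z * x⁻¹ * (x * y * x⁻¹) = x * (z * y) * x⁻¹ := by group
    rw [e2, e1]; group

/-- a biadditive map `g : F × F → F` of torus type is `s² t` -/
theorem biadd_eq [CharP F 2] (g : F → F → F) (h1 : ∀ s s' t, g (s + s') t = g s t + g s' t)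
    (h2 : ∀ s t t', g s (t + t') = g s t + g s t') (h3 : ∀ a, a ≠ 0 → ∀ s t, g (a * s) (a⁻¹ * t) = a * g s t)
    (s t : F) : g s t = s ^ 2 * t * g 1 1 := by
  have z1 : ∀ s, g s 0 = 0 := by
    intro s
    have := h2 s 0 0
    rw [add_zero] at this
    exact left_eq_add.1 this
  have z2 : ∀ t, g 0 t = 0 := by
    intro t
    have := h1 0 0 t
    rw [add_zero] at this
    exact left_eq_add.1 this
  have h4 : ∀ t, t ≠ 0 → ∀ s, g (t * s) 1 = t * g s t := by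
    intro t ht s
    have := h3 t ht s t
    rwa [inv_mul_cancel₀ ht] at this
  -- `h t = t k t`
  have h5 : ∀ t, g t 1 = t * g 1 t := by
    intro t
    by_cases ht : t = 0
    · rw [ht, z2, zero_mul]
    · have := h4 t ht 1
      rwa [mul_one] at this
  have h6 : ∀ t, g 1 t = t * g 1 1 := by
    intro t
    have e1 := h5 (t + 1)
    rw [h1, h2, h5 t] at e1
    have e2 : t * g 1 1 + g 1 t = 0 := by linear_combination -e1
    rw [← sub_eq_zero, CharTwo.sub_eq_add, add_comm]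
    exact e2
  by_cases ht : t = 0
  · rw [ht, z1, mul_zero, zero_mul]
  have h7 := h4 t ht s
  rw [h5, h6 (t * s)] at h7
  have h8 : t * (g s t - s ^ 2 * t * g 1 1) = 0 := by
    rw [mul_sub, ← h7]; ring
  rcases mul_eq_zero.1 h8 with h9 | h9
  · exact absurd h9 ht
  · exact sub_eq_zero.1 h9

section comm

variable (b : BTS V R)
include b

/-- `U j` centralises `R i · D₁` -/
theorem BTS.U_RD {k l : ι} {a e u : G} (ha : a ∈ R k) (he : e ∈ DD V R ⊓ CenX V R) (hu : u ∈ UU V R l) :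
    u * (a * e) = a * e * u := by
  have h1 := mem_centralizer_iff.1 (UU_le_cen l hu) a (b.R_le k ha)
  have h2 := mem_centralizer_iff.1 he.2 u (W_le_X V R l (UU_le_WW l hu))
  calc u * (a * e) = (u * a) * e := by group
    _ = a * (u * e) := by rw [← h1]; group
    _ = a * e * u := by rw [h2]; group

/-- `[z, u]` commutes with `u'` -/
theorem BTS.ZU_comm (hij : i ≠ j) {z u u' : G} (hz : z ∈ ZZ V R i) (hu : u ∈ UU V R j) {l : ι}
    (hu' : u' ∈ UU V R l) : u' * (z * u * z⁻¹ * u⁻¹) = z * u * z⁻¹ * u⁻¹ * u' := by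
  obtain ⟨-, a, ha, he⟩ := b.Z_U hij hz hu
  have h := b.U_RD (inv_mem ha) he hu'
  have e : a⁻¹ * (a * (z * u * z⁻¹ * u⁻¹)) = z * u * z⁻¹ * u⁻¹ := by group
  rwa [e] at h

/-- `[z z', u] = [z, u] [z', u]` -/
theorem BTS.ZU_mul_left (hij : i ≠ j) {z z' u : G} (hz : z ∈ ZZ V R i) (hz' : z' ∈ ZZ V R i)
    (hu : u ∈ UU V R j) :
    z * z' * u * (z * z')⁻¹ * u⁻¹ = (z * u * z⁻¹ * u⁻¹) * (z' * u * z'⁻¹ * u⁻¹) := by
  have h1 := (b.Z_U hij hz' hu).1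
  have h0 := (b.Z_U hij hz hu).1
  have h2 := mem_centralizer_iff.1 hz.2 _ (D_le_W V R i h1)
  have h3 := b.D_comm h1 h0
  calc z * z' * u * (z * z')⁻¹ * u⁻¹ = z * (z' * u * z'⁻¹ * u⁻¹) * u * z⁻¹ * u⁻¹ := by group
    _ = (z' * u * z'⁻¹ * u⁻¹) * (z * u * z⁻¹ * u⁻¹) := by rw [← h2]; group
    _ = _ := h3

/-- `[z, u u'] = [z, u] [z, u']` -/
theorem BTS.ZU_mul_right (hij : i ≠ j) {z u u' : G} (hz : z ∈ ZZ V R i) (hu : u ∈ UU V R j)
    (hu' : u' ∈ UU V R j) :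
    z * (u * u') * z⁻¹ * (u * u')⁻¹ = (z * u * z⁻¹ * u⁻¹) * (z * u' * z⁻¹ * u'⁻¹) := by
  have h1 := b.ZU_comm hij hz hu' hu
  calc z * (u * u') * z⁻¹ * (u * u')⁻¹ = (z * u * z⁻¹ * u⁻¹) * (u * (z * u' * z⁻¹ * u'⁻¹)) * u⁻¹ := by group
    _ = (z * u * z⁻¹ * u⁻¹) * ((z * u' * z⁻¹ * u'⁻¹) * u) * u⁻¹ := by rw [h1]
    _ = _ := by group

/-- `[z, u] = 1` for `z ∈ Z i ∩ D` -/
theorem BTS.ZU_one_left {z u : G} (hz : z ∈ ZZ V R i) (hd : z ∈ DD V R) (hu : u ∈ UU V R j) :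
    z * u * z⁻¹ * u⁻¹ = 1 := by
  obtain ⟨a, ha, he⟩ := b.Z_inf_D hz hd
  have h := b.U_RD (inv_mem ha) he hu
  have e : a⁻¹ * (a * z) = z := by group
  rw [e] at h
  rw [← h]; group

/-- `[z, d] = 1` for `d ∈ D` -/
theorem BTS.ZU_one_right {z d : G} (hz : z ∈ ZZ V R i) (hd : d ∈ DD V R) :
    z * d * z⁻¹ * d⁻¹ = 1 := by
  have _ := b
  have h := mem_centralizer_iff.1 hz.2 _ (D_le_W V R i hd)
  rw [← h]; group

end comm

namespace YPair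

variable {M : Type u} [AddCommGroup M] [Module F M] {P1 P2 : G → M}

theorem symm (y : YPair V R i j w1 w2 M P1 P2) : YPair V R j i w2 w1 M P2 P1 where
  mul1 := y.mul2
  mul2 := y.mul1
  mem_D := fun x hx => (y.mem_D x hx).trans and_comm
  mem_U1 := y.mem_U2
  mem_U2 := y.mem_U1
  surj := fun m m' => by
    obtain ⟨x, hx, h1, h2⟩ := y.surj m' m
    exact ⟨x, hx, h2, h1⟩
  w11 := y.w22
  w12 := y.w21
  w21 := y.w12
  w22 := y.w11

section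

variable (y : YPair V R i j w1 w2 M P1 P2) (b : BTS V R) (c : Coord V R i j v w1 w2)
include y b c

theorem Z_le_Y {z : G} (hz : z ∈ ZZ V R i) : z ∈ YY V R := UU_le_YY i (b.Z_le_U i hz)

theorem hh_Z [CharP F 2] {a : F} (ha : a ≠ 0) {z : G} (hz : z ∈ ZZ V R i) :
    hh w1 w2 a * z * (hh w1 w2 a)⁻¹ ∈ ZZ V R i :=
  conj_mem_of_normalizer (N_le_NZ i (cj_eq_self_iff.1 (c.hh_R1 b.toBT ha))) hz

/-- `M0 = P1 (Z i)`, an `F`-subspace of `M` -/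
def M0 [CharP F 2] : Submodule F M where
  carrier := {m | ∃ z ∈ ZZ V R i, P1 z = m}
  zero_mem' := ⟨1, one_mem _, y.one1⟩
  add_mem' := by
    rintro _ _ ⟨z, hz, rfl⟩ ⟨z', hz', rfl⟩
    exact ⟨z * z', mul_mem hz hz', y.mul1 _ (y.Z_le_Y b c hz) _ (y.Z_le_Y b c hz')⟩
  smul_mem' := by
    rintro a _ ⟨z, hz, rfl⟩
    by_cases ha : a = 0
    · exact ⟨1, one_mem _, by rw [y.one1, ha, zero_smul]⟩
    · exact ⟨_, y.hh_Z b c ha hz, (y.hh1 b.toBT c ha (y.Z_le_Y b c hz)).1⟩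

theorem mem_M0 [CharP F 2] {m : M} : m ∈ y.M0 b c ↔ ∃ z ∈ ZZ V R i, P1 z = m := Iff.rfl

/-- the same subspace from the other side -/
theorem mem_M0' [CharP F 2] {m : M} : m ∈ y.M0 b c ↔ ∃ z ∈ ZZ V R j, P2 z = m := by
  rw [y.mem_M0 b c]
  have e1 := c.nn_R1 b.toBT (one_ne_zero (α := F))
  have e2 := c.nn_R2 b.toBT (one_ne_zero (α := F))
  constructor
  · rintro ⟨z, hz, rfl⟩
    refine ⟨nn w1 w2 1 * z * (nn w1 w2 1)⁻¹, ?_, ?_⟩
    · rw [← b.cj_ZZ e1]; exact conj_mem_cj hz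
    · rw [(y.nn1 b.toBT c one_ne_zero (y.Z_le_Y b c hz)).2, inv_one, one_smul]
  · rintro ⟨z, hz, rfl⟩
    refine ⟨nn w1 w2 1 * z * (nn w1 w2 1)⁻¹, ?_, ?_⟩
    · rw [← b.cj_ZZ e2]; exact conj_mem_cj hz
    · rw [(y.nn1 b.toBT c one_ne_zero (y.symm.Z_le_Y b c.symm hz)).1, one_smul]

/-- `M0 = ⊤` means `U i = Z i D` -/
theorem M0_eq_top [CharP F 2] : y.M0 b c = ⊤ ↔ ∀ u ∈ UU V R i, ∃ z ∈ ZZ V R i, z⁻¹ * u ∈ DD V R := by
  constructor
  · intro h u hu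
    have h1 : P1 u ∈ y.M0 b c := by rw [h]; exact Submodule.mem_top
    obtain ⟨z, hz, e⟩ := (y.mem_M0 b c).1 h1
    have hu' := UU_le_YY i hu
    have hz' := y.Z_le_Y b c hz
    refine ⟨z, hz, (y.eq_iff hu' hz').2 ⟨e.symm, ?_⟩⟩
    rw [(y.mem_U1 u hu').1 hu, (y.mem_U1 z hz').1 (b.Z_le_U i hz)]
  · intro h
    rw [eq_top_iff]
    intro m _
    obtain ⟨u, hu, e1, e2⟩ := y.surj m 0
    have hu' := (y.mem_U1 u hu).2 e2
    obtain ⟨z, hz, hd⟩ := h u hu'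
    refine ⟨z, hz, ?_⟩
    rw [← e1]
    exact ((y.eq_iff hu (y.Z_le_Y b c hz)).1 hd).1.symm

/-- `[z, u]` depends only on `P1 z` and `P2 u` -/
theorem ZU_congr {z z' u u' : G} (hz : z ∈ ZZ V R i) (hz' : z' ∈ ZZ V R i) (hu : u ∈ UU V R j)
    (hu' : u' ∈ UU V R j) (h1 : P1 z = P1 z') (h2 : P2 u = P2 u') :
    z * u * z⁻¹ * u⁻¹ = z' * u' * z'⁻¹ * u'⁻¹ := by
  have kz := y.Z_le_Y b c hz
  have kz' := y.Z_le_Y b c hz'
  have ku := UU_le_YY j hu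
  have ku' := UU_le_YY j hu'
  have h3 : z'⁻¹ * z ∈ DD V R := (y.eq_iff kz kz').2 ⟨h1, by
    rw [(y.mem_U1 z kz).1 (b.Z_le_U i hz), (y.mem_U1 z' kz').1 (b.Z_le_U i hz')]⟩
  have h4 : u'⁻¹ * u ∈ DD V R := (y.eq_iff ku ku').2 ⟨by
    rw [(y.mem_U2 u ku).1 hu, (y.mem_U2 u' ku').1 hu'], h2⟩
  have e1 : z * u * z⁻¹ * u⁻¹ = z' * u * z'⁻¹ * u⁻¹ := by
    have k1 := b.ZU_mul_left c.ne hz' (mul_mem (inv_mem hz') hz) hu
    rw [b.ZU_one_left (mul_mem (inv_mem hz') hz) h3 hu, mul_one] at k1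
    rw [← k1]; group
  have e2 : z' * u * z'⁻¹ * u⁻¹ = z' * u' * z'⁻¹ * u'⁻¹ := by
    have k1 := b.ZU_mul_right c.ne hz' hu' (b.D_le_U j h4)
    rw [b.ZU_one_right hz' h4, mul_one] at k1
    rw [← k1]; group
  rw [e1, e2]

end

/-- the commutator map `Z i × U j → R i × D₁` -/
structure Beta [CharP F 2] (y : YPair V R i j w1 w2 M P1 P2) (b : BTS V R) (c : Coord V R i j v w1 w2)
    (β : M → M → F) (δ : M → M → G) : Prop where
  comm : ∀ z ∈ ZZ V R i, ∀ u ∈ UU V R j,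
    z * u * z⁻¹ * u⁻¹ = v (β (P1 z) (P2 u)) 0 * δ (P1 z) (P2 u)
  mem : ∀ m ∈ y.M0 b c, ∀ m', δ m m' ∈ DD V R ⊓ CenX V R
  addl : ∀ m ∈ y.M0 b c, ∀ n ∈ y.M0 b c, ∀ m', β (m + n) m' = β m m' + β n m'
  addr : ∀ m ∈ y.M0 b c, ∀ m' n', β m (m' + n') = β m m' + β m n'
  scale : ∀ m ∈ y.M0 b c, ∀ m', ∀ s t : F, β (s • m) (t • m') = s ^ 2 * t * β m m'
  mull : ∀ m ∈ y.M0 b c, ∀ n ∈ y.M0 b c, ∀ m', δ (m + n) m' = δ m m' * δ n m'
  mulr : ∀ m ∈ y.M0 b c, ∀ m' n', δ m (m' + n') = δ m m' * δ m n'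
  bal : ∀ m ∈ y.M0 b c, ∀ m', ∀ s : F, δ (s • m) m' = δ m (s • m')
  isot : ∀ m ∈ y.M0 b c, ∀ m' ∈ y.M0 b c, β m m' = 0

section

variable (y : YPair V R i j w1 w2 M P1 P2) (b : BTS V R) (c : Coord V R i j v w1 w2)
include y b c

theorem unique {β β' : F} {δ δ' : G} (hd : δ ∈ DD V R ⊓ CenX V R) (hd' : δ' ∈ DD V R ⊓ CenX V R)
    (h : v β 0 * δ = v β' 0 * δ') : β = β' ∧ δ = δ' := by
  have h1 : (v β' 0)⁻¹ * v β 0 = δ' * δ⁻¹ := by
    calc (v β' 0)⁻¹ * v β 0 = (v β' 0)⁻¹ * (v β 0 * δ) * δ⁻¹ := by group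
      _ = δ' * δ⁻¹ := by rw [h]; group
  have h2 : (v β' 0)⁻¹ * v β 0 = 1 := by
    apply b.cen_VX (mul_mem (inv_mem (c.v_mem _ _)) (c.v_mem _ _))
    rw [h1]
    exact mul_mem hd'.2 (inv_mem hd.2)
  rw [h2, eq_comm, mul_inv_eq_one] at h1
  exact ⟨(c.v_inj (inv_mul_eq_one.1 h2).symm).1, h1.symm⟩

theorem exists_dec {z u : G} (hz : z ∈ ZZ V R i) (hu : u ∈ UU V R j) : ∃ β : F, ∃ δ ∈ DD V R ⊓ CenX V R,
    z * u * z⁻¹ * u⁻¹ = v β 0 * δ := by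
  obtain ⟨-, a, ha, he⟩ := b.Z_U c.ne hz hu
  obtain ⟨β, hβ⟩ := (c.mem_R1 _).1 (inv_mem ha)
  exact ⟨β, _, he, by rw [hβ]; group⟩

/-- **(6)** -/
theorem exists_beta [CharP F 2] : ∃ β δ, y.Beta b c β δ := by
  classical
  have H : ∀ m m' : M, ∃ β : F, ∃ δ : G, m ∈ y.M0 b c → δ ∈ DD V R ⊓ CenX V R ∧
      ∀ z ∈ ZZ V R i, ∀ u ∈ UU V R j, P1 z = m → P2 u = m' → z * u * z⁻¹ * u⁻¹ = v β 0 * δ := by
    intro m m'
    by_cases hm : m ∈ y.M0 b c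
    · obtain ⟨z, hz, e1⟩ := hm
      obtain ⟨u, hu0, e2, e3⟩ := y.surj 0 m'
      have hu := (y.mem_U2 u hu0).2 e2
      obtain ⟨β, δ, hδ, h⟩ := y.exists_dec b c hz hu
      refine ⟨β, δ, fun _ => ⟨hδ, fun z' hz' u' hu' h1 h2 => ?_⟩⟩
      rw [← h]
      exact y.ZU_congr b c hz' hz hu' hu (h1.trans e1.symm) (h2.trans e3.symm)
    · exact ⟨0, 1, fun h => absurd h hm⟩
  choose β δ hβ using H
  have comm : ∀ z ∈ ZZ V R i, ∀ u ∈ UU V R j,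
      z * u * z⁻¹ * u⁻¹ = v (β (P1 z) (P2 u)) 0 * δ (P1 z) (P2 u) := fun z hz u hu =>
    (hβ _ _ ⟨z, hz, rfl⟩).2 z hz u hu rfl rfl
  have mem : ∀ m ∈ y.M0 b c, ∀ m', δ m m' ∈ DD V R ⊓ CenX V R := fun m hm m' => (hβ m m' hm).1
  have hv : ∀ a d : F, ∀ e ∈ DD V R ⊓ CenX V R, ∀ e' ∈ DD V R ⊓ CenX V R,
      v a 0 * e * (v d 0 * e') = v (a + d) 0 * (e * e') := by
    intro a d e he e' he'
    have h1 := b.D_comm (V_le_D V R (c.v_mem d 0)) he.1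
    calc v a 0 * e * (v d 0 * e') = v a 0 * (e * v d 0) * e' := by group
      _ = v a 0 * (v d 0 * e) * e' := by rw [h1]
      _ = (v a 0 * v d 0) * (e * e') := by group
      _ = _ := by rw [← c.v_add, add_zero]
  have hsu : ∀ m' : M, ∃ u ∈ UU V R j, P2 u = m' := by
    intro m'
    obtain ⟨u, hu0, e2, e3⟩ := y.surj 0 m'
    exact ⟨u, (y.mem_U2 u hu0).2 e2, e3⟩
  have left : ∀ m ∈ y.M0 b c, ∀ n ∈ y.M0 b c, ∀ m',
      β (m + n) m' = β m m' + β n m' ∧ δ (m + n) m' = δ m m' * δ n m' := by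
    rintro _ ⟨z, hz, rfl⟩ _ ⟨z', hz', rfl⟩ m'
    obtain ⟨u, hu, rfl⟩ := hsu m'
    have h1 := b.ZU_mul_left c.ne hz hz' hu
    rw [comm z hz u hu, comm z' hz' u hu, comm _ (mul_mem hz hz') u hu,
      y.mul1 _ (y.Z_le_Y b c hz) _ (y.Z_le_Y b c hz'),
      hv _ _ _ (mem _ ⟨z, hz, rfl⟩ _) _ (mem _ ⟨z', hz', rfl⟩ _)] at h1
    exact y.unique b c (mem _ (add_mem ⟨z, hz, rfl⟩ ⟨z', hz', rfl⟩) _)
      (mul_mem (mem _ ⟨z, hz, rfl⟩ _) (mem _ ⟨z', hz', rfl⟩ _)) h1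
  have right : ∀ m ∈ y.M0 b c, ∀ m' n', β m (m' + n') = β m m' + β m n' ∧
      δ m (m' + n') = δ m m' * δ m n' := by
    rintro _ ⟨z, hz, rfl⟩ m' n'
    obtain ⟨u, hu, rfl⟩ := hsu m'
    obtain ⟨u', hu', rfl⟩ := hsu n'
    have h1 := b.ZU_mul_right c.ne hz hu hu'
    rw [comm z hz u hu, comm z hz u' hu', comm z hz _ (mul_mem hu hu'),
      y.mul2 _ (UU_le_YY j hu) _ (UU_le_YY j hu'),
      hv _ _ _ (mem _ ⟨z, hz, rfl⟩ _) _ (mem _ ⟨z, hz, rfl⟩ _)] at h1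
    exact y.unique b c (mem _ ⟨z, hz, rfl⟩ _) (mul_mem (mem _ ⟨z, hz, rfl⟩ _) (mem _ ⟨z, hz, rfl⟩ _)) h1
  -- the torus
  have tor : ∀ m ∈ y.M0 b c, ∀ m', ∀ a : F, a ≠ 0 → β (a • m) (a⁻¹ • m') = a * β m m' ∧
      δ (a • m) (a⁻¹ • m') = δ m m' := by
    rintro _ ⟨z, hz, rfl⟩ m' a ha
    obtain ⟨u, hu, rfl⟩ := hsu m'
    have hX := c.hh_mem_X b.toBT a
    have hz1 := y.hh_Z b c ha hz
    have hu1 : hh w1 w2 a * u * (hh w1 w2 a)⁻¹ ∈ UU V R j := by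
      rw [← b.cj_UU (b.X_le_NV hX) (c.hh_R2 b.toBT ha)]
      exact conj_mem_cj hu
    have e1 := comm z hz u hu
    have e2 := comm _ hz1 _ hu1
    rw [(y.hh1 b.toBT c ha (y.Z_le_Y b c hz)).1, (y.hh1 b.toBT c ha (UU_le_YY j hu)).2] at e2
    have e3 : hh w1 w2 a * z * (hh w1 w2 a)⁻¹ * (hh w1 w2 a * u * (hh w1 w2 a)⁻¹) *
        (hh w1 w2 a * z * (hh w1 w2 a)⁻¹)⁻¹ * (hh w1 w2 a * u * (hh w1 w2 a)⁻¹)⁻¹ =
        hh w1 w2 a * (z * u * z⁻¹ * u⁻¹) * (hh w1 w2 a)⁻¹ := by group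
    rw [e3, e1] at e2
    have hδ := mem _ ⟨z, hz, rfl⟩ (P2 u)
    have e4 : hh w1 w2 a * (v (β (P1 z) (P2 u)) 0 * δ (P1 z) (P2 u)) * (hh w1 w2 a)⁻¹ =
        v (a * β (P1 z) (P2 u)) 0 * δ (P1 z) (P2 u) := by
      have h1 := c.hh_act ha (β (P1 z) (P2 u)) 0
      rw [mul_zero] at h1
      have h2 := mem_centralizer_iff.1 hδ.2 _ hX
      calc hh w1 w2 a * (v (β (P1 z) (P2 u)) 0 * δ (P1 z) (P2 u)) * (hh w1 w2 a)⁻¹
          = (hh w1 w2 a * v (β (P1 z) (P2 u)) 0 * (hh w1 w2 a)⁻¹) *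
            ((hh w1 w2 a * δ (P1 z) (P2 u)) * (hh w1 w2 a)⁻¹) := by group
        _ = _ := by rw [h1, h2]; group
    rw [e4] at e2
    have h := y.unique b c hδ (mem _ (Submodule.smul_mem _ a ⟨z, hz, rfl⟩) _) e2
    exact ⟨h.1.symm, h.2.symm⟩
  refine ⟨β, δ, ?_⟩
  refine
    { comm := comm
      mem := mem
      addl := fun m hm n hn m' => (left m hm n hn m').1
      addr := fun m hm m' n' => (right m hm m' n').1
      scale := fun m hm m' s t => ?_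
      mull := fun m hm n hn m' => (left m hm n hn m').2
      mulr := fun m hm m' n' => (right m hm m' n').2
      bal := fun m hm m' s => ?_
      isot := ?_ }
  · have h := biadd_eq (fun s t => β (s • m) (t • m'))
      (fun s s' t => by
        show β ((s + s') • m) (t • m') = _
        rw [add_smul]
        exact (left _ (Submodule.smul_mem _ s hm) _ (Submodule.smul_mem _ s' hm) _).1)
      (fun s t t' => by
        show β (s • m) ((t + t') • m') = _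
        rw [add_smul]
        exact (right _ (Submodule.smul_mem _ s hm) _ _).1)
      (fun a ha s t => by
        show β ((a * s) • m) ((a⁻¹ * t) • m') = _
        rw [mul_smul, mul_smul]
        exact (tor _ (Submodule.smul_mem _ s hm) _ a ha).1) s t
    simpa only [one_smul] using h
  · by_cases hs : s = 0
    · rw [hs, zero_smul, zero_smul]
      have h1 := (left 0 (zero_mem _) 0 (zero_mem _) m').2
      have h2 := (right m hm 0 0).2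
      rw [add_zero] at h1 h2
      rw [left_eq_mul.1 h1, left_eq_mul.1 h2]
    · have h1 := (tor m hm (s • m') s hs).2
      rw [smul_smul, inv_mul_cancel₀ hs, one_smul] at h1
      exact h1
  · rintro m hm m' hm'
    obtain ⟨z, hz, rfl⟩ := hm
    obtain ⟨z', hz', rfl⟩ := (y.mem_M0' b c).1 hm'
    have h1 := comm z hz z' (b.Z_le_U j hz')
    have h2 := b.Z_Z c.ne hz hz'
    have h3 : v (β (P1 z) (P2 z')) 0 * δ (P1 z) (P2 z') = v 0 0 * (z * z' * z⁻¹ * z'⁻¹) := by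
      rw [← h1, c.v_zero, one_mul]
    exact (y.unique b c (mem _ ⟨z, hz, rfl⟩ _) h2 h3).1

end

end YPair

end Cfsg.Agent.Omega.BTwo
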