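import Cfsg.Agent.Omega.BTwo.Split

/-!
# II.0h1, split case: #11929 (4), (5): `C(W i) = Z(W i) C(X)` (`q ≥ 4`), `C(W i)` is abelian
-/

set_option autoImplicit false

namespace Cfsg.Agent.Omega.BTwo

open Subgroup
open scoped commutatorElement

variable {G : Type*} [Group G] {ι : Type*}

/-- **(4)**, abstract: as `RadAbs.cent_le`, without a hypothesis on `C_E(W)`. -/
theorem cent_split [Finite G] {p : ℕ} (hp : p.Prime) (hp2 : p ≠ 2) {W U V D E C : Subgroup G} {τ : G} {k : ℕ}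
    (hC : ∀ c, c ∈ C ↔ ∀ w ∈ W, c * w = w * c) (hC2 : IsPGroup 2 C)
    (hUW : U ≤ W) (hVD : V ≤ D) (hDW : D ≤ W) (hDE : D ≤ E)
    (hEV : ∀ e ∈ E, ∀ v ∈ V, e * v = v * e) (hEW : ∀ e ∈ E, ∀ w ∈ W, e * w * e⁻¹ ∈ W)
    (hτ : τ ^ p ^ k = 1) (hτW : ∀ w ∈ W, τ * w * τ⁻¹ ∈ W)
    (hτE : ∀ e ∈ E, τ * e * τ⁻¹ * e⁻¹ ∈ V) (hfpf : ∀ u ∈ U, τ * u * τ⁻¹ * u⁻¹ ∈ D → u ∈ D)
    (hy : ∀ c ∈ C, ∃ y ∈ U, c * y ∈ E) : ∀ c ∈ C, ∃ m ∈ C ⊓ W, c * m ∈ E := by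
  have hτC : ∀ c ∈ C, τ * c * τ⁻¹ ∈ C := by
    intro c hc
    rw [hC] at hc ⊢
    intro w hw
    have hmap : (W.map (MulAut.conj τ).toMonoidHom) = W := by
      refine eq_of_le_of_card_ge ?_
        (Nat.card_congr (W.equivMapOfInjective _ (MulAut.conj τ).injective).toEquiv.symm).ge
      rintro _ ⟨m, hm, rfl⟩
      exact hτW m hm
    rw [← hmap] at hw
    obtain ⟨w', hw', rfl⟩ := hw
    change τ * c * τ⁻¹ * (τ * w' * τ⁻¹) = τ * w' * τ⁻¹ * (τ * c * τ⁻¹)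
    calc τ * c * τ⁻¹ * (τ * w' * τ⁻¹) = τ * (c * w') * τ⁻¹ := by group
      _ = τ * (w' * c) * τ⁻¹ := by rw [hc w' hw']
      _ = _ := by group
  have hcomp : ∀ c ∈ C, ∀ y ∈ U, c * y ∈ E →
      ∃ v ∈ V, τ * c * τ⁻¹ * c⁻¹ = v * ((c * y) * (τ * y⁻¹ * τ⁻¹ * y⁻¹⁻¹) * (c * y)⁻¹) := by
    intro c hc y hy hE
    refine ⟨_, hτE _ hE, ?_⟩
    group
  have h1 : ∀ c ∈ C, τ * c * τ⁻¹ * c⁻¹ ∈ C ⊓ W := by
    intro c hc
    obtain ⟨y, hyU, hyE⟩ := hy c hc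
    obtain ⟨v, hv, e⟩ := hcomp c hc y hyU hyE
    refine ⟨C.mul_mem (hτC c hc) (C.inv_mem hc), ?_⟩
    rw [e]
    refine mul_mem (hDW (hVD hv)) (hEW _ hyE _ ?_)
    exact W.mul_mem (hτW _ (W.inv_mem (hUW hyU))) (W.inv_mem (W.inv_mem (hUW hyU)))
  intro c hc
  have h2 : c⁻¹ * τ * c * τ⁻¹ ∈ C ⊓ W := by
    have e2 : c⁻¹ * τ * c * τ⁻¹ = c⁻¹ * (τ * c * τ⁻¹ * c⁻¹) * c := by group
    rw [e2]
    have h4 := h1 c hc
    refine ⟨C.mul_mem (C.mul_mem (C.inv_mem hc) h4.1) hc, ?_⟩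
    have h5 := (hC c).1 hc _ h4.2
    have e3 : c⁻¹ * (τ * c * τ⁻¹ * c⁻¹) * c = τ * c * τ⁻¹ * c⁻¹ := by
      rw [mul_assoc, ← h5]; group
    rw [e3]; exact h4.2
  have hτM : ∀ m ∈ C ⊓ W, τ * m * τ⁻¹ ∈ C ⊓ W := fun m hm => ⟨hτC m hm.1, hτW m hm.2⟩
  have hy' : (c⁻¹ * τ * c) ^ p ^ k = 1 := by
    have e : c⁻¹ * τ * c = c⁻¹ * τ * c⁻¹⁻¹ := by rw [inv_inv]
    rw [e, conj_pow, hτ]; group
  obtain ⟨m, hm, hmτ⟩ := RadAbs.conj_of_same_coset hp hp2 (hC2.to_le inf_le_left) hτ hτM hy' h2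
  have hcm : τ * (c * m) * τ⁻¹ * (c * m)⁻¹ = 1 := by
    have e1 : m * τ = c⁻¹ * τ * c * m := by rw [← hmτ]; group
    have e2 : (c * m) * τ = τ * (c * m) := by
      calc (c * m) * τ = c * (m * τ) := by group
        _ = c * (c⁻¹ * τ * c * m) := by rw [e1]
        _ = _ := by group
    rw [← e2]; group
  have hcmC : c * m ∈ C := mul_mem hc hm.1
  obtain ⟨y, hyU, hyE⟩ := hy _ hcmC
  obtain ⟨v, hv, e⟩ := hcomp _ hcmC y hyU hyE
  rw [hcm] at e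
  have h6 : τ * y⁻¹ * τ⁻¹ * y⁻¹⁻¹ ∈ D := by
    have h7 : τ * y⁻¹ * τ⁻¹ * y⁻¹⁻¹ = (c * m * y)⁻¹ * v⁻¹ * (c * m * y) := by
      have h8 : (c * m * y) * (τ * y⁻¹ * τ⁻¹ * y⁻¹⁻¹) * (c * m * y)⁻¹ = v⁻¹ := by
        rw [eq_inv_iff_mul_eq_one]
        have := congrArg (fun w => v⁻¹ * w * v) e
        simp only [mul_one, inv_mul_cancel] at this
        rw [this]; group
      rw [← h8]; group
    have h9 := hEV _ hyE _ (inv_mem hv)
    rw [h7, mul_assoc, ← h9]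
    have e4 : (c * m * y)⁻¹ * (c * m * y * v⁻¹) = v⁻¹ := by group
    rw [e4]
    exact hVD (inv_mem hv)
  have hyD : y ∈ D := by
    have := hfpf y⁻¹ (inv_mem hyU) h6
    simpa using inv_mem this
  refine ⟨m, hm, ?_⟩
  have e5 : c * m = (c * m * y) * y⁻¹ := by group
  rw [e5]
  exact mul_mem hyE (inv_mem (hDE hyD))

variable {V : Subgroup G} {R : ι → Subgroup G}

section

variable (b : BTS V R)
include b

/-- **(4)**, `q ≥ 4`: `C(W i) = Z(W i) · C(X)` -/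
theorem BTS.cen_W_split [Finite G] {p : ℕ} (hp : p.Prime) (hp2 : p ≠ 2) {i : ι} {τ : G} {k : ℕ}
    (hτX : τ ∈ XX V R) (hτR : τ ∈ normalizer (R i : Set G)) (hτ : τ ^ p ^ k = 1)
    (hfpf : ∀ u ∈ UU V R i, τ * u * τ⁻¹ * u⁻¹ ∈ DD V R → u ∈ DD V R) :
    ∀ c ∈ centralizer (WW V (R i) : Set G), ∃ z ∈ ZZ V R i, ∃ x ∈ CenX V R, z * x = c := by
  intro c hc
  have key := cent_split (U := UU V R i) (V := V) (D := DD V R) (E := CC R)
    (C := centralizer (WW V (R i) : Set G)) (W := WW V (R i)) hp hp2 (fun c => by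
      rw [mem_centralizer_iff]
      exact ⟨fun h w hw => (h w hw).symm, fun h w hw => (h w hw).symm⟩)
    (b.cen_W_isPGroup i) (UU_le_WW i) (V_le_D V R) (D_le_W V R i) b.D_le_C
    (fun e he v hv => (mem_centralizer_iff.1 (b.C_le_cen he) v hv).symm)
    (fun e he w hw => conj_mem_of_normalizer (normalizer_le_WW V (R i) (b.Q_le i (mem_iInf.1 he i))) hw)
    hτ (fun w hw => conj_mem_of_normalizer (normalizer_le_WW V (R i) hτR) hw)
    (fun e he => b.CX hτX he) hfpf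
    (fun c hc => b.exists_eps (b.cen_W_le_Q i hc) (cen_W_le V (R i) hc))
  obtain ⟨m, hm, hcm⟩ := key c hc
  obtain ⟨a, ha, hx⟩ := b.cen_CW hcm (mul_mem hc hm.1)
  refine ⟨a⁻¹ * m⁻¹, mul_mem (inv_mem (b.R_le_Z i ha)) (inv_mem (mem_inf.2 ⟨hm.2, hm.1⟩)), _, hx, ?_⟩
  have h1 := mem_centralizer_iff.1 (cen_X_le i hx) _ (inv_mem hm.2)
  calc a⁻¹ * m⁻¹ * (a * (c * m)) = a⁻¹ * (m⁻¹ * (a * (c * m))) := by group
    _ = a⁻¹ * ((a * (c * m)) * m⁻¹) := by rw [h1]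
    _ = c := by group

/-- the splitting `C(W i) = Z(W i) C(X)` -/
def Splits (V : Subgroup G) (R : ι → Subgroup G) (i : ι) : Prop :=
  ∀ c ∈ centralizer (WW V (R i) : Set G), ∃ z ∈ ZZ V R i, ∃ x ∈ CenX V R, z * x = c

omit b in
theorem comm_eq {V : Subgroup G} {R : ι → Subgroup G} {i : ι} {z z' x x' : G} (hz : z ∈ ZZ V R i)
    (hz' : z' ∈ ZZ V R i) (hx : x ∈ centralizer (WW V (R i) : Set G))
    (hx' : x' ∈ centralizer (WW V (R i) : Set G)) :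
    (z * x) * (z' * x') * (z * x)⁻¹ * (z' * x')⁻¹ = x * x' * x⁻¹ * x'⁻¹ := by
  have h1 : z * x = x * z := mem_centralizer_iff.1 hx z hz.1
  have h2 : z * x' = x' * z := mem_centralizer_iff.1 hx' z hz.1
  have h3 : z' * x = x * z' := mem_centralizer_iff.1 hx z' hz'.1
  have h4 : z' * x' = x' * z' := mem_centralizer_iff.1 hx' z' hz'.1
  have h5 : z * z' = z' * z := mem_centralizer_iff.1 hz'.2 z hz.1
  have c1 : Commute z x := h1
  have c2 : Commute z x' := h2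
  have c3 : Commute z' x := h3
  have c4 : Commute z' x' := h4
  have c5 : Commute z z' := h5
  have e1 : (z * x) * (z' * x') = (x * x') * (z * z') := by
    calc (z * x) * (z' * x') = (x * z) * (x' * z') := by rw [h1, h4]
      _ = x * (z * x') * z' := by group
      _ = x * (x' * z) * z' := by rw [h2]
      _ = _ := by group
  have e2 : (z * x)⁻¹ * (z' * x')⁻¹ = (z * z')⁻¹ * (x⁻¹ * x'⁻¹) := by
    have e3 : (z' * x') * (z * x) = (x' * x) * (z * z') := by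
      calc (z' * x') * (z * x) = (x' * z') * (x * z) := by rw [h1, h4]
        _ = x' * (z' * x) * z := by group
        _ = x' * (x * z') * z := by rw [h3]
        _ = x' * x * (z' * z) := by group
        _ = _ := by rw [h5]
    rw [← mul_inv_rev, e3]
    group
  calc (z * x) * (z' * x') * (z * x)⁻¹ * (z' * x')⁻¹
      = ((z * x) * (z' * x')) * ((z * x)⁻¹ * (z' * x')⁻¹) := by group
    _ = ((x * x') * (z * z')) * ((z * z')⁻¹ * (x⁻¹ * x'⁻¹)) := by rw [e1, e2]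
    _ = _ := by group

omit b in
/-- `C(W i)' = C_X'` -/
theorem commutator_cen_eq {i : ι} (hs : Splits V R i) :
    ⁅centralizer (WW V (R i) : Set G), centralizer (WW V (R i) : Set G)⁆ = ⁅CenX V R, CenX V R⁆ := by
  apply le_antisymm
  · rw [commutator_le]
    intro c hc c' hc'
    obtain ⟨z, hz, x, hx, rfl⟩ := hs c hc
    obtain ⟨z', hz', x', hx', rfl⟩ := hs c' hc'
    rw [commutatorElement_def, comm_eq hz hz' (cen_X_le i hx) (cen_X_le i hx')]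
    exact commutator_mem_commutator hx hx'
  · exact commutator_mono (cen_X_le i) (cen_X_le i)

omit b in
theorem normalizer_le_normalizer_commutator (H : Subgroup G) :
    normalizer (H : Set G) ≤ normalizer ((⁅H, H⁆ : Subgroup G) : Set G) := by
  intro g hg
  rw [← cj_eq_self_iff] at hg ⊢
  rw [cj, map_commutator]
  change ⁅cj g H, cj g H⁆ = _
  rw [hg]

/-- **(5)** `C_X` is abelian -/
theorem BTS.CenX_comm [Finite G] {i : ι} (hs : Splits V R i) :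
    ∀ x ∈ CenX V R, ∀ y ∈ CenX V R, x * y = y * x := by
  have h0 : (⁅CenX V R, CenX V R⁆ : Subgroup G) ≤ CenX V R := commutator_le_self _
  have h1 : (⁅CenX V R, CenX V R⁆ : Subgroup G) = ⊥ := by
    refine b.nonloc i _ (b.CenX_isPGroup.to_le h0)
      (h0.trans (b.CenX_le_cen.trans (cen_le_NV V)))
      (h0.trans (b.CenX_le_cen.trans (b.cen_le_N i)))
      (b.NV_le_NCenX.trans (normalizer_le_normalizer_commutator _)) ?_
    rw [← commutator_cen_eq hs]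
    exact ((normalizer_le_WW V (R i)).trans (normalizer_le_normalizer_centralizer _)).trans
      (normalizer_le_normalizer_commutator _)
  intro x hx y hy
  have h2 : ⁅x, y⁆ ∈ (⁅CenX V R, CenX V R⁆ : Subgroup G) := commutator_mem_commutator hx hy
  rw [h1, mem_bot, commutatorElement_eq_one_iff_mul_comm] at h2
  exact h2

/-- **(5)** `C(W i)` is abelian -/
theorem BTS.cen_W_comm [Finite G] {i : ι} (hs : Splits V R i) :
    ∀ c ∈ centralizer (WW V (R i) : Set G), ∀ c' ∈ centralizer (WW V (R i) : Set G), c * c' = c' * c := by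
  intro c hc c' hc'
  obtain ⟨z, hz, x, hx, rfl⟩ := hs c hc
  obtain ⟨z', hz', x', hx', rfl⟩ := hs c' hc'
  have h := comm_eq hz hz' (cen_X_le i hx) (cen_X_le i hx')
  have h2 : x * x' * x⁻¹ * x'⁻¹ = 1 := by rw [b.CenX_comm hs x hx x' hx']; group
  rw [h2, mul_inv_eq_one, mul_inv_eq_iff_eq_mul] at h
  exact h

/-! ### (6), the group level -/

/-- `[Z i, U j] ≤ D ∩ C(W i)`, which is `R i · C_D(X)` by (1) -/
theorem BTS.Z_U {i j : ι} (hij : i ≠ j) {z u : G} (hz : z ∈ ZZ V R i) (hu : u ∈ UU V R j) :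
    z * u * z⁻¹ * u⁻¹ ∈ DD V R ∧ ∃ a ∈ R i, a * (z * u * z⁻¹ * u⁻¹) ∈ DD V R ⊓ CenX V R := by
  have h := b.cen_W_U hij hz.2 hu
  exact ⟨h.1, b.cen_DW h.1 h.2⟩

/-- `[Z i, Z j] ≤ C_D(X)` -/
theorem BTS.Z_Z {i j : ι} (hij : i ≠ j) {z z' : G} (hz : z ∈ ZZ V R i) (hz' : z' ∈ ZZ V R j) :
    z * z' * z⁻¹ * z'⁻¹ ∈ DD V R ⊓ CenX V R := by
  have hzV := cen_W_le V (R i) hz.2
  have hzV' := cen_W_le V (R j) hz'.2
  rw [← b.ZZ_inf hij]
  refine mem_inf.2 ⟨?_, ?_⟩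
  · have e : z * z' * z⁻¹ * z'⁻¹ = z * (z' * z⁻¹ * z'⁻¹) := by group
    rw [e]
    exact mul_mem hz (conj_mem_of_normalizer (N_le_NZ i (b.cen_le_N i hzV')) (inv_mem hz))
  · exact mul_mem (conj_mem_of_normalizer (N_le_NZ j (b.cen_le_N j hzV)) hz') (inv_mem hz')

/-- `[Q i, Z i] ≤ R i` -/
theorem BTS.Q_Z {i : ι} {g z : G} (hg : g ∈ QQ (R i)) (hz : z ∈ ZZ V R i) : g * z * g⁻¹ * z⁻¹ ∈ R i :=
  b.WQ i hg hz.1

/-- `Z i ≤ U i` -/
theorem BTS.Z_le_U (i : ι) : ZZ V R i ≤ UU V R i := by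
  have _ := b
  exact le_inf inf_le_left (inf_le_right.trans (cen_W_le V (R i)))

/-- `Z i ∩ D = R i · C_D(X)` -/
theorem BTS.Z_inf_D {i : ι} {z : G} (hz : z ∈ ZZ V R i) (hd : z ∈ DD V R) :
    ∃ a ∈ R i, a * z ∈ DD V R ⊓ CenX V R := b.cen_DW hd hz.2

/-- `Z i ∩ C_X = C_D(X)` -/
theorem BTS.Z_inf_CenX {i : ι} : ZZ V R i ⊓ CenX V R = DD V R ⊓ CenX V R := by
  apply le_antisymm
  · rintro z ⟨⟨h1, -⟩, h3⟩
    refine ⟨?_, h3⟩
    -- `z ∈ W i` centralises `X`, so it lies in every `W j`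
    refine mem_DD.2 fun j => ?_
    obtain ⟨x, hx, e⟩ := b.trans_X_one i j
    rw [← b.cj_WW e]
    have := conj_mem_cj (g := x) h1
    rwa [mem_centralizer_iff.1 h3 x hx, mul_inv_cancel_right] at this
  · rintro z ⟨h1, h2⟩
    exact ⟨⟨D_le_W V R i h1, cen_X_le i h2⟩, h2⟩

/-- every `g ∈ Q i` is `w · x` with `w ∈ W i`, `x ∈ Q_1 ∩ Q_2`: `Q i = W i (Q_1 ∩ Q_2)` -/
theorem BTS.Q_fact_W [Finite G] {i : ι} {g : G} (hg : g ∈ QQ (R i)) :
    ∃ x ∈ CC R, ∃ w ∈ WW V (R i), x * w = g := by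
  obtain ⟨w, hw, h⟩ := b.exists_eps_W hg
  exact ⟨_, h, w⁻¹, inv_mem hw, by group⟩

end

end Cfsg.Agent.Omega.BTwo
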