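import Cfsg.Agent.Omega.BTwo.SplitFour
import Cfsg.Agent.Omega.BTwo.RadQ

/-!
# II.0h1, split case, `q ≥ 4`: #11929 (4) for all points, from coordinates

`BTS.splits_of_coord`: `C(W k) = Z(W k) · C(X)` for all `k`.
`BTS.out_one`, `BTS.out_two`, `BTS.out_four`: the forms used by the type arguments of `II.0h1`.
-/

set_option autoImplicit false

namespace Cfsg.Agent.Omega.BTwo

open Subgroup

universe u v w

variable {G : Type u} [Group G] {ι : Type w} {V : Subgroup G} {R : ι → Subgroup G}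

section

variable (b : BTS V R)
include b

/-- `(1)`: `C_D(W k) ≤ R k · C(X)` -/
theorem BTS.out_one {k : ι} {d : G} (hd : d ∈ DD V R) (h : d ∈ centralizer (WW V (R k) : Set G)) :
    ∃ r ∈ R k, r⁻¹ * d ∈ centralizer (XX V R : Set G) := by
  obtain ⟨a, ha, h1⟩ := b.cen_DW hd h
  exact ⟨a⁻¹, inv_mem ha, by rw [inv_inv]; exact h1.2⟩

/-- `(2)`: `C(W k)` is a 2-group -/
theorem BTS.out_two [Finite G] (k : ι) : IsPGroup 2 (centralizer (WW V (R k) : Set G)) :=
  b.cen_W_isPGroup k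

/-- the splitting at one point gives the splitting at all points -/
theorem BTS.splits_all {i : ι} (hs : Splits V R i) (k : ι) : Splits V R k := by
  obtain ⟨x, hx, e⟩ := b.trans_X_one i k
  intro c hc
  have hc' : x⁻¹ * c * x ∈ centralizer (WW V (R i) : Set G) := by
    have e' : cj x⁻¹ (R k) = R i := by rw [← e, cj_inv_cj]
    rw [← b.cj_WW e', centralizer_cj]
    have := conj_mem_cj (g := x⁻¹) hc
    rwa [inv_inv] at this
  obtain ⟨z, hz, y, hy, h⟩ := hs _ hc'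
  have hxy : x * y = y * x := mem_centralizer_iff.1 hy x hx
  refine ⟨x * z * x⁻¹, ?_, y, hy, ?_⟩
  · rw [← b.cj_ZZ e]
    exact conj_mem_cj hz
  · calc x * z * x⁻¹ * y = x * z * (x⁻¹ * (y * x) * x⁻¹) := by group
      _ = x * z * (x⁻¹ * (x * y) * x⁻¹) := by rw [hxy]
      _ = x * (z * y) * x⁻¹ := by group
      _ = c := by rw [h]; group

variable {i j : ι} {F : Type v} [Field F] {v : F → F → G} {w1 w2 : F → G}

/-- **(4)**, `q ≥ 4`: `C(W k) = Z(W k) · C(X)` for all `k` -/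
theorem BTS.splits_of_coord [Finite G] [Finite F] [CharP F 2] (c : Coord V R i j v w1 w2)
    (hF : ∃ a : F, a ≠ 0 ∧ a ≠ 1) (k : ι) : Splits V R k := by
  obtain ⟨p, τ, m, hp, hp2, hτ, hX, hR, -, hf⟩ := c.exists_tau b.toBT hF
  exact b.splits_all (fun c hc => b.cen_W_split hp hp2 hX hR hτ hf c hc) k

/-- `(4)`: `C(W k) ≤ W k · C(X)` -/
theorem BTS.out_four [Finite G] [Finite F] [CharP F 2] (c : Coord V R i j v w1 w2)
    (hF : ∃ a : F, a ≠ 0 ∧ a ≠ 1) (k : ι) {g : G} (hg : g ∈ centralizer (WW V (R k) : Set G)) :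
    ∃ z ∈ WW V (R k), z⁻¹ * g ∈ centralizer (XX V R : Set G) := by
  obtain ⟨z, hz, x, hx, rfl⟩ := b.splits_of_coord c hF k g hg
  exact ⟨z, hz.1, by rw [inv_mul_cancel_left]; exact hx⟩

/-- `(5)`: `C(W k)` is abelian -/
theorem BTS.out_five [Finite G] [Finite F] [CharP F 2] (c : Coord V R i j v w1 w2)
    (hF : ∃ a : F, a ≠ 0 ∧ a ≠ 1) (k : ι) :
    ∀ g ∈ centralizer (WW V (R k) : Set G), ∀ g' ∈ centralizer (WW V (R k) : Set G), g * g' = g' * g :=
  b.cen_W_comm (b.splits_of_coord c hF k)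

end

end Cfsg.Agent.Omega.BTwo
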