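import Cfsg.Agent.Omega.BTwo.SplitQ
import Cfsg.Agent.Omega.BTwo.Key
import Cfsg.Agent.Omega.BTwo.Avg
import Cfsg.Agent.Lib.SylowNormalInf

/-!
# (h1), SPLIT, `q ≥ 4`: the theorem (10) and the end (12) of bb OMEGA #12692 (K-free)

`BTS.ten`: if `⟨A^H⟩` is perfect (`A` = image of `U j` in `N(R i) / Q i`) and `A` centralises `Z i / R i`,
then `C(X) = 1`.
-/

set_option autoImplicit false

namespace Cfsg.Agent.Omega.BTwo

open Subgroup

universe u v w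

variable {G : Type u} [Group G] {ι : Type w}

/-- `⟨U j ^ H i⟩` -/
def LU (V : Subgroup G) (R : ι → Subgroup G) (i j : ι) : Subgroup G :=
  ⨆ h : normalizer (R i : Set G), cj (h : G) (UU V R j)

section

variable {V : Subgroup G} {R : ι → Subgroup G} (b : BT V R)
include b

theorem BT.N_le_NC (i : ι) :
    normalizer (R i : Set G) ≤ normalizer (centralizer (WW V (R i) : Set G) : Set G) := by
  have _ := b
  exact (normalizer_le_WW V (R i)).trans (normalizer_le_normalizer_centralizer _)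

theorem BT.cj_ZZ {g : G} {i j : ι} (h : cj g (R i) = R j) : cj g (ZZ V R i) = ZZ V R j := by
  rw [ZZ, cj_inf, ← centralizer_cj, b.cj_WW h]; rfl

omit b in
theorem zW_le (i : ι) : ZZ V R i ≤ WW V (R i) := inf_le_left

omit b in
theorem zC_le (i : ι) : ZZ V R i ≤ centralizer (WW V (R i) : Set G) := inf_le_right

omit b in
theorem zU_le (i : ι) : ZZ V R i ≤ UU V R i :=
  le_inf inf_le_left (inf_le_right.trans (cen_W_le V (R i)))

omit b in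
theorem z_comm {i : ι} {z w : G} (hz : z ∈ ZZ V R i) (hw : w ∈ WW V (R i)) : z * w = w * z :=
  ((mem_centralizer_iff.1 hz.2) w hw).symm

/-- elements of `C(W i)` in `V` are in `R i` -/
theorem BT.cen_VW {i : ι} {x : G} (hx : x ∈ V) (h : x ∈ centralizer (WW V (R i) : Set G)) : x ∈ R i := by
  by_contra hn
  obtain ⟨j, hj, -⟩ := b.third i i
  obtain ⟨w, hw, hw'⟩ := b.exists_mover hj
  apply hw'
  refine mem_inf.2 ⟨hw, ?_⟩
  have h1 := b.reg (b.W_le_Q i hw) hx hn ((mem_centralizer_iff.1 h) w hw)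
  rw [mem_centralizer_iff]
  exact fun a ha => (h1 a ha).symm

/-! ### (a): `[Z i, U j] = 1` -/

/-- `L` centralises `Z i / R i` and `R i` -/
theorem BT.LU_act {i j : ι}
    (hZ : ∀ u ∈ UU V R j, ∀ z ∈ ZZ V R i, u * z * u⁻¹ * z⁻¹ ∈ R i) {x : G} (hx : x ∈ LU V R i j) :
    x ∈ normalizer (R i : Set G) ∧ (∀ r ∈ R i, x * r * x⁻¹ = r) ∧
      ∀ z ∈ ZZ V R i, x * z * x⁻¹ * z⁻¹ ∈ R i := by
  let T : Subgroup G :=
    { carrier := {x | x ∈ normalizer (R i : Set G) ∧ (∀ r ∈ R i, x * r * x⁻¹ = r) ∧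
        ∀ z ∈ ZZ V R i, x * z * x⁻¹ * z⁻¹ ∈ R i}
      one_mem' := ⟨one_mem _, fun r _ => by group, fun z _ => by
        have : 1 * z * 1⁻¹ * z⁻¹ = 1 := by group
        rw [this]; exact one_mem _⟩
      mul_mem' := by
        rintro x y ⟨h1, h2, h3⟩ ⟨h1', h2', h3'⟩
        refine ⟨mul_mem h1 h1', fun r hr => ?_, fun z hz => ?_⟩
        · have e : x * y * r * (x * y)⁻¹ = x * (y * r * y⁻¹) * x⁻¹ := by group
          rw [e, h2' r hr, h2 r hr]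
        · have e : x * y * z * (x * y)⁻¹ * z⁻¹ = (x * (y * z * y⁻¹ * z⁻¹) * x⁻¹) * (x * z * x⁻¹ * z⁻¹) := by
            group
          rw [e, h2 _ (h3' z hz)]
          exact mul_mem (h3' z hz) (h3 z hz)
      inv_mem' := by
        rintro x ⟨h1, h2, h3⟩
        have h2' : ∀ r ∈ R i, x⁻¹ * r * x⁻¹⁻¹ = r := by
          intro r hr
          have := h2 r hr
          calc x⁻¹ * r * x⁻¹⁻¹ = x⁻¹ * (x * r * x⁻¹) * x⁻¹⁻¹ := by rw [this]
            _ = r := by group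
        refine ⟨inv_mem h1, h2', fun z hz => ?_⟩
        have e : x⁻¹ * z * x⁻¹⁻¹ * z⁻¹ = x⁻¹ * (x * z * x⁻¹ * z⁻¹)⁻¹ * x⁻¹⁻¹ := by group
        rw [e, h2' _ (inv_mem (h3 z hz))]
        exact inv_mem (h3 z hz) }
  have hT : LU V R i j ≤ T := by
    refine iSup_le fun h => ?_
    rintro _ ⟨u, hu, rfl⟩
    change (h : G) * u * (h : G)⁻¹ ∈ T
    have huc := UU_le_cen j hu
    refine ⟨mul_mem (mul_mem h.2 (b.cen_le_N i huc)) (inv_mem h.2), fun r hr => ?_, fun z hz => ?_⟩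
    · have h1 := conj_inv_mem_of_normalizer h.2 hr
      have h2 := mem_centralizer_iff.1 huc _ (b.R_le i h1)
      calc (h : G) * u * (h : G)⁻¹ * r * ((h : G) * u * (h : G)⁻¹)⁻¹
          = h * (u * ((h : G)⁻¹ * r * h)) * u⁻¹ * (h : G)⁻¹ := by group
        _ = r := by rw [← h2]; group
    · have h1 := conj_inv_mem_of_normalizer (N_le_NZ i h.2) hz
      have h2 := conj_mem_of_normalizer h.2 (hZ u hu _ h1)
      have e : (h : G) * (u * ((h : G)⁻¹ * z * h) * u⁻¹ * ((h : G)⁻¹ * z * h)⁻¹) * (h : G)⁻¹ =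
          h * u * (h : G)⁻¹ * z * (h * u * (h : G)⁻¹)⁻¹ * z⁻¹ := by group
      rwa [e] at h2
  exact hT hx

/-- `[L, L]` centralises `Z i` -/
theorem BT.LU_comm {i j : ι}
    (hZ : ∀ u ∈ UU V R j, ∀ z ∈ ZZ V R i, u * z * u⁻¹ * z⁻¹ ∈ R i) :
    ⁅LU V R i j, LU V R i j⁆ ≤ centralizer (ZZ V R i : Set G) := by
  rw [commutator_le]
  intro x hx y hy
  rw [mem_centralizer_iff]
  intro z hz
  have hx2' := (b.LU_act hZ (inv_mem hx))
  have hy2' := (b.LU_act hZ (inv_mem hy))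
  have g1 := hx2'.2.2 z hz
  have g2 := hy2'.2.2 z hz
  have l1 : x⁻¹ * z * x⁻¹⁻¹ = (x⁻¹ * z * x⁻¹⁻¹ * z⁻¹) * z := by group
  have l2 : y⁻¹ * z * y⁻¹⁻¹ = (y⁻¹ * z * y⁻¹⁻¹ * z⁻¹) * z := by group
  have g3 := b.R_comm i _ g1 _ g2
  set r' := x⁻¹ * z * x⁻¹⁻¹ * z⁻¹
  set s' := y⁻¹ * z * y⁻¹⁻¹ * z⁻¹
  have f1 : x⁻¹ * y⁻¹ * z * (x⁻¹ * y⁻¹)⁻¹ = s' * r' * z := by
    calc x⁻¹ * y⁻¹ * z * (x⁻¹ * y⁻¹)⁻¹ = x⁻¹ * (y⁻¹ * z * y⁻¹⁻¹) * x⁻¹⁻¹ := by group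
      _ = x⁻¹ * (s' * z) * x⁻¹⁻¹ := by rw [l2]
      _ = (x⁻¹ * s' * x⁻¹⁻¹) * (x⁻¹ * z * x⁻¹⁻¹) := by group
      _ = s' * (r' * z) := by rw [hx2'.2.1 s' g2, l1]
      _ = _ := by group
  have f2 : y⁻¹ * x⁻¹ * z * (y⁻¹ * x⁻¹)⁻¹ = r' * s' * z := by
    calc y⁻¹ * x⁻¹ * z * (y⁻¹ * x⁻¹)⁻¹ = y⁻¹ * (x⁻¹ * z * x⁻¹⁻¹) * y⁻¹⁻¹ := by group
      _ = y⁻¹ * (r' * z) * y⁻¹⁻¹ := by rw [l1]
      _ = (y⁻¹ * r' * y⁻¹⁻¹) * (y⁻¹ * z * y⁻¹⁻¹) := by group
      _ = r' * (s' * z) := by rw [hy2'.2.1 r' g1, l2]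
      _ = _ := by group
  have f3 : x⁻¹ * y⁻¹ * z * (x⁻¹ * y⁻¹)⁻¹ = y⁻¹ * x⁻¹ * z * (y⁻¹ * x⁻¹)⁻¹ := by rw [f1, f2, g3]
  rw [commutatorElement_def]
  calc z * (x * y * x⁻¹ * y⁻¹) = (x * y) * ((x * y)⁻¹ * z * (x * y)) * (x⁻¹ * y⁻¹) := by group
    _ = (x * y) * (y⁻¹ * x⁻¹ * z * (y⁻¹ * x⁻¹)⁻¹) * (x⁻¹ * y⁻¹) := by group
    _ = (x * y) * (x⁻¹ * y⁻¹ * z * (x⁻¹ * y⁻¹)⁻¹) * (x⁻¹ * y⁻¹) := by rw [f3]
    _ = x * y * x⁻¹ * y⁻¹ * z := by group

end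

/-- **the torus** `h(a)` acts on `U j / D` as the scalar `a⁻¹` -/
theorem Coord.hh_q2 {V : Subgroup G} {R : ι → Subgroup G} {i j : ι} {F : Type v} [Field F]
    {v : F → F → G} {w1 w2 : F → G} {M : Type u} [AddCommGroup M] [Module F M] {p1 p2 : G → M}
    [CharP F 2] (c : Coord V R i j v w1 w2) (b : BT V R)
    (y : YMod (DD V R) (UU V R i) (UU V R j) w1 w2 M p1 p2) {a : F} (ha : a ≠ 0) {x : G}
    (hx : x ∈ UU V R j) : hh w1 w2 a * x * (hh w1 w2 a)⁻¹ ∈ UU V R j ∧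
      p2 (hh w1 w2 a * x * (hh w1 w2 a)⁻¹) = a⁻¹ • p2 x := by
  have h1 : nn w1 w2 1 * x * (nn w1 w2 1)⁻¹ ∈ UU V R i := by
    rw [← b.cj_UU (b.X_le_NV (c.nn_mem_X b 1)) (c.nn_R2 b one_ne_zero)]
    exact conj_mem_cj hx
  have h2 : nn w1 w2 a * (nn w1 w2 1 * x * (nn w1 w2 1)⁻¹) * (nn w1 w2 a)⁻¹ ∈ UU V R j := by
    rw [← b.cj_UU (b.X_le_NV (c.nn_mem_X b a)) (c.nn_R1 b ha)]
    exact conj_mem_cj h1
  have e : hh w1 w2 a * x * (hh w1 w2 a)⁻¹ =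
      nn w1 w2 a * (nn w1 w2 1 * x * (nn w1 w2 1)⁻¹) * (nn w1 w2 a)⁻¹ := by unfold hh; group
  rw [e]
  refine ⟨h2, ?_⟩
  rw [c.nn_p2 b y ha h1, c.nn_p1 b y one_ne_zero hx, one_smul]

/-- **(10)(a)**: if `⟨A^H⟩` is perfect and `A` centralises `Z i / R i` then `[U j, Z i] = 1` -/
theorem Coord.UZ {V : Subgroup G} {R : ι → Subgroup G} {i j : ι} {F : Type v} [Field F]
    {v : F → F → G} {w1 w2 : F → G} [Finite F] [CharP F 2] (c : Coord V R i j v w1 w2) [Finite G]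
    (b : BT V R) (hF : ∃ a : F, a ≠ 0 ∧ a ≠ 1)
    (hZ : ∀ u ∈ UU V R j, ∀ z ∈ ZZ V R i, u * z * u⁻¹ * z⁻¹ ∈ R i)
    (hperf : ∀ u ∈ UU V R j, ∃ x ∈ ⁅LU V R i j, LU V R i j⁆, x⁻¹ * u ∈ QQ (R i)) :
    ∀ u ∈ UU V R j, ∀ z ∈ ZZ V R i, u * z = z * u := by
  obtain ⟨M, _, _, p1, p2, y⟩ := c.exists_yMod b
  obtain ⟨a, ha, ha1⟩ := hF
  have hX := c.hh_mem_X b a
  have hN : hh w1 w2 a ∈ normalizer (R i : Set G) := cj_eq_self_iff.1 (c.hh_R1 b ha)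
  set h := hh w1 w2 a with hh'
  have hNC : h ∈ normalizer (centralizer (ZZ V R i : Set G) : Set G) :=
    normalizer_le_normalizer_centralizer _ (N_le_NZ i hN)
  -- `[h, u]` centralises `Z i`
  have key : ∀ u ∈ UU V R j, h * u * h⁻¹ * u⁻¹ ∈ centralizer (ZZ V R i : Set G) := by
    intro u hu
    obtain ⟨x, hx, hq⟩ := hperf u hu
    have hx' := b.LU_comm hZ hx
    have h1 := b.XQ hX hN hq
    have h2 : h * (x⁻¹ * u) * h⁻¹ * (x⁻¹ * u)⁻¹ ∈ centralizer (ZZ V R i : Set G) := by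
      rw [mem_centralizer_iff]
      exact fun z hz => z_comm hz h1
    have hxN : x ∈ normalizer (centralizer (ZZ V R i : Set G) : Set G) := le_normalizer hx'
    have e : h * u * h⁻¹ * u⁻¹ = (h * x * h⁻¹) * (h * (x⁻¹ * u) * h⁻¹ * (x⁻¹ * u)⁻¹) * x⁻¹ := by group
    rw [e]
    exact mul_mem (mul_mem (conj_mem_of_normalizer hNC hx') h2) (inv_mem hx')
  intro u hu z hz
  -- `u ∈ [h, U j] D`
  obtain ⟨u', hu', hpu⟩ := y.surj2 ((a⁻¹ - 1)⁻¹ • p2 u)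
  have hne : a⁻¹ - 1 ≠ 0 := by
    intro h0
    apply ha1
    have h1 := sub_eq_zero.1 h0
    rw [← inv_inv a, h1, inv_one]
  obtain ⟨h3, h4⟩ := c.hh_q2 b y ha hu'
  rw [← hh'] at h3 h4
  have h5 : u * (h * u' * h⁻¹ * u'⁻¹)⁻¹ ∈ DD V R := by
    have h6 : h * u' * h⁻¹ * u'⁻¹ ∈ UU V R j := mul_mem h3 (inv_mem hu')
    rw [← y.ker2 _ (mul_mem hu (inv_mem h6)), y.mul2 _ hu _ (inv_mem h6), y.symm.p1_inv h6,
      y.mul2 _ h3 _ (inv_mem hu'), y.symm.p1_inv hu', h4, hpu]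
    have h7 : a⁻¹ • (a⁻¹ - 1)⁻¹ • p2 u + -((a⁻¹ - 1)⁻¹ • p2 u) = p2 u := by
      rw [← sub_eq_add_neg]
      have h8 : (a⁻¹ - 1)⁻¹ • p2 u = (1 : F) • (a⁻¹ - 1)⁻¹ • p2 u := (one_smul _ _).symm
      nth_rewrite 2 [h8]
      rw [← sub_smul, smul_smul, mul_inv_cancel₀ hne, one_smul]
    rw [h7, add_neg_cancel]
  have h6 := mem_centralizer_iff.1 (key u' hu') z hz
  have h7 := z_comm hz (D_le_W V R i h5)
  have e : u = (u * (h * u' * h⁻¹ * u'⁻¹)⁻¹) * (h * u' * h⁻¹ * u'⁻¹) := by group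
  set d := u * (h * u' * h⁻¹ * u'⁻¹)⁻¹
  set k := h * u' * h⁻¹ * u'⁻¹
  calc u * z = d * (k * z) := by rw [e]; group
    _ = d * (z * k) := by rw [h6]
    _ = z * (d * k) := by rw [← mul_assoc, ← h7]; group
    _ = z * u := by rw [← e]

/-! ### (b): `[W i, Z j] ≤ Z i` -/

theorem comm_mul_central {m m' x y : G} (h1 : m * x = x * m) (h2 : m * y = y * m) (h3 : m' * x = x * m')
    (h4 : m' * y = y * m') (h5 : m * m' = m' * m) :
    m * x * (m' * y) * (m * x)⁻¹ * (m' * y)⁻¹ = x * y * x⁻¹ * y⁻¹ := by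
  have a1 : Commute m x := h1
  have a2 : Commute m y := h2
  have a3 : Commute m' x := h3
  have a4 : Commute m' y := h4
  have a5 : Commute m m' := h5
  have a6 : Commute (m * m') (x * y * x⁻¹ * y⁻¹) :=
    ((((a1.mul_right a2).mul_right a1.inv_right).mul_right a2.inv_right).mul_left
      (((a3.mul_right a4).mul_right a3.inv_right).mul_right a4.inv_right))
  have e1 : m⁻¹ * y⁻¹ = y⁻¹ * m⁻¹ := a2.inv_inv.eq
  have e2 : m⁻¹ * m'⁻¹ = m'⁻¹ * m⁻¹ := a5.inv_inv.eq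
  calc m * x * (m' * y) * (m * x)⁻¹ * (m' * y)⁻¹
      = m * (x * m') * y * x⁻¹ * (m⁻¹ * y⁻¹) * m'⁻¹ := by group
    _ = (m * m') * (x * y * x⁻¹ * y⁻¹) * (m⁻¹ * m'⁻¹) := by rw [← h3, e1]; group
    _ = (x * y * x⁻¹ * y⁻¹) * (m * m') * (m⁻¹ * m'⁻¹) := by rw [a6.eq]
    _ = x * y * x⁻¹ * y⁻¹ := by rw [e2]; group

/-- `[w, z] ∈ v(s, t) Z i` -/
def Rel (V : Subgroup G) (R : ι → Subgroup G) (i : ι) {F : Type v} (v : F → F → G) (z w : G) (t : F) :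
    Prop := ∃ s, ∃ k ∈ ZZ V R i, w * z * w⁻¹ * z⁻¹ = v s t * k

namespace Coord

variable {V : Subgroup G} {R : ι → Subgroup G} {i j : ι} {F : Type v} [Field F]
  {v : F → F → G} {w1 w2 : F → G}

section

variable (c : Coord V R i j v w1 w2) (b : BT V R)
include c b

theorem rel_exists (hUZ : ∀ z ∈ ZZ V R j, ∀ u ∈ UU V R i, u * z = z * u) {z w : G}
    (hz : z ∈ ZZ V R j) (hw : w ∈ WW V (R i)) : ∃ t, Rel V R i v z w t := by
  have hzc := UU_le_cen j (zU_le j hz)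
  have hzN := b.cen_le_NW i hzc
  have h1 : w * z * w⁻¹ * z⁻¹ ∈ WW V (R i) := by
    have e : w * z * w⁻¹ * z⁻¹ = w * (z * w⁻¹ * z⁻¹) := by group
    rw [e]
    exact mul_mem hw (conj_mem_of_normalizer hzN (inv_mem hw))
  have hzW := normalizer_le_WW V (R i)
  obtain ⟨v0, hv0, hk⟩ := b.cen_U (b.W_le_Q i h1) (by
    intro u hu
    have hu' : w⁻¹ * u * w ∈ UU V R i := by
      have h2 : cj w⁻¹ (UU V R i) = UU V R i :=
        b.cj_UU (inv_mem (b.W_le_NV i hw)) (cj_eq_self_iff.2 (inv_mem (b.W_le_N i hw)))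
      have h3 := conj_mem_cj (g := w⁻¹) hu
      rwa [h2, inv_inv] at h3
    have k1 := hUZ z hz _ hu'
    have k2 := hUZ z hz _ hu
    calc w * z * w⁻¹ * z⁻¹ * u = w * z * w⁻¹ * (z⁻¹ * (u * z)) * z⁻¹ := by group
      _ = w * (z * (w⁻¹ * u * w)) * w⁻¹ * z⁻¹ := by rw [k2]; group
      _ = u * (w * z * w⁻¹ * z⁻¹) := by rw [← k1]; group)
  obtain ⟨s, t, rfl⟩ := (c.mem_V v0).1 hv0
  refine ⟨t, s, _, mem_inf.2 ⟨?_, hk⟩, by group⟩
  exact mul_mem (inv_mem (V_le_WW V (R i) hv0)) h1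

theorem rel_unique {z w : G} {t t' : F} (h : Rel V R i v z w t) (h' : Rel V R i v z w t') : t = t' := by
  obtain ⟨s, k, hk, e⟩ := h
  obtain ⟨s', k', hk', e'⟩ := h'
  rw [e] at e'
  have h1 : v (s - s') (t - t') ∈ R i := by
    refine b.cen_VW (c.v_mem _ _) ?_
    have h2 : v (s - s') (t - t') = k' * k⁻¹ := by
      have h3 := c.v_add (s - s') (t - t') s' t'
      rw [sub_add_cancel, sub_add_cancel] at h3
      have h4 := c.v_add s' t' (s - s') (t - t')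
      rw [add_sub_cancel, add_sub_cancel] at h4
      calc v (s - s') (t - t') = (v s' t')⁻¹ * v s t := by rw [h4]; group
        _ = (v s' t')⁻¹ * (v s t * k) * k⁻¹ := by group
        _ = k' * k⁻¹ := by rw [e']; group
    rw [h2]
    exact mul_mem hk'.2 (inv_mem hk.2)
  obtain ⟨s'', h2⟩ := (c.mem_R1 _).1 h1
  exact (sub_eq_zero.1 (c.v_inj h2).2.symm)

theorem rel_D {z w : G} (hz : z ∈ DD V R) (hw : w ∈ WW V (R i)) : Rel V R i v z w 0 := by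
  obtain ⟨s, hs⟩ := (c.mem_R1 _).1 (b.WW_comm i hw (D_le_W V R i hz))
  exact ⟨s, 1, one_mem _, by rw [mul_one, hs]⟩

theorem rel_mul {z z' w : G} {t t' : F} (hz : z ∈ ZZ V R j)
    (h : Rel V R i v z w t) (h' : Rel V R i v z' w t') : Rel V R i v (z * z') w (t + t') := by
  obtain ⟨s, k, hk, e⟩ := h
  obtain ⟨s', k', hk', e'⟩ := h'
  have hzc := UU_le_cen j (zU_le j hz)
  have hk2 : z * k' * z⁻¹ ∈ ZZ V R i :=
    conj_mem_of_normalizer (N_le_NZ i (b.cen_le_N i hzc)) hk'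
  refine ⟨s + s', k * (z * k' * z⁻¹), mul_mem hk hk2, ?_⟩
  have h1 := mem_centralizer_iff.1 hzc _ (c.v_mem s' t')
  have h2 := z_comm hk (V_le_WW V (R i) (c.v_mem s' t'))
  calc w * (z * z') * w⁻¹ * (z * z')⁻¹ = (w * z * w⁻¹ * z⁻¹) * z * (w * z' * w⁻¹ * z'⁻¹) * z⁻¹ := by group
    _ = v s t * k * (z * v s' t') * k' * z⁻¹ := by rw [e, e']; group
    _ = v s t * (k * v s' t') * z * k' * z⁻¹ := by rw [← h1]; group
    _ = (v s t * v s' t') * (k * (z * k' * z⁻¹)) := by rw [h2]; group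
    _ = _ := by rw [← c.v_add]

theorem rel_key [CharP F 2] {z w w' : G} {a a' t t' : F} (hz : z ∈ ZZ V R j) (hw : w ∈ WW V (R i))
    (hw' : w' ∈ WW V (R i)) (ha : ∀ b c, w * v b c * w⁻¹ = v (b + a * c) c)
    (ha' : ∀ b c, w' * v b c * w'⁻¹ = v (b + a' * c) c)
    (h : Rel V R i v z w t) (h' : Rel V R i v z w' t') : a * t' = a' * t := by
  obtain ⟨s, k, hk, e⟩ := h
  obtain ⟨s', k', hk', e'⟩ := h'
  have hzc := UU_le_cen j (zU_le j hz)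
  -- `z w z⁻¹ = k⁻¹ v⁻¹ w`
  have e1 : z * w * z⁻¹ = k⁻¹ * (v s t)⁻¹ * w := by
    have : z * w * z⁻¹ = (w * z * w⁻¹ * z⁻¹)⁻¹ * w := by group
    rw [this, e]; group
  have e2 : z * w' * z⁻¹ = k'⁻¹ * (v s' t')⁻¹ * w' := by
    have : z * w' * z⁻¹ = (w' * z * w'⁻¹ * z⁻¹)⁻¹ * w' := by group
    rw [this, e']; group
  have e3 : z * (w * w' * w⁻¹ * w'⁻¹) * z⁻¹ = w * w' * w⁻¹ * w'⁻¹ := by
    have := mem_centralizer_iff.1 hzc _ (b.R_le i (b.WW_comm i hw hw'))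
    rw [← this]; group
  have hcent : ∀ m ∈ ZZ V R i, ∀ x ∈ WW V (R i), m * x = x * m := fun m hm x hx => z_comm hm hx
  set r := w * w' * w⁻¹ * w'⁻¹ with hr
  have hrR : r ∈ R i := b.WW_comm i hw hw'
  have hVW := V_le_WW V (R i)
  have hvm := hVW (c.v_mem s t)
  have hvm' := hVW (c.v_mem s' t')
  -- `[v⁻¹ w, v'⁻¹ w'] = r`
  have e4 : (v s t)⁻¹ * w * ((v s' t')⁻¹ * w') * ((v s t)⁻¹ * w)⁻¹ * ((v s' t')⁻¹ * w')⁻¹ = r := by
    have h1 : z * (w * w' * w⁻¹ * w'⁻¹) * z⁻¹ =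
        (z * w * z⁻¹) * (z * w' * z⁻¹) * (z * w * z⁻¹)⁻¹ * (z * w' * z⁻¹)⁻¹ := by group
    rw [← hr, e3, e1, e2] at h1
    have hki := inv_mem hk
    have hki' := inv_mem hk'
    have hx : (v s t)⁻¹ * w ∈ WW V (R i) := mul_mem (inv_mem hvm) hw
    have hy : (v s' t')⁻¹ * w' ∈ WW V (R i) := mul_mem (inv_mem hvm') hw'
    have hmm := comm_mul_central (hcent _ hki _ hx) (hcent _ hki _ hy) (hcent _ hki' _ hx)
      (hcent _ hki' _ hy) (hcent _ hki _ (zW_le i hki'))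
    rw [← hmm, h1]
    simp only [mul_assoc]
  have hrc : ∀ x ∈ WW V (R i), r * x = x * r := fun x hx => hcent _ (b.R_le_Z i hrR) x hx
  have e5 : (v s t)⁻¹ * w * ((v s' t')⁻¹ * w') * ((v s t)⁻¹ * w)⁻¹ * ((v s' t')⁻¹ * w')⁻¹ =
      r * ((v s t)⁻¹ * (w * v s' t' * w⁻¹)⁻¹ * (w' * v s t * w'⁻¹) * v s' t') := by
    have k1 := hrc _ (mul_mem (inv_mem hvm) (inv_mem (mul_mem (mul_mem hw hvm') (inv_mem hw))))
    calc (v s t)⁻¹ * w * ((v s' t')⁻¹ * w') * ((v s t)⁻¹ * w)⁻¹ * ((v s' t')⁻¹ * w')⁻¹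
        = ((v s t)⁻¹ * (w * v s' t' * w⁻¹)⁻¹) * r * (w' * v s t * w'⁻¹) * v s' t' := by
          rw [hr]; group
      _ = _ := by rw [← k1]; group
  rw [e5, mul_eq_left, ha, ha'] at e4
  have e6 : ∀ x y : F, (v x y)⁻¹ = v x y := fun x y => b.inv_eq (c.v_mem x y)
  rw [e6, e6, ← c.v_add, ← c.v_add, ← c.v_add] at e4
  have e7 := (c.v_one _ _ e4).1
  have e8 : s + (s' + a * t') + (s + a' * t) + s' = a * t' + a' * t := by
    have h1 := CharTwo.add_self_eq_zero s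
    have h2 := CharTwo.add_self_eq_zero s'
    linear_combination h1 + h2
  rw [e8] at e7
  exact CharTwo.add_eq_zero.1 e7

theorem rel_conj [CharP F 2] {z w : G} {a t : F} (ha : a ≠ 0) (h : Rel V R i v z w t) :
    Rel V R i v (hh w1 w2 a * z * (hh w1 w2 a)⁻¹) (hh w1 w2 a * w * (hh w1 w2 a)⁻¹) (a⁻¹ * t) := by
  obtain ⟨s, k, hk, e⟩ := h
  have hN : hh w1 w2 a ∈ normalizer (R i : Set G) := cj_eq_self_iff.1 (c.hh_R1 b ha)
  refine ⟨a * s, hh w1 w2 a * k * (hh w1 w2 a)⁻¹, conj_mem_of_normalizer (N_le_NZ i hN) hk, ?_⟩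
  rw [← c.hh_act ha]
  calc _ = hh w1 w2 a * (w * z * w⁻¹ * z⁻¹) * (hh w1 w2 a)⁻¹ := by group
    _ = _ := by rw [e]; group

end

/-- **(10)(b)**: `[W i, Z j] ≤ Z i` -/
theorem WZ [Finite F] [CharP F 2] (c : Coord V R i j v w1 w2) (b : BT V R)
    (hF : ∃ a : F, a ≠ 0 ∧ a ≠ 1)
    (hUZ : ∀ z ∈ ZZ V R j, ∀ u ∈ UU V R i, u * z = z * u) {z w : G}
    (hz : z ∈ ZZ V R j) (hw : w ∈ WW V (R i)) : w * z * w⁻¹ * z⁻¹ ∈ ZZ V R i := by
  obtain ⟨M, _, _, p1, p2, y⟩ := c.exists_yMod b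
  have hw1 := c.w1_mem 1
  have hact := c.w1_act 1
  -- the function `b`
  have B0 : ∀ z ∈ ZZ V R j, ∀ t, Rel V R i v z (w1 1) t → t = 0 := by
    intro z hz t ht
    have key : ∀ x : F, x ≠ 0 → ∃ zx ∈ ZZ V R j, p2 zx = x • p2 z ∧ zx ∈ UU V R j ∧
        Rel V R i v zx (w1 1) (x ^ 3 * t) := by
      intro x hx
      have hx' : x⁻¹ ≠ 0 := inv_ne_zero hx
      have hN : hh w1 w2 x⁻¹ ∈ normalizer (R j : Set G) := cj_eq_self_iff.1 (c.hh_R2 b hx')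
      obtain ⟨h1, h2⟩ := c.hh_q2 b y hx' (zU_le j hz)
      rw [inv_inv] at h2
      have h3 : hh w1 w2 x⁻¹ * z * (hh w1 w2 x⁻¹)⁻¹ ∈ ZZ V R j :=
        conj_mem_of_normalizer (N_le_NZ j hN) hz
      refine ⟨_, h3, h2, h1, ?_⟩
      obtain ⟨t', ht'⟩ := c.rel_exists b hUZ h3 hw1
      have h4 := c.rel_conj b hx' ht
      have hN1 : hh w1 w2 x⁻¹ ∈ normalizer (R i : Set G) := cj_eq_self_iff.1 (c.hh_R1 b hx')
      have h5 : hh w1 w2 x⁻¹ * w1 1 * (hh w1 w2 x⁻¹)⁻¹ ∈ WW V (R i) :=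
        conj_mem_of_normalizer (normalizer_le_WW V (R i) hN1) hw1
      have h6 : ∀ b' c', hh w1 w2 x⁻¹ * w1 1 * (hh w1 w2 x⁻¹)⁻¹ * v b' c' *
          (hh w1 w2 x⁻¹ * w1 1 * (hh w1 w2 x⁻¹)⁻¹)⁻¹ = v (b' + x⁻¹ ^ 2 * c') c' := by
        intro b' c'
        rw [c.hh_w1_act b hx' 1 (c.v_mem b' c'), mul_one, c.w1_act]
      have h7 := c.rel_key b h3 hw1 h5 hact h6 ht' h4
      rw [one_mul, inv_inv] at h7
      have h8 : t' = x ^ 3 * t := by
        have : x ^ 2 * (x⁻¹ ^ 2 * t') = t' := by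
          rw [← mul_assoc, ← mul_pow, mul_inv_cancel₀ hx, one_pow, one_mul]
        rw [← this, ← h7]; ring
      rw [h8] at ht'
      exact ht'
    obtain ⟨a, ha, ha1⟩ := hF
    have h1a : (1 : F) + a ≠ 0 := by
      intro h
      apply ha1
      exact (CharTwo.add_eq_zero.1 h).symm
    obtain ⟨z1, hz1, p1', hu1, r1⟩ := key 1 one_ne_zero
    obtain ⟨z2, hz2, p2', hu2, r2⟩ := key a ha
    obtain ⟨z3, hz3, p3', hu3, r3⟩ := key (1 + a) h1a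
    have hd : z1 * z2 * z3⁻¹ ∈ DD V R := by
      rw [← y.ker2 _ (mul_mem (mul_mem hu1 hu2) (inv_mem hu3)), y.mul2 _ (mul_mem hu1 hu2) _ (inv_mem hu3),
        y.mul2 _ hu1 _ hu2, y.symm.p1_inv hu3, p1', p2', p3', ← add_smul, add_neg_cancel]
    have hr12 := c.rel_mul b hz1 r1 r2
    have hr0 := c.rel_D b hd hw1
    have hdz : z1 * z2 * z3⁻¹ ∈ ZZ V R j := mul_mem (mul_mem hz1 hz2) (inv_mem hz3)
    have hr3 := c.rel_mul b hdz hr0 r3
    have e : z1 * z2 * z3⁻¹ * z3 = z1 * z2 := by group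
    rw [e] at hr3
    have h4 := c.rel_unique b hr12 hr3
    have h5 : a * (1 + a) * t = 0 := by
      have h6 := CharTwo.add_self_eq_zero (a * t)
      have h7 := CharTwo.add_self_eq_zero (a ^ 2 * t)
      linear_combination -h4 - h6 - h7
    rcases mul_eq_zero.1 h5 with h6 | h6
    · exact absurd h6 (mul_ne_zero ha h1a)
    · exact h6
  obtain ⟨t, ht⟩ := c.rel_exists b hUZ hz hw
  obtain ⟨t1, ht1⟩ := c.rel_exists b hUZ hz hw1
  obtain ⟨a, ha⟩ := c.W1_act w hw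
  have h1 := c.rel_key b hz hw1 hw hact ha ht1 ht
  rw [B0 z hz t1 ht1, mul_zero, one_mul] at h1
  subst h1
  obtain ⟨s, k, hk, e⟩ := ht
  rw [e]
  exact mul_mem (b.R_le_Z i ((c.mem_R1 _).2 ⟨s, rfl⟩)) hk

end Coord

/-! ### (c) -/

/-- the stabiliser of the chain `W i > Z i > 1` -/
def Psi (V : Subgroup G) (R : ι → Subgroup G) (i : ι) : Subgroup G :=
  (normalizer (R i : Set G) ⊓ cenMod (ZZ V R i) (WW V (R i))) ⊓ centralizer (ZZ V R i : Set G)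

theorem BT.Psi_le {V : Subgroup G} {R : ι → Subgroup G} [Finite G] (b : BT V R) (i : ι)
    (h2 : IsPGroup 2 (centralizer (WW V (R i) : Set G))) : Psi V R i ≤ QQ (R i) := by
  refine le_O2_of_normal (inf_le_left.trans inf_le_left) ?_ ?_
  · refine isPGroup_of_odd fun c hc ho => ?_
    obtain ⟨⟨h1, h3, h4⟩, h5⟩ := hc
    have h6 : c ∈ centralizer (WW V (R i) : Set G) := by
      rw [mem_centralizer_iff]
      intro w hw
      have h7 := h4 w hw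
      exact (comm_of_odd ho ((b.W_isPGroup i).to_le (zW_le i)) h7
        ((mem_centralizer_iff.1 h5 _ h7).symm)).symm
    obtain ⟨n, hn⟩ := h2 ⟨c, h6⟩
    have hn' : c ^ 2 ^ n = 1 := congrArg Subtype.val hn
    have hd := Nat.dvd_gcd (dvd_refl (orderOf c)) (orderOf_dvd_of_pow_eq_one hn')
    have hco : Nat.gcd (orderOf c) (2 ^ n) = 1 := (Nat.coprime_two_right.2 ho).pow_right n
    rw [hco, Nat.dvd_one, orderOf_eq_one_iff] at hd
    exact hd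
  · rintro g hg x ⟨⟨h1, h3, h4⟩, h5⟩
    have hgZ := N_le_NZ (V := V) i hg
    refine ⟨⟨Subgroup.mul_mem _ (Subgroup.mul_mem _ hg h1) (Subgroup.inv_mem _ hg),
      Subgroup.mul_mem _ (Subgroup.mul_mem _ hgZ h3) (Subgroup.inv_mem _ hgZ), ?_⟩, ?_⟩
    · intro w hw
      have h6 := h4 _ (conj_inv_mem_of_normalizer (normalizer_le_WW V (R i) hg) hw)
      have h7 := conj_mem_of_normalizer hgZ h6
      have e : g * (x * (g⁻¹ * w * g) * x⁻¹ * (g⁻¹ * w * g)⁻¹) * g⁻¹ =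
          g * x * g⁻¹ * w * (g * x * g⁻¹)⁻¹ * w⁻¹ := by group
      rwa [e] at h7
    · exact conj_mem_of_normalizer (normalizer_le_normalizer_centralizer _ hgZ) h5

/-- **(c)** `Z j ≤ D` -/
theorem BT.Z_le_D {V : Subgroup G} {R : ι → Subgroup G} [Finite G] (b : BT V R) {i j : ι} (hij : i ≠ j)
    (h2 : IsPGroup 2 (centralizer (WW V (R i) : Set G)))
    (hUZ : ∀ z ∈ ZZ V R j, ∀ u ∈ UU V R i, u * z = z * u)
    (hWZ : ∀ z ∈ ZZ V R j, ∀ w ∈ WW V (R i), w * z * w⁻¹ * z⁻¹ ∈ ZZ V R i) : ZZ V R j ≤ DD V R := by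
  intro z hz
  have hzc := UU_le_cen j (zU_le j hz)
  have hzN := b.cen_le_N i hzc
  have h1 : z ∈ Psi V R i := by
    refine ⟨⟨hzN, N_le_NZ i hzN, fun w hw => ?_⟩, ?_⟩
    · have e : z * w * z⁻¹ * w⁻¹ = (w * z * w⁻¹ * z⁻¹)⁻¹ := by group
      rw [e]
      exact inv_mem (hWZ z hz w hw)
    · change z ∈ centralizer (ZZ V R i : Set G)
      rw [mem_centralizer_iff]
      exact fun x hx => hUZ z hz x (zU_le i hx)
  rw [b.D_eq hij.symm]
  exact mem_inf.2 ⟨zW_le j hz, b.Psi_le i h2 h1⟩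

/-! ### (d) -/

theorem odd_relIndex_of_norm [Finite G] {K L H : Subgroup G} (hL : L ≤ H)
    (hn : ∀ g ∈ H, ∀ x ∈ L, g * x * g⁻¹ ∈ L) (hodd : Odd (K.relIndex H)) : Odd (K.relIndex L) := by
  haveI : (L.subgroupOf H).Normal := ⟨fun x hx g => hn g g.2 x hx⟩
  have h1 : (K.subgroupOf H).relIndex (L.subgroupOf H) = K.relIndex L := relIndex_subgroupOf hL
  have h2 := Lib.SylowNormalInf.relIndex_sup_of_normal (K.subgroupOf H) (L.subgroupOf H)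
  have h3 : (K.subgroupOf H).relIndex (K.subgroupOf H ⊔ L.subgroupOf H) ∣ (K.subgroupOf H).index :=
    relIndex_dvd_index_of_le le_sup_left
  rw [h2, h1] at h3
  exact Odd.of_dvd_nat hodd h3

section

variable {V : Subgroup G} {R : ι → Subgroup G}

/-- the elements of `N(R i)` centralising `C(W i) / R i` -/
def Lam (V : Subgroup G) (R : ι → Subgroup G) (i : ι) : Subgroup G :=
  normalizer (R i : Set G) ⊓ cenMod (R i) (centralizer (WW V (R i) : Set G))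

theorem BT.Lam_norm (b : BT V R) (i : ι) :
    ∀ g ∈ normalizer (R i : Set G), ∀ x ∈ Lam V R i, g * x * g⁻¹ ∈ Lam V R i := by
  rintro g hg x ⟨h1, h3, h4⟩
  refine ⟨Subgroup.mul_mem _ (Subgroup.mul_mem _ hg h1) (Subgroup.inv_mem _ hg),
    Subgroup.mul_mem _ (Subgroup.mul_mem _ hg h3) (Subgroup.inv_mem _ hg), ?_⟩
  intro w hw
  have h6 := h4 _ (conj_inv_mem_of_normalizer (b.N_le_NC i hg) hw)
  have h7 := conj_mem_of_normalizer hg h6
  have e : g * (x * (g⁻¹ * w * g) * x⁻¹ * (g⁻¹ * w * g)⁻¹) * g⁻¹ =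
      g * x * g⁻¹ * w * (g * x * g⁻¹)⁻¹ * w⁻¹ := by group
  rwa [e] at h7

/-- **(d)**: `C(W i) ≤ R i C(X)` for all `i` implies `C(X) = 1` -/
theorem BTS.cen_X_bot {i j : ι} {F : Type v} [Field F]
    {v : F → F → G} {w1 w2 : F → G} [Finite F] [CharP F 2] [Finite G] (o : BTS V R)
    (c : Coord V R i j v w1 w2) (hF : ∃ a : F, a ≠ 0 ∧ a ≠ 1)
    (hodd : Odd ((normalizer (V : Set G)).relIndex (normalizer (R i : Set G))))
    (hC : ∀ x ∈ centralizer (WW V (R i) : Set G), ∃ r ∈ R i, r⁻¹ * x ∈ centralizer (XX V R : Set G)) :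
    centralizer (XX V R : Set G) = ⊥ := by
  have b := o.toBT
  obtain ⟨a, ha, ha1⟩ := hF
  have hX := c.hh_mem_X b a
  have hN : hh w1 w2 a ∈ normalizer (R i : Set G) := cj_eq_self_iff.1 (c.hh_R1 b ha)
  -- `h(a)` centralises no element of `R i`
  have hfix : ∀ r ∈ R i, hh w1 w2 a * r * (hh w1 w2 a)⁻¹ = r → r = 1 := by
    intro r hr h
    obtain ⟨s, rfl⟩ := (c.mem_R1 _).1 hr
    rw [c.hh_act ha, mul_zero] at h
    have h1 := (c.v_inj h).1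
    have h2 : (a - 1) * s = 0 := by rw [sub_mul, one_mul, h1, sub_self]
    rcases mul_eq_zero.1 h2 with h3 | h3
    · exact absurd (sub_eq_zero.1 h3) ha1
    · rw [h3, c.v_zero]
  set h := hh w1 w2 a with hh'
  have hcX : ∀ x ∈ centralizer (XX V R : Set G), h * x * h⁻¹ = x := by
    intro x hx
    rw [mem_centralizer_iff.1 hx h hX, mul_inv_cancel_right]
  have hhL : h ∈ Lam V R i := by
    refine ⟨hN, hN, fun x hx => ?_⟩
    obtain ⟨r, hr, hrx⟩ := hC x hx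
    have e : h * x * h⁻¹ * x⁻¹ = (h * r * h⁻¹) * (h * (r⁻¹ * x) * h⁻¹) * (r⁻¹ * x)⁻¹ * r⁻¹ := by group
    rw [e, hcX _ hrx, mul_inv_cancel_right]
    exact mul_mem (conj_mem_of_normalizer hN hr) (inv_mem hr)
  have hNVc : normalizer (V : Set G) ≤ normalizer (centralizer (XX V R : Set G) : Set G) :=
    b.NV_le_NX.trans (normalizer_le_normalizer_centralizer _)
  -- every element of `C(X)` is centralised by `Lam`
  have key : ∀ x ∈ centralizer (XX V R : Set G), ∀ l ∈ Lam V R i, l * x = x * l := by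
    intro x hx
    have hxW := cen_X_le i hx
    have hPodd : Odd ((Lam V R i ⊓ normalizer (V : Set G)).relIndex (Lam V R i)) := by
      rw [inf_comm, inf_relIndex_right]
      exact odd_relIndex_of_norm inf_le_left (b.Lam_norm i) hodd
    obtain ⟨r, hr, hr'⟩ := Avg.avg (X := Lam V R i) (P := Lam V R i ⊓ normalizer (V : Set G)) (Y := R i)
      (D := ⊥) inf_le_left hPodd bot_le
      (fun l hl r hr => conj_mem_of_normalizer hl.1 hr)
      (fun l _ r hr => by rw [mem_bot] at hr ⊢; rw [hr]; group)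
      (fun l _ r hr => by rw [mem_bot] at hr ⊢; rw [hr]; group)
      (fun r hr => by rw [mem_bot]; exact b.V_sq r (b.R_le i hr))
      (c := x)
      (fun l hl => by
        have h1 := conj_inv_mem_of_normalizer (b.cen_W_le_N i i hxW) (hl.2.2 x hxW)
        have e : x⁻¹ * (l * x * l⁻¹ * x⁻¹) * x = x⁻¹ * l * x * l⁻¹ := by group
        rwa [e] at h1)
      (fun l hl => by
        rw [mem_bot]
        have h1 : l * x * l⁻¹ * x⁻¹ = 1 := by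
          refine b.cen_VX (b.R_le i (hl.1.2.2 x hxW)) ?_
          exact mul_mem (conj_mem_of_normalizer (hNVc hl.2) hx) (inv_mem hx)
        calc x⁻¹ * l * x * l⁻¹ = x⁻¹ * (l * x * l⁻¹ * x⁻¹) * x := by group
          _ = 1 := by rw [h1]; group)
    have h2 : ∀ l ∈ Lam V R i, l * (x * r) * l⁻¹ = x * r := by
      intro l hl
      have h3 := mem_bot.1 (hr' l hl)
      calc l * (x * r) * l⁻¹ = (x * r) * ((x * r)⁻¹ * l * (x * r) * l⁻¹) := by group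
        _ = x * r := by rw [h3, mul_one]
    have h3 := h2 h hhL
    have h4 : r = 1 := by
      refine hfix r hr ?_
      have e : h * (x * r) * h⁻¹ = (h * x * h⁻¹) * (h * r * h⁻¹) := by group
      rw [e, hcX x hx] at h3
      exact mul_left_cancel h3
    intro l hl
    have h5 := h2 l hl
    rw [h4, mul_one, mul_inv_eq_iff_eq_mul] at h5
    exact h5
  -- `C(X) = C(Lam) ∩ C(W i)`
  have heq : centralizer (XX V R : Set G) = centralizer (Lam V R i : Set G) ⊓ centralizer (WW V (R i) : Set G) := by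
    apply le_antisymm
    · intro x hx
      refine mem_inf.2 ⟨?_, cen_X_le i hx⟩
      rw [mem_centralizer_iff]
      exact fun l hl => key x hx l hl
    · rintro x ⟨h1, h2⟩
      obtain ⟨r, hr, hrx⟩ := hC x h2
      have h3 : h * x * h⁻¹ = x := by
        rw [mem_centralizer_iff.1 h1 h hhL, mul_inv_cancel_right]
      have h4 : r = 1 := by
        refine hfix r hr ?_
        have e : h * x * h⁻¹ = (h * r * h⁻¹) * (h * (r⁻¹ * x) * h⁻¹) := by group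
        rw [e, hcX _ hrx] at h3
        have h5 : h * r * h⁻¹ = x * (r⁻¹ * x)⁻¹ := eq_mul_inv_of_mul_eq h3
        rw [h5]; group
      rw [h4] at hrx
      simpa using hrx
  have hLN : normalizer (R i : Set G) ≤ normalizer (Lam V R i : Set G) := by
    refine le_normalizer_of (b.Lam_norm i)
  refine o.nonloc i _ ((o.out_two i).to_le (cen_X_le i))
    (((cen_X_le i).trans (cen_W_le V (R i))).trans (cen_le_NV V))
    ((cen_X_le i).trans (b.cen_W_le_N i i)) hNVc ?_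
  rw [heq]
  intro g hg
  rw [← cj_eq_self_iff, cj_inf, ← centralizer_cj, ← centralizer_cj, cj_eq_self_iff.2 (hLN hg),
    cj_eq_self_iff.2 (normalizer_le_WW V (R i) hg)]

/-- **THEOREM (10)** of #12692, K-free, `q ≥ 4`: if `⟨A^H⟩` is perfect and `A` centralises `Z i / R i`
then `C(X) = 1`. -/
theorem BTS.ten {i j : ι} {F : Type v} [Field F]
    {v : F → F → G} {w1 w2 : F → G} [Finite F] [CharP F 2] [Finite G] (o : BTS V R)
    (c : Coord V R i j v w1 w2) (hF : ∃ a : F, a ≠ 0 ∧ a ≠ 1)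
    (hodd : Odd ((normalizer (V : Set G)).relIndex (normalizer (R i : Set G))))
    (hZ : ∀ u ∈ UU V R j, ∀ z ∈ ZZ V R i, u * z * u⁻¹ * z⁻¹ ∈ R i)
    (hperf : ∀ u ∈ UU V R j, ∃ x ∈ ⁅LU V R i j, LU V R i j⁆, x⁻¹ * u ∈ QQ (R i)) :
    centralizer (XX V R : Set G) = ⊥ := by
  have b := o.toBT
  have h1 := c.UZ b hF hZ hperf
  -- a swap
  obtain ⟨n, hn, e1, e2⟩ := b.trans_X c.ne c.ne.symm
  have hUZ : ∀ z ∈ ZZ V R j, ∀ u ∈ UU V R i, u * z = z * u := by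
    intro z hz u hu
    rw [← b.cj_ZZ e1, mem_cj] at hz
    rw [← b.cj_UU (b.X_le_NV hn) e2, mem_cj] at hu
    have h2 := h1 _ hu _ hz
    calc u * z = n * ((n⁻¹ * u * n) * (n⁻¹ * z * n)) * n⁻¹ := by group
      _ = n * ((n⁻¹ * z * n) * (n⁻¹ * u * n)) * n⁻¹ := by rw [h2]
      _ = z * u := by group
  have h3 : ZZ V R j ≤ DD V R :=
    b.Z_le_D c.ne (o.out_two i) hUZ fun z hz w hw => c.WZ b hF hUZ hz hw
  have h4 : ZZ V R i ≤ DD V R := by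
    intro z hz
    have h5 := h3 (show n * z * n⁻¹ ∈ ZZ V R j by rw [← b.cj_ZZ e1]; exact conj_mem_cj hz)
    have h6 := conj_inv_mem_of_normalizer (b.NV_le_ND (b.X_le_NV hn)) h5
    have e : n⁻¹ * (n * z * n⁻¹) * n = z := by group
    rwa [e] at h6
  refine o.cen_X_bot c hF hodd fun x hx => ?_
  obtain ⟨z, hz, hzx⟩ := o.out_four c hF i hx
  have hzC : z ∈ centralizer (WW V (R i) : Set G) := by
    have e : z = x * (z⁻¹ * x)⁻¹ := by group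
    rw [e]
    exact mul_mem hx (inv_mem (cen_X_le i hzx))
  obtain ⟨r, hr, hrz⟩ := o.out_one (h4 (mem_inf.2 ⟨hz, hzC⟩)) hzC
  refine ⟨r, hr, ?_⟩
  have e : r⁻¹ * x = (r⁻¹ * z) * (z⁻¹ * x) := by group
  rw [e]
  exact mul_mem hrz hzx

end

end Cfsg.Agent.Omega.BTwo
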