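import Cfsg.Agent.Omega.BTwo.SplitBeta
import Cfsg.Agent.Omega.BTwo.Key

/-!
# #12692 (12): `U i` abelian and `Z(W i)` elementary is impossible (every `q`)

The singular vectors (`w² = 1`) of `W i / Z i` are `V Z i ∪ V' Z i` for a conjugate `V'` of `V`, so `N(R i)` has
exactly two conjugates of `U i = V Z i`; but a Sylow 2-subgroup of `G` normalises `V` and `R i`.
-/

set_option autoImplicit false

namespace Cfsg.Agent.Omega.BTwo

open Subgroup

universe u v w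

variable {G : Type u} [Group G] {ι : Type w} {V : Subgroup G} {R : ι → Subgroup G}

section

variable (b : BT V R)
include b

/-- `U i` abelian ⟹ `U i = V · Z i` -/
theorem BT.U_eq_VZ {i : ι} (hU : ∀ u ∈ UU V R i, ∀ u' ∈ UU V R i, u * u' = u' * u) {u : G}
    (hu : u ∈ UU V R i) : ∃ v ∈ V, ∃ z ∈ ZZ V R i, u = v * z := by
  obtain ⟨v, hv, hc⟩ := b.cen_U (b.W_le_Q i (UU_le_WW i hu)) fun u' hu' => hU u hu u' hu'
  exact ⟨v, hv, v⁻¹ * u, mem_inf.2 ⟨mul_mem (inv_mem (V_le_WW V (R i) hv)) (UU_le_WW i hu), hc⟩, by group⟩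

/-- `V Z i ≤ U i` -/
theorem BT.VZ_le_U {i : ι} {v z : G} (hv : v ∈ V) (hz : z ∈ ZZ V R i) : v * z ∈ UU V R i :=
  mul_mem (mem_inf.2 ⟨V_le_WW V (R i) hv, b.V_le_cen hv⟩)
    (mem_inf.2 ⟨hz.1, cen_W_le V (R i) hz.2⟩)

/-- involutions of `W i` outside `U i` are in `V^h Z i` -/
theorem BT.mem_of_sq {i : ι} (hU : ∀ u ∈ UU V R i, ∀ u' ∈ UU V R i, u * u' = u' * u)
    (hZ : ∀ z ∈ ZZ V R i, z * z = 1) {h : G} (hh : h ∈ normalizer (R i : Set G))
    (H : ∀ j k, j ≠ i → k ≠ i → ∃ v ∈ V, cj (h * v * h⁻¹) (R j) = R k) {w : G} (hw : w ∈ WW V (R i))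
    (hwU : w ∉ UU V R i) (hsq : w * w = 1) : ∃ v ∈ V, ∃ z ∈ ZZ V R i, w = h * v * h⁻¹ * z := by
  obtain ⟨v, hv, hu⟩ := b.W_fact H hh hw
  obtain ⟨v', hv', z, hz, e⟩ := b.U_eq_VZ hU hu
  set t := h * v * h⁻¹ with ht
  have htW : t ∈ WW V (R i) := cj_le_WW hh (conj_mem_cj hv)
  have ew : w = t * v' * z := by
    calc w = t * (t⁻¹ * w) := by group
      _ = t * v' * z := by rw [e]; group
  have htU : t ∉ UU V R i := fun h1 => by
    apply hwU
    rw [ew, mul_assoc]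
    exact mul_mem h1 (b.VZ_le_U hv' hz)
  have htt : t * t = 1 := by
    have e1 : t * t = h * (v * v) * h⁻¹ := by rw [ht]; group
    rw [e1, b.V_sq v hv, mul_one, mul_inv_cancel]
  have hzt : z * (t * v') = t * v' * z :=
    (mem_centralizer_iff.1 hz.2 _ (mul_mem htW (V_le_WW V (R i) hv'))).symm
  -- `t` commutes with `v'`
  have h1 : t * v' * (t * v') = 1 := by
    have e1 : t * v' * z * (t * v' * z) = 1 := by rw [← ew]; exact hsq
    have e2 : t * v' * z * (t * v' * z) = t * v' * (t * v') * (z * z) := by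
      calc t * v' * z * (t * v' * z) = t * v' * (z * (t * v')) * z := by group
        _ = t * v' * (t * v' * z) * z := by rw [hzt]
        _ = _ := by group
    rwa [e2, hZ z hz, mul_one] at e1
  have h2 : t * v' = v' * t := by
    calc t * v' = (t * v' * (t * v')) * (v'⁻¹ * t⁻¹) := by group
      _ = v'⁻¹ * t⁻¹ := by rw [h1, one_mul]
      _ = v' * t := by rw [b.inv_eq hv', inv_eq_of_mul_eq_one_left htt]
  -- so `v' ∈ R i`
  have h3 : v' ∈ R i := by
    by_contra h4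
    have h5 := b.reg (b.W_le_Q i htW) hv' h4 h2
    exact htU (mem_inf.2 ⟨htW, mem_centralizer_iff.2 fun a ha => (h5 a ha).symm⟩)
  refine ⟨v, hv, v' * z, mul_mem (b.R_le_Z i h3) hz, ?_⟩
  rw [ew, mul_assoc]

/-- a conjugate of `V` under `N(R i)` lies in `U i` or in `V^h Z i` -/
theorem BT.conj_cases {i : ι} (hU : ∀ u ∈ UU V R i, ∀ u' ∈ UU V R i, u * u' = u' * u)
    (hZ : ∀ z ∈ ZZ V R i, z * z = 1) {h : G} (hh : h ∈ normalizer (R i : Set G))
    (H : ∀ j k, j ≠ i → k ≠ i → ∃ v ∈ V, cj (h * v * h⁻¹) (R j) = R k) {g : G}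
    (hg : g ∈ normalizer (R i : Set G)) :
    cj g (UU V R i) ≤ UU V R i ∨ cj g (UU V R i) ≤ cj h (UU V R i) := by
  have hZg : ∀ x ∈ normalizer (R i : Set G), ∀ z ∈ ZZ V R i, x * z * x⁻¹ ∈ ZZ V R i := fun x hx z hz =>
    conj_mem_of_normalizer (N_le_NZ i hx) hz
  have h1 : ∀ x ∈ cj g V, x ∈ UU V R i ∨ x ∈ cj h (UU V R i) := by
    intro x hx
    by_cases hxU : x ∈ UU V R i
    · exact Or.inl hxU
    right
    have hxx : x * x = 1 := by
      obtain ⟨y, hy, rfl⟩ := hx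
      change g * y * g⁻¹ * (g * y * g⁻¹) = 1
      have e1 : g * y * g⁻¹ * (g * y * g⁻¹) = g * (y * y) * g⁻¹ := by group
      rw [e1, b.V_sq y hy, mul_one, mul_inv_cancel]
    obtain ⟨v, hv, z, hz, rfl⟩ := b.mem_of_sq hU hZ hh H (cj_le_WW hg hx) hxU hxx
    rw [mem_cj]
    have e1 : h⁻¹ * (h * v * h⁻¹ * z) * h = v * (h⁻¹ * z * h⁻¹⁻¹) := by group
    rw [e1]
    exact b.VZ_le_U hv (hZg _ (inv_mem hh) z hz)
  -- a group in the union of two
  have h2 : cj g V ≤ UU V R i ∨ cj g V ≤ cj h (UU V R i) := by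
    by_contra hc
    rw [not_or] at hc
    obtain ⟨hc1, hc2⟩ := hc
    rw [SetLike.not_le_iff_exists] at hc1 hc2
    obtain ⟨x, hx, hx1⟩ := hc1
    obtain ⟨y, hy, hy1⟩ := hc2
    have hx2 := (h1 x hx).resolve_left hx1
    have hy2 := (h1 y hy).resolve_right hy1
    rcases h1 _ (mul_mem hx hy) with h3 | h3
    · exact hx1 ((mul_mem_cancel_right hy2).1 h3)
    · exact hy1 ((mul_mem_cancel_left hx2).1 h3)
  have key : ∀ K : Subgroup G, cj g V ≤ K → ZZ V R i ≤ K → cj g (UU V R i) ≤ K := by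
    intro K hK hZK
    rw [cj_le_iff]
    intro u hu
    obtain ⟨v, hv, z, hz, rfl⟩ := b.U_eq_VZ hU hu
    have e : g * (v * z) * g⁻¹ = (g * v * g⁻¹) * (g * z * g⁻¹) := by group
    rw [e]
    exact mul_mem (hK (conj_mem_cj hv)) (hZK (hZg g hg z hz))
  rcases h2 with h2 | h2
  · exact Or.inl (key _ h2 fun z hz => mem_inf.2 ⟨hz.1, cen_W_le V (R i) hz.2⟩)
  · refine Or.inr (key _ h2 fun z hz => ?_)
    rw [mem_cj]
    have := hZg _ (inv_mem hh) z hz
    rw [inv_inv] at this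
    exact mem_inf.2 ⟨this.1, cen_W_le V (R i) this.2⟩

/-- **(12)**: `U i` abelian and `Z(W i)` elementary is impossible -/
theorem BT.twelve [Finite G] {i : ι} (hU : ∀ u ∈ UU V R i, ∀ u' ∈ UU V R i, u * u' = u' * u)
    (hZ : ∀ z ∈ ZZ V R i, z * z = 1) (S : Sylow 2 G) (hSV : (S : Subgroup G) ≤ normalizer (V : Set G))
    (hSR : (S : Subgroup G) ≤ normalizer (R i : Set G)) : False := by
  obtain ⟨h, hh, H⟩ := b.mt i
  have H1 : ∀ j k, j ≠ i → k ≠ i → ∃ v ∈ V, cj (h * v * h⁻¹) (R j) = R k := fun j k hj hk => (H j k hj hk).1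
  set U := UU V R i with hUdef
  have two : ∀ g ∈ normalizer (R i : Set G), cj g U = U ∨ cj g U = cj h U := by
    intro g hg
    rcases b.conj_cases hU hZ hh H1 hg with h1 | h1
    · exact Or.inl (eq_of_le_of_card_ge h1 (card_cj g U).ge)
    · exact Or.inr (eq_of_le_of_card_ge h1 (by rw [card_cj, card_cj]))
  have hne : cj h U ≠ U := by
    intro he
    -- then `V^h ≤ U`, but `V^h` moves points
    obtain ⟨j, hj, -⟩ := b.third i i
    obtain ⟨k, hki, hkj⟩ := b.third i j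
    obtain ⟨v, hv, e⟩ := H1 j k hj hki
    have h1 : h * v * h⁻¹ ∈ U := by
      rw [← he]
      exact conj_mem_cj (mem_inf.2 ⟨V_le_WW V (R i) hv, b.V_le_cen hv⟩)
    have h2 := b.cen_le_N j (UU_le_cen i h1)
    rw [← cj_eq_self_iff, e] at h2
    exact hkj (b.R_index h2)
  set K : Subgroup G := normalizer (R i : Set G) ⊓ normalizer (U : Set G) with hK
  have hKN : K ≤ normalizer (R i : Set G) := inf_le_left
  have hidx : K.relIndex (normalizer (R i : Set G)) = 2 := by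
    rw [relIndex, index_eq_two_iff]
    refine ⟨⟨h, hh⟩, fun g => ?_⟩
    have hgh : (g : G) * h ∈ normalizer (R i : Set G) := mul_mem g.2 hh
    have e1 : (g * ⟨h, hh⟩ ∈ K.subgroupOf (normalizer (R i : Set G))) ↔ cj (g : G) (cj h U) = U := by
      rw [mem_subgroupOf, hK, mem_inf, ← cj_mul, cj_eq_self_iff]
      exact ⟨fun h1 => h1.2, fun h1 => ⟨hgh, h1⟩⟩
    have e2 : (g ∈ K.subgroupOf (normalizer (R i : Set G))) ↔ cj (g : G) U = U := by
      rw [mem_subgroupOf, hK, mem_inf, cj_eq_self_iff]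
      exact ⟨fun h1 => h1.2, fun h1 => ⟨g.2, h1⟩⟩
    rw [e1, e2]
    rcases two g g.2 with h1 | h1
    · right
      refine ⟨h1, fun h2 => hne (cj_injective (h2.trans h1.symm))⟩
    · left
      have h3 : cj (g : G) U ≠ U := by rw [h1]; exact hne
      refine ⟨?_, h3⟩
      rcases two _ hgh with h4 | h4
      · rwa [cj_mul] at h4
      · rw [cj_mul] at h4
        exact absurd (cj_injective (h4.trans h1.symm)) hne
  have hSK : (S : Subgroup G) ≤ K := by
    refine le_inf hSR fun s hs => ?_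
    rw [← cj_eq_self_iff, hUdef, UU, cj_inf, cj_eq_self_iff.2 (normalizer_le_WW V (R i) (hSR hs)),
      ← centralizer_cj, cj_eq_self_iff.2 (hSV hs)]
  have h1 := S.not_dvd_index
  apply h1
  have h2 := relIndex_mul_index (hSK.trans hKN)
  have h3 := relIndex_mul_relIndex _ _ _ hSK hKN
  rw [← h2, ← h3, hidx]
  exact Dvd.dvd.mul_right (Dvd.intro_left _ rfl) _

/-- **(12)** in the form `U i = Z i · D` -/
theorem BT.twelve' [Finite G] {i : ι} (hU : ∀ u ∈ UU V R i, ∃ z ∈ ZZ V R i, z⁻¹ * u ∈ DD V R)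
    (hZ : ∀ z ∈ ZZ V R i, z * z = 1) (S : Sylow 2 G) (hSV : (S : Subgroup G) ≤ normalizer (V : Set G))
    (hSR : (S : Subgroup G) ≤ normalizer (R i : Set G)) : False := by
  refine b.twelve ?_ hZ S hSV hSR
  intro u hu u' hu'
  obtain ⟨z, hz, hd⟩ := hU u hu
  obtain ⟨z', hz', hd'⟩ := hU u' hu'
  have c1 : Commute z u' := (mem_centralizer_iff.1 hz.2 u' (UU_le_WW i hu')).symm
  have c2 : Commute (z⁻¹ * u) z' := mem_centralizer_iff.1 hz'.2 _ (D_le_W V R i hd)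
  have c3 : Commute (z⁻¹ * u) (z'⁻¹ * u') := b.D_comm hd hd'
  have c4 : Commute (z⁻¹ * u) u' := by
    have := c2.mul_right c3
    rwa [mul_inv_cancel_left] at this
  have := c1.mul_left c4
  rwa [mul_inv_cancel_left] at this

/-- `Z i` is elementary as soon as it is generated by `Z i ∩ D` and by commutators `[k, z]`, where `k ∈ N(R i)`
centralises `R i` -/
theorem BT.Z_elem {i : ι} (hgen : ∀ z ∈ ZZ V R i, z ∈ closure ({x | x ∈ ZZ V R i ∧ x ∈ DD V R} ∪
      {x | ∃ k ∈ normalizer (R i : Set G), (∀ a ∈ R i, k * a = a * k) ∧ ∃ z' ∈ ZZ V R i, x = k * z' * k⁻¹ * z'⁻¹})) :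
    ∀ z ∈ ZZ V R i, z * z = 1 := by
  let T : Subgroup G :=
    { carrier := {z | z ∈ ZZ V R i ∧ z * z = 1}
      one_mem' := ⟨one_mem _, one_mul _⟩
      mul_mem' := by
        rintro x y ⟨hx, hx'⟩ ⟨hy, hy'⟩
        refine ⟨mul_mem hx hy, ?_⟩
        have h1 : y * x = x * y := (mem_centralizer_iff.1 hx.2 y hy.1)
        calc x * y * (x * y) = x * (y * x) * y := by group
          _ = (x * x) * (y * y) := by rw [h1]; group
          _ = 1 := by rw [hx', hy', one_mul]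
      inv_mem' := by
        rintro x ⟨hx, hx'⟩
        exact ⟨inv_mem hx, by rw [← mul_inv_rev, hx', inv_one]⟩ }
  have hT : closure ({x | x ∈ ZZ V R i ∧ x ∈ DD V R} ∪
      {x | ∃ k ∈ normalizer (R i : Set G), (∀ a ∈ R i, k * a = a * k) ∧ ∃ z' ∈ ZZ V R i,
        x = k * z' * k⁻¹ * z'⁻¹}) ≤ T := by
    rw [closure_le]
    rintro x (⟨hx, hd⟩ | ⟨k, hk, hkR, z, hz, rfl⟩)
    · exact ⟨hx, b.D_sq hd⟩
    · have h1 : k * z * k⁻¹ ∈ ZZ V R i := conj_mem_of_normalizer (N_le_NZ i hk) hz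
      refine ⟨mul_mem h1 (inv_mem hz), ?_⟩
      have h2 : z⁻¹ * (k * z * k⁻¹) = k * z * k⁻¹ * z⁻¹ :=
        mem_centralizer_iff.1 h1.2 _ (inv_mem hz.1)
      have h3 : z * z ∈ R i := b.W_sq i hz.1
      have h4 := hkR _ h3
      calc k * z * k⁻¹ * z⁻¹ * (k * z * k⁻¹ * z⁻¹) = k * z * k⁻¹ * (z⁻¹ * (k * z * k⁻¹)) * z⁻¹ := by group
        _ = k * z * k⁻¹ * (k * z * k⁻¹ * z⁻¹) * z⁻¹ := by rw [h2]
        _ = (k * (z * z)) * k⁻¹ * (z * z)⁻¹ := by group
        _ = 1 := by rw [h4]; group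
  intro z hz
  exact (hT (hgen z hz)).2

end

namespace YPair

variable {i j : ι} {F : Type v} [Field F] {v : F → F → G} {w1 w2 : F → G} {M : Type u} [AddCommGroup M]
  [Module F M] {P1 P2 : G → M}

/-- **(12)** with the subspace `M0 = Z i / (R i · D₁)`: `M0 = ⊤` is impossible if `Z i` is elementary -/
theorem M0_ne_top [Finite G] [CharP F 2] (y : YPair V R i j w1 w2 M P1 P2) (b : BTS V R)
    (c : Coord V R i j v w1 w2) (hZ : ∀ z ∈ ZZ V R i, z * z = 1) (S : Sylow 2 G)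
    (hSV : (S : Subgroup G) ≤ normalizer (V : Set G)) (hSR : (S : Subgroup G) ≤ normalizer (R i : Set G)) :
    y.M0 b c ≠ ⊤ := by
  intro h
  exact b.toBT.twelve' ((y.M0_eq_top b c).1 h) hZ S hSV hSR

end YPair

end Cfsg.Agent.Omega.BTwo
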