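import Mathlib

/-!
Weights: a biadditive map `b` with `b (t⁻¹ z) (t u) = t⁻¹ b z u` is `b 1 1 * z ^ 2 * u`.
-/

set_option autoImplicit false

namespace Cfsg.Agent.Omega.BTwo.SplitWt

variable {F : Type*} [Field F] {M : Type*} [AddCommGroup M] [Module F M]

/-- The weights `-1` on `z`, `1` on `u`, `-1` on the value: only `z ^ 2 u`. -/
theorem sq_mul [CharP F 2] (b : F → F → M) (hz : ∀ z z' u, b (z + z') u = b z u + b z' u)
    (hu : ∀ z u u', b z (u + u') = b z u + b z u')
    (hT : ∀ t : F, t ≠ 0 → ∀ z u, b (t⁻¹ * z) (t * u) = t⁻¹ • b z u) (z u : F) :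
    b z u = (z ^ 2 * u) • b 1 1 := by
  have h0 : ∀ u, b 0 u = 0 := fun u => by
    have := hz 0 0 u
    rw [add_zero] at this
    exact left_eq_add.1 this
  have h0' : ∀ z, b z 0 = 0 := fun z => by
    have := hu z 0 0
    rw [add_zero] at this
    exact left_eq_add.1 this
  -- `b z u = u⁻¹ • b (u z) 1`
  have h1 : ∀ z u, u ≠ 0 → b z u = u⁻¹ • b (u * z) 1 := by
    intro z u h
    have := hT u h (u * z) 1
    rw [← mul_assoc, inv_mul_cancel₀ h, one_mul, mul_one] at this
    exact this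
  have h2 : ∀ u, b u 1 = u • b 1 u := by
    intro u
    by_cases h : u = 0
    · rw [h, h0, zero_smul]
    · rw [h1 1 u h, mul_one, smul_smul, mul_inv_cancel₀ h, one_smul]
  have h3 : ∀ u, b 1 u = u • b 1 1 := by
    intro u
    have e := h2 (u + 1)
    rw [hz, hu, add_smul, smul_add, smul_add, one_smul, one_smul, h2 u] at e
    -- `u • b 1 u + b 1 1 = u • b 1 u + u • b 1 1 + (b 1 u + b 1 1)`
    have e2 : u • b 1 1 + b 1 u = 0 := by
      have e3 : u • b 1 1 + b 1 u =
          (u • b 1 u + u • b 1 1 + (b 1 u + b 1 1)) - (u • b 1 u + b 1 1) := by abel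
      rw [e3, ← e, sub_self]
    have e4 : (2 : F) = 0 := CharTwo.two_eq_zero
    have e5 : b 1 u + b 1 u = 0 := by
      rw [← two_smul F, e4, zero_smul]
    exact add_right_cancel (e5.trans e2.symm)
  by_cases h : u = 0
  · rw [h, h0', mul_zero, zero_smul]
  · rw [h1 z u h, h2, h3, smul_smul, smul_smul]
    congr 1
    field_simp

end Cfsg.Agent.Omega.BTwo.SplitWt
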