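import Cfsg.Agent.Omega.BTwo.Basic

/-!
# SQ3, `b = 2`: #10337 (3), (4), (5), field-free
-/

set_option autoImplicit false

namespace Cfsg.Agent.Omega.BTwo

open Subgroup

variable {G : Type*} [Group G] {ι : Type*}

theorem le_normalizer_of {K V : Subgroup G} (h : ∀ k ∈ K, ∀ v ∈ V, k * v * k⁻¹ ∈ V) :
    K ≤ normalizer (V : Set G) := by
  intro w hw
  rw [mem_normalizer_iff]
  intro v
  refine ⟨h w hw v, fun hv => ?_⟩
  have := h w⁻¹ (inv_mem hw) _ hv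
  have e : w⁻¹ * (w * v * w⁻¹) * w⁻¹⁻¹ = v := by group
  rwa [e] at this

theorem le_cenMod_comm {A B D : Subgroup G} (hB : B ≤ normalizer (D : Set G)) (h : A ≤ cenMod D B) :
    B ≤ cenMod D A := by
  intro x hx
  refine ⟨hB hx, fun d hd => ?_⟩
  have e : x * d * x⁻¹ * d⁻¹ = (d * x * d⁻¹ * x⁻¹)⁻¹ := by group
  rw [e]
  exact inv_mem ((h hd).2 x hx)

/-- `K i`: the elements of `N(R i)` trivial on `W i / R i` -/
def KK (V : Subgroup G) (R : ι → Subgroup G) (i : ι) : Subgroup G := cenMod (R i) (WW V (R i))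

/-- `U i = C_{W i}(V)` -/
def UU (V : Subgroup G) (R : ι → Subgroup G) (i : ι) : Subgroup G :=
  WW V (R i) ⊓ centralizer (V : Set G)

/-- `Y = ⟨U i⟩` -/
def YY (V : Subgroup G) (R : ι → Subgroup G) : Subgroup G := ⨆ i, UU V R i

section

variable {V : Subgroup G} {R : ι → Subgroup G}

theorem UU_le_WW (i : ι) : UU V R i ≤ WW V (R i) := inf_le_left

theorem UU_le_cen (i : ι) : UU V R i ≤ centralizer (V : Set G) := inf_le_right

theorem UU_le_YY (i : ι) : UU V R i ≤ YY V R := le_iSup (fun i => UU V R i) i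

theorem YY_le_cen : YY V R ≤ centralizer (V : Set G) := iSup_le fun i => UU_le_cen i

theorem YY_le_XX : YY V R ≤ XX V R := iSup_le fun i => (UU_le_WW i).trans (W_le_X V R i)

theorem KK_le_N (i : ι) : KK V R i ≤ normalizer (R i : Set G) := fun _ h => h.1

variable (b : BT V R)
include b

theorem BT.cen_le_N (i : ι) : centralizer (V : Set G) ≤ normalizer (R i : Set G) := by
  refine le_normalizer_of fun k hk v hv => ?_
  rw [← mem_centralizer_iff.1 hk v (b.R_le i hv), mul_inv_cancel_right]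
  exact hv

theorem BT.cen_le_NW (i : ι) : centralizer (V : Set G) ≤ normalizer (WW V (R i) : Set G) :=
  (b.cen_le_N i).trans (normalizer_le_WW V (R i))

omit b in
theorem cen_le_NV (V : Subgroup G) : centralizer (V : Set G) ≤ normalizer (V : Set G) := by
  refine le_normalizer_of fun k hk v hv => ?_
  rw [← mem_centralizer_iff.1 hk v hv, mul_inv_cancel_right]
  exact hv

theorem BT.cen_le_NU (i : ι) : centralizer (V : Set G) ≤ normalizer (UU V R i : Set G) := by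
  intro g hg
  rw [← cj_eq_self_iff, UU, cj_inf, cj_eq_self_iff.2 (b.cen_le_NW i hg), cj_of_mem hg]

/-- every element of `R i` is a commutator `[w, v]`, `w ∈ W i`, `v ∈ V` -/
theorem BT.exists_comm (i : ι) {a : G} (ha : a ∈ R i) :
    ∃ w ∈ WW V (R i), ∃ v ∈ V, w * v * w⁻¹ * v⁻¹ = a := by
  by_cases h1 : a = 1
  · exact ⟨1, one_mem _, 1, one_mem _, by rw [h1]; group⟩
  obtain ⟨j, hj, -⟩ := b.third i i
  obtain ⟨v, hv, hv1⟩ := b.exists_ne j
  obtain ⟨k, hk⟩ := b.R_cov (a * v) (mul_mem (b.R_le i ha) (b.R_le j hv))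
  have hki : k ≠ i := by
    rintro rfl
    exact hv1 (b.eq_one hj hv ((mul_mem_cancel_left ha).1 hk))
  obtain ⟨h, hh, H⟩ := b.mt i
  obtain ⟨⟨v', hv', e⟩, -⟩ := H j k hj hki
  have hw : h * v' * h⁻¹ ∈ WW V (R i) := cj_le_WW hh (conj_mem_cj hv')
  refine ⟨_, hw, v, b.R_le j hv, ?_⟩
  have h2 : h * v' * h⁻¹ * v * (h * v' * h⁻¹)⁻¹ ∈ R k := by
    rw [← e]; exact conj_mem_cj hv
  have h3 := b.QV i _ (b.W_le_Q i hw) v (b.R_le j hv)
  set w := h * v' * h⁻¹ with hwdef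
  have h4 : (w * v * w⁻¹ * v⁻¹) * a⁻¹ ∈ R k := by
    have e : (w * v * w⁻¹ * v⁻¹) * a⁻¹ = (w * v * w⁻¹) * (a * v)⁻¹ := by group
    rw [e]
    exact mul_mem h2 (inv_mem hk)
  have h5 := b.eq_one hki h4 (mul_mem h3 (inv_mem ha))
  exact mul_inv_eq_one.1 h5

theorem BT.R_le_U (i : ι) : R i ≤ UU V R i := fun _ ha =>
  ⟨V_le_WW V (R i) (b.R_le i ha), b.V_le_cen (b.R_le i ha)⟩

theorem BT.W_le_K (i : ι) : WW V (R i) ≤ KK V R i := fun _ hw =>
  ⟨b.W_le_N i hw, fun _ hd => b.WW_comm i hw hd⟩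

theorem BT.Q_le_K (i : ι) : QQ (R i) ≤ KK V R i := fun _ hw =>
  ⟨b.Q_le i hw, fun _ hd => b.WQ i hw hd⟩

/-- `K i` centralises `R i` -/
theorem BT.KR (i : ι) {g a : G} (hg : g ∈ KK V R i) (ha : a ∈ R i) : g * a * g⁻¹ = a := by
  obtain ⟨w, hw, v, hv, rfl⟩ := b.exists_comm i ha
  have h1 := hg.2 w hw
  have h2 := hg.2 v (V_le_WW V (R i) hv)
  have e1 : g * w * g⁻¹ = (g * w * g⁻¹ * w⁻¹) * w := by group
  have e2 : g * v * g⁻¹ = (g * v * g⁻¹ * v⁻¹) * v := by group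
  set c := g * w * g⁻¹ * w⁻¹
  set c' := g * v * g⁻¹ * v⁻¹
  have hwQ := b.W_le_Q i hw
  have hvQ := b.W_le_Q i (V_le_WW V (R i) hv)
  have k1 : w * c' = c' * w := b.QR i w hwQ c' h2
  have k2 : v * c = c * v := b.QR i v hvQ c h1
  have k3 : c * c' = c' * c := b.QR i c (b.V_Q i (b.R_le i h1)) c' h2
  calc g * (w * v * w⁻¹ * v⁻¹) * g⁻¹
      = (g * w * g⁻¹) * (g * v * g⁻¹) * (g * w * g⁻¹)⁻¹ * (g * v * g⁻¹)⁻¹ := by group
    _ = (c * w) * (c' * v) * (c * w)⁻¹ * (c' * v)⁻¹ := by rw [← e1, ← e2]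
    _ = c * (w * c') * v * w⁻¹ * c⁻¹ * v⁻¹ * c'⁻¹ := by group
    _ = c * c' * w * v * w⁻¹ * (v * c)⁻¹ * c'⁻¹ := by rw [k1]; group
    _ = c * c' * w * v * w⁻¹ * v⁻¹ * (c' * c)⁻¹ := by rw [k2]; group
    _ = c * c' * (w * v * w⁻¹ * v⁻¹) * (c * c')⁻¹ := by rw [k3]; group
    _ = w * v * w⁻¹ * v⁻¹ := by
        have h5 : w * v * w⁻¹ * v⁻¹ ∈ R i := b.QV i w hwQ v hv
        have h6 : c * c' ∈ QQ (R i) := b.V_Q i (b.R_le i (mul_mem h1 h2))
        exact b.conj_R h6 h5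

theorem BT.K_le_NV (i : ι) : KK V R i ≤ normalizer (V : Set G) := by
  refine le_normalizer_of fun k hk v hv => ?_
  have e : k * v * k⁻¹ = (k * v * k⁻¹ * v⁻¹) * v := by group
  rw [e]
  exact mul_mem (b.R_le i (hk.2 v (V_le_WW V (R i) hv))) hv

theorem BT.N_le_NK (i : ι) : normalizer (R i : Set G) ≤ normalizer (KK V R i : Set G) := by
  have _ := b
  refine le_normalizer_of fun g hg x hx => ?_
  refine ⟨mul_mem (mul_mem hg hx.1) (inv_mem hg), fun w hw => ?_⟩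
  have h1 := hx.2 _ (conj_inv_mem_of_normalizer (normalizer_le_WW V (R i) hg) hw)
  have h2 := conj_mem_of_normalizer hg h1
  have e : g * (x * (g⁻¹ * w * g) * x⁻¹ * (g⁻¹ * w * g)⁻¹) * g⁻¹ =
      g * x * g⁻¹ * w * (g * x * g⁻¹)⁻¹ * w⁻¹ := by group
  rwa [e] at h2

theorem BT.D_le_cen : DD V R ≤ centralizer (V : Set G) := by
  intro d hd
  rw [mem_centralizer_iff]
  exact fun v hv => b.D_comm (V_le_D V R hv) hd

theorem BT.D_le_U (i : ι) : DD V R ≤ UU V R i := le_inf (D_le_W V R i) b.D_le_cen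

theorem BT.U_isPGroup (i : ι) : IsPGroup 2 (UU V R i) :=
  ((O2_isPGroup _).to_le (b.W_le_Q i)).to_le (UU_le_WW i)

/-- **(3)** `U j ∩ K i = D` -/
theorem BT.UK {i j : ι} (hij : i ≠ j) : UU V R j ⊓ KK V R i = DD V R := by
  apply le_antisymm
  · have h1 : UU V R j ⊓ KK V R i ≤ QQ (R i) := by
      refine le_O2_of_chain (B := KK V R i ⊓ centralizer (V : Set G)) (C := KK V R i)
        (le_inf inf_le_right (inf_le_left.trans (UU_le_cen j))) inf_le_left (KK_le_N i)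
        ((b.U_isPGroup j).to_le inf_le_left) ?_ ?_ ?_
      · intro c hc a ha
        exact mem_inf.2 ⟨conj_mem_of_normalizer (b.cen_le_NU j hc.2) ha.1,
          mul_mem (mul_mem hc.1 ha.2) (inv_mem hc.1)⟩
      · intro c hc a ha
        exact mem_inf.2 ⟨mul_mem (mul_mem hc ha.1) (inv_mem hc),
          conj_mem_of_normalizer (normalizer_le_normalizer_centralizer V (b.K_le_NV i hc)) ha.2⟩
      · exact fun g hg c hc => conj_mem_of_normalizer (b.N_le_NK i hg) hc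
    rw [b.D_eq (Ne.symm hij)]
    exact le_inf (inf_le_left.trans (UU_le_WW j)) h1
  · exact le_inf (b.D_le_U j) ((D_le_W V R i).trans (b.W_le_K i))

/-! ### (4) -/

theorem BT.UU_inf {i j : ι} (hij : i ≠ j) : UU V R i ⊓ UU V R j = DD V R := by
  apply le_antisymm
  · rw [b.D_eq' hij]
    exact inf_le_inf (UU_le_WW i) (UU_le_WW j)
  · exact le_inf (b.D_le_U i) (b.D_le_U j)

theorem BT.UU_comm {i j : ι} (hij : i ≠ j) {u u' : G} (hu : u ∈ UU V R i) (hu' : u' ∈ UU V R j) :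
    u * u' * u⁻¹ * u'⁻¹ ∈ DD V R := by
  rw [← b.UU_inf hij]
  refine mem_inf.2 ⟨?_, mul_mem (conj_mem_of_normalizer (b.cen_le_NU j (UU_le_cen i hu)) hu') (inv_mem hu')⟩
  have e : u * u' * u⁻¹ * u'⁻¹ = u * (u' * u⁻¹ * u'⁻¹) := by group
  rw [e]
  exact mul_mem hu (conj_mem_of_normalizer (b.cen_le_NU i (UU_le_cen j hu')) (inv_mem hu))

theorem BT.WU {i : ι} {w u : G} (hw : w ∈ WW V (R i)) (hu : u ∈ UU V R i) : w * u * w⁻¹ * u⁻¹ ∈ R i :=
  b.WW_comm i hw (UU_le_WW i hu)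

/-- `[W j, U i] ≤ U j` -/
theorem BT.WU' {i j : ι} {w u : G} (hw : w ∈ WW V (R j)) (hu : u ∈ UU V R i) :
    w * u * w⁻¹ * u⁻¹ ∈ UU V R j := by
  have hu2 := UU_le_cen i hu
  refine mem_inf.2 ⟨?_, mul_mem (conj_mem_of_normalizer
    (normalizer_le_normalizer_centralizer V (b.W_le_NV j hw)) hu2) (inv_mem hu2)⟩
  have e : w * u * w⁻¹ * u⁻¹ = w * (u * w⁻¹ * u⁻¹) := by group
  rw [e]
  exact mul_mem hw (conj_mem_of_normalizer (b.cen_le_NW j hu2) (inv_mem hw))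

theorem BT.cj_UU {g : G} (hg : g ∈ normalizer (V : Set G)) {i j : ι} (h : cj g (R i) = R j) :
    cj g (UU V R i) = UU V R j := by
  rw [UU, cj_inf, b.cj_WW h, ← centralizer_cj, cj_eq_self_iff.2 hg]
  rfl

theorem BT.Y_eq {i j : ι} (hij : i ≠ j) : YY V R = UU V R i ⊔ UU V R j := by
  apply le_antisymm
  · refine iSup_le fun k => ?_
    by_cases hk : k = i
    · subst hk; exact le_sup_left
    obtain ⟨w, hw, e⟩ := b.trans i (Ne.symm hij) hk
    rw [← b.cj_UU (b.W_le_NV i hw) e, cj_le_iff]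
    intro x hx
    have e : w * x * w⁻¹ = w * x * w⁻¹ * x⁻¹ * x := by group
    rw [e]
    exact mul_mem ((le_sup_left : UU V R i ≤ _) (b.WU' hw hx)) ((le_sup_right : UU V R j ≤ _) hx)
  · exact sup_le (UU_le_YY i) (UU_le_YY j)

theorem BT.D_le_Y : DD V R ≤ YY V R := by
  obtain ⟨i, -⟩ := b.R_cov 1 (one_mem V)
  exact (b.D_le_U i).trans (UU_le_YY i)

theorem BT.NV_le_NY : normalizer (V : Set G) ≤ normalizer (YY V R : Set G) := by
  refine le_normalizer_of fun g hg y hy => ?_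
  have h : cj g (YY V R) ≤ YY V R := by
    rw [YY, cj_iSup]
    refine iSup_le fun i => ?_
    obtain ⟨j, hj⟩ := b.perm g hg i
    rw [b.cj_UU hg hj]
    exact UU_le_YY j
  exact h (conj_mem_cj hy)

omit b in
theorem Y_le_NV : YY V R ≤ normalizer (V : Set G) := YY_le_cen.trans (cen_le_NV V)

theorem BT.Y_le_ND : YY V R ≤ normalizer (DD V R : Set G) := Y_le_NV.trans b.NV_le_ND

theorem BT.U_le_cenMod (i j : ι) : UU V R i ≤ cenMod (DD V R) (UU V R j) := by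
  intro u hu
  refine ⟨b.Y_le_ND (UU_le_YY i hu), fun u' hu' => ?_⟩
  by_cases hij : i = j
  · subst hij
    exact V_le_D V R (b.R_le i (b.WW_comm i (UU_le_WW i hu) (UU_le_WW i hu')))
  · exact b.UU_comm hij hu hu'

theorem BT.Y_le_cenMod : YY V R ≤ cenMod (DD V R) (YY V R) := by
  have h1 : ∀ j, YY V R ≤ cenMod (DD V R) (UU V R j) := fun j => iSup_le fun i => b.U_le_cenMod i j
  exact iSup_le fun j => le_cenMod_comm ((UU_le_YY j).trans b.Y_le_ND) (h1 j)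

/-- `Y / D` is abelian -/
theorem BT.Y_comm {y y' : G} (hy : y ∈ YY V R) (hy' : y' ∈ YY V R) : y * y' * y⁻¹ * y'⁻¹ ∈ DD V R :=
  (b.Y_le_cenMod hy).2 y' hy'

/-- `Y / D` is elementary -/
theorem BT.Y_sq {y : G} (hy : y ∈ YY V R) : y * y ∈ DD V R := by
  let T : Subgroup G :=
    { carrier := {y | y ∈ YY V R ∧ y * y ∈ DD V R}
      one_mem' := ⟨one_mem _, by rw [one_mul]; exact one_mem _⟩
      mul_mem' := by
        rintro u v ⟨hu, hu'⟩ ⟨hv, hv'⟩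
        refine ⟨mul_mem hu hv, ?_⟩
        have e : u * v * (u * v) = (u * u) * (u⁻¹ * v * u⁻¹⁻¹ * v⁻¹) * (v * v) := by group
        rw [e]
        exact mul_mem (mul_mem hu' (b.Y_comm (inv_mem hu) hv)) hv'
      inv_mem' := by
        rintro u ⟨hu, hu'⟩
        refine ⟨inv_mem hu, ?_⟩
        rw [← mul_inv_rev]
        exact inv_mem hu' }
  have hT : YY V R ≤ T := iSup_le fun i u hu =>
    ⟨UU_le_YY i hu, V_le_D V R (b.R_le i (b.W_sq i (UU_le_WW i hu)))⟩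
  exact (hT hy).2

/-- an element of `W j` fixing another point centralises `V` -/
theorem BT.mem_cen {i j : ι} (hij : i ≠ j) {w : G} (hw : w ∈ WW V (R j)) (h : cj w (R i) = R i) :
    w ∈ UU V R j := by
  refine ⟨hw, ?_⟩
  have h1 : ∀ v ∈ R i, v * w = w * v := by
    intro v hv
    have h2 : w * v * w⁻¹ ∈ R i := by rw [← h]; exact conj_mem_cj hv
    have h3 := b.QV j w (b.W_le_Q j hw) v (b.R_le i hv)
    have h4 := b.eq_one hij (mul_mem h2 (inv_mem hv)) h3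
    rw [mul_inv_eq_one, mul_inv_eq_iff_eq_mul] at h4
    exact h4.symm
  have h2 : ∀ v ∈ R j, v * w = w * v := fun v hv => (b.QR j w (b.W_le_Q j hw) v hv).symm
  have h3 : V ≤ centralizer {w} := by
    rw [← b.R_sup i j hij]
    refine sup_le (fun v hv => ?_) fun v hv => ?_
    · rw [mem_centralizer_iff]; rintro _ rfl; exact (h1 v hv).symm
    · rw [mem_centralizer_iff]; rintro _ rfl; exact (h2 v hv).symm
  change w ∈ centralizer (V : Set G)
  rw [mem_centralizer_iff]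
  exact fun v hv => (mem_centralizer_iff.1 (h3 hv) w rfl).symm

/-- `v ∈ W j - U j` moves every point `≠ R j` -/
theorem BT.moves {i j : ι} (hij : i ≠ j) {v : G} (hv : v ∈ WW V (R j)) (hv' : v ∉ UU V R j) :
    ∃ k, k ≠ i ∧ k ≠ j ∧ cj v (R i) = R k := by
  obtain ⟨k, hk⟩ := b.perm v (b.W_le_NV j hv) i
  refine ⟨k, ?_, ?_, hk⟩
  · rintro rfl
    exact hv' (b.mem_cen hij hv hk)
  · rintro rfl
    have h1 : cj v (R k) = R k := cj_eq_self_iff.2 (b.W_le_N k hv)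
    exact hij (b.R_index (cj_injective (hk.trans h1.symm)))

/-- **(4)** `u ↦ [v, u]` is injective `U i / D → U j / D` -/
theorem BT.inj {i j : ι} (hij : i ≠ j) {v : G} (hv : v ∈ WW V (R j)) (hv' : v ∉ UU V R j) {u : G}
    (hu : u ∈ UU V R i) (h : v * u * v⁻¹ * u⁻¹ ∈ DD V R) : u ∈ DD V R := by
  obtain ⟨k, hki, -, hk⟩ := b.moves hij hv hv'
  have h1 : v * u * v⁻¹ ∈ UU V R i := by
    have e : v * u * v⁻¹ = v * u * v⁻¹ * u⁻¹ * u := by group
    rw [e]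
    exact mul_mem (b.D_le_U i h) hu
  have h2 : v * u * v⁻¹ ∈ UU V R k := by
    rw [← b.cj_UU (b.W_le_NV j hv) hk]
    exact conj_mem_cj hu
  have h3 : v * u * v⁻¹ ∈ DD V R := by
    rw [← b.UU_inf hki]
    exact ⟨h2, h1⟩
  have h4 := conj_inv_mem_of_normalizer (b.NV_le_ND (b.W_le_NV j hv)) h3
  have e : v⁻¹ * (v * u * v⁻¹) * v = u := by group
  rwa [e] at h4

theorem BT.comm_mul {i j : ι} (hij : i ≠ j) {v : G} (hv : v ∈ WW V (R j)) {u u' : G}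
    (hu : u ∈ UU V R i) (hu' : u' ∈ UU V R i) :
    (v * u * v⁻¹ * u⁻¹ * (v * u' * v⁻¹ * u'⁻¹))⁻¹ * (v * (u * u') * v⁻¹ * (u * u')⁻¹) ∈ DD V R := by
  have h := b.UU_comm hij hu (b.WU' hv hu')
  have e : (v * u * v⁻¹ * u⁻¹ * (v * u' * v⁻¹ * u'⁻¹))⁻¹ * (v * (u * u') * v⁻¹ * (u * u')⁻¹) =
      (v * u' * v⁻¹ * u'⁻¹)⁻¹ * (u * (v * u' * v⁻¹ * u'⁻¹) * u⁻¹ * (v * u' * v⁻¹ * u'⁻¹)⁻¹) *
        (v * u' * v⁻¹ * u'⁻¹)⁻¹⁻¹ := by group
  rw [e]
  exact conj_mem_of_normalizer (b.Y_le_ND (UU_le_YY j (inv_mem (b.WU' hv hu')))) h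

theorem BT.card_U (i j : ι) : (DD V R).relIndex (UU V R i) = (DD V R).relIndex (UU V R j) := by
  obtain ⟨x, hx, e⟩ := b.trans_one i j
  rw [← b.cj_UU hx e]
  have h : DD V R = cj x (DD V R) := (cj_eq_self_iff.2 (b.NV_le_ND hx)).symm
  conv_rhs => rw [h]
  exact (relIndex_map_map_of_injective _ _ (MulAut.conj x).injective).symm

/-- **(4)** `u ↦ [v, u]` is surjective `U i / D → U j / D` -/
theorem BT.surj [Finite G] {i j : ι} (hij : i ≠ j) {v : G} (hv : v ∈ WW V (R j)) (hv' : v ∉ UU V R j)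
    {u' : G} (hu' : u' ∈ UU V R j) : ∃ u ∈ UU V R i, (v * u * v⁻¹ * u⁻¹)⁻¹ * u' ∈ DD V R := by
  have hn : ((DD V R).subgroupOf (UU V R j)).Normal :=
    ⟨fun n hn g => conj_mem_of_normalizer (g := (g : G)) (x := (n : G)) (b.Y_le_ND (UU_le_YY j g.2)) hn⟩
  let f : UU V R i →* UU V R j ⧸ (DD V R).subgroupOf (UU V R j) :=
    MonoidHom.mk' (fun u => QuotientGroup.mk (s := (DD V R).subgroupOf (UU V R j))
      (⟨v * u * v⁻¹ * (u : G)⁻¹, b.WU' hv u.2⟩ : UU V R j)) <| by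
      intro u u'
      rw [← QuotientGroup.mk_mul, eq_comm, QuotientGroup.eq]
      exact b.comm_mul hij hv u.2 u'.2
  have hker : f.ker = (DD V R).subgroupOf (UU V R i) := by
    ext u
    rw [MonoidHom.mem_ker]
    change QuotientGroup.mk (s := (DD V R).subgroupOf (UU V R j))
      (⟨v * u * v⁻¹ * (u : G)⁻¹, b.WU' hv u.2⟩ : UU V R j) = 1 ↔ _
    rw [QuotientGroup.eq_one_iff]
    constructor
    · exact fun h => b.inj hij hv hv' u.2 h
    · intro h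
      exact V_le_D V R (b.XD (W_le_X V R j hv) h)
  have hcard : Nat.card f.range = Nat.card (UU V R j ⧸ (DD V R).subgroupOf (UU V R j)) := by
    rw [← index_ker, hker]
    exact b.card_U i j
  have hsurj : f.range = ⊤ := eq_top_of_card_eq _ hcard
  have hx : QuotientGroup.mk (s := (DD V R).subgroupOf (UU V R j)) (⟨u', hu'⟩ : UU V R j) ∈ f.range := by
    rw [hsurj]; exact mem_top _
  obtain ⟨u, hu⟩ := hx
  refine ⟨u, u.2, ?_⟩
  have h2 : QuotientGroup.mk (s := (DD V R).subgroupOf (UU V R j))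
      (⟨v * u * v⁻¹ * (u : G)⁻¹, b.WU' hv u.2⟩ : UU V R j) = QuotientGroup.mk (⟨u', hu'⟩ : UU V R j) := hu
  have h3 := QuotientGroup.eq.1 h2
  exact h3

/-! ### (5) -/

/-- `[D, U i] ≤ R i` -/
theorem BT.DU {i : ι} {d u : G} (hd : d ∈ DD V R) (hu : u ∈ UU V R i) : d * u * d⁻¹ * u⁻¹ ∈ R i :=
  b.WU (D_le_W V R i hd) hu

theorem BT.lam_mem {d y : G} (hd : d ∈ DD V R) (hy : y ∈ YY V R) : d * y * d⁻¹ * y⁻¹ ∈ V := by
  have h := b.XD (YY_le_XX hy) hd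
  have e : d * y * d⁻¹ * y⁻¹ = (y * d * y⁻¹ * d⁻¹)⁻¹ := by group
  rw [e]
  exact inv_mem h

theorem BT.lam_mul {d y y' : G} (hd : d ∈ DD V R) (hy : y ∈ YY V R) (hy' : y' ∈ YY V R) :
    d * (y * y') * d⁻¹ * (y * y')⁻¹ = (d * y * d⁻¹ * y⁻¹) * (d * y' * d⁻¹ * y'⁻¹) := by
  have h := mem_centralizer_iff.1 (YY_le_cen hy) _ (b.lam_mem hd hy')
  calc d * (y * y') * d⁻¹ * (y * y')⁻¹
      = (d * y * d⁻¹ * y⁻¹) * (y * (d * y' * d⁻¹ * y'⁻¹)) * y⁻¹ := by group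
    _ = (d * y * d⁻¹ * y⁻¹) * (d * y' * d⁻¹ * y'⁻¹) := by rw [← h]; group

theorem BT.lam_mul_left {d d' y : G} (hd : d ∈ DD V R) (hd' : d' ∈ DD V R) (hy : y ∈ YY V R) :
    d * d' * y * (d * d')⁻¹ * y⁻¹ = (d * y * d⁻¹ * y⁻¹) * (d' * y * d'⁻¹ * y⁻¹) := by
  have h1 := mem_centralizer_iff.1 (b.D_le_cen hd) _ (b.lam_mem hd' hy)
  have h2 := b.V_comm _ (b.lam_mem hd' hy) _ (b.lam_mem hd hy)
  calc d * d' * y * (d * d')⁻¹ * y⁻¹
      = (d * (d' * y * d'⁻¹ * y⁻¹)) * y * d⁻¹ * y⁻¹ := by group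
    _ = (d' * y * d'⁻¹ * y⁻¹) * (d * y * d⁻¹ * y⁻¹) := by rw [← h1]; group
    _ = _ := h2

theorem BT.lam_D {d y : G} (hd : d ∈ DD V R) (hy : y ∈ DD V R) : d * y * d⁻¹ * y⁻¹ = 1 := by
  rw [b.D_comm hd hy]; group

theorem BT.lam_conj {x d y : G} (hx : x ∈ XX V R) (hd : d ∈ DD V R) (hy : y ∈ YY V R) :
    x * (d * y * d⁻¹ * y⁻¹) * x⁻¹ = d * (x * y * x⁻¹) * d⁻¹ * (x * y * x⁻¹)⁻¹ := by
  have hy' : x * y * x⁻¹ ∈ YY V R := conj_mem_of_normalizer (b.NV_le_NY (b.X_le_NV hx)) hy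
  have h1 := b.XD hx hd
  have h2 := b.lam_mul_left (V_le_D V R h1) hd hy'
  have h3 : (x * d * x⁻¹ * d⁻¹) * (x * y * x⁻¹) * (x * d * x⁻¹ * d⁻¹)⁻¹ * (x * y * x⁻¹)⁻¹ = 1 := by
    rw [mem_centralizer_iff.1 (YY_le_cen hy') _ h1]; group
  rw [h3, one_mul] at h2
  rw [← h2]
  group

end

end Cfsg.Agent.Omega.BTwo
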