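import Mathlib

/-!
# SQ3 (#10337 (6), (7)): the trilinear form of the tensor structure `Y / D = N ⊗ F`

`Y` has class 3: `[Y,Y] ≤ D`, `[D,Y] ≤ V ≤ Z(Y)`, `V ≅ N = K²`, `Y / D ≅ N ⊗ F` via `e : N → F → Y`, and
`[d, e n f] = ν (λ_d(f) n)` for `d ∈ D`.  Then `T(f,g,h) = λ_{[e n₁ f, e n₂ g]}(h)` is an alternating
`K`-trilinear form on `F`.
-/

set_option autoImplicit false

namespace Cfsg.Agent.Omega.Tensor

open Subgroup

variable {G : Type*} [Group G] {K : Type*} [Field K] {F : Type*} [AddCommGroup F] [Module K F]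

/-- the commutator `x y x⁻¹ y⁻¹` -/
def cm (x y : G) : G := x * y * x⁻¹ * y⁻¹

/-- the determinant of two vectors of `K²` -/
def det (n n' : K × K) : K := n.1 * n'.2 - n.2 * n'.1

/-- The tensor structure. -/
structure Ten (V D Y : Subgroup G) (ν : K × K → G) (e : K × K → F → G) (lam : G → F → K) : Prop where
  V_le : V ≤ D
  D_le : D ≤ Y
  nu_mem : ∀ n, ν n ∈ V
  nu_add : ∀ n n', ν (n + n') = ν n * ν n'
  nu_inj : ∀ n, ν n = 1 → n = 0
  cen : ∀ v ∈ V, ∀ y ∈ Y, v * y = y * v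
  comm_Y : ∀ y ∈ Y, ∀ z ∈ Y, cm y z ∈ D
  comm_D : ∀ d ∈ D, ∀ y ∈ Y, cm d y ∈ V
  D_comm : ∀ c ∈ D, ∀ d ∈ D, c * d = d * c
  D_sq : ∀ d ∈ D, d * d = 1
  e_mem : ∀ n f, e n f ∈ Y
  e_add_left : ∀ n n' f, ∃ d ∈ D, e (n + n') f = e n f * e n' f * d
  e_add_right : ∀ n f f', ∃ d ∈ D, e n (f + f') = e n f * e n f' * d
  e_smul : ∀ (t : K) n f, ∃ d ∈ D, e (t • n) f = e n (t • f) * d
  lam_spec : ∀ d ∈ D, ∀ n f, cm d (e n f) = ν (lam d f • n)
  same : ∀ n f g, cm (e n f) (e n g) ∈ V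
  sq : ∀ n f, e n f * e n f ∈ V
  inv : ∀ n₁ n₂ n₁' n₂' : K × K, det n₁ n₂ = det n₁' n₂' → det n₁ n₂ ≠ 0 → ∀ f g,
    ∃ v ∈ V, cm (e n₁ f) (e n₂ g) = cm (e n₁' f) (e n₂' g) * v

namespace Ten

variable {V D Y : Subgroup G} {ν : K × K → G} {e : K × K → F → G} {lam : G → F → K}
variable (t : Ten V D Y ν e lam)
include t

theorem nu_injective {n n' : K × K} (h : ν n = ν n') : n = n' := by
  have h0 : ν 0 = 1 := by
    have := t.nu_add 0 0
    rw [add_zero] at this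
    exact mul_eq_left.mp this.symm
  have h1 : ν (n + -n') * ν n' = ν n := by rw [← t.nu_add, neg_add_cancel_right]
  have h2 : ν (n + -n') = 1 := by
    rw [h] at h1
    exact mul_eq_right.mp h1
  have := t.nu_inj _ h2
  rwa [← sub_eq_add_neg, sub_eq_zero] at this

/-! ### commutator calculus -/

/-- `[y c, z] = [y, z]` modulo `V` for `c ∈ D` -/
theorem cm_mul_D {y z c : G} (hy : y ∈ Y) (hz : z ∈ Y) (hc : c ∈ D) : ∃ v ∈ V, cm (y * c) z = cm y z * v := by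
  refine ⟨cm c z, t.comm_D c hc z hz, ?_⟩
  have h1 := t.cen _ (t.comm_D c hc z hz) y hy
  have h2 := t.cen _ (t.comm_D c hc z hz) _ (t.D_le (t.comm_Y y hy z hz))
  calc cm (y * c) z = y * cm c z * z * y⁻¹ * z⁻¹ := by unfold cm; group
    _ = cm c z * y * z * y⁻¹ * z⁻¹ := by rw [h1]
    _ = cm c z * cm y z := by unfold cm; group
    _ = cm y z * cm c z := h2

theorem cm_mul_D' {y z c : G} (hy : y ∈ Y) (hz : z ∈ Y) (hc : c ∈ D) : ∃ v ∈ V, cm y (z * c) = cm y z * v := by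
  obtain ⟨v, hv, h⟩ := t.cm_mul_D hz hy hc
  refine ⟨v⁻¹, inv_mem hv, ?_⟩
  have h1 : cm y (z * c) = (cm (z * c) y)⁻¹ := by unfold cm; group
  have h2 : (cm z y)⁻¹ = cm y z := by unfold cm; group
  rw [h1, h, mul_inv_rev, h2]
  exact t.cen _ (inv_mem hv) _ (t.D_le (t.comm_Y y hy z hz))

/-- `[y y', z] = [y, z] [y', z]` modulo `V` -/
theorem cm_mul_left {y y' z : G} (hy : y ∈ Y) (hy' : y' ∈ Y) (hz : z ∈ Y) :
    ∃ v ∈ V, cm (y * y') z = cm y z * cm y' z * v := by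
  have hc := t.comm_Y y' hy' z hz
  -- `y c y⁻¹ = v c`
  have hv : cm (cm y' z) y ∈ V := t.comm_D _ hc y hy
  refine ⟨(cm (cm y' z) y)⁻¹, inv_mem hv, ?_⟩
  have h1 := t.cen _ (inv_mem hv) _ (t.D_le (t.comm_Y y hy z hz))
  have h2 := t.D_comm _ hc _ (t.comm_Y y hy z hz)
  have h3 := t.cen _ (inv_mem hv) _ (t.D_le (mul_mem (t.comm_Y y hy z hz) hc))
  calc cm (y * y') z = y * cm y' z * y⁻¹ * cm y z := by unfold cm; group
    _ = (cm (cm y' z) y)⁻¹ * cm y' z * cm y z := by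
        have : y * cm y' z * y⁻¹ = (cm (cm y' z) y)⁻¹ * cm y' z := by
          generalize cm y' z = c
          unfold cm; group
        rw [this]
    _ = (cm (cm y' z) y)⁻¹ * (cm y z * cm y' z) := by rw [mul_assoc, h2]
    _ = cm y z * cm y' z * (cm (cm y' z) y)⁻¹ := h3

theorem cm_mul_right {y z z' : G} (hy : y ∈ Y) (hz : z ∈ Y) (hz' : z' ∈ Y) :
    ∃ v ∈ V, cm y (z * z') = cm y z * cm y z' * v := by
  obtain ⟨v, hv, h⟩ := t.cm_mul_left hz hz' hy
  refine ⟨v⁻¹, inv_mem hv, ?_⟩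
  have h1 : cm y (z * z') = (cm (z * z') y)⁻¹ := by unfold cm; group
  have h2 : (cm z y)⁻¹ = cm y z := by unfold cm; group
  have h2' : (cm z' y)⁻¹ = cm y z' := by unfold cm; group
  rw [h1, h, mul_inv_rev, mul_inv_rev, h2, h2', t.D_comm _ (t.comm_Y y hy z' hz') _ (t.comm_Y y hy z hz)]
  exact t.cen _ (inv_mem hv) _ (t.D_le (mul_mem (t.comm_Y y hy z hz) (t.comm_Y y hy z' hz')))

/-- `[c d, y] = [c, y] [d, y]` for `c, d ∈ D` -/
theorem cm_D_mul {c d y : G} (hc : c ∈ D) (hd : d ∈ D) (hy : y ∈ Y) : cm (c * d) y = cm c y * cm d y := by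
  have h1 := t.cen _ (t.comm_D d hd y hy) c (t.D_le hc)
  have h2 := t.cen _ (t.comm_D d hd y hy) _ (t.D_le (t.V_le (t.comm_D c hc y hy)))
  calc cm (c * d) y = c * cm d y * c⁻¹ * cm c y := by unfold cm; group
    _ = cm d y * c * c⁻¹ * cm c y := by rw [h1]
    _ = cm c y * cm d y := by rw [mul_inv_cancel_right, h2]

/-- `[d, y z] = [d, y] [d, z]` -/
theorem cm_D_mul' {d y z : G} (hd : d ∈ D) (hy : y ∈ Y) (hz : z ∈ Y) : cm d (y * z) = cm d y * cm d z := by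
  have h1 := t.cen _ (t.comm_D d hd z hz) y hy
  calc cm d (y * z) = cm d y * (y * cm d z) * y⁻¹ := by unfold cm; group
    _ = cm d y * (cm d z * y) * y⁻¹ := by rw [h1]
    _ = cm d y * cm d z := by group

theorem cm_V {v y : G} (hv : v ∈ V) (hy : y ∈ Y) : cm v y = 1 := by
  unfold cm
  rw [t.cen v hv y hy]; group

/-- `[d, y c] = [d, y]` for `c ∈ D` -/
theorem cm_D_D {c d : G} (hc : c ∈ D) (hd : d ∈ D) : cm c d = 1 := by
  unfold cm
  rw [t.D_comm c hc d hd]; group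

/-! ### `lam` -/

theorem lam_congr {c d : G} (hc : c ∈ D) (hd : d ∈ D) (h : ∃ v ∈ V, c = d * v) (f : F) : lam c f = lam d f := by
  obtain ⟨v, hv, rfl⟩ := h
  have h1 := t.lam_spec _ hc (1, 1) f
  rw [t.cm_D_mul hd (t.V_le hv) (t.e_mem _ _), t.cm_V hv (t.e_mem _ _), mul_one, t.lam_spec _ hd] at h1
  have h2 := t.nu_injective h1
  have h3 := congrArg Prod.fst h2
  simpa using h3.symm

theorem lam_mul {c d : G} (hc : c ∈ D) (hd : d ∈ D) (f : F) : lam (c * d) f = lam c f + lam d f := by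
  have h1 := t.lam_spec _ (mul_mem hc hd) (1, 1) f
  rw [t.cm_D_mul hc hd (t.e_mem _ _), t.lam_spec _ hc, t.lam_spec _ hd, ← t.nu_add, ← add_smul] at h1
  have h2 := t.nu_injective h1
  have h3 := congrArg Prod.fst h2
  simpa using h3.symm

theorem lam_V {v : G} (hv : v ∈ V) (f : F) : lam v f = 0 := by
  have h1 := t.lam_spec _ (t.V_le hv) (1, 1) f
  rw [t.cm_V hv (t.e_mem _ _)] at h1
  have h2 := t.nu_inj _ h1.symm
  have h3 := congrArg Prod.fst h2
  simpa using h3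

theorem lam_add {d : G} (hd : d ∈ D) (f g : F) : lam d (f + g) = lam d f + lam d g := by
  obtain ⟨c, hc, h⟩ := t.e_add_right (1, 1) f g
  have h1 := t.lam_spec _ hd (1, 1) (f + g)
  rw [h, t.cm_D_mul' hd (mul_mem (t.e_mem _ _) (t.e_mem _ _)) (t.D_le hc), t.cm_D_D hd hc, mul_one,
    t.cm_D_mul' hd (t.e_mem _ _) (t.e_mem _ _), t.lam_spec _ hd, t.lam_spec _ hd, ← t.nu_add, ← add_smul] at h1
  have h2 := t.nu_injective h1
  have h3 := congrArg Prod.fst h2
  simpa using h3.symm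

theorem lam_smul {d : G} (hd : d ∈ D) (a : K) (f : F) : lam d (a • f) = a * lam d f := by
  obtain ⟨c, hc, h⟩ := t.e_smul a (1, 1) f
  have h1 := t.lam_spec _ hd (a • ((1, 1) : K × K)) f
  rw [h, t.cm_D_mul' hd (t.e_mem _ _) (t.D_le hc), t.cm_D_D hd hc, mul_one, t.lam_spec _ hd] at h1
  have h2 := t.nu_injective h1
  have h3 := congrArg Prod.fst h2
  simp only [Prod.smul_fst, smul_eq_mul, mul_one] at h3
  rw [h3, mul_comm]

/-! ### the trilinear form -/

theorem two : (2 : K) = 0 := by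
  have h1 : ν ((1, 0) + (1, 0)) = 1 := by
    rw [t.nu_add]
    exact t.D_sq _ (t.V_le (t.nu_mem _))
  have h2 := congrArg Prod.fst (t.nu_inj _ h1)
  simpa [one_add_one_eq_two] using h2

theorem char : CharP K 2 := CharTwo.of_one_ne_zero_of_two_eq_zero one_ne_zero t.two

theorem s_mem (n n' : K × K) (f g : F) : cm (e n f) (e n' g) ∈ D := t.comm_Y _ (t.e_mem _ _) _ (t.e_mem _ _)

omit t in
/-- the form `T` -/
def TT (e : K × K → F → G) (lam : G → F → K) (f g h : F) : K := lam (cm (e (1, 0) f) (e (0, 1) g)) h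

theorem T_eq {n n' : K × K} (hn : det n n' = 1) (f g h : F) : lam (cm (e n f) (e n' g)) h = TT e lam f g h :=
  t.lam_congr (t.s_mem _ _ _ _) (t.s_mem _ _ _ _)
    (t.inv _ _ _ _ (by rw [hn, det]; simp) (by rw [hn]; exact one_ne_zero) f g) h

theorem lam_cm_left {y y' z : G} (hy : y ∈ Y) (hy' : y' ∈ Y) (hz : z ∈ Y) (h : F) :
    lam (cm (y * y') z) h = lam (cm y z) h + lam (cm y' z) h := by
  rw [t.lam_congr (t.comm_Y _ (mul_mem hy hy') _ hz) (mul_mem (t.comm_Y _ hy _ hz) (t.comm_Y _ hy' _ hz))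
    (t.cm_mul_left hy hy' hz), t.lam_mul (t.comm_Y _ hy _ hz) (t.comm_Y _ hy' _ hz)]

theorem lam_cm_right {y z z' : G} (hy : y ∈ Y) (hz : z ∈ Y) (hz' : z' ∈ Y) (h : F) :
    lam (cm y (z * z')) h = lam (cm y z) h + lam (cm y z') h := by
  rw [t.lam_congr (t.comm_Y _ hy _ (mul_mem hz hz')) (mul_mem (t.comm_Y _ hy _ hz) (t.comm_Y _ hy _ hz'))
    (t.cm_mul_right hy hz hz'), t.lam_mul (t.comm_Y _ hy _ hz) (t.comm_Y _ hy _ hz')]

theorem lam_cm_D {y z c : G} (hy : y ∈ Y) (hz : z ∈ Y) (hc : c ∈ D) (h : F) :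
    lam (cm (y * c) z) h = lam (cm y z) h :=
  t.lam_congr (t.comm_Y _ (mul_mem hy (t.D_le hc)) _ hz) (t.comm_Y _ hy _ hz) (t.cm_mul_D hy hz hc) h

theorem lam_cm_D' {y z c : G} (hy : y ∈ Y) (hz : z ∈ Y) (hc : c ∈ D) (h : F) :
    lam (cm y (z * c)) h = lam (cm y z) h :=
  t.lam_congr (t.comm_Y _ hy _ (mul_mem hz (t.D_le hc))) (t.comm_Y _ hy _ hz) (t.cm_mul_D' hy hz hc) h

theorem T_add₁ (f f' g h : F) : TT e lam (f + f') g h = TT e lam f g h + TT e lam f' g h := by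
  obtain ⟨d, hd, he⟩ := t.e_add_right (1, 0) f f'
  unfold TT
  rw [he, t.lam_cm_D (mul_mem (t.e_mem _ _) (t.e_mem _ _)) (t.e_mem _ _) hd,
    t.lam_cm_left (t.e_mem _ _) (t.e_mem _ _) (t.e_mem _ _)]

theorem T_add₂ (f g g' h : F) : TT e lam f (g + g') h = TT e lam f g h + TT e lam f g' h := by
  obtain ⟨d, hd, he⟩ := t.e_add_right (0, 1) g g'
  unfold TT
  rw [he, t.lam_cm_D' (t.e_mem _ _) (mul_mem (t.e_mem _ _) (t.e_mem _ _)) hd,
    t.lam_cm_right (t.e_mem _ _) (t.e_mem _ _) (t.e_mem _ _)]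

theorem T_add₃ (f g h h' : F) : TT e lam f g (h + h') = TT e lam f g h + TT e lam f g h' :=
  t.lam_add (t.s_mem _ _ _ _) h h'

theorem T_smul₃ (a : K) (f g h : F) : TT e lam f g (a • h) = a * TT e lam f g h :=
  t.lam_smul (t.s_mem _ _ _ _) a h

theorem T_swap (f g h : F) : TT e lam f g h = TT e lam g f h := by
  have hc := t.char
  have h1 : cm (e (1, 0) f) (e (0, 1) g) = cm (e (0, 1) g) (e (1, 0) f) := by
    have h2 : cm (e (1, 0) f) (e (0, 1) g) = (cm (e (0, 1) g) (e (1, 0) f))⁻¹ := by unfold cm; group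
    rw [h2]
    exact inv_eq_of_mul_eq_one_left (t.D_sq _ (t.s_mem _ _ _ _))
  have h3 : TT e lam f g h = lam (cm (e (0, 1) g) (e (1, 0) f)) h := by unfold TT; rw [h1]
  rw [h3, t.T_eq]
  rw [det]
  simp only [mul_zero, mul_one, zero_sub]
  exact CharTwo.neg_eq 1

theorem T_alt (f h : F) : TT e lam f f h = 0 := by
  have key : cm (e (1, 0) f) (e (0, 1) f) ∈ V := by
    obtain ⟨d, hd, he⟩ := t.e_add_left (1, 0) (0, 1) f
    have hs := t.sq ((1, 0) + (0, 1)) f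
    have ha := t.sq (1, 0) f
    have hb := t.sq (0, 1) f
    have haY := t.e_mem (1, 0) f
    have hbY := t.e_mem (0, 1) f
    rw [he] at hs
    generalize e (1, 0) f = a at *
    generalize e (0, 1) f = b at *
    -- `(a b d)² = (a b)² [(a b)⁻¹, d] d²`
    have h1 : a * b * d * (a * b * d) = (a * b * (a * b)) * (cm d (a * b)⁻¹)⁻¹ * (d * d) := by
      unfold cm; group
    have h2 : cm d (a * b)⁻¹ ∈ V := t.comm_D d hd _ (inv_mem (mul_mem haY hbY))
    rw [t.D_sq d hd, mul_one] at h1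
    have h3 : a * b * (a * b) ∈ V := by
      have : a * b * (a * b) = a * b * d * (a * b * d) * cm d (a * b)⁻¹ := by rw [h1]; group
      rw [this]
      exact mul_mem hs h2
    have h4 : cm a b = (a * b * (a * b)) * (b * b)⁻¹ * (a * a)⁻¹ := by
      have h5 := t.cen _ ha b hbY
      have h6 := t.cen _ ha _ hbY
      calc cm a b = (a * b * (a * b)) * (b * b)⁻¹ * (b * (a * a)⁻¹ * b⁻¹) := by unfold cm; group
        _ = (a * b * (a * b)) * (b * b)⁻¹ * (a * a)⁻¹ := by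
            rw [← t.cen _ (inv_mem ha) b hbY, mul_inv_cancel_right]
    rw [h4]
    exact mul_mem (mul_mem h3 (inv_mem hb)) (inv_mem ha)
  exact t.lam_V key h

/-- `[c, z⁻¹] = [c, z]` -/
theorem cm_inv {c z : G} (hc : c ∈ D) (hz : z ∈ Y) : cm c z⁻¹ = cm c z := by
  have h1 := t.cm_D_mul' hc hz (inv_mem hz)
  have h2 : cm c (z * z⁻¹) = 1 := by unfold cm; group
  have h3 := t.D_sq _ (t.V_le (t.comm_D c hc z hz))
  rw [h2] at h1
  have h4 : cm c z⁻¹ = (cm c z)⁻¹ := (inv_eq_of_mul_eq_one_right h1.symm).symm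
  rw [h4]
  exact inv_eq_of_mul_eq_one_left h3

theorem cm_cm_inv {x y z : G} (hx : x ∈ Y) (hy : y ∈ Y) (hz : z ∈ Y) : cm (cm x⁻¹ y)⁻¹ z⁻¹ = cm (cm x y) z := by
  have hc := t.comm_Y x hx y hy
  have hc' := t.comm_Y x⁻¹ (inv_mem hx) y hy
  have h1 : (cm x⁻¹ y)⁻¹ = cm x⁻¹ y := inv_eq_of_mul_eq_one_left (t.D_sq _ hc')
  have h2 : cm x⁻¹ y = (cm x y)⁻¹ * (cm (cm x y) x⁻¹) := by unfold cm; group
  have h3 : (cm x y)⁻¹ = cm x y := inv_eq_of_mul_eq_one_left (t.D_sq _ hc)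
  rw [h1, t.cm_inv hc' hz, h2, h3]
  have hV := t.comm_D _ hc x⁻¹ (inv_mem hx)
  rw [t.cm_D_mul hc (t.V_le hV) hz, t.cm_V hV hz, mul_one]

/-- the Jacobi identity -/
theorem jacobi {x y z : G} (hx : x ∈ Y) (hy : y ∈ Y) (hz : z ∈ Y) :
    cm (cm x y) z * cm (cm y z) x * cm (cm z x) y = 1 := by
  have h1 := t.cm_cm_inv hx hy hz
  have h2 := t.cm_cm_inv hy hz hx
  have h3 := t.cm_cm_inv hz hx hy
  have HW : y⁻¹ * cm (cm x⁻¹ y)⁻¹ z⁻¹ * y * (z⁻¹ * cm (cm y⁻¹ z)⁻¹ x⁻¹ * z) *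
      (x⁻¹ * cm (cm z⁻¹ x)⁻¹ y⁻¹ * x) = 1 := by unfold cm; group
  rw [h1, h2, h3] at HW
  have c1 := t.cen _ (t.comm_D _ (t.comm_Y x hx y hy) z hz) y hy
  have c2 := t.cen _ (t.comm_D _ (t.comm_Y y hy z hz) x hx) z hz
  have c3 := t.cen _ (t.comm_D _ (t.comm_Y z hz x hx) y hy) x hx
  have e1 : y⁻¹ * cm (cm x y) z * y = cm (cm x y) z := by rw [mul_assoc, c1, inv_mul_cancel_left]
  have e2 : z⁻¹ * cm (cm y z) x * z = cm (cm y z) x := by rw [mul_assoc, c2, inv_mul_cancel_left]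
  have e3 : x⁻¹ * cm (cm z x) y * x = cm (cm z x) y := by rw [mul_assoc, c3, inv_mul_cancel_left]
  rwa [e1, e2, e3] at HW

theorem T_cyc (f g h : F) : TT e lam f g h = TT e lam g h f ∧ TT e lam f g h = TT e lam h f g := by
  have hc := t.char
  have hj := t.jacobi (t.e_mem (1, 0) f) (t.e_mem (0, 1) g) (t.e_mem (1, 1) h)
  rw [t.lam_spec _ (t.s_mem _ _ _ _), t.lam_spec _ (t.s_mem _ _ _ _), t.lam_spec _ (t.s_mem _ _ _ _),
    ← t.nu_add, ← t.nu_add, t.T_eq (n := (1, 0)) (n' := (0, 1)) (by rw [det]; simp),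
    t.T_eq (n := (0, 1)) (n' := (1, 1)) (by rw [det]; simp [CharTwo.neg_eq]),
    t.T_eq (n := (1, 1)) (n' := (1, 0)) (by rw [det]; simp [CharTwo.neg_eq])] at hj
  have h1 := t.nu_inj _ hj
  have h2 := congrArg Prod.fst h1
  have h3 := congrArg Prod.snd h1
  simp only [Prod.smul_mk, smul_eq_mul, mul_one, mul_zero, Prod.mk_add_mk, add_zero, Prod.fst_zero, Prod.snd_zero]
    at h2 h3
  exact ⟨CharTwo.add_eq_zero.mp h2, CharTwo.add_eq_zero.mp h3⟩

theorem T_smul₁ (a : K) (f g h : F) : TT e lam (a • f) g h = a * TT e lam f g h := by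
  rw [(t.T_cyc (a • f) g h).1, t.T_smul₃, (t.T_cyc f g h).1]

theorem T_smul₂ (a : K) (f g h : F) : TT e lam f (a • g) h = a * TT e lam f g h := by
  rw [t.T_swap, t.T_smul₁, t.T_swap]

theorem T_alt' (f h : F) : TT e lam h f f = 0 := by
  rw [(t.T_cyc h f f).1, t.T_alt]

theorem T_alt'' (f h : F) : TT e lam f h f = 0 := by
  rw [t.T_swap, t.T_alt']

/-! ### the order bound -/

/-- `λ : D → F*` -/
def lamHom : D →* Multiplicative (Module.Dual K F) where
  toFun d := Multiplicative.ofAdd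
    { toFun := lam d
      map_add' := t.lam_add d.2
      map_smul' := fun a f => by rw [t.lam_smul d.2]; rfl }
  map_one' := by
    apply Multiplicative.ofAdd.injective.eq_iff.mpr
    ext f
    exact t.lam_V (one_mem V) f
  map_mul' := fun c d => by
    rw [← ofAdd_add]
    apply Multiplicative.ofAdd.injective.eq_iff.mpr
    ext f
    exact t.lam_mul c.2 d.2 f

theorem lamHom_eq_one {d : D} : t.lamHom d = 1 ↔ ∀ f, lam (d : G) f = 0 := by
  constructor
  · intro h f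
    have h1 := congrArg Multiplicative.toAdd h
    have h2 := congrArg (fun φ : Module.Dual K F => φ f) h1
    exact h2
  · intro h
    apply Multiplicative.toAdd.injective
    ext f
    exact h f

omit t in
theorem card_dual [Finite K] [Finite F] : Nat.card (Module.Dual K F) = Nat.card F := by
  classical
  have : Module.Finite K F := inferInstance
  let b := Module.finBasis K F
  exact (Nat.card_congr b.toDualEquiv.toEquiv).symm

/-- `|D| ≤ |V| |F|` if `λ` is injective on `D / V` -/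
theorem card_D_le [Finite G] [Finite K] [Finite F] (hinj : ∀ d ∈ D, (∀ f, lam d f = 0) → d ∈ V) :
    Nat.card D ≤ Nat.card V * Nat.card F := by
  have h1 := Subgroup.card_range_dvd t.lamHom
  have h2 : Nat.card (Multiplicative (Module.Dual K F)) = Nat.card F := card_dual
  have : Finite (Multiplicative (Module.Dual K F)) := Nat.finite_of_card_ne_zero (by
    rw [h2]; exact Nat.card_pos.ne')
  have h3 : Nat.card t.lamHom.ker ≤ Nat.card V := by
    refine Nat.card_le_card_of_injective (fun x => (⟨(x : D), ?_⟩ : V)) ?_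
    · exact hinj _ (x : D).2 (t.lamHom_eq_one.mp x.2)
    · intro x y hxy
      have := congrArg (fun z : V => (z : G)) hxy
      exact Subtype.ext (Subtype.ext this)
  have h4 : Nat.card D = Nat.card t.lamHom.ker * Nat.card t.lamHom.range := by
    rw [mul_comm]
    have := Subgroup.card_mul_index t.lamHom.ker
    rw [Subgroup.index_ker] at this
    rw [mul_comm, this]
  rw [h4]
  refine Nat.mul_le_mul h3 ?_
  rw [← h2]
  exact Subgroup.card_le_card_group _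

end Ten

end Cfsg.Agent.Omega.Tensor
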