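import Cfsg.Agent.Omega.BTwo.YPair
import Cfsg.Agent.Omega.BTwo.Ten
import Cfsg.Agent.Omega.BTwo.Cen

/-!
# SQ3, `b = 2`: the structure `Ten` from `BT`, `Coord`, `YPair` (#10337 (6))

`YPair.ten`: helper396's `Tensor.Ten` holds; so `T(f, g, h) = λ_{[e (1,0) f, e (0,1) g]}(h)` is an alternating trilinear
form on `M`; `comm_U_le_V`: `dim M = 1 ⟹ [U i, U j] ≤ V`.
-/

set_option autoImplicit false
set_option linter.unusedSectionVars false

namespace Cfsg.Agent.Omega.BTwo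

open Subgroup Cfsg.Agent.Omega.Tensor

universe u v w

variable {G : Type u} [Group G] {ι : Type w}

section

variable {V : Subgroup G} {R : ι → Subgroup G} (b : BT V R)
include b

theorem BT.cen_V_Y {x y : G} (hx : x ∈ V) (hy : y ∈ YY V R) : x * y = y * x :=
  mem_centralizer_iff.1 (YY_le_cen hy) _ hx

theorem BT.cm_mul_D {y z d : G} (hy : y ∈ YY V R) (hz : z ∈ YY V R) (hd : d ∈ DD V R) :
    cm (y * d) z = cm y z * cm d z := by
  have h1 : cm d z ∈ V := b.lam_mem hd hz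
  have h2 := b.cen_V_Y h1 hy
  have h4 := b.cen_V_Y h1 (b.D_le_Y (b.Y_comm hy hz))
  calc cm (y * d) z = y * cm d z * z * y⁻¹ * z⁻¹ := by unfold cm; group
    _ = cm d z * y * z * y⁻¹ * z⁻¹ := by rw [← h2]
    _ = cm d z * cm y z := by unfold cm; group
    _ = cm y z * cm d z := h4

/-- commutators of elements of `Y` depend modulo `V` only on the classes modulo `D` -/
theorem BT.cm_congr {y y' z z' : G} (hy : y ∈ YY V R) (hz : z ∈ YY V R) (hyy : y⁻¹ * y' ∈ DD V R)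
    (hzz : z⁻¹ * z' ∈ DD V R) : ∃ x ∈ V, cm y' z' = cm y z * x := by
  have hy' : y' ∈ YY V R := by
    have := mul_mem hy (b.D_le_Y hyy)
    rwa [mul_inv_cancel_left] at this
  have h1 := b.cm_mul_D hy hz hyy
  have h2 := b.cm_mul_D hz hy' hzz
  rw [mul_inv_cancel_left] at h1 h2
  have h3 : cm (y⁻¹ * y') z ∈ V := b.lam_mem hyy hz
  have h4 : cm (z⁻¹ * z') y' ∈ V := b.lam_mem hzz hy'
  refine ⟨cm (y⁻¹ * y') z * (cm (z⁻¹ * z') y')⁻¹, mul_mem h3 (inv_mem h4), ?_⟩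
  have e1 : cm y' z' = (cm z' y')⁻¹ := by unfold cm; group
  have e2 : cm z y' = (cm y' z)⁻¹ := by unfold cm; group
  have h5 := b.cen_V_Y (inv_mem h4) (b.D_le_Y (b.Y_comm hy' hz))
  have h6 : y' * z * y'⁻¹ * z⁻¹ = cm y' z := rfl
  rw [h6] at h5
  rw [e1, h2, e2, mul_inv_rev, inv_inv, h5, h1, mul_assoc]

end

namespace YPair

variable {V : Subgroup G} {R : ι → Subgroup G} {i j : ι} {F : Type v} [Field F] {w1 w2 : F → G}
  {M : Type u} [AddCommGroup M] [Module F M] {P1 P2 : G → M}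
  (y : YPair V R i j w1 w2 M P1 P2)

/-- `e (b, c) m`, the tensor `(b, c) ⊗ m` -/
noncomputable def ee (n : F × F) (m : M) : G := (y.surj (n.1 • m) (n.2 • m)).choose

theorem ee_mem (n : F × F) (m : M) : y.ee n m ∈ YY V R := (y.surj (n.1 • m) (n.2 • m)).choose_spec.1

theorem P1_ee (n : F × F) (m : M) : P1 (y.ee n m) = n.1 • m := (y.surj (n.1 • m) (n.2 • m)).choose_spec.2.1

theorem P2_ee (n : F × F) (m : M) : P2 (y.ee n m) = n.2 • m := (y.surj (n.1 • m) (n.2 • m)).choose_spec.2.2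

/-- `x` moves `n ⊗ m` to `n' ⊗ m` for all `m` -/
def Mv (_ : YPair V R i j w1 w2 M P1 P2) (x : G) (n n' : F × F) : Prop :=
  ∀ z ∈ YY V R, ∀ m : M, P1 z = n.1 • m → P2 z = n.2 • m →
    P1 (x * z * x⁻¹) = n'.1 • m ∧ P2 (x * z * x⁻¹) = n'.2 • m

variable (b : BT V R) {v : F → F → G} (c : Coord V R i j v w1 w2)
include y b c

theorem Mv.comp {x x' : G} (hx : x ∈ XX V R) {n n' n'' : F × F} (h : y.Mv x n n') (h' : y.Mv x' n' n'') :
    y.Mv (x' * x) n n'' := by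
  intro z hz m h1 h2
  obtain ⟨h3, h4⟩ := h z hz m h1 h2
  have h5 := h' _ (y.X_Y b c hx hz) m h3 h4
  have e : x' * (x * z * x⁻¹) * x'⁻¹ = x' * x * z * (x' * x)⁻¹ := by group
  rwa [e] at h5

theorem mv1 (a : F) (n : F × F) : y.Mv (w1 a) n (n.1 + a * n.2, n.2) := by
  intro z hz m h1 h2
  rw [y.w11 a z hz, y.w12 a z hz, h1, h2, smul_smul, ← add_smul]
  exact ⟨rfl, rfl⟩

theorem mv2 (a : F) (n : F × F) : y.Mv (w2 a) n (n.1, n.2 + a * n.1) := by
  intro z hz m h1 h2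
  rw [y.w21 a z hz, y.w22 a z hz, h1, h2, smul_smul, ← add_smul]
  exact ⟨rfl, rfl⟩

/-- pairs of vectors with determinant `δ ≠ 0` are conjugate to `(1, 0), (0, δ)` -/
theorem exists_std [CharP F 2] {n n' : F × F} (h : det n n' ≠ 0) :
    ∃ x ∈ XX V R, y.Mv x n (1, 0) ∧ y.Mv x n' (0, det n n') := by
  have s1 : ∀ a, w1 a ∈ XX V R := fun a => W_le_X V R i (c.w1_mem a)
  have s2 : ∀ a, w2 a ∈ XX V R := fun a => W_le_X V R j (c.w2_mem a)
  -- reduce to `n.2 ≠ 0`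
  have key : ∀ n n' : F × F, det n n' ≠ 0 → n.2 ≠ 0 →
      ∃ x ∈ XX V R, y.Mv x n (1, 0) ∧ y.Mv x n' (0, det n n') := by
    rintro ⟨p, r⟩ ⟨p', r'⟩ h hr
    have hr' : r ≠ 0 := hr
    set t : F := (1 + p) * r⁻¹ with ht
    have e1 : p + t * r = 1 := by
      rw [ht, mul_assoc, inv_mul_cancel₀ hr', mul_one, add_comm 1 p, ← add_assoc, CharTwo.add_self_eq_zero,
        zero_add]
    have m1 := y.mv1 b c t (p, r)
    have m1' := y.mv1 b c t (p', r')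
    simp only [e1] at m1 m1'
    have m2 := y.mv2 b c r (1, r)
    have m2' := y.mv2 b c r (p' + t * r', r')
    have e2 : r + r * 1 = 0 := by rw [mul_one, CharTwo.add_self_eq_zero]
    simp only [e2] at m2 m2'
    have e3 : r' + r * (p' + t * r') = det (p, r) (p', r') := by
      have h3 : t * r = 1 + p := by rw [ht, mul_assoc, inv_mul_cancel₀ hr', mul_one]
      unfold det
      calc r' + r * (p' + t * r') = r' + r * p' + (t * r) * r' := by ring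
        _ = r' + r * p' + (1 + p) * r' := by rw [h3]
        _ = (r' + r') + (p * r' + r * p') := by ring
        _ = p * r' + r * p' := by rw [CharTwo.add_self_eq_zero, zero_add]
        _ = p * r' - r * p' := by rw [CharTwo.sub_eq_add]
    rw [e3] at m2'
    set δ := det (p, r) (p', r') with hδ
    have m3 := y.mv1 b c ((p' + t * r') * δ⁻¹) (1, 0)
    have m3' := y.mv1 b c ((p' + t * r') * δ⁻¹) (p' + t * r', δ)
    have e4 : p' + t * r' + (p' + t * r') * δ⁻¹ * δ = 0 := by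
      rw [mul_assoc (p' + t * r'), inv_mul_cancel₀ h, mul_one, CharTwo.add_self_eq_zero]
    simp only [mul_zero, add_zero, e4] at m3 m3'
    refine ⟨_, mul_mem (s1 _) (mul_mem (s2 _) (s1 _)),
      Mv.comp y b c (mul_mem (s2 _) (s1 _)) (Mv.comp y b c (s1 _) m1 m2) m3,
      Mv.comp y b c (mul_mem (s2 _) (s1 _)) (Mv.comp y b c (s1 _) m1' m2') m3'⟩
  by_cases hn : n.2 = 0
  · have h1 : n.1 ≠ 0 := by
      intro h1
      apply h
      unfold det
      rw [h1, hn]; ring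
    have m := y.mv2 b c 1 n
    have m' := y.mv2 b c 1 n'
    have hd : det (n.1, n.2 + 1 * n.1) (n'.1, n'.2 + 1 * n'.1) = det n n' := by unfold det; ring
    obtain ⟨x, hx, k, k'⟩ := key (n.1, n.2 + 1 * n.1) (n'.1, n'.2 + 1 * n'.1) (by rw [hd]; exact h)
      (by show n.2 + 1 * n.1 ≠ 0; rw [hn, zero_add, one_mul]; exact h1)
    rw [hd] at k'
    exact ⟨_, mul_mem hx (s2 1), Mv.comp y b c (s2 1) m k, Mv.comp y b c (s2 1) m' k'⟩
  · exact key n n' h hn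

theorem eq_of_P {x x' : G} (hx : x ∈ YY V R) (hx' : x' ∈ YY V R) (h1 : P1 x = P1 x') (h2 : P2 x = P2 x') :
    x'⁻¹ * x ∈ DD V R := (y.eq_iff hx hx').2 ⟨h1, h2⟩

theorem cm_std [CharP F 2] {n n' : F × F} (h : det n n' ≠ 0) (f g : M) :
    ∃ x ∈ V, cm (y.ee n f) (y.ee n' g) = cm (y.ee (1, 0) f) (y.ee (0, det n n') g) * x := by
  obtain ⟨x, hx, k, k'⟩ := y.exists_std b c h
  obtain ⟨h1, h2⟩ := k _ (y.ee_mem n f) f (y.P1_ee n f) (y.P2_ee n f)
  obtain ⟨h1', h2'⟩ := k' _ (y.ee_mem n' g) g (y.P1_ee n' g) (y.P2_ee n' g)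
  have m1 := y.X_Y b c hx (y.ee_mem n f)
  have m1' := y.X_Y b c hx (y.ee_mem n' g)
  have d1 := y.eq_of_P b c m1 (y.ee_mem (1, 0) f) (h1.trans (y.P1_ee _ _).symm) (h2.trans (y.P2_ee _ _).symm)
  have d2 := y.eq_of_P b c m1' (y.ee_mem (0, det n n') g) (h1'.trans (y.P1_ee _ _).symm)
    (h2'.trans (y.P2_ee _ _).symm)
  obtain ⟨z, hz, e⟩ := b.cm_congr (y.ee_mem (1, 0) f) (y.ee_mem (0, det n n') g) d1 d2
  have hD : cm (y.ee n f) (y.ee n' g) ∈ DD V R := b.Y_comm (y.ee_mem n f) (y.ee_mem n' g)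
  have hX := b.XD hx hD
  have e2 : cm (x * y.ee n f * x⁻¹) (x * y.ee n' g * x⁻¹) =
      (x * cm (y.ee n f) (y.ee n' g) * x⁻¹ * (cm (y.ee n f) (y.ee n' g))⁻¹) * cm (y.ee n f) (y.ee n' g) := by
    unfold cm; group
  set q := x * cm (y.ee n f) (y.ee n' g) * x⁻¹ * (cm (y.ee n f) (y.ee n' g))⁻¹ with hq
  refine ⟨z * q⁻¹, mul_mem hz (inv_mem hX), ?_⟩
  rw [← mul_assoc, ← e, e2, b.D_comm (V_le_D V R hX) hD, mul_inv_cancel_right]

/-- if `n ≠ 0` then some `x ∈ X` moves `n` to `(0, 1)` -/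
theorem exists_std1 [CharP F 2] {n : F × F} (h : n ≠ 0) : ∃ x ∈ XX V R, y.Mv x n (1, 0) := by
  by_cases h1 : n.1 = 0
  · have h2 : n.2 ≠ 0 := fun h2 => h (Prod.ext h1 h2)
    obtain ⟨x, hx, k, -⟩ := y.exists_std b c (n := n) (n' := (1, 0)) (by
      unfold det
      simp only [mul_zero, mul_one, zero_sub]
      exact neg_ne_zero.2 h2)
    exact ⟨x, hx, k⟩
  · obtain ⟨x, hx, k, -⟩ := y.exists_std b c (n := n) (n' := (0, 1)) (by
      unfold det
      simp only [mul_zero, mul_one, sub_zero]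
      exact h1)
    exact ⟨x, hx, k⟩

theorem ee_conj [CharP F 2] {n : F × F} (h : n ≠ 0) :
    ∃ x ∈ XX V R, ∀ f, x * y.ee n f * x⁻¹ ∈ UU V R i := by
  obtain ⟨x, hx, k⟩ := y.exists_std1 b c h
  refine ⟨x, hx, fun f => ?_⟩
  obtain ⟨-, h2⟩ := k _ (y.ee_mem n f) f (y.P1_ee n f) (y.P2_ee n f)
  rw [y.mem_U1 _ (y.X_Y b c hx (y.ee_mem n f)), h2]
  exact zero_smul _ _

theorem ee_zero (f : M) : y.ee (0, 0) f ∈ DD V R := by
  rw [y.mem_D _ (y.ee_mem _ _), y.P1_ee, y.P2_ee]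
  exact ⟨zero_smul _ _, zero_smul _ _⟩

/-- **#10337 (6)** -/
theorem ten [CharP F 2] : Ten V (DD V R) (YY V R) (fun n : F × F => v n.1 n.2) y.ee
    (fun d m => y.lam b c d m) where
  V_le := V_le_D V R
  D_le := b.D_le_Y
  nu_mem := fun n => c.v_mem _ _
  nu_add := fun n n' => c.v_add _ _ _ _
  nu_inj := fun n h => by
    obtain ⟨h1, h2⟩ := c.v_one _ _ h
    exact Prod.ext h1 h2
  cen := fun x hx z hz => b.cen_V_Y hx hz
  comm_Y := fun x hx z hz => b.Y_comm hx hz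
  comm_D := fun d hd x hx => b.lam_mem hd hx
  D_comm := fun x hx z hz => b.D_comm hx hz
  D_sq := fun d hd => b.D_sq hd
  e_mem := fun n f => y.ee_mem n f
  e_add_left := fun n n' f => by
    have hm := mul_mem (y.ee_mem n f) (y.ee_mem n' f)
    refine ⟨(y.ee n f * y.ee n' f)⁻¹ * y.ee (n + n') f, ?_, by group⟩
    refine y.eq_of_P b c (y.ee_mem _ _) hm ?_ ?_
    · rw [y.mul1 _ (y.ee_mem _ _) _ (y.ee_mem _ _), y.P1_ee, y.P1_ee, y.P1_ee, ← add_smul]; rfl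
    · rw [y.mul2 _ (y.ee_mem _ _) _ (y.ee_mem _ _), y.P2_ee, y.P2_ee, y.P2_ee, ← add_smul]; rfl
  e_add_right := fun n f f' => by
    have hm := mul_mem (y.ee_mem n f) (y.ee_mem n f')
    refine ⟨(y.ee n f * y.ee n f')⁻¹ * y.ee n (f + f'), ?_, by group⟩
    refine y.eq_of_P b c (y.ee_mem _ _) hm ?_ ?_
    · rw [y.mul1 _ (y.ee_mem _ _) _ (y.ee_mem _ _), y.P1_ee, y.P1_ee, y.P1_ee, smul_add]
    · rw [y.mul2 _ (y.ee_mem _ _) _ (y.ee_mem _ _), y.P2_ee, y.P2_ee, y.P2_ee, smul_add]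
  e_smul := fun t n f => by
    refine ⟨(y.ee n (t • f))⁻¹ * y.ee (t • n) f, ?_, by group⟩
    refine y.eq_of_P b c (y.ee_mem _ _) (y.ee_mem _ _) ?_ ?_
    · rw [y.P1_ee, y.P1_ee, smul_smul, mul_comm]; rfl
    · rw [y.P2_ee, y.P2_ee, smul_smul, mul_comm]; rfl
  lam_spec := fun d hd n f => by
    have h := y.lam_spec b c hd (y.ee_mem n f)
    rw [y.P1_ee, y.P2_ee, map_smul, map_smul, smul_eq_mul, smul_eq_mul, mul_comm n.1, mul_comm n.2] at h
    exact h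
  same := fun n f g => by
    by_cases hn : n = 0
    · subst hn
      have h1 : cm (y.ee 0 f) (y.ee 0 g) ∈ V := b.lam_mem (y.ee_zero b c f) (y.ee_mem _ _)
      exact h1
    · obtain ⟨x, hx, k⟩ := y.ee_conj b c hn
      have h1 : cm (x * y.ee n f * x⁻¹) (x * y.ee n g * x⁻¹) ∈ V :=
        b.R_le i (b.WU (UU_le_WW i (k f)) (k g))
      have h2 := conj_inv_mem_of_normalizer (b.X_le_NV hx) h1
      have e : x⁻¹ * cm (x * y.ee n f * x⁻¹) (x * y.ee n g * x⁻¹) * x = cm (y.ee n f) (y.ee n g) := by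
        unfold cm; group
      rwa [e] at h2
  sq := fun n f => by
    by_cases hn : n = 0
    · subst hn
      have h1 := b.D_sq (y.ee_zero b c f)
      have h2 : y.ee 0 f * y.ee 0 f = 1 := h1
      rw [h2]
      exact one_mem _
    · obtain ⟨x, hx, k⟩ := y.ee_conj b c hn
      have h1 : (x * y.ee n f * x⁻¹) * (x * y.ee n f * x⁻¹) ∈ V :=
        b.R_le i (b.W_sq i (UU_le_WW i (k f)))
      have h2 := conj_inv_mem_of_normalizer (b.X_le_NV hx) h1
      have e : x⁻¹ * (x * y.ee n f * x⁻¹ * (x * y.ee n f * x⁻¹)) * x = y.ee n f * y.ee n f := by group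
      rwa [e] at h2
  inv := fun n₁ n₂ n₁' n₂' h h0 f g => by
    obtain ⟨x, hx, e⟩ := y.cm_std b c h0 f g
    obtain ⟨x', hx', e'⟩ := y.cm_std b c (n := n₁') (n' := n₂') (by rw [← h]; exact h0) f g
    refine ⟨x'⁻¹ * x, mul_mem (inv_mem hx') hx, ?_⟩
    rw [e, e', h]
    group

end YPair

section dimOne

variable {V : Subgroup G} {R : ι → Subgroup G} {i j : ι} {F : Type v} [Field F] {w1 w2 : F → G}
  {M : Type u} [AddCommGroup M] [Module F M] {P1 P2 : G → M}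
  (y : YPair V R i j w1 w2 M P1 P2) (b : BTC V R) {v : F → F → G} (c : Coord V R i j v w1 w2)
include y b c

/-- `λ` has kernel `V` -/
theorem YPair.lam_eq_zero_iff [CharP F 2] {d : G} (hd : d ∈ DD V R) : y.lam b.toBT c d = 0 ↔ d ∈ V := by
  constructor
  · intro h
    refine b.cen_DU (i := i) hd fun u hu => ?_
    have h1 := (y.lam_eq_zero b.toBT c hd).1 h
    exact (mem_centralizer_iff.1 h1 u (UU_le_YY i hu)).symm
  · exact fun h => y.lam_V b.toBT c h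

theorem YPair.lam_injective [CharP F 2] {d d' : G} (hd : d ∈ DD V R) (hd' : d' ∈ DD V R)
    (h : y.lam b.toBT c d = y.lam b.toBT c d') : d'⁻¹ * d ∈ V := by
  rw [← y.lam_eq_zero_iff b c (mul_mem (inv_mem hd') hd), y.lam_mul b.toBT c (inv_mem hd') hd, h,
    ← y.lam_mul b.toBT c (inv_mem hd') hd', inv_mul_cancel, y.lam_V b.toBT c (one_mem _)]

/-- `dim M ≤ 1 ⟹ [U i, U j] ≤ V` -/
theorem YPair.comm_U_V [CharP F 2] {m₀ : M} (hm : ∀ m : M, ∃ a : F, a • m₀ = m) {x z : G}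
    (hx : x ∈ UU V R i) (hz : z ∈ UU V R j) : cm x z ∈ V := by
  have hxY := UU_le_YY i hx
  have hzY := UU_le_YY j hz
  have t := y.ten b.toBT c
  have h1 : cm (y.ee (1, 0) (P1 x)) (y.ee (0, 1) (P2 z)) ∈ V := by
    have hD : cm (y.ee (1, 0) (P1 x)) (y.ee (0, 1) (P2 z)) ∈ DD V R :=
      b.Y_comm (y.ee_mem _ _) (y.ee_mem _ _)
    rw [← y.lam_eq_zero_iff b c hD]
    ext h
    obtain ⟨a, ha⟩ := hm (P1 x)
    obtain ⟨a', ha'⟩ := hm (P2 z)
    have h2 : y.lam b.toBT c (cm (y.ee (1, 0) (P1 x)) (y.ee (0, 1) (P2 z))) h =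
        Ten.TT y.ee (fun d m => y.lam b.toBT c d m) (P1 x) (P2 z) h := rfl
    rw [h2, ← ha, ← ha', t.T_smul₁, t.T_smul₂, t.T_alt, mul_zero, mul_zero]
    rfl
  have d1 : (y.ee (1, 0) (P1 x))⁻¹ * x ∈ DD V R := by
    refine y.eq_of_P b.toBT c hxY (y.ee_mem _ _) ?_ ?_
    · rw [y.P1_ee, one_smul]
    · rw [y.P2_ee, zero_smul]
      exact (y.mem_U1 x hxY).1 hx
  have d2 : (y.ee (0, 1) (P2 z))⁻¹ * z ∈ DD V R := by
    refine y.eq_of_P b.toBT c hzY (y.ee_mem _ _) ?_ ?_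
    · rw [y.P1_ee, zero_smul]
      exact (y.mem_U2 z hzY).1 hz
    · rw [y.P2_ee, one_smul]
  obtain ⟨q, hq, e⟩ := b.cm_congr (y.ee_mem _ _) (y.ee_mem _ _) d1 d2
  rw [e]
  exact mul_mem h1 hq

/-- `dim M ≤ 1 ⟹ [Y, Y] ≤ V` -/
theorem YPair.comm_Y_V [CharP F 2] {m₀ : M} (hm : ∀ m : M, ∃ a : F, a • m₀ = m) {x z : G}
    (hx : x ∈ YY V R) (hz : z ∈ YY V R) : cm x z ∈ V := by
  -- every element of `Y` centralises `U i` and `U j` modulo `V`
  have k1 : ∀ k l : ι, (k = i ∨ k = j) → (l = i ∨ l = j) → ∀ x ∈ UU V R k, ∀ z ∈ UU V R l, cm x z ∈ V := by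
    rintro k l (rfl | rfl) (rfl | rfl) x hx z hz
    · exact b.R_le _ (b.WU (UU_le_WW _ hx) hz)
    · exact y.comm_U_V b c hm hx hz
    · have h := inv_mem (y.comm_U_V b c hm hz hx)
      have e : (cm z x)⁻¹ = cm x z := by unfold cm; group
      rwa [e] at h
    · exact b.R_le _ (b.WU (UU_le_WW _ hx) hz)
  have k2 : ∀ l, (l = i ∨ l = j) → YY V R ≤ cenMod V (UU V R l) := by
    intro l hl
    rw [b.Y_eq c.ne]
    refine sup_le (fun x hx => ⟨Y_le_NV (UU_le_YY i hx), fun z hz => k1 i l (Or.inl rfl) hl x hx z hz⟩)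
      fun x hx => ⟨Y_le_NV (UU_le_YY j hx), fun z hz => k1 j l (Or.inr rfl) hl x hx z hz⟩
  have k3 : YY V R ≤ cenMod V (YY V R) := by
    have h1 : ∀ l, (l = i ∨ l = j) → UU V R l ≤ cenMod V (YY V R) := fun l hl =>
      le_cenMod_comm ((UU_le_YY l).trans Y_le_NV) (k2 l hl)
    conv_lhs => rw [b.Y_eq c.ne]
    exact sup_le (h1 i (Or.inl rfl)) (h1 j (Or.inr rfl))
  exact (k3 hx).2 z hz

end dimOne

end Cfsg.Agent.Omega.BTwo
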