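import Cfsg.Agent.Omega.BTwo.XMod

/-!
# SQ3, `b = 2`: the fields `odd₁`, `t₁` of `Hex.Loc`

`odd_WY`: `|N_X(R i) : W i Y|` is odd; `exists_t`: an element of odd order of `X ∩ N(R i)` fixed point free on `W i Y / Y`
(`q ≥ 4`).
-/

set_option autoImplicit false
set_option linter.unusedSectionVars false

namespace Cfsg.Agent.Omega.BTwo

open Subgroup Cfsg.Agent.Lib.SL2Mat

universe u v w

variable {G : Type u} [Group G] {ι : Type w} {V : Subgroup G} {R : ι → Subgroup G} {i j : ι} {F : Type v} [Field F]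
  {w1 w2 : F → G} {M : Type u} [AddCommGroup M] [Module F M] {P1 P2 : G → M} {v : F → F → G}

/-- `W i Y` is the preimage of the unitriangular group -/
theorem YPair.comap_upG [Finite G] [Finite F] [CharP F 2] (y : YPair V R i j w1 w2 M P1 P2)
    (c : Coord V R i j v w1 w2) (b : BTC V R) :
    (upG F).comap (c.rho b.toBT) = (WW V (R i) ⊔ YY V R).subgroupOf (XX V R) := by
  apply le_antisymm
  · rintro x ⟨a, ha⟩
    have h1 : c.rho b.toBT ((⟨w1 a, W_le_X V R i (c.w1_mem a)⟩ : XX V R)⁻¹ * x) = 1 := by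
      rw [map_mul, map_inv, c.rho_w1, ha, inv_mul_cancel]
    rw [c.rho_eq_one] at h1
    have h2 : (w1 a)⁻¹ * (x : G) ∈ YY V R := by
      rw [← y.cen_X_V c b]
      exact mem_inf.2 ⟨mul_mem (inv_mem (W_le_X V R i (c.w1_mem a))) x.2, h1⟩
    have h3 := mul_mem ((le_sup_left : WW V (R i) ≤ WW V (R i) ⊔ YY V R) (c.w1_mem a))
      ((le_sup_right : YY V R ≤ WW V (R i) ⊔ YY V R) h2)
    rwa [mul_inv_cancel_left] at h3
  · have h1 : WW V (R i) ⊔ YY V R ≤ ((upG F).comap (c.rho b.toBT)).map (XX V R).subtype := by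
      refine sup_le (fun w hw => ?_) fun z hz => ?_
      · obtain ⟨a, ha⟩ := c.exists_up hw
        exact ⟨⟨w, W_le_X V R i hw⟩, ⟨a, c.rho_eq b.toBT ha⟩, rfl⟩
      · refine ⟨⟨z, YY_le_XX hz⟩, ?_, rfl⟩
        show c.rho b.toBT _ ∈ upG F
        rw [(c.rho_eq_one b.toBT (x := ⟨z, YY_le_XX hz⟩)).2 (YY_le_cen hz)]
        exact one_mem _
    intro x hx
    obtain ⟨x', hx', e⟩ := h1 hx
    have e2 : x' = x := Subtype.ext e
    rw [← e2]
    exact hx'

theorem YPair.odd_index_WY [Finite G] [Finite F] [CharP F 2] (y : YPair V R i j w1 w2 M P1 P2)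
    (c : Coord V R i j v w1 w2) (b : BTC V R) : Odd ((WW V (R i) ⊔ YY V R).relIndex (XX V R)) := by
  have h1 : ((WW V (R i) ⊔ YY V R).subgroupOf (XX V R)).index = (upG F).index := by
    rw [← y.comap_upG c b]
    exact index_comap_of_surjective _ (c.rho_surjective b.toBT)
  have h2 : (WW V (R i) ⊔ YY V R).relIndex (XX V R) = (upG F).index := h1
  rw [h2]
  exact odd_index_upG

/-- `|N_X(R i) : W i Y|` is odd -/
theorem YPair.odd_WY [Finite G] [Finite F] [CharP F 2] (y : YPair V R i j w1 w2 M P1 P2)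
    (c : Coord V R i j v w1 w2) (b : BTC V R) :
    Odd ((WW V (R i) ⊔ YY V R).relIndex (XX V R ⊓ normalizer (R i : Set G))) := by
  have h0 : WW V (R i) ⊔ YY V R ≤ XX V R ⊓ normalizer (R i : Set G) :=
    sup_le (le_inf (W_le_X V R i) (b.W_le_N i)) (le_inf YY_le_XX (YY_le_cen.trans (b.cen_le_N i)))
  have h1 := relIndex_mul_relIndex _ _ (XX V R) h0 inf_le_left
  have h2 := y.odd_index_WY c b
  rw [← h1] at h2
  exact Nat.Odd.of_mul_left h2

/-- an element of odd order acting as the torus, fixed point free on `W i Y / Y` -/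
theorem Coord.exists_t [Finite G] [CharP F 2] (c : Coord V R i j v w1 w2) (b : BT V R)
    (hF : ∃ a : F, a ≠ 0 ∧ a ≠ 1) : ∃ t ∈ XX V R, t ∈ normalizer (R i : Set G) ∧ t ∈ normalizer (R j : Set G) ∧
      Odd (orderOf t) ∧ ∀ w ∈ WW V (R i), t * w * t⁻¹ * w⁻¹ ∈ YY V R → w ∈ YY V R := by
  obtain ⟨a, ha, ha1⟩ := hF
  obtain ⟨k, m, hm, hk⟩ := Nat.exists_eq_two_pow_mul_odd (orderOf_pos (hh w1 w2 a)).ne'
  have hX := c.hh_mem_X b a
  have hV := b.X_le_NV hX
  -- powers of the torus element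
  have hpow : ∀ n : ℕ, ∀ p r, hh w1 w2 a ^ n * v p r * (hh w1 w2 a ^ n)⁻¹ = v (a ^ n * p) ((a⁻¹) ^ n * r) := by
    intro n
    induction n with
    | zero => intro p r; rw [pow_zero, pow_zero, pow_zero, one_mul, inv_one, mul_one, one_mul, one_mul]
    | succ n ih =>
      intro p r
      have e : hh w1 w2 a ^ (n + 1) * v p r * (hh w1 w2 a ^ (n + 1))⁻¹ =
          hh w1 w2 a * (hh w1 w2 a ^ n * v p r * (hh w1 w2 a ^ n)⁻¹) * (hh w1 w2 a)⁻¹ := by
        rw [pow_succ']; group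
      rw [e, ih, c.hh_act ha, ← mul_assoc, ← mul_assoc, ← pow_succ', ← pow_succ']
  set t := hh w1 w2 a ^ 2 ^ k with ht
  have htX : t ∈ XX V R := pow_mem hX _
  have hi : hh w1 w2 a ∈ normalizer (R i : Set G) := cj_eq_self_iff.1 (c.hh_R1 b ha)
  have hj : hh w1 w2 a ∈ normalizer (R j : Set G) := cj_eq_self_iff.1 (c.hh_R2 b ha)
  have hord : orderOf t = m := by
    rw [ht, orderOf_pow, hk, Nat.gcd_eq_right (Dvd.intro m rfl), Nat.mul_div_cancel_left _ (by positivity)]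
  refine ⟨t, htX, pow_mem hi _, pow_mem hj _, by rw [hord]; exact hm, fun w hw hwt => ?_⟩
  obtain ⟨s, hs⟩ := c.W1_act w hw
  set γ := a ^ 2 ^ k with hγ
  have hγ0 : γ ≠ 0 := pow_ne_zero _ ha
  have hinv : (a⁻¹) ^ 2 ^ k = γ⁻¹ := by rw [inv_pow]
  have htact : ∀ p r, t * v p r * t⁻¹ = v (γ * p) (γ⁻¹ * r) := fun p r => by rw [ht, hpow, hinv]
  have htact' : ∀ p r, t⁻¹ * v p r * t = v (γ⁻¹ * p) (γ * r) := fun p r => by
    have h1 := htact (γ⁻¹ * p) (γ * r)
    rw [← mul_assoc, ← mul_assoc, mul_inv_cancel₀ hγ0, inv_mul_cancel₀ hγ0, one_mul, one_mul] at h1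
    rw [← h1]; group
  -- the commutator acts trivially on `v 0 1`
  have h1 : t * w * t⁻¹ * w⁻¹ * v s 1 * (t * w * t⁻¹ * w⁻¹)⁻¹ = v s 1 := by
    have h2 := YY_le_cen hwt
    rw [← mem_centralizer_iff.1 h2 _ (c.v_mem s 1), mul_inv_cancel_right]
  have h2 : w⁻¹ * v s 1 * w = v 0 1 := by
    have h3 := hs 0 1
    rw [mul_one, zero_add] at h3
    rw [← h3]; group
  have e : t * w * t⁻¹ * w⁻¹ * v s 1 * (t * w * t⁻¹ * w⁻¹)⁻¹ =
      t * (w * (t⁻¹ * (w⁻¹ * v s 1 * w) * t) * w⁻¹) * t⁻¹ := by group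
  rw [e, h2, htact', hs, htact] at h1
  have h3 := (c.v_inj h1).1
  rw [mul_zero, zero_add, mul_one] at h3
  -- `γ (s γ) = s`
  have h4 : (γ + 1) ^ 2 * s = 0 := by
    rw [CharTwo.add_sq, one_pow, add_mul, one_mul, pow_two]
    have : γ * γ * s = s := by linear_combination h3
    rw [this, CharTwo.add_self_eq_zero]
  have hs0 : s = 0 := by
    rcases mul_eq_zero.1 h4 with h5 | h5
    · exfalso
      have h6 : γ = 1 := CharTwo.add_eq_zero.1 (pow_eq_zero_iff (two_ne_zero) |>.1 h5)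
      -- `a ^ 2 ^ k = 1` implies `a = 1`
      have h7 : (a + 1) ^ 2 ^ k = 0 := by
        rw [add_pow_char_pow, one_pow, ← hγ, h6, CharTwo.add_self_eq_zero]
      exact ha1 (CharTwo.add_eq_zero.1 ((pow_eq_zero_iff (by positivity)).1 h7))
    · exact h5
  refine UU_le_YY i (mem_inf.2 ⟨hw, ?_⟩)
  rw [mem_centralizer_iff]
  intro q hq
  obtain ⟨p, r, rfl⟩ := (c.mem_V q).1 hq
  have h5 := hs p r
  rw [hs0, zero_mul, add_zero, mul_inv_eq_iff_eq_mul] at h5
  exact h5.symm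

end Cfsg.Agent.Omega.BTwo
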